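import Groth.Agent.H68.SmallExt
import Groth.Prelude.Def_Found
import Groth.Agent.S4512
import Groth.Agent.S4573
import Groth.Agent.S2451
import Groth.Agent.Lib.FSAdic.Basic
import Mathlib.RingTheory.Spectrum.Prime.Topology
import Mathlib.RingTheory.LocalRing.ResidueField.Fiber
import Mathlib.RingTheory.TensorProduct.Maps

/-!
# The closed fibre of a local homomorphism and adic formal smoothness
-/

set_option autoImplicit false

universe u

open IsLocalRing
open scoped TensorProduct

namespace Groth.Agent.H68.FlatFibre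

variable {A B : Type u} [CommRing A] [CommRing B] [IsLocalRing A] [IsLocalRing B] [Algebra A B]
  [IsLocalHom (algebraMap A B)]

lemma includeRight_surjective :
    Function.Surjective (Algebra.TensorProduct.includeRight :
      B →ₐ[A] (maximalIdeal A).Fiber B) := by
  intro z
  induction z using TensorProduct.induction_on with
  | zero => exact ⟨0, map_zero _⟩
  | tmul c b =>
    obtain ⟨a, rfl⟩ := Ideal.algebraMap_residueField_surjective (maximalIdeal A) c
    refine ⟨a • b, ?_⟩
    rw [Algebra.TensorProduct.includeRight_apply, TensorProduct.tmul_smul, TensorProduct.smul_tmul',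
      Algebra.smul_def, mul_one]
  | add x y hx hy =>
    obtain ⟨b, rfl⟩ := hx
    obtain ⟨c, rfl⟩ := hy
    exact ⟨b + c, map_add _ _ _⟩

/-- A map killing the maximal ideal factors through the residue field. -/
lemma exists_residueField_lift {C : Type*} [CommRing C] (f : A →+* C)
    (hf : (maximalIdeal A).map f = ⊥) :
    ∃ g : (maximalIdeal A).ResidueField →+* C, ∀ a, g (algebraMap A _ a) = f a := by
  refine ⟨Ideal.ResidueField.lift (maximalIdeal A) f
    (fun a ha => Ideal.mem_bot.mp (hf ▸ Ideal.mem_map_of_mem f ha))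
    (fun a ha => (IsLocalRing.notMem_maximalIdeal.mp ha).map f), fun a => ?_⟩
  exact Ideal.ResidueField.lift_algebraMap _ _ _ _ a

lemma nontrivial_fiber : Nontrivial ((maximalIdeal A).Fiber B) := by
  obtain ⟨g, hg⟩ := exists_residueField_lift ((residue B).comp (algebraMap A B))
    (eq_bot_iff.mpr (Ideal.map_le_iff_le_comap.mpr fun a ha => Ideal.mem_bot.mpr
      ((residue_eq_zero_iff _).mpr (map_nonunit (algebraMap A B) a ha))))
  letI : Algebra (maximalIdeal A).ResidueField (ResidueField B) := g.toAlgebra
  haveI : IsScalarTower A (maximalIdeal A).ResidueField (ResidueField B) :=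
    IsScalarTower.of_algebraMap_eq fun a => (hg a).symm
  let f : (maximalIdeal A).Fiber B →ₐ[(maximalIdeal A).ResidueField] ResidueField B :=
    Algebra.TensorProduct.lift (Algebra.ofId _ _) (IsScalarTower.toAlgHom A B (ResidueField B))
      fun _ _ => Commute.all _ _
  exact f.toRingHom.domain_nontrivial

lemma isLocalRing_fiber : IsLocalRing ((maximalIdeal A).Fiber B) :=
  haveI := nontrivial_fiber (A := A) (B := B)
  IsLocalRing.of_surjective' (Algebra.TensorProduct.includeRight : B →ₐ[A] _).toRingHom
    includeRight_surjective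

lemma isNoetherianRing_fiber [IsNoetherianRing B] : IsNoetherianRing ((maximalIdeal A).Fiber B) :=
  isNoetherianRing_of_surjective B _ (Algebra.TensorProduct.includeRight : B →ₐ[A] _).toRingHom
    includeRight_surjective

/-- Adic formal smoothness passes to the closed fibre. -/
theorem adic_fiber [IsLocalRing ((maximalIdeal A).Fiber B)]
    (h : CAlgX.IsAdicFormallySmooth A B (maximalIdeal B)) :
    CAlgX.IsAdicFormallySmooth (maximalIdeal A).ResidueField ((maximalIdeal A).Fiber B)
      (maximalIdeal ((maximalIdeal A).Fiber B)) := by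
  intro C _ _ J hJ ψ ⟨k, hk⟩
  letI : Algebra A C := ((algebraMap (maximalIdeal A).ResidueField C).comp
    (algebraMap A (maximalIdeal A).ResidueField)).toAlgebra
  haveI : IsScalarTower A (maximalIdeal A).ResidueField C := IsScalarTower.of_algebraMap_eq fun _ => rfl
  let inc : B →ₐ[A] (maximalIdeal A).Fiber B := Algebra.TensorProduct.includeRight
  haveI : IsLocalHom inc.toRingHom := IsLocalHom.of_surjective _ includeRight_surjective
  let ψ₀ : B →ₐ[A] C ⧸ J := (ψ.restrictScalars A).comp inc
  obtain ⟨χ, hχ⟩ := h C J hJ ψ₀ ⟨k, fun x hx => hk _ (by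
    have h1 : (maximalIdeal B).map inc.toRingHom ≤ maximalIdeal _ :=
      IsLocalRing.map_maximalIdeal_le _
    refine Ideal.pow_right_mono h1 k ?_
    rw [← Ideal.map_pow]
    exact Ideal.mem_map_of_mem _ hx)⟩
  refine ⟨Algebra.TensorProduct.lift (Algebra.ofId _ _) χ fun _ _ => Commute.all _ _, AlgHom.ext fun z => ?_⟩
  obtain ⟨b, rfl⟩ := includeRight_surjective (A := A) (B := B) z
  rw [AlgHom.comp_apply, Algebra.TensorProduct.includeRight_apply, Algebra.TensorProduct.lift_tmul,
    map_one, one_mul]
  exact AlgHom.congr_fun hχ b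

/-- A flat algebra with adically smooth closed fibre is adically smooth. -/
theorem adic_of_flat [IsNoetherianRing B] [Module.Flat A B] [IsLocalRing ((maximalIdeal A).Fiber B)]
    (h : CAlgX.IsAdicFormallySmooth (maximalIdeal A).ResidueField ((maximalIdeal A).Fiber B)
      (maximalIdeal ((maximalIdeal A).Fiber B))) :
    CAlgX.IsAdicFormallySmooth A B (maximalIdeal B) := by
  refine SmallExt.isAdicFormallySmooth_of_flat (𝔞 := maximalIdeal A) ?_
    (IsLocalRing.map_maximalIdeal_le _)
  intro C _ _ _ _ J hC hJ _ _ ψ hψ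
  obtain ⟨g, hg⟩ := exists_residueField_lift (algebraMap A C) hC
  letI : Algebra (maximalIdeal A).ResidueField C := g.toAlgebra
  haveI : IsScalarTower A (maximalIdeal A).ResidueField C :=
    IsScalarTower.of_algebraMap_eq fun a => (hg a).symm
  let ψ' : (maximalIdeal A).Fiber B →ₐ[(maximalIdeal A).ResidueField] C ⧸ J :=
    Algebra.TensorProduct.lift (Algebra.ofId _ _) ψ fun _ _ => Commute.all _ _
  have hψ' : Function.Surjective ψ' := fun c => by
    obtain ⟨b, rfl⟩ := hψ c
    exact ⟨1 ⊗ₜ[A] b, by rw [Algebra.TensorProduct.lift_tmul, map_one, one_mul]⟩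
  haveI : IsLocalHom ψ'.toRingHom := IsLocalHom.of_surjective _ hψ'
  obtain ⟨k, hk⟩ := SmallExt.exists_pow_kills ψ'.toRingHom
  obtain ⟨χ', hχ'⟩ := h C J hJ ψ' ⟨k, fun x hx =>
    Ideal.mem_bot.mp (hk ▸ Ideal.mem_map_of_mem ψ'.toRingHom hx)⟩
  refine ⟨(χ'.restrictScalars A).comp Algebra.TensorProduct.includeRight, AlgHom.ext fun b => ?_⟩
  refine (AlgHom.congr_fun hχ' ((1 : (maximalIdeal A).ResidueField) ⊗ₜ[A] b)).trans ?_
  rw [Algebra.TensorProduct.lift_tmul, map_one, one_mul]

/-- Over a field: geometrically regular is adically smooth, for Noetherian local algebras. -/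
theorem adic_iff_isGeometricallyRegular {k F : Type u} [Field k] [CommRing F] [IsLocalRing F]
    [IsNoetherianRing F] [Algebra k F] :
    CAlgX.IsAdicFormallySmooth k F (maximalIdeal F) ↔ CAlg.IsGeometricallyRegular k F := by
  refine ⟨fun h => (S4512.result h).1, fun h => ?_⟩
  obtain ⟨p, hp⟩ := ExpChar.exists k
  exact (S4573.result p).mpr fun k' _ _ hfin _ => h k' hfin

/-- EGA 0_IV 19.7.1, one direction. -/
theorem adic_of_flat_of_isGeometricallyRegular [IsNoetherianRing B] [Module.Flat A B]
    (h : CAlg.IsGeometricallyRegular (maximalIdeal A).ResidueField ((maximalIdeal A).Fiber B)) :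
    CAlgX.IsAdicFormallySmooth A B (maximalIdeal B) :=
  haveI := isLocalRing_fiber (A := A) (B := B)
  haveI := isNoetherianRing_fiber (A := A) (B := B)
  adic_of_flat (adic_iff_isGeometricallyRegular.mpr h)

/-- The closed fibre of an adically smooth algebra is geometrically regular. -/
theorem isGeometricallyRegular_fiber [IsNoetherianRing B]
    (h : CAlgX.IsAdicFormallySmooth A B (maximalIdeal B)) :
    CAlg.IsGeometricallyRegular (maximalIdeal A).ResidueField ((maximalIdeal A).Fiber B) :=
  haveI := isLocalRing_fiber (A := A) (B := B)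
  haveI := isNoetherianRing_fiber (A := A) (B := B)
  adic_iff_isGeometricallyRegular.mp (adic_fiber h)

/-- A flat unramified algebra with formally smooth residue extension is adically smooth. -/
theorem adic_of_flat_of_map_eq [IsNoetherianRing B] [Module.Flat A B]
    (hm : (maximalIdeal A).map (algebraMap A B) = maximalIdeal B)
    [Algebra.FormallySmooth (ResidueField A) (ResidueField B)] :
    CAlgX.IsAdicFormallySmooth A B (maximalIdeal B) := by
  refine SmallExt.isAdicFormallySmooth_of_flat (𝔞 := maximalIdeal A) ?_ hm.le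
  intro C _ _ _ _ J hC hJ _ _ ψ _
  have h0 : ∀ a ∈ maximalIdeal A, algebraMap A C a = 0 := fun a ha =>
    Ideal.mem_bot.mp (hC ▸ Ideal.mem_map_of_mem _ ha)
  letI : Algebra (ResidueField A) C := (Ideal.Quotient.lift (maximalIdeal A) (algebraMap A C) h0).toAlgebra
  have hψ0 : ∀ x ∈ maximalIdeal B, ψ x = 0 := by
    rw [← hm]
    intro x hx
    have hx' := Ideal.mem_map_of_mem ψ.toRingHom hx
    rw [Ideal.map_map, show ψ.toRingHom.comp (algebraMap A B) = (Ideal.Quotient.mk J).comp (algebraMap A C)
      from RingHom.ext ψ.commutes, ← Ideal.map_map, hC, Ideal.map_bot, Ideal.mem_bot] at hx'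
    exact hx'
  let ψ' : ResidueField B →ₐ[ResidueField A] C ⧸ J :=
    { Ideal.Quotient.lift (maximalIdeal B) ψ.toRingHom hψ0 with
      commutes' := fun a => by
        obtain ⟨a, rfl⟩ := residue_surjective a
        exact ψ.commutes a }
  obtain ⟨χ, hχ⟩ := Algebra.FormallySmooth.exists_lift J ⟨2, hJ⟩ ψ'
  refine ⟨{ χ.toRingHom.comp (residue B) with commutes' := fun a => ?_ }, AlgHom.ext fun b => ?_⟩
  · exact χ.commutes (residue A a)
  · exact AlgHom.congr_fun hχ (residue B b)

omit [IsLocalHom (algebraMap A B)] in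
/-- Adic formal smoothness over a discrete base gives it over an adic base. -/
theorem isFormallySmoothAdic_of_adic (𝔞 : Ideal A) {𝔟 : Ideal B}
    (h : CAlgX.IsAdicFormallySmooth A B 𝔟) : EGA41.IsFormallySmoothAdic A 𝔞 B 𝔟 :=
  Lib.FSAdic.Basic.of_sqZero fun C _ _ J hJ _ u hu => h C J hJ u hu

/-- A Cohen algebra is adically smooth. -/
theorem adic_of_isCohenAlgebra (h : EGA41.IsCohenAlgebra A B) :
    CAlgX.IsAdicFormallySmooth A B (maximalIdeal B) :=
  haveI := h.2.1
  haveI := h.2.2.2.1
  haveI : Algebra.FormallySmooth (ResidueField A) (ResidueField B) := S2451.result.mpr h.2.2.2.2.2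
  adic_of_flat_of_map_eq h.2.2.2.2.1

end Groth.Agent.H68.FlatFibre
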