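import Groth.Agent.H68.AdicFlat
import Groth.Agent.H2.Rigid.GeomRegLocal
import Mathlib.RingTheory.Flat.Localization
import Mathlib.RingTheory.Smooth.Basic

/-!
# Regular homomorphisms and adic formal smoothness of the local homomorphisms
-/

set_option autoImplicit false

universe u

open IsLocalRing
open scoped TensorProduct

namespace Groth.Agent.H68.RegularHomFS

variable {R S : Type u} [CommRing R] [CommRing S] [Algebra R S]

/-- the local rings of a fibre are adically smooth when the local homomorphisms are -/
theorem adic_fiber_localization (r : Ideal R) [r.IsPrime] (P : Ideal (r.Fiber S)) [P.IsPrime]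
    [Algebra (Localization.AtPrime r)
      (Localization.AtPrime (P.comap (Algebra.TensorProduct.includeRight : S →ₐ[R] r.Fiber S).toRingHom))]
    [IsScalarTower R (Localization.AtPrime r)
      (Localization.AtPrime (P.comap (Algebra.TensorProduct.includeRight : S →ₐ[R] r.Fiber S).toRingHom))]
    (h : CAlgX.IsAdicFormallySmooth (Localization.AtPrime r)
      (Localization.AtPrime (P.comap (Algebra.TensorProduct.includeRight : S →ₐ[R] r.Fiber S).toRingHom))
      (maximalIdeal _)) :
    CAlgX.IsAdicFormallySmooth r.ResidueField (Localization.AtPrime P) (maximalIdeal _) := by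
  intro C _ _ J hJ ψ ⟨k, hk⟩
  let inc : S →ₐ[R] r.Fiber S := Algebra.TensorProduct.includeRight
  let q := P.comap inc.toRingHom
  let f : Localization.AtPrime q →+* Localization.AtPrime P := Localization.localRingHom q P inc.toRingHom rfl
  letI : Algebra R C := ((algebraMap r.ResidueField C).comp (algebraMap R r.ResidueField)).toAlgebra
  letI : Algebra (Localization.AtPrime r) C :=
    ((algebraMap r.ResidueField C).comp (algebraMap (Localization.AtPrime r) r.ResidueField)).toAlgebra
  haveI : IsScalarTower R r.ResidueField C := IsScalarTower.of_algebraMap_eq fun _ => rfl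
  haveI : IsScalarTower R (Localization.AtPrime r) C := IsScalarTower.of_algebraMap_eq fun a => by
    show algebraMap r.ResidueField C (algebraMap R r.ResidueField a) =
      algebraMap r.ResidueField C (algebraMap (Localization.AtPrime r) r.ResidueField (algebraMap R _ a))
    rw [← IsScalarTower.algebraMap_apply R (Localization.AtPrime r) r.ResidueField]
  have hfR : ∀ a : R, f (algebraMap R (Localization.AtPrime q) a) = algebraMap R (Localization.AtPrime P) a := fun a => by
    rw [IsScalarTower.algebraMap_apply R S (Localization.AtPrime q)]
    show Localization.localRingHom q P inc.toRingHom rfl (algebraMap S _ (algebraMap R S a)) = _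
    rw [Localization.localRingHom_to_map]
    show algebraMap (r.Fiber S) _ (inc (algebraMap R S a)) = _
    rw [inc.commutes, ← IsScalarTower.algebraMap_apply R (r.Fiber S) (Localization.AtPrime P)]
  let ψq : Localization.AtPrime q →ₐ[Localization.AtPrime r] C ⧸ J :=
    { ψ.toRingHom.comp f with
      commutes' := fun x => by
        have h' : (ψ.toRingHom.comp f).comp (algebraMap (Localization.AtPrime r) (Localization.AtPrime q)) =
            algebraMap (Localization.AtPrime r) (C ⧸ J) := by
          refine IsLocalization.ringHom_ext r.primeCompl (RingHom.ext fun a => ?_)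
          show ψ (f (algebraMap _ _ (algebraMap R (Localization.AtPrime r) a))) =
            algebraMap (Localization.AtPrime r) (C ⧸ J) (algebraMap R (Localization.AtPrime r) a)
          rw [← IsScalarTower.algebraMap_apply R (Localization.AtPrime r) (Localization.AtPrime q), hfR,
            ← IsScalarTower.algebraMap_apply R (Localization.AtPrime r) (C ⧸ J),
            IsScalarTower.algebraMap_apply R r.ResidueField (Localization.AtPrime P), ψ.commutes,
            ← IsScalarTower.algebraMap_apply R r.ResidueField (C ⧸ J)]
        exact RingHom.congr_fun h' x }
  haveI : IsLocalHom f := Localization.isLocalHom_localRingHom q P inc.toRingHom rfl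
  obtain ⟨χ, hχ⟩ := h C J hJ ψq ⟨k, fun x hx => hk (f x) (by
    refine Ideal.pow_right_mono (IsLocalRing.map_maximalIdeal_le f) k ?_
    rw [← Ideal.map_pow]
    exact Ideal.mem_map_of_mem f hx)⟩
  let χS : S →ₐ[R] C := (χ.restrictScalars R).comp (IsScalarTower.toAlgHom R S (Localization.AtPrime q))
  let Φ : r.Fiber S →ₐ[r.ResidueField] C :=
    Algebra.TensorProduct.lift (Algebra.ofId _ C) χS fun _ _ => Commute.all _ _
  have hΦ : ∀ z, Ideal.Quotient.mk J (Φ z) = ψ (algebraMap (r.Fiber S) (Localization.AtPrime P) z) := by
    intro z
    induction z using TensorProduct.induction_on with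
    | zero => simp only [map_zero]
    | add a b ha hb => simp only [map_add, ha, hb]
    | tmul c s =>
      rw [Algebra.TensorProduct.lift_tmul, map_mul,
        show c ⊗ₜ[R] s = algebraMap r.ResidueField (r.Fiber S) c * inc s by
          simp [inc, Algebra.TensorProduct.algebraMap_apply], map_mul, map_mul,
        ← IsScalarTower.algebraMap_apply r.ResidueField (r.Fiber S) (Localization.AtPrime P), ψ.commutes]
      congr 1
      refine (AlgHom.congr_fun hχ (algebraMap S (Localization.AtPrime q) s)).trans ?_
      show ψ (Localization.localRingHom q P inc.toRingHom rfl (algebraMap S _ s)) = _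
      rw [Localization.localRingHom_to_map]
      rfl
  have hunit : ∀ y : P.primeCompl, IsUnit (Φ y) := fun y => by
    refine (IsNilpotent.isUnit_quotient_mk_iff ⟨2, hJ⟩).mp ?_
    rw [hΦ]
    exact (IsLocalization.map_units _ y).map ψ
  refine ⟨IsLocalization.liftAlgHom hunit, IsLocalization.algHom_ext P.primeCompl (AlgHom.ext fun z => ?_)⟩
  show Ideal.Quotient.mk J (IsLocalization.lift hunit (algebraMap _ (Localization.AtPrime P) z)) = _
  rw [IsLocalization.lift_eq]
  exact hΦ z

variable [IsNoetherianRing R] [IsNoetherianRing S]

/-- **Regular homomorphism iff the local homomorphisms are adically formally smooth.** -/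
theorem isRegularHom_iff :
    CAlg.IsRegularHom R S ↔
      ∀ (q : Ideal S) [q.IsPrime],
        letI := (Localization.localRingHom (q.comap (algebraMap R S)) q (algebraMap R S) rfl).toAlgebra
        CAlgX.IsAdicFormallySmooth (Localization.AtPrime (q.comap (algebraMap R S)))
          (Localization.AtPrime q) (maximalIdeal (Localization.AtPrime q)) := by
  constructor
  · intro h q _
    letI := (Localization.localRingHom (q.comap (algebraMap R S)) q (algebraMap R S) rfl).toAlgebra
    haveI : IsLocalHom (algebraMap (Localization.AtPrime (q.comap (algebraMap R S))) (Localization.AtPrime q)) :=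
      Localization.isLocalHom_localRingHom _ q (algebraMap R S) rfl
    obtain ⟨hflat, hfib⟩ := H2.Rigid.GeomRegLocal.isRegularHom_localRing h q
    haveI := hflat
    exact FlatFibre.adic_of_flat_of_isGeometricallyRegular (hfib (maximalIdeal _)).2
  · intro h
    have hflat : Module.Flat R S :=
      Module.flat_of_isLocalized_maximal (R := R) S S (fun n => Localization.AtPrime n)
        (fun n _ => Algebra.linearMap S _) fun n hn => by
          let p := n.comap (algebraMap R S)
          letI := (Localization.localRingHom p n (algebraMap R S) rfl).toAlgebra
          haveI : IsLocalHom (algebraMap (Localization.AtPrime p) (Localization.AtPrime n)) :=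
            Localization.isLocalHom_localRingHom _ n (algebraMap R S) rfl
          haveI : IsScalarTower R (Localization.AtPrime p) (Localization.AtPrime n) :=
            IsScalarTower.of_algebraMap_eq fun a => by
              rw [IsScalarTower.algebraMap_apply R S (Localization.AtPrime n)]
              exact (Localization.localRingHom_to_map p n (algebraMap R S) rfl a).symm
          haveI := AdicFlat.flat (h n)
          exact Module.Flat.trans R (Localization.AtPrime p) _
    refine ⟨hflat, fun r _ => ?_⟩
    haveI : IsNoetherianRing (r.Fiber S) := by
      haveI : Algebra.EssFiniteType R r.ResidueField := inferInstance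
      haveI : IsNoetherianRing (S ⊗[R] r.ResidueField) := Algebra.EssFiniteType.isNoetherianRing S _
      exact isNoetherianRing_of_ringEquiv _ (Algebra.TensorProduct.comm R S r.ResidueField).toRingEquiv
    refine ⟨inferInstance, (H2.Rigid.GeomRegAlg.geometricallyRegular_iff_locAdic).mpr fun P _ => ?_⟩
    let inc : S →ₐ[R] r.Fiber S := Algebra.TensorProduct.includeRight
    let q := P.comap inc.toRingHom
    have hr : q.comap (algebraMap R S) = r := by
      rw [Ideal.comap_comap, show inc.toRingHom.comp (algebraMap R S) =
        (algebraMap r.ResidueField (r.Fiber S)).comp (algebraMap R r.ResidueField) from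
          RingHom.ext fun a => inc.commutes a, ← Ideal.comap_comap]
      have h0 : P.comap (algebraMap r.ResidueField (r.Fiber S)) = ⊥ := Ideal.eq_bot_of_prime _
      rw [h0, ← RingHom.ker_eq_comap_bot]
      exact Ideal.ker_algebraMap_residueField r
    have h' : ∀ (r' : Ideal R) [r'.IsPrime] (hr' : q.comap (algebraMap R S) = r'),
        letI := (Localization.localRingHom r' q (algebraMap R S) hr'.symm).toAlgebra
        CAlgX.IsAdicFormallySmooth (Localization.AtPrime r') (Localization.AtPrime q)
          (maximalIdeal (Localization.AtPrime q)) := by
      intro r' _ hr'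
      subst hr'
      exact h q
    letI : Algebra (Localization.AtPrime r) (Localization.AtPrime q) :=
      (Localization.localRingHom r q (algebraMap R S) hr.symm).toAlgebra
    haveI : IsScalarTower R (Localization.AtPrime r) (Localization.AtPrime q) :=
      IsScalarTower.of_algebraMap_eq fun a => by
        rw [IsScalarTower.algebraMap_apply R S (Localization.AtPrime q)]
        exact (Localization.localRingHom_to_map r q (algebraMap R S) hr.symm a).symm
    exact adic_fiber_localization r P (h' r hr)

omit [IsNoetherianRing R] [IsNoetherianRing S] in
/-- localization of a formally smooth algebra, adically -/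
theorem adic_localization_of_formallySmooth [Algebra.FormallySmooth R S] (q : Ideal S) [q.IsPrime]
    (r : Ideal R) [r.IsPrime] [Algebra (Localization.AtPrime r) (Localization.AtPrime q)]
    [IsScalarTower R (Localization.AtPrime r) (Localization.AtPrime q)] :
    CAlgX.IsAdicFormallySmooth (Localization.AtPrime r) (Localization.AtPrime q) (maximalIdeal _) := by
  haveI : Algebra.FormallySmooth S (Localization.AtPrime q) :=
    Algebra.FormallySmooth.of_isLocalization q.primeCompl
  haveI : Algebra.FormallySmooth R (Localization.AtPrime q) := Algebra.FormallySmooth.comp R S _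
  haveI : Algebra.FormallySmooth (Localization.AtPrime r) (Localization.AtPrime q) :=
    Algebra.FormallySmooth.localization_base r.primeCompl
  exact fun C _ _ J hJ ψ _ => Algebra.FormallySmooth.exists_lift J ⟨2, hJ⟩ ψ

end Groth.Agent.H68.RegularHomFS
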