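import Groth.Prelude.Def_CAlgX
import Mathlib.Algebra.MvPolynomial.CommRing
import Mathlib.Algebra.MvPolynomial.Derivation
import Mathlib.Algebra.Module.Torsion.Basic
import Mathlib.RingTheory.Filtration
import Mathlib.RingTheory.HopkinsLevitzki
import Mathlib.RingTheory.Length
import Mathlib.RingTheory.Nilpotent.Basic
import Mathlib.RingTheory.Derivation.Basic
import Mathlib.RingTheory.Ideal.Quotient.Nilpotent
import Mathlib.LinearAlgebra.Basis.VectorSpace
import Mathlib.RingTheory.Flat.EquationalCriterion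

/-!
# Lifting along small extensions implies adic formal smoothness

For a Noetherian local algebra, lifts along length one square-zero extensions of Artinian local rings
give lifts along every square-zero extension compatible with the adic topology.  For a flat algebra
it is enough to lift along extensions killed by an ideal `𝔞` (adic smoothness of the fibre).
-/

set_option autoImplicit false

universe u

open IsLocalRing

namespace Groth.Agent.H68.SmallExt

variable (R S : Type u) [CommRing R] [CommRing S] [IsLocalRing S] [Algebra R S]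

/-- lifting along small extensions of Artinian local rings -/
def SmallLifts : Prop :=
  ∀ (A : Type u) [CommRing A] [IsLocalRing A] [IsArtinianRing A] [Algebra R A] (J : Ideal A),
    J ^ 2 = ⊥ → Module.length A J = 1 → ∀ [IsLocalRing (A ⧸ J)] (ψ : S →ₐ[R] A ⧸ J),
      Function.Surjective ψ → ∃ χ : S →ₐ[R] A, (Ideal.Quotient.mkₐ R J).comp χ = ψ

/-- lifting along small extensions killed by `𝔞` -/
def LiftsMod (𝔞 : Ideal R) : Prop :=
  ∀ (A : Type u) [CommRing A] [IsLocalRing A] [IsArtinianRing A] [Algebra R A] (J : Ideal A),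
    𝔞.map (algebraMap R A) = ⊥ →
    J ^ 2 = ⊥ → Module.length A J = 1 → ∀ [IsLocalRing (A ⧸ J)] (ψ : S →ₐ[R] A ⧸ J),
      Function.Surjective ψ → ∃ χ : S →ₐ[R] A, (Ideal.Quotient.mkₐ R J).comp χ = ψ

/-- the free presentation -/
noncomputable def π : MvPolynomial S R →ₐ[R] S := MvPolynomial.aeval id

lemma π_surjective : Function.Surjective (π R S) := fun s =>
  ⟨MvPolynomial.X s, MvPolynomial.aeval_X _ s⟩

/-- its kernel -/
noncomputable abbrev ker : Ideal (MvPolynomial S R) := RingHom.ker (π R S).toRingHom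

/-- the maximal ideal over the closed point -/
noncomputable abbrev mm : Ideal (MvPolynomial S R) := (maximalIdeal S).comap (π R S).toRingHom

instance mm_isMaximal : (mm R S).IsMaximal :=
  Ideal.comap_isMaximal_of_surjective _ (π_surjective R S)

lemma ker_le : ker R S ≤ mm R S := fun x hx => by
  have hx' : (π R S).toRingHom x = 0 := hx
  rw [Ideal.mem_comap, hx']
  exact zero_mem _

/-- the residue field -/
abbrev F : Type u := MvPolynomial S R ⧸ mm R S

noncomputable instance : Field (F R S) := Ideal.Quotient.field _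

/-- the universal derivation reduced at the closed point -/
noncomputable def dd : Derivation R (MvPolynomial S R) (S →₀ F R S) :=
  MvPolynomial.mkDerivation R fun s => Finsupp.single s 1

variable {R S}

lemma derivation_eq {V : Type u} [AddCommGroup V] [Module R V] [Module (MvPolynomial S R) V]
    [IsScalarTower R (MvPolynomial S R) V] [Module (F R S) V]
    [IsScalarTower (MvPolynomial S R) (F R S) V] (D : Derivation R (MvPolynomial S R) V)
    (x : MvPolynomial S R) :
    D x = Finsupp.linearCombination (F R S) (fun s => D (MvPolynomial.X s)) (dd R S x) := by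
  have h : D = ((Finsupp.linearCombination (F R S) fun s => D (MvPolynomial.X s)).restrictScalars
      (MvPolynomial S R)).compDer (dd R S) := by
    refine MvPolynomial.derivation_ext fun s => ?_
    show _ = Finsupp.linearCombination (F R S) _ (dd R S (MvPolynomial.X s))
    simp [dd]
  exact DFunLike.congr_fun h x

variable [IsNoetherianRing S]

/-- the universal property from lifting along small extensions -/
lemma apply_eq_zero {𝔞 : Ideal R} (h : LiftsMod R S 𝔞)
    (h𝔞 : 𝔞.map (algebraMap R S) ≤ maximalIdeal S)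
    (hflat : 𝔞.map (algebraMap R (MvPolynomial S R)) ⊓ ker R S ≤
      𝔞.map (algebraMap R (MvPolynomial S R)) * ker R S)
    (φ : ker R S →ₗ[MvPolynomial S R] F R S) (x : ker R S)
    (hx : dd R S (x : MvPolynomial S R) = 0) : φ x = 0 := by
  classical
  by_contra hne
  let P := MvPolynomial S R
  let m := mm R S
  have hkill : ∀ a ∈ m, ∀ c : F R S, a • c = 0 := fun a ha c => by
    obtain ⟨c, rfl⟩ := Ideal.Quotient.mk_surjective c
    show Ideal.Quotient.mk m (a * c) = 0
    exact Ideal.Quotient.eq_zero_iff_mem.mpr (Ideal.mul_mem_right _ _ ha)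
  let aP : Ideal P := 𝔞.map (algebraMap R P)
  have haP : aP ≤ m := by
    refine Ideal.map_le_iff_le_comap.mpr fun r hr => ?_
    show π R S (algebraMap R P r) ∈ maximalIdeal S
    rw [AlgHom.commutes]
    exact h𝔞 (Ideal.mem_map_of_mem _ hr)
  let N : Ideal P := (LinearMap.ker φ).map (ker R S).subtype ⊔ aP
  have hmul : ∀ w ∈ aP * ker R S, ∃ z : ker R S, φ z = 0 ∧ (z : P) = w := fun w hw => by
    induction hw using Submodule.mul_induction_on' with
    | mem_mul_mem a ha b hb =>
      exact ⟨a • ⟨b, hb⟩, by rw [map_smul, hkill a (haP ha)], rfl⟩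
    | add a _ b _ iha ihb =>
      obtain ⟨z₁, h₁, h₁'⟩ := iha
      obtain ⟨z₂, h₂, h₂'⟩ := ihb
      exact ⟨z₁ + z₂, by rw [map_add, h₁, h₂, add_zero], by rw [Submodule.coe_add, h₁', h₂']⟩
  have hN : ∀ y : ker R S, (y : P) ∈ N ↔ φ y = 0 := fun y => by
    constructor
    · intro hy
      obtain ⟨_, ⟨z, hz, rfl⟩, w, hw, hzw⟩ := Submodule.mem_sup.mp hy
      obtain ⟨z', hz', hz'w⟩ := hmul w (hflat ⟨hw, by
        rw [show w = (y : P) - (z : P) by rw [← hzw]; exact (add_sub_cancel_left _ _).symm]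
        exact sub_mem y.2 z.2⟩)
      rw [show y = z + z' from Subtype.ext (by rw [Submodule.coe_add, hz'w]; exact hzw.symm), map_add,
        LinearMap.mem_ker.mp hz, hz', add_zero]
    · exact fun hy => Ideal.mem_sup_left ⟨y, hy, rfl⟩
  have hNm : N ≤ m := sup_le ((Submodule.map_subtype_le _ _).trans (ker_le R S)) haP
  -- the extension of the fibre by the residue field
  let E := P ⧸ N
  let S' := S ⧸ 𝔞.map (algebraMap R S)
  haveI : Nontrivial S' := Ideal.Quotient.nontrivial_iff.mpr fun h' =>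
    (maximalIdeal.isMaximal S).ne_top (top_le_iff.mp (h'.ge.trans h𝔞))
  haveI : IsLocalRing S' := IsLocalRing.of_surjective' _ Ideal.Quotient.mk_surjective
  let e : E →+* S' := Ideal.Quotient.lift N ((Ideal.Quotient.mk _).comp (π R S).toRingHom) (by
    intro y hy
    show Ideal.Quotient.mk _ (π R S y) = 0
    obtain ⟨_, ⟨z, -, rfl⟩, w, hw, rfl⟩ := Submodule.mem_sup.mp hy
    have hz : π R S (z : P) = 0 := z.2
    rw [map_add, Submodule.subtype_apply, hz, zero_add, Ideal.Quotient.eq_zero_iff_mem]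
    have hw' := Ideal.mem_map_of_mem (π R S).toRingHom hw
    rwa [Ideal.map_map, show (π R S).toRingHom.comp (algebraMap R P) = algebraMap R S from
      RingHom.ext (π R S).commutes] at hw')
  have hesurj : Function.Surjective e := fun s => by
    obtain ⟨s, rfl⟩ := Ideal.Quotient.mk_surjective s
    obtain ⟨y, rfl⟩ := π_surjective R S s
    exact ⟨Ideal.Quotient.mk N y, rfl⟩
  have heker : ∀ a : E, e a = 0 → ∃ y : ker R S, a = Ideal.Quotient.mk N (y : P) := fun a ha => by
    obtain ⟨y, rfl⟩ := Ideal.Quotient.mk_surjective a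
    have hy : π R S y ∈ 𝔞.map (algebraMap R S) := Ideal.Quotient.eq_zero_iff_mem.mp ha
    rw [show algebraMap R S = (π R S).toRingHom.comp (algebraMap R P) from
      (RingHom.ext (π R S).commutes).symm, ← Ideal.map_map] at hy
    obtain ⟨w, hw, hwy⟩ := (Ideal.mem_map_iff_of_surjective (π R S).toRingHom (π_surjective R S)).mp hy
    refine ⟨⟨y - w, ?_⟩, Ideal.Quotient.eq.mpr ?_⟩
    · show π R S (y - w) = 0
      rw [map_sub, sub_eq_zero]
      exact hwy.symm
    · show y - (y - w) ∈ N
      rw [sub_sub_cancel]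
      exact Ideal.mem_sup_right hw
  have hgen : ∀ y z : ker R S, φ y ≠ 0 → ∃ c : P, (z : P) - c * (y : P) ∈ N := fun y z hy => by
    obtain ⟨c, hc⟩ := Ideal.Quotient.mk_surjective (φ z / φ y)
    refine ⟨c, ?_⟩
    show ((z - c • y : ker R S) : P) ∈ N
    rw [hN, map_sub, map_smul, Algebra.smul_def, Ideal.Quotient.algebraMap_eq, hc,
      div_mul_cancel₀ _ hy, sub_self]
  have hunit : ∀ a : E, IsUnit (e a) → IsUnit a := fun a ha => by
    obtain ⟨b', hb'⟩ := hesurj ↑ha.unit⁻¹
    obtain ⟨y, hy⟩ := heker (a * b' - 1) (by rw [map_sub, map_mul, hb', IsUnit.mul_val_inv, map_one, sub_self])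
    refine isUnit_of_mul_isUnit_left (y := b') ?_
    rw [show a * b' = 1 + (a * b' - 1) by ring, hy]
    refine IsNilpotent.isUnit_one_add ⟨2, ?_⟩
    rw [pow_two, ← map_mul, Ideal.Quotient.eq_zero_iff_mem]
    show ((((y : P)) • y : ker R S) : P) ∈ N
    rw [hN, map_smul]
    exact hkill _ (ker_le R S y.2) _
  haveI : Nontrivial E := e.domain_nontrivial
  haveI : IsLocalRing E := IsLocalRing.of_isUnit_or_isUnit_one_sub_self fun a => by
    rcases IsLocalRing.isUnit_or_isUnit_one_sub_self (e a) with h' | h'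
    · exact Or.inl (hunit a h')
    · exact Or.inr (hunit _ (by rw [map_sub, map_one]; exact h'))
  haveI : IsNoetherianRing E := by
    rw [isNoetherianRing_iff_ideal_fg]
    intro 𝔞
    obtain ⟨T, hT⟩ := IsNoetherian.noetherian (𝔞.map e)
    have hl : ∀ t ∈ T, ∃ a ∈ 𝔞, e a = t := fun t ht =>
      (Ideal.mem_map_iff_of_surjective e hesurj).mp (hT ▸ Submodule.subset_span ht)
    choose! l hl1 hl2 using hl
    let x' : E := Ideal.Quotient.mk N (x : P)
    let G : Finset E := if x' ∈ 𝔞 then insert x' (T.image l) else T.image l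
    refine ⟨G, le_antisymm (Submodule.span_le.mpr fun a ha => ?_) fun a ha => ?_⟩
    · simp only [G] at ha
      split_ifs at ha with hx'
      · rcases Finset.mem_insert.mp ha with rfl | ha
        · exact hx'
        · obtain ⟨t, ht, rfl⟩ := Finset.mem_image.mp ha
          exact hl1 t ht
      · obtain ⟨t, ht, rfl⟩ := Finset.mem_image.mp ha
        exact hl1 t ht
    · have hsub : ∀ t ∈ T, l t ∈ G := fun t ht => by
        simp only [G]
        split_ifs
        · exact Finset.mem_insert_of_mem (Finset.mem_image_of_mem l ht)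
        · exact Finset.mem_image_of_mem l ht
      have hle2 : Submodule.span S' (T : Set S') ≤ (Ideal.span (G : Set E)).map e :=
        Submodule.span_le.mpr fun t ht =>
          hl2 t ht ▸ Ideal.mem_map_of_mem e (Ideal.subset_span (hsub t ht))
      have h1 : e a ∈ (Ideal.span (G : Set E)).map e := hle2 (hT ▸ Ideal.mem_map_of_mem e ha)
      obtain ⟨g, hg, hga⟩ := (Ideal.mem_map_iff_of_surjective e hesurj).mp h1
      have hspan : Ideal.span (G : Set E) ≤ 𝔞 := Ideal.span_le.mpr fun b hb => by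
        simp only [G] at hb
        split_ifs at hb with hx'
        · rcases Finset.mem_insert.mp hb with rfl | hb
          · exact hx'
          · obtain ⟨t, ht, rfl⟩ := Finset.mem_image.mp hb
            exact hl1 t ht
        · obtain ⟨t, ht, rfl⟩ := Finset.mem_image.mp hb
          exact hl1 t ht
      obtain ⟨y, hy⟩ := heker (a - g) (by rw [map_sub, hga, sub_self])
      have hy𝔞 : Ideal.Quotient.mk N (y : P) ∈ 𝔞 := hy ▸ sub_mem ha (hspan hg)
      have hy0 : Ideal.Quotient.mk N (y : P) ∈ Ideal.span (G : Set E) := by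
        by_cases hφy : φ y = 0
        · rw [Ideal.Quotient.eq_zero_iff_mem.mpr ((hN y).mpr hφy)]
          exact zero_mem _
        · obtain ⟨c, hc⟩ := hgen y x hφy
          obtain ⟨c', hc'⟩ := hgen x y hne
          have hxa : x' ∈ 𝔞 := by
            rw [show x' = Ideal.Quotient.mk N (c * (y : P)) from Ideal.Quotient.eq.mpr hc, map_mul]
            exact Ideal.mul_mem_left _ _ hy𝔞
          rw [show Ideal.Quotient.mk N (y : P) = Ideal.Quotient.mk N (c' * (x : P)) from
            Ideal.Quotient.eq.mpr hc', map_mul]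
          refine Ideal.mul_mem_left _ _ (Ideal.subset_span ?_)
          simp only [G, if_pos hxa]
          exact Finset.mem_insert_self _ _
      have hag : a = g + (a - g) := by ring
      rw [hag, hy]
      exact add_mem hg hy0
  have hmE : maximalIdeal E = m.map (Ideal.Quotient.mk N) :=
    (IsLocalRing.eq_maximalIdeal (Ideal.IsMaximal.map_of_surjective_of_ker_le
      Ideal.Quotient.mk_surjective (m := m) (by rw [Ideal.mk_ker]; exact hNm))).symm
  obtain ⟨j, hj⟩ : ∃ j : ℕ, (x : P) ∉ N ⊔ m ^ j := by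
    by_contra hall
    push Not at hall
    apply hne
    rw [← hN, ← Ideal.Quotient.eq_zero_iff_mem, ← Ideal.mem_bot,
      ← Ideal.iInf_pow_eq_bot_of_isLocalRing (maximalIdeal E) (maximalIdeal.isMaximal E).ne_top,
      Ideal.mem_iInf]
    intro j
    rw [hmE, ← Ideal.map_pow]
    obtain ⟨a, ha, b, hb, hab⟩ := Submodule.mem_sup.mp (hall j)
    rw [← hab, map_add, Ideal.Quotient.eq_zero_iff_mem.mpr ha, zero_add]
    exact Ideal.mem_map_of_mem _ hb
  have hj0 : j ≠ 0 := by rintro rfl; exact hj (by simp)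
  let Q : Ideal P := N ⊔ m ^ j
  have hQm : Q ≤ m := sup_le (hNm) (Ideal.pow_le_self hj0)
  let A := P ⧸ Q
  haveI : Nontrivial A := Ideal.Quotient.nontrivial_iff.mpr fun h =>
    (mm_isMaximal R S).ne_top (top_le_iff.mp (h.ge.trans hQm))
  let f : E →+* A := Ideal.Quotient.factor le_sup_left
  have hf : Function.Surjective f := fun a => by
    obtain ⟨y, rfl⟩ := Ideal.Quotient.mk_surjective a
    exact ⟨Ideal.Quotient.mk N y, rfl⟩
  haveI : IsLocalRing A := IsLocalRing.of_surjective' f hf
  haveI : IsNoetherianRing A := isNoetherianRing_of_surjective E A f hf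
  have hmA : maximalIdeal A = m.map (Ideal.Quotient.mk Q) :=
    (IsLocalRing.eq_maximalIdeal (Ideal.IsMaximal.map_of_surjective_of_ker_le
      Ideal.Quotient.mk_surjective (m := m) (by rw [Ideal.mk_ker]; exact hQm))).symm
  haveI : IsArtinianRing A := by
    rw [isArtinianRing_iff_isNilpotent_maximalIdeal]
    refine ⟨j, ?_⟩
    rw [hmA, ← Ideal.map_pow, Ideal.zero_eq_bot, Ideal.map_eq_bot_iff_le_ker, Ideal.mk_ker]
    exact le_sup_right
  let J : Ideal A := (ker R S).map (Ideal.Quotient.mk Q)
  have hJmem : ∀ v ∈ J, ∃ y : ker R S, Ideal.Quotient.mk Q (y : P) = v := fun v hv => by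
    obtain ⟨y, hy, rfl⟩ := (Ideal.mem_map_iff_of_surjective _ Ideal.Quotient.mk_surjective).mp hv
    exact ⟨⟨y, hy⟩, rfl⟩
  have hmJ : ∀ a ∈ m, ∀ v ∈ J, Ideal.Quotient.mk Q a * v = 0 := fun a ha v hv => by
    obtain ⟨y, rfl⟩ := hJmem v hv
    rw [← map_mul, Ideal.Quotient.eq_zero_iff_mem]
    refine Ideal.mem_sup_left ?_
    show ((a • y : ker R S) : P) ∈ N
    rw [hN, map_smul]
    exact hkill a ha _
  have hJ : J ^ 2 = ⊥ := by
    rw [pow_two J, eq_bot_iff, Ideal.mul_le]
    intro v hv w hw
    obtain ⟨y, rfl⟩ := hJmem v hv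
    exact Ideal.mem_bot.mpr (hmJ _ (ker_le R S y.2) w hw)
  have hlen : Module.length A J = 1 := by
    rw [Module.length_eq_one_iff, isSimpleModule_iff_toSpanSingleton_surjective]
    refine ⟨⟨⟨⟨_, Ideal.mem_map_of_mem _ x.2⟩, 0, fun h0 => hj ?_⟩⟩, fun v hv => ?_⟩
    · exact Ideal.Quotient.eq_zero_iff_mem.mp (congrArg Subtype.val h0)
    · rintro ⟨w, hw⟩
      obtain ⟨v, hv'⟩ := v
      obtain ⟨y, rfl⟩ := hJmem v hv'
      obtain ⟨z, rfl⟩ := hJmem w hw
      have hy : φ y ≠ 0 := fun h0 => hv (Subtype.ext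
        (Ideal.Quotient.eq_zero_iff_mem.mpr (Ideal.mem_sup_left ((hN y).mpr h0))))
      obtain ⟨c, hc⟩ := hgen y z hy
      refine ⟨Ideal.Quotient.mk Q c, Subtype.ext ?_⟩
      show Ideal.Quotient.mk Q c * Ideal.Quotient.mk Q (y : P) = _
      rw [← map_mul]
      exact (Ideal.Quotient.eq.mpr (Ideal.mem_sup_left hc)).symm
  have hJm : J ≤ maximalIdeal A := hmA ▸ Ideal.map_mono (ker_le R S)
  haveI : Nontrivial (A ⧸ J) := Ideal.Quotient.nontrivial_iff.mpr fun h =>
    (maximalIdeal.isMaximal A).ne_top (top_le_iff.mp (h.ge.trans hJm))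
  haveI : IsLocalRing (A ⧸ J) := IsLocalRing.of_surjective' _ Ideal.Quotient.mk_surjective
  let ψ0 : P →ₐ[R] A ⧸ J := (Ideal.Quotient.mkₐ R J).comp (Ideal.Quotient.mkₐ R Q)
  let ψ : S →ₐ[R] A ⧸ J := AlgHom.liftOfSurjective (C := A ⧸ J) (π R S) (π_surjective R S) ψ0
    fun y hy => by
      show Ideal.Quotient.mk J (Ideal.Quotient.mk Q y) = 0
      exact Ideal.Quotient.eq_zero_iff_mem.mpr (Ideal.mem_map_of_mem (Ideal.Quotient.mk Q) hy)
  have hψ : ∀ y, ψ (π R S y) = Ideal.Quotient.mk J (Ideal.Quotient.mk Q y) := fun y =>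
    AlgHom.liftOfSurjective_apply _ _ _ _ y
  have hψsurj : Function.Surjective ψ := fun a => by
    obtain ⟨a, rfl⟩ := Ideal.Quotient.mk_surjective a
    obtain ⟨y, rfl⟩ := Ideal.Quotient.mk_surjective a
    exact ⟨π R S y, hψ y⟩
  have h0A : 𝔞.map (algebraMap R A) = ⊥ := by
    rw [show algebraMap R A = (Ideal.Quotient.mk Q).comp (algebraMap R P) from rfl, ← Ideal.map_map,
      Ideal.map_eq_bot_iff_le_ker, Ideal.mk_ker]
    exact le_sup_right.trans le_sup_left
  obtain ⟨χ, hχ⟩ := h A J h0A hJ hlen ψ hψsurj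
  have hdiff : ∀ y, Ideal.Quotient.mk Q y - χ (π R S y) ∈ J := fun y => by
    rw [← Ideal.Quotient.eq_zero_iff_mem, map_sub, ← hψ, sub_eq_zero]
    exact (AlgHom.congr_fun hχ _).symm
  let V : Submodule P A := J.restrictScalars P
  have htor : Module.IsTorsionBySet P V (m : Set P) := fun v a => Subtype.ext (by
    show (a : P) • (v : A) = 0
    rw [Algebra.smul_def]
    exact hmJ _ a.2 _ v.2)
  letI : Module (F R S) V := htor.module
  haveI : IsScalarTower P (F R S) V := htor.isScalarTower
  let l : P →ₗ[R] V :=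
    { toFun := fun y => ⟨_, hdiff y⟩
      map_add' := fun y z => Subtype.ext (by
        show Ideal.Quotient.mk Q (y + z) - χ (π R S (y + z)) =
          (Ideal.Quotient.mk Q y - χ (π R S y)) + (Ideal.Quotient.mk Q z - χ (π R S z))
        simp only [map_add]; abel)
      map_smul' := fun r y => Subtype.ext (by
        show Ideal.Quotient.mkₐ R Q (r • y) - χ (π R S (r • y)) =
          r • (Ideal.Quotient.mkₐ R Q y - χ (π R S y))
        simp only [map_smul, smul_sub]) }
  let δ : Derivation R P V := Derivation.mk' l fun y z => Subtype.ext (by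
    show Ideal.Quotient.mk Q (y * z) - χ (π R S (y * z)) =
      Ideal.Quotient.mk Q y * (Ideal.Quotient.mk Q z - χ (π R S z)) +
        Ideal.Quotient.mk Q z * (Ideal.Quotient.mk Q y - χ (π R S y))
    have h0 : (Ideal.Quotient.mk Q y - χ (π R S y)) * (Ideal.Quotient.mk Q z - χ (π R S z)) = 0 := by
      have h2 := Ideal.mul_mem_mul (hdiff y) (hdiff z)
      rw [← pow_two J, hJ, Ideal.mem_bot] at h2
      exact h2
    simp only [map_mul]
    linear_combination -h0)
  have hδ := derivation_eq δ (x : P)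
  rw [hx, map_zero] at hδ
  apply hj
  rw [← Ideal.Quotient.eq_zero_iff_mem]
  have h1 : Ideal.Quotient.mk Q (x : P) - χ (π R S (x : P)) = 0 := congrArg Subtype.val hδ
  rwa [show π R S (x : P) = 0 from x.2, map_zero, sub_zero] at h1

omit [IsNoetherianRing S] in
/-- flatness: relations in `𝔞` are trivial -/
lemma map_inf_ker_le [Module.Flat R S] (𝔞 : Ideal R) :
    𝔞.map (algebraMap R (MvPolynomial S R)) ⊓ ker R S ≤
      𝔞.map (algebraMap R (MvPolynomial S R)) * ker R S := by
  classical
  rintro z ⟨hz, hzk⟩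
  obtain ⟨l, hl, rfl⟩ := (Finsupp.mem_span_image_iff_linearCombination (MvPolynomial S R)).mp
    (show z ∈ Submodule.span (MvPolynomial S R) (algebraMap R (MvPolynomial S R) '' (𝔞 : Set R)) from hz)
  have h0 : ∑ a : l.support, (a : R) • π R S (l a) = 0 := by
    have hzk' : π R S (Finsupp.linearCombination (MvPolynomial S R) (algebraMap R (MvPolynomial S R)) l) = 0 := hzk
    rw [Finsupp.linearCombination_apply, Finsupp.sum, map_sum] at hzk'
    rw [Finset.sum_coe_sort l.support fun a => a • π R S (l a)]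
    refine Eq.trans (Finset.sum_congr rfl fun a _ => ?_) hzk'
    rw [smul_eq_mul, map_mul, AlgHom.commutes, Algebra.smul_def, mul_comm]
  obtain ⟨k, c, y, hy, hc⟩ := Module.Flat.isTrivialRelation_of_sum_smul_eq_zero h0
  choose t ht using fun j => π_surjective R S (y j)
  let q : l.support → MvPolynomial S R := fun a => l a - ∑ j, c a j • t j
  have hq : ∀ a, q a ∈ ker R S := fun a => by
    show π R S (l a - ∑ j, c a j • t j) = 0
    rw [map_sub, map_sum, sub_eq_zero]
    refine (hy a).trans ?_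
    exact Finset.sum_congr rfl fun j _ => by rw [map_smul, ht]
  have h1 : Finsupp.linearCombination (MvPolynomial S R) (algebraMap R (MvPolynomial S R)) l =
      ∑ a : l.support, algebraMap R _ (a : R) * q a := by
    rw [Finsupp.linearCombination_apply, Finsupp.sum, ← Finset.sum_coe_sort l.support]
    have h2 : ∑ a : l.support, algebraMap R (MvPolynomial S R) (a : R) * ∑ j, c a j • t j = 0 := by
      simp only [Finset.mul_sum]
      rw [Finset.sum_comm]
      refine Finset.sum_eq_zero fun j _ => ?_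
      simp only [Algebra.smul_def, ← mul_assoc, ← map_mul]
      rw [← Finset.sum_mul, ← map_sum, hc j, map_zero, zero_mul]
    simp only [q, mul_sub, Finset.sum_sub_distrib, h2, sub_zero, smul_eq_mul, mul_comm]
  rw [h1]
  exact Submodule.sum_mem _ fun a _ =>
    Ideal.mul_mem_mul (Ideal.mem_map_of_mem _ (hl a.2)) (hq a)

/-- one step: the kernel is killed by (lifts of) the maximal ideal -/
lemma step (hkey : ∀ (φ : ker R S →ₗ[MvPolynomial S R] F R S) (x : ker R S),
      dd R S (x : MvPolynomial S R) = 0 → φ x = 0) (Q : Type u) [CommRing Q] [Algebra R Q] (K : Ideal Q) (hK : K ^ 2 = ⊥)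
    (u : S →ₐ[R] Q ⧸ K)
    (hm : ∀ s ∈ maximalIdeal S, ∀ q : Q, Ideal.Quotient.mk K q = u s → ∀ z ∈ K, q * z = 0) :
    ∃ v : S →ₐ[R] Q, (Ideal.Quotient.mkₐ R K).comp v = u := by
  classical
  let P := MvPolynomial S R
  let L : P →ₐ[R] Q := MvPolynomial.aeval fun s => Function.surjInv Ideal.Quotient.mk_surjective (u s)
  have hL : ∀ y, Ideal.Quotient.mk K (L y) = u (π R S y) := fun y => by
    have : (Ideal.Quotient.mkₐ R K).comp L = u.comp (π R S) := MvPolynomial.algHom_ext fun s => by
      show Ideal.Quotient.mk K (L (MvPolynomial.X s)) = u (π R S (MvPolynomial.X s))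
      rw [π, MvPolynomial.aeval_X, MvPolynomial.aeval_X, Function.surjInv_eq Ideal.Quotient.mk_surjective]
      rfl
    exact AlgHom.congr_fun this y
  letI : Algebra P Q := L.toRingHom.toAlgebra
  haveI : IsScalarTower R P Q := IsScalarTower.of_algebraMap_eq fun r => (L.commutes r).symm
  let V : Submodule P Q := K.restrictScalars P
  have htor : Module.IsTorsionBySet P V (mm R S : Set P) := fun v a => Subtype.ext (by
    show L (a : P) * (v : Q) = 0
    exact hm _ a.2 _ (hL _) _ v.2)
  letI : Module (F R S) V := htor.module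
  haveI : IsScalarTower P (F R S) V := htor.isScalarTower
  have hI : ∀ y : ker R S, L (y : P) ∈ K := fun y => by
    rw [← Ideal.Quotient.eq_zero_iff_mem, hL, show π R S (y : P) = 0 from y.2, map_zero]
  let φ : ker R S →ₗ[P] V :=
    { toFun := fun y => ⟨L (y : P), hI y⟩
      map_add' := fun y z => Subtype.ext (map_add L _ _)
      map_smul' := fun a y => Subtype.ext (map_mul L a y) }
  let dI : ker R S →ₗ[P] (S →₀ F R S) :=
    { toFun := fun y => dd R S (y : P)
      map_add' := fun y z => by rw [Submodule.coe_add, map_add]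
      map_smul' := fun a y => by
        have h0 : ∀ w : S →₀ F R S, (y : P) • w = 0 := fun w => by
          ext s
          obtain ⟨c, hc⟩ := Ideal.Quotient.mk_surjective (w s)
          rw [Finsupp.smul_apply, Finsupp.zero_apply, ← hc]
          show Ideal.Quotient.mk (mm R S) ((y : P) * c) = 0
          exact Ideal.Quotient.eq_zero_iff_mem.mpr (Ideal.mul_mem_right _ _ (ker_le R S y.2))
        rw [Submodule.coe_smul, smul_eq_mul, Derivation.leibniz, h0, add_zero, RingHom.id_apply] }
  have hle : LinearMap.ker dI ≤ LinearMap.ker φ := fun y hy => by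
    rw [LinearMap.mem_ker]
    by_contra hne
    obtain ⟨lam, hlam⟩ := Module.Projective.exists_dual_ne_zero (F R S) hne
    exact hlam (hkey ((lam.restrictScalars P).comp φ) y hy)
  let g₀ : LinearMap.range dI →ₗ[P] V :=
    ((LinearMap.ker dI).liftQ φ hle) ∘ₗ dI.quotKerEquivRange.symm.toLinearMap
  have hg₀ : ∀ y : ker R S, g₀ ⟨dI y, LinearMap.mem_range_self dI y⟩ = φ y := fun y => by
    show (LinearMap.ker dI).liftQ φ hle (dI.quotKerEquivRange.symm ⟨dI y, _⟩) = φ y
    rw [show dI.quotKerEquivRange.symm ⟨dI y, _⟩ = Submodule.Quotient.mk y from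
      dI.quotKerEquivRange_symm_apply_image y _]
    rfl
  let W : Submodule (F R S) (S →₀ F R S) :=
    { carrier := LinearMap.range dI
      add_mem' := fun ha hb => (LinearMap.range dI).add_mem ha hb
      zero_mem' := (LinearMap.range dI).zero_mem
      smul_mem' := fun c w hw => by
        obtain ⟨a, rfl⟩ := Ideal.Quotient.mk_surjective c
        have := (LinearMap.range dI).smul_mem a hw
        rwa [← algebraMap_smul (F R S) a w, Ideal.Quotient.algebraMap_eq] at this }
  let g₁ : W →ₗ[F R S] V :=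
    { toFun := fun w => g₀ ⟨w.1, w.2⟩
      map_add' := fun a b => g₀.map_add ⟨a.1, a.2⟩ ⟨b.1, b.2⟩
      map_smul' := fun c w => by
        obtain ⟨a, rfl⟩ := Ideal.Quotient.mk_surjective c
        rw [RingHom.id_apply, ← Ideal.Quotient.algebraMap_eq]
        refine Eq.trans ?_ (algebraMap_smul (F R S) a _).symm
        rw [← map_smul g₀ a]
        exact congrArg g₀ (Subtype.ext (algebraMap_smul (F R S) a w.1)) }
  obtain ⟨g, hg⟩ := g₁.exists_extend
  let D : Derivation R P V := ((g.restrictScalars P).compDer (dd R S))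
  have hD : ∀ y : ker R S, (D (y : P) : Q) = L (y : P) := fun y => by
    have h1 : g (dI y) = g₁ ⟨dI y, LinearMap.mem_range_self dI y⟩ :=
      LinearMap.congr_fun hg (⟨dI y, LinearMap.mem_range_self dI y⟩ : W)
    exact congrArg Subtype.val (h1.trans (hg₀ y))
  let ψ : P →ₐ[R] Q := AlgHom.ofLinearMap (L.toLinearMap - (V.subtype.restrictScalars R) ∘ₗ D.toLinearMap)
    (by
      show L 1 - ((D 1 : V) : Q) = 1
      rw [map_one, D.map_one_eq_zero, Submodule.coe_zero, sub_zero])
    (fun y z => by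
      show L (y * z) - ((D (y * z) : V) : Q) = (L y - (D y : Q)) * (L z - (D z : Q))
      have h0 : (D y : Q) * (D z : Q) = 0 := by
        have h2 := Ideal.mul_mem_mul (D y).2 (D z).2
        rw [← pow_two K, hK, Ideal.mem_bot] at h2
        exact h2
      rw [D.leibniz, map_mul, Submodule.coe_add, Submodule.coe_smul, Submodule.coe_smul,
        Algebra.smul_def, Algebra.smul_def]
      show L y * L z - (L y * (D z : Q) + L z * (D y : Q)) = _
      linear_combination -h0)
  refine ⟨AlgHom.liftOfSurjective (π R S) (π_surjective R S) ψ fun y hy => ?_, AlgHom.ext fun s => ?_⟩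
  · show L y - (D y : Q) = 0
    rw [hD ⟨y, hy⟩, sub_self]
  · obtain ⟨y, rfl⟩ := π_surjective R S s
    rw [AlgHom.comp_apply, AlgHom.liftOfSurjective_apply]
    show Ideal.Quotient.mk K (L y - (D y : Q)) = _
    rw [map_sub, Ideal.Quotient.eq_zero_iff_mem.mpr (D y).2, sub_zero, hL]

/-- adic formal smoothness from the vanishing -/
theorem isAdicFormallySmooth_of_key (hkey : ∀ (φ : ker R S →ₗ[MvPolynomial S R] F R S) (x : ker R S),
      dd R S (x : MvPolynomial S R) = 0 → φ x = 0) :
    CAlgX.IsAdicFormallySmooth R S (maximalIdeal S) := by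
  intro A _ _ J hJ ψ hψ
  obtain ⟨k, hk⟩ := hψ
  let n : Ideal A := ((maximalIdeal S).map ψ.toRingHom).comap (Ideal.Quotient.mk J)
  have hJn : J ≤ n := fun x hx => by
    rw [Ideal.mem_comap, Ideal.Quotient.eq_zero_iff_mem.mpr hx]
    exact zero_mem _
  have hnk : n ^ k ≤ J := by
    refine (Ideal.le_comap_pow (K := (maximalIdeal S).map ψ.toRingHom) (Ideal.Quotient.mk J) k).trans ?_
    intro x hx
    rw [Ideal.mem_comap, ← Ideal.map_pow] at hx
    have h0 : (maximalIdeal S ^ k).map ψ.toRingHom = ⊥ :=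
      eq_bot_iff.mpr (Ideal.map_le_iff_le_comap.mpr fun s hs => Ideal.mem_bot.mpr (hk s hs))
    rw [h0, Ideal.mem_bot, Ideal.Quotient.eq_zero_iff_mem] at hx
    exact hx
  let Ji : ℕ → Ideal A := fun i => n ^ i * J
  have hle : ∀ i, Ji i ≤ J := fun i => Ideal.mul_le_right
  have hstep : ∀ i, ∃ v : S →ₐ[R] A ⧸ Ji i, (Ideal.Quotient.factorₐ R (hle i)).comp v = ψ := by
    intro i
    induction i with
    | zero =>
      have e : J ≤ Ji 0 := by simp [Ji]
      refine ⟨(Ideal.Quotient.factorₐ R e).comp ψ, AlgHom.ext fun s => ?_⟩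
      obtain ⟨a, ha⟩ := Ideal.Quotient.mk_surjective (ψ s)
      show Ideal.Quotient.factor (hle 0) (Ideal.Quotient.factor e (ψ s)) = ψ s
      rw [← ha]
      rfl
    | succ i ih =>
      obtain ⟨v, hv⟩ := ih
      have hsub : Ji (i + 1) ≤ Ji i := Ideal.mul_mono_left (Ideal.pow_le_pow_right (Nat.le_succ i))
      let Q := A ⧸ Ji (i + 1)
      let K : Ideal Q := (Ji i).map (Ideal.Quotient.mk (Ji (i + 1)))
      have hK : K ^ 2 = ⊥ := by
        rw [← Ideal.map_pow, Ideal.map_eq_bot_iff_le_ker, Ideal.mk_ker]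
        refine le_trans (Ideal.pow_right_mono (hle i) 2) ?_
        rw [hJ]; exact bot_le
      let e : (Q ⧸ K) ≃ₐ[R] A ⧸ Ji i :=
        { (DoubleQuot.quotQuotEquivQuotSup (Ji (i + 1)) (Ji i)).trans
            (Ideal.quotEquivOfEq (sup_eq_right.mpr hsub)) with
          commutes' := fun _ => rfl }
      obtain ⟨w, hw⟩ := step hkey Q K hK (e.symm.toAlgHom.comp v) (by
        intro s hs q hq z hz
        obtain ⟨a, rfl⟩ := Ideal.Quotient.mk_surjective q
        obtain ⟨b, hb, rfl⟩ := (Ideal.mem_map_iff_of_surjective _ Ideal.Quotient.mk_surjective).mp hz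
        have han : a ∈ n := by
          have h1 : Ideal.Quotient.mk (Ji i) a = v s := by
            have := congrArg e hq
            rwa [AlgHom.comp_apply, AlgEquiv.coe_toAlgHom, AlgEquiv.apply_symm_apply] at this
          have h2 : Ideal.Quotient.mk J a = ψ s := by
            rw [← hv, AlgHom.comp_apply, ← h1]
            rfl
          rw [Ideal.mem_comap, h2]
          exact Ideal.mem_map_of_mem ψ.toRingHom hs
        rw [← map_mul, Ideal.Quotient.eq_zero_iff_mem]
        show a * b ∈ n ^ (i + 1) * J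
        rw [pow_succ', mul_assoc]
        exact Ideal.mul_mem_mul han hb)
      refine ⟨w, AlgHom.ext fun s => ?_⟩
      obtain ⟨a, ha⟩ := Ideal.Quotient.mk_surjective (w s)
      have h1 : Ideal.Quotient.mk K (w s) = e.symm (v s) := AlgHom.congr_fun hw s
      have h2 : e (Ideal.Quotient.mk K (w s)) = v s := by rw [h1, AlgEquiv.apply_symm_apply]
      show Ideal.Quotient.factor (hle (i + 1)) (w s) = ψ s
      rw [← hv, AlgHom.comp_apply, ← h2, ← ha]
      rfl
  obtain ⟨v, hv⟩ := hstep k
  have hz : Ji k ≤ ⊥ := by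
    rw [← hJ, pow_two J]
    exact Ideal.mul_mono_left hnk
  refine ⟨((AlgEquiv.quotientBot R A).toAlgHom.comp (Ideal.Quotient.factorₐ R hz)).comp v, AlgHom.ext fun s => ?_⟩
  obtain ⟨a, ha⟩ := Ideal.Quotient.mk_surjective (v s)
  rw [← hv]
  simp only [AlgHom.comp_apply, ← ha]
  rfl

/-- **Lifting along small extensions gives adic formal smoothness.** -/
theorem isAdicFormallySmooth (h : SmallLifts R S) :
    CAlgX.IsAdicFormallySmooth R S (maximalIdeal S) :=
  isAdicFormallySmooth_of_key (apply_eq_zero (𝔞 := (⊥ : Ideal R))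
    (fun A _ _ _ _ J _ => h A J) (by rw [Ideal.map_bot]; exact bot_le)
    (by rw [Ideal.map_bot, bot_inf_eq]; exact bot_le))

/-- **Flat algebras: lifting along small extensions killed by `𝔞` is enough.** -/
theorem isAdicFormallySmooth_of_flat [Module.Flat R S] {𝔞 : Ideal R} (h : LiftsMod R S 𝔞)
    (h𝔞 : 𝔞.map (algebraMap R S) ≤ maximalIdeal S) :
    CAlgX.IsAdicFormallySmooth R S (maximalIdeal S) :=
  isAdicFormallySmooth_of_key (apply_eq_zero h h𝔞 (map_inf_ker_le 𝔞))

omit [IsNoetherianRing S]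

/-- a local map to an Artinian local ring kills a power of the maximal ideal -/
lemma exists_pow_kills {T : Type*} [CommRing T] [IsLocalRing T] {C : Type*} [CommRing C]
    [IsLocalRing C] [IsArtinianRing C] (f : T →+* C) [IsLocalHom f] :
    ∃ k : ℕ, (maximalIdeal T ^ k).map f = ⊥ := by
  obtain ⟨k, hk⟩ : IsNilpotent (maximalIdeal C) :=
    (IsLocalRing.jacobson_eq_maximalIdeal (⊥ : Ideal C) bot_ne_top) ▸ IsArtinianRing.isNilpotent_jacobson_bot
  refine ⟨k, eq_bot_iff.mpr ?_⟩
  rw [Ideal.map_pow, ← Ideal.zero_eq_bot, ← hk]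
  refine Ideal.pow_right_mono (Ideal.map_le_iff_le_comap.mpr ?_) k
  exact (((local_hom_TFAE f).out 0 3).mp ‹IsLocalHom f›)

/-- the hypothesis in terms of local homomorphisms with bijective residue maps -/
lemma smallLifts_of_local {R S : Type u} [CommRing R] [CommRing S] [IsLocalRing R] [IsLocalRing S]
    [Algebra R S] [IsLocalHom (algebraMap R S)]
    (h : ∀ (A : Type u) [CommRing A] [IsLocalRing A] [IsArtinianRing A] [Algebra R A]
        [IsLocalHom (algebraMap R A)] (J : Ideal A), J ^ 2 = ⊥ → Module.length A J = 1 →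
        ∀ [IsLocalRing (A ⧸ J)] (ψ : S →ₐ[R] A ⧸ J) [IsLocalHom ψ.toRingHom],
          Function.Bijective (ResidueField.map ψ.toRingHom) →
          ∃ χ : S →ₐ[R] A, (Ideal.Quotient.mkₐ R J).comp χ = ψ) :
    SmallLifts R S := by
  intro A _ _ _ _ J hJ hlen _ ψ hψ
  haveI : IsLocalHom ψ.toRingHom := IsLocalHom.of_surjective _ hψ
  haveI : IsLocalHom (algebraMap R A) := ⟨fun r hr => by
    refine isUnit_of_map_unit (algebraMap R S) r (isUnit_of_map_unit ψ.toRingHom _ ?_)
    have h1 : IsUnit (Ideal.Quotient.mk J (algebraMap R A r)) := hr.map _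
    show IsUnit (ψ (algebraMap R S r))
    rw [ψ.commutes]
    exact h1⟩
  refine h A J hJ hlen ψ ⟨RingHom.injective _, fun x => ?_⟩
  obtain ⟨a, rfl⟩ := residue_surjective x
  obtain ⟨s, hs⟩ := hψ a
  exact ⟨residue S s, (ResidueField.map_residue ψ.toRingHom s).trans (congrArg _ hs)⟩

/-- adic formal smoothness modulo `𝔞` gives lifts along small extensions killed by `𝔞` -/
lemma liftsMod_of_quotient {𝔞 : Ideal R}
    (h : CAlgX.IsAdicFormallySmooth (R ⧸ 𝔞) (S ⧸ 𝔞.map (algebraMap R S))
      ((maximalIdeal S).map (Ideal.Quotient.mk (𝔞.map (algebraMap R S))))) :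
    LiftsMod R S 𝔞 := by
  intro A _ _ _ _ J hA hJ _ _ ψ hψ
  haveI : IsLocalHom ψ.toRingHom := IsLocalHom.of_surjective _ hψ
  obtain ⟨k, hk⟩ := exists_pow_kills ψ.toRingHom
  have h0 : ∀ r ∈ 𝔞, algebraMap R A r = 0 := fun r hr =>
    Ideal.mem_bot.mp (hA ▸ Ideal.mem_map_of_mem _ hr)
  letI : Algebra (R ⧸ 𝔞) A := (Ideal.Quotient.lift 𝔞 (algebraMap R A) h0).toAlgebra
  have hψ0 : ∀ s ∈ 𝔞.map (algebraMap R S), ψ s = 0 := fun s hs => by
    have hs' := Ideal.mem_map_of_mem ψ.toRingHom hs
    rw [Ideal.map_map, show ψ.toRingHom.comp (algebraMap R S) = (Ideal.Quotient.mk J).comp (algebraMap R A)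
      from RingHom.ext ψ.commutes, ← Ideal.map_map, hA, Ideal.map_bot, Ideal.mem_bot] at hs'
    exact hs'
  let ψ' : S ⧸ 𝔞.map (algebraMap R S) →ₐ[R ⧸ 𝔞] A ⧸ J :=
    { Ideal.Quotient.lift _ ψ.toRingHom hψ0 with
      commutes' := fun r => by
        obtain ⟨r, rfl⟩ := Ideal.Quotient.mk_surjective r
        exact ψ.commutes r }
  obtain ⟨χ', hχ'⟩ := h A J hJ ψ' ⟨k, fun x hx => by
    rw [← Ideal.map_pow, Ideal.mem_map_iff_of_surjective _ Ideal.Quotient.mk_surjective] at hx
    obtain ⟨y, hy, rfl⟩ := hx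
    exact Ideal.mem_bot.mp (hk ▸ Ideal.mem_map_of_mem ψ.toRingHom hy)⟩
  refine ⟨{ χ'.toRingHom.comp (Ideal.Quotient.mk _) with commutes' := fun r => ?_ },
    AlgHom.ext fun s => ?_⟩
  · exact χ'.commutes (Ideal.Quotient.mk 𝔞 r)
  · exact AlgHom.congr_fun hχ' (Ideal.Quotient.mk _ s)

end Groth.Agent.H68.SmallExt
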