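import Groth.Prelude.Def_Curv2
import Groth.Agent.Lib.AssPt.Basic
import Groth.Agent.Lib.StalkLoc.AssStalk
import Groth.Agent.Lib.Regular.Quotient
import Groth.Agent.Lib.Cyc.TorPD
import Groth.Agent.Lib.TensorMod.QCohInv
import Mathlib.RingTheory.Flat.TorsionFree
import Mathlib.RingTheory.DiscreteValuationRing.TFAE
import Mathlib.AlgebraicGeometry.Morphisms.Flat

/-!
# Flatness over regular schemes of dimension at most one
-/

set_option autoImplicit false
universe u

open CategoryTheory AlgebraicGeometry IsLocalRing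
open Groth.Agent.Lib

namespace Groth.Agent.H68.FlatDedekind

theorem isPrincipalIdealRing_of_regular (R : Type u) [CommRing R] [IsRegularLocalRing R]
    (h : ringKrullDim R ≤ 1) : IsPrincipalIdealRing R := by
  haveI := Regular.Quotient.isDomain R
  have h1 : (maximalIdeal R).spanFinrank ≤ 1 := by
    have := (IsRegularLocalRing.spanFinrank_maximalIdeal (R := R)).trans_le h
    exact_mod_cast this
  have hp : (maximalIdeal R).IsPrincipal := by
    rcases Nat.le_one_iff_eq_zero_or_eq_one.1 h1 with h0 | h0
    · rw [Submodule.spanFinrank_eq_zero_iff_eq_bot (IsNoetherian.noetherian _)] at h0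
      rw [h0]
      exact ⟨0, by simp⟩
    · exact ((Submodule.spanFinrank_eq_one_iff _).1 h0).1
  exact ((tfae_of_isNoetherianRing_of_isLocalRing_of_isDomain R).out 0 4).2 hp

variable {X Y : Scheme.{u}} (f : X ⟶ Y)

/-- Flatness is torsion-freeness of the local rings. -/
theorem flat_iff_mem_nonZeroDivisors (hreg : ∀ y : Y, IsRegularLocalRing (Y.presheaf.stalk y))
    (hdim : ∀ y : Y, ringKrullDim (Y.presheaf.stalk y) ≤ 1) :
    Flat f ↔ ∀ (x : X) (r : Y.presheaf.stalk (f x)), r ≠ 0 →
      (f.stalkMap x).hom r ∈ nonZeroDivisors (X.presheaf.stalk x) := by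
  rw [Flat.iff_flat_stalkMap]
  refine forall_congr' fun x => ?_
  haveI := hreg (f x)
  haveI := Regular.Quotient.isDomain (Y.presheaf.stalk (f x))
  haveI := isPrincipalIdealRing_of_regular _ (hdim (f x))
  letI : Algebra (Y.presheaf.stalk (f x)) (X.presheaf.stalk x) := (f.stalkMap x).hom.toAlgebra
  change Module.Flat (Y.presheaf.stalk (f x)) (X.presheaf.stalk x) ↔ _
  rw [Module.Flat.flat_iff_torsion_eq_bot_of_isBezout]
  refine ⟨fun h r hr => ?_, fun h => ?_⟩
  · rw [mem_nonZeroDivisors_iff_right]
    intro z hz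
    have : z ∈ Submodule.torsion (Y.presheaf.stalk (f x)) (X.presheaf.stalk x) :=
      ⟨⟨r, mem_nonZeroDivisors_of_ne_zero hr⟩, by
        show (f.stalkMap x).hom r * z = 0
        rw [mul_comm]; exact hz⟩
    simpa [h] using this
  · rw [eq_bot_iff]
    rintro z ⟨⟨r, hr⟩, hz⟩
    have hz' : (f.stalkMap x).hom r * z = 0 := hz
    exact (mem_nonZeroDivisors_iff_right.1 (h r (nonZeroDivisors.ne_zero hr))) z
      (by rw [mul_comm]; exact hz')

/-- A point of an integral scheme with a field as local ring is the generic point. -/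
theorem eq_genericPoint_of_isField [IsIntegral Y] {y : Y} (h : IsField (Y.presheaf.stalk y)) :
    y = genericPoint Y := by
  obtain ⟨p, hp⟩ := Set.ext_iff.1 (Y.range_fromSpecStalk (x := y)) (genericPoint Y) |>.2
    ((genericPoint_spec Y).specializes trivial)
  letI := h.toField
  rw [← hp, Subsingleton.elim (α := PrimeSpectrum (Y.presheaf.stalk y)) p
    (closedPoint (Y.presheaf.stalk y))]
  exact Y.fromSpecStalk_closedPoint.symm

/-- Over a point different from the generic one there is a nonzero non-unit. -/
theorem exists_mem_maximalIdeal [IsIntegral Y] {y : Y} (h : y ≠ genericPoint Y) :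
    ∃ r : Y.presheaf.stalk y, r ≠ 0 ∧ r ∈ maximalIdeal (Y.presheaf.stalk y) :=
  by_contra fun hc => h (eq_genericPoint_of_isField ((isField_iff_maximalIdeal_eq).2
    ((Submodule.eq_bot_iff _).2 fun r hr => by_contra fun h0 => hc ⟨r, h0, hr⟩)))

/-- The generic point does not generalise into a prime containing a nonzero element. -/
theorem stalkMap_notMem_of_apply_eq_genericPoint [IsIntegral Y] (x : X)
    (q : Spec (X.presheaf.stalk x)) (hq : f (X.fromSpecStalk x q) = genericPoint Y)
    {r : Y.presheaf.stalk (f x)} (hr : r ≠ 0) : (f.stalkMap x).hom r ∉ q.asIdeal := by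
  intro hmem
  let p : Spec (Y.presheaf.stalk (f x)) := Spec.map (f.stalkMap x) q
  have hp : Y.fromSpecStalk (f x) p = genericPoint Y := by
    rw [← hq, ← Scheme.Hom.comp_apply, ← Scheme.Hom.comp_apply,
      Scheme.SpecMap_stalkMap_fromSpecStalk]
  haveI : Nonempty Y := ⟨f x⟩
  let z : Spec (Y.presheaf.stalk (f x)) := (⟨⊥, Ideal.isPrime_bot⟩ : PrimeSpectrum _)
  have hz : z ⤳ p := (PrimeSpectrum.le_iff_specializes z p).1 bot_le
  have h1 : Y.fromSpecStalk (f x) z ⤳ genericPoint Y := hp ▸ hz.map (Y.fromSpecStalk (f x)).continuous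
  have h2 : Y.fromSpecStalk (f x) z = genericPoint Y :=
    (h1.antisymm ((genericPoint_spec Y).specializes trivial)).eq
  have h3 : p = z := (Y.fromSpecStalk (f x)).isEmbedding.injective (hp.trans h2.symm)
  have h4 : r ∈ p.asIdeal := hmem
  rw [h3] at h4
  exact hr h4

theorem flat_iff_assPoints [IsIntegral Y] [IsLocallyNoetherian X]
    (hreg : ∀ y : Y, IsRegularLocalRing (Y.presheaf.stalk y))
    (hdim : ∀ y : Y, ringKrullDim (Y.presheaf.stalk y) ≤ 1) :
    Flat f ↔ ∀ x : X, Curv2.IsAssPoint (Coh.structureModule X) x → f x = genericPoint Y := by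
  rw [flat_iff_mem_nonZeroDivisors f hreg hdim]
  haveI := TensorMod.QCohInv.isQCoh_structureModule X
  constructor
  · intro h x hx
    rw [AssPt.Basic.isAssPoint_structure_iff] at hx
    by_contra hne
    obtain ⟨r, hr0, hr⟩ := exists_mem_maximalIdeal hne
    have hnu : ¬ IsUnit ((f.stalkMap x).hom r) := fun hu =>
      (mem_maximalIdeal r).1 hr (isUnit_of_map_unit (f.stalkMap x).hom r hu)
    exact hnu (AssPt.Basic.isUnit_of_nzd_of_maxAssoc hx (h x r hr0))
  · intro h x r hr
    by_contra hn
    have hn' : (f.stalkMap x).hom r ∈ ((nonZeroDivisors (X.presheaf.stalk x) : Set _))ᶜ := hn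
    rw [← biUnion_associatedPrimes_eq_compl_nonZeroDivisors] at hn'
    obtain ⟨P, hP, hrP⟩ := Set.mem_iUnion₂.1 hn'
    let q : Spec (X.presheaf.stalk x) := (⟨P, hP.1⟩ : PrimeSpectrum _)
    have hP' : q.asIdeal ∈ associatedPrimes (X.presheaf.stalk x)
        ((Coh.structureModule X).presheaf.stalk x) :=
      (AssPt.Basic.unitStalkEquiv x).isAssociatedPrime_iff.1 hP
    have hass := (StalkLoc.AssStalk.mem_associatedPrimes_stalk_iff x q).1 hP'
    exact stalkMap_notMem_of_apply_eq_genericPoint f x q (h _ hass) hr hrP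

theorem flat_iff_dominant [IsIntegral Y] [IsReduced X]
    (hreg : ∀ y : Y, IsRegularLocalRing (Y.presheaf.stalk y))
    (hdim : ∀ y : Y, ringKrullDim (Y.presheaf.stalk y) ≤ 1) :
    Flat f ↔ ∀ Z ∈ irreducibleComponents (X : Type u), Dense (f.base '' Z) := by
  rw [flat_iff_mem_nonZeroDivisors f hreg hdim]
  constructor
  · intro h Z hZ
    have hZc := isClosed_of_mem_irreducibleComponents Z hZ
    have hg := hZ.1.isGenericPoint_genericPoint hZc
    set x := hZ.1.genericPoint
    have hfield : IsField (X.presheaf.stalk x) := by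
      haveI : Subsingleton (PrimeSpectrum (X.presheaf.stalk x)) := by
        refine ⟨fun p q => ?_⟩
        have key : ∀ p : PrimeSpectrum (X.presheaf.stalk x), X.fromSpecStalk x p = x := by
          intro p
          have hp : X.fromSpecStalk x p ⤳ x :=
            (Set.ext_iff.1 (X.range_fromSpecStalk (x := x)) _).1 ⟨p, rfl⟩
          have hw : X.fromSpecStalk x p ∈ Z := hZ.2 isIrreducible_singleton.closure
            (fun a ha => specializes_iff_mem_closure.mp (hp.trans (hg.specializes ha)))
            (subset_closure rfl)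
          exact (hp.antisymm (hg.specializes hw)).eq
        exact (X.fromSpecStalk x).isEmbedding.injective ((key p).trans (key q).symm)
      rw [isField_iff_maximalIdeal_eq, eq_bot_iff]
      intro a ha
      have : IsNilpotent a := nilpotent_iff_mem_prime.2 fun J hJ => by
        rw [show J = maximalIdeal (X.presheaf.stalk x) from congrArg PrimeSpectrum.asIdeal
          (Subsingleton.elim ⟨J, hJ⟩ (closedPoint (X.presheaf.stalk x)))]
        exact ha
      exact this.eq_zero
    have hx : f x = genericPoint Y := by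
      by_contra hne
      obtain ⟨r, hr0, hr⟩ := exists_mem_maximalIdeal hne
      letI := hfield.toField
      have h1 : (f.stalkMap x).hom r = 0 := by
        by_contra h2
        exact (mem_maximalIdeal r).1 hr (isUnit_of_map_unit (f.stalkMap x).hom r (IsUnit.mk0 _ h2))
      exact nonZeroDivisors.ne_zero (h x r hr0) h1
    rw [dense_iff_closure_eq, ← Set.univ_subset_iff, ← (genericPoint_spec Y).def]
    exact closure_mono (Set.singleton_subset_iff.2 ⟨x, hg.mem, hx⟩)
  · intro h x r hr
    by_contra hn
    obtain ⟨b, hb0, hb⟩ : ∃ b, b * (f.stalkMap x).hom r = 0 ∧ b ≠ 0 := by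
      by_contra hc
      exact hn (mem_nonZeroDivisors_iff_right.2 fun b hb => by_contra fun h0 => hc ⟨b, hb, h0⟩)
    obtain ⟨P, hP, hbP⟩ : ∃ P ∈ minimalPrimes (X.presheaf.stalk x), b ∉ P := by
      by_contra hc
      have : b ∈ (⊥ : Ideal (X.presheaf.stalk x)).radical := by
        rw [← Ideal.sInf_minimalPrimes, Ideal.mem_sInf]
        exact fun {P} hP => by_contra fun hbP => hc ⟨P, hP, hbP⟩
      exact hb (show IsNilpotent b from this).eq_zero
    let q : Spec (X.presheaf.stalk x) := (⟨P, hP.1.1⟩ : PrimeSpectrum _)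
    have hrP : (f.stalkMap x).hom r ∈ q.asIdeal :=
      (q.2.mem_or_mem (by rw [hb0]; exact Ideal.zero_mem _)).resolve_left hbP
    set w := X.fromSpecStalk x q
    have hw : closure {w} ∈ irreducibleComponents X := by
      refine ⟨isIrreducible_singleton.closure, fun Z hZ hle => ?_⟩
      have hg := hZ.closure.isGenericPoint_genericPoint isClosed_closure
      set t := hZ.closure.genericPoint
      have htw : t ⤳ w := hg.specializes (subset_closure (hle (subset_closure rfl)))
      have htx : t ⤳ x := htw.trans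
        ((Set.ext_iff.1 (X.range_fromSpecStalk (x := x)) w).1 ⟨q, rfl⟩)
      obtain ⟨p, hp⟩ := (Set.ext_iff.1 (X.range_fromSpecStalk (x := x)) t).2 htx
      have hpq : p ⤳ q := ((X.fromSpecStalk x).isEmbedding.specializes_iff).1 (hp.symm ▸ htw)
      have hPp : P ≤ (p : PrimeSpectrum (X.presheaf.stalk x)).asIdeal :=
        hP.2 ⟨p.2, bot_le⟩ ((PrimeSpectrum.le_iff_specializes p q).2 hpq)
      have hqp : q = p := PrimeSpectrum.ext (le_antisymm hPp
        ((PrimeSpectrum.le_iff_specializes p q).2 hpq))
      intro a ha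
      rw [show w = t from (congrArg (X.fromSpecStalk x ·) hqp).trans hp]
      exact specializes_iff_mem_closure.1 (hg.specializes (subset_closure ha))
    refine stalkMap_notMem_of_apply_eq_genericPoint f x q ?_ hr hrP
    have h1 : f.base '' closure {w} ⊆ closure {f w} := (image_closure_subset_closure_image f.continuous).trans
      (by rw [Set.image_singleton])
    have h2 : genericPoint Y ∈ closure {f w} := closure_minimal h1 isClosed_closure (h _ hw _)
    exact ((specializes_iff_mem_closure.2 h2).antisymm ((genericPoint_spec Y).specializes trivial)).eq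

end Groth.Agent.H68.FlatDedekind
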