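import Groth.Agent.Lib.Synt92.KRMorDescent
import Groth.Agent.Lib.Synt92.KRSpec
import Groth.Agent.Lib.Synt92.KRIdeal

/-!
# Local complete intersection ring maps on affine opens and Koszul morphisms
-/

set_option autoImplicit false
set_option linter.style.haveILetI false

universe u

open CategoryTheory CategoryTheory.Limits AlgebraicGeometry

namespace Groth.Agent.H68.LCIBridge

open Lib.Synt92

variable {X Y : Scheme.{u}}

/-- Every affine-local lci chart is a Koszul chart, and conversely. -/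
theorem isLCI_appLE_iff (f : X ⟶ Y) [LocallyOfFiniteType f] {U : X.Opens} {V : Y.Opens} (hU : IsAffineOpen U) (hV : IsAffineOpen V)
    (hUV : U ≤ f ⁻¹ᵁ V) :
    (letI := (f.appLE V U hUV).hom.toAlgebra
     LCI.IsLCI Γ(Y, V) Γ(X, U)) ↔
      ∀ x ∈ U, Synt.IsKoszulAt f x := by
  let R := Γ(Y, V)
  let C := Γ(X, U)
  letI : Algebra R C := (f.appLE V U hUV).hom.toAlgebra
  -- the chart of a surjective presentation
  have chart : ∀ (n : ℕ) (φ : MvPolynomial (Fin n) R →ₐ[R] C) (hφ : Function.Surjective φ),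
      LocallyOfFiniteType (U.ι ≫ f) ∧
      ((∀ x ∈ U, Synt.IsKoszulAt f x) ↔ LCI.IsKoszulRegularIdeal (RingHom.ker φ.toRingHom)) := by
    intro n φ hφ
    let A := MvPolynomial (Fin n) R
    haveI : Algebra.Smooth R A := ⟨inferInstance, inferInstance⟩
    let ψ : CommRingCat.of A ⟶ Γ(X, U) := CommRingCat.ofHom φ.toRingHom
    let i : (U : Scheme.{u}) ⟶ Spec (CommRingCat.of A) := hU.isoSpec.hom ≫ Spec.map ψ
    let π : Spec (CommRingCat.of A) ⟶ Y := Spec.map (CommRingCat.ofHom (algebraMap R A)) ≫ hV.fromSpec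
    haveI : Smooth (Spec.map (CommRingCat.ofHom (algebraMap R A))) := by
      rw [HasRingHomProperty.Spec_iff (P := @Smooth)]
      exact RingHom.smooth_algebraMap.2 ‹_›
    haveI : Smooth π := inferInstance
    haveI : IsClosedImmersion (Spec.map ψ) := IsClosedImmersion.spec_of_surjective _ hφ
    haveI : IsImmersion i := inferInstance
    have hfac : i ≫ π = U.ι ≫ f := by
      rw [← KRCover.fromSpec_comp f hV hU hUV, Category.assoc, ← Spec.map_comp_assoc]
      congr 3
      exact CommRingCat.hom_ext (RingHom.ext fun r => φ.commutes r)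
    haveI : LocallyOfFiniteType (U.ι ≫ f) := by rw [← hfac]; infer_instance
    refine ⟨inferInstance, fun h => (KRIdeal.isKoszulRegularIdeal_iff _).2 fun P hP => ?_, fun h x hx => ?_⟩
    · haveI := P.isPrime
      have hQ : (P.asIdeal.map φ.toRingHom).IsPrime := Ideal.map_isPrime_of_surjective hφ hP
      let q : Spec Γ(X, U) := ⟨P.asIdeal.map φ.toRingHom, hQ⟩
      let w : (U : Scheme.{u}) := hU.isoSpec.inv q
      obtain ⟨m, hm⟩ := KRMor.exists_atN_of_koszulAt' f U.ι π i hfac w (h _ w.2)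
      have h1 := (KRMor.atN_openImmersion_iff (Spec.map ψ) hU.isoSpec.hom w m).1 hm
      rw [show hU.isoSpec.hom w = q by
        change hU.isoSpec.hom (hU.isoSpec.inv q) = q
        rw [← Scheme.Hom.comp_apply, Iso.inv_hom_id]
        rfl] at h1
      refine ⟨m, ?_⟩
      have h2 := (KRSpec.atN_specMap_iff ψ hφ q m).1 h1
      rwa [show q.asIdeal.comap ψ.hom = P.asIdeal from
        (Ideal.comap_map_of_surjective φ.toRingHom hφ P.asIdeal).trans (sup_eq_left.2 hP)] at h2
    · refine ⟨U, Spec (CommRingCat.of A), i, π, hx, inferInstance,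
        (KRImm.isRegularImmersion_iff i).2 ⟨inferInstance, fun w => ?_⟩, inferInstance, hfac⟩
      let q := hU.isoSpec.hom w
      obtain ⟨m, hm⟩ := (KRIdeal.isKoszulRegularIdeal_iff _).1 h ⟨q.asIdeal.comap φ.toRingHom, Ideal.IsPrime.comap _⟩
        (fun a (ha : φ a = 0) => by
          change φ a ∈ q.asIdeal
          rw [ha]; exact zero_mem _)
      exact ⟨m, (KRMor.atN_openImmersion_iff (Spec.map ψ) hU.isoSpec.hom w m).2
        ((KRSpec.atN_specMap_iff ψ hφ q m).2 hm)⟩
  constructor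
  · rintro ⟨-, n, φ, hφ, hI⟩
    exact (chart n φ hφ).2.2 hI
  · intro hK
    haveI : Algebra.FiniteType R C :=
      RingHom.finiteType_algebraMap.1
        (HasRingHomProperty.appLE @LocallyOfFiniteType f inferInstance ⟨V, hV⟩ ⟨U, hU⟩ hUV)
    obtain ⟨n, φ, hφ⟩ := Algebra.FiniteType.iff_quotient_mvPolynomial''.1 (inferInstance : Algebra.FiniteType R C)
    exact ⟨inferInstance, n, φ, hφ, (chart n φ hφ).2.1 hK⟩

/-- The affine form and the pointwise form of lci morphisms agree. -/
theorem forall_isLCI_iff (f : X ⟶ Y) :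
    (∀ (U : X.Opens) (V : Y.Opens) (hU : IsAffineOpen U) (hV : IsAffineOpen V) (hUV : U ≤ f ⁻¹ᵁ V),
        letI := (f.appLE V U hUV).hom.toAlgebra
        LCI.IsLCI Γ(Y, V) Γ(X, U)) ↔ ∀ x, Synt.IsKoszulAt f x := by
  constructor
  · intro h
    haveI : LocallyOfFiniteType f := by
      rw [HasRingHomProperty.iff_appLE (P := @LocallyOfFiniteType)]
      intro V U hUV
      letI := (f.appLE V.1 U.1 hUV).hom.toAlgebra
      exact RingHom.finiteType_algebraMap.2 (h U.1 V.1 U.2 V.2 hUV).1
    intro x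
    obtain ⟨V, hV, hxV, -⟩ := exists_isAffineOpen_mem_and_subset (X := Y) (x := f x) (U := ⊤) trivial
    obtain ⟨U, hU, hxU, hUV⟩ := exists_isAffineOpen_mem_and_subset (x := x) (U := f ⁻¹ᵁ V) hxV
    exact (isLCI_appLE_iff f hU hV hUV).1 (h U V hU hV hUV) x hxU
  · intro h U V hU hV hUV
    haveI := KRMorDescent.locallyOfFiniteType_of_koszulAt f h
    exact (isLCI_appLE_iff f hU hV hUV).2 fun x _ => h x

end Groth.Agent.H68.LCIBridge
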