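import Groth.Agent.H68.AdicFlat
import Groth.Agent.H24.PowerSeries
import Groth.Agent.Lib.Adic.Complete

/-!
# Flat lifts of formally smooth algebras (EGA 0_IV 19.7.2)

Existence and uniqueness of flat complete lifts of an adically smooth algebra over a quotient of a
Noetherian local ring.
-/

set_option autoImplicit false

universe u

open IsLocalRing
open scoped TensorProduct

namespace Groth.Agent.H68.FlatLift

/-- Relations with coefficients in `𝔞` in a flat quotient are trivial. -/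
theorem inf_ker_le_of_flat {R E B : Type u} [CommRing R] [CommRing E] [CommRing B] [Algebra R E]
    [Algebra R B] [Module.Flat R B] (π : E →ₐ[R] B) (hπ : Function.Surjective π) (𝔞 : Ideal R) :
    𝔞.map (algebraMap R E) ⊓ RingHom.ker π.toRingHom ≤
      𝔞.map (algebraMap R E) * RingHom.ker π.toRingHom := by
  classical
  rintro z ⟨hz, hzk⟩
  obtain ⟨l, hl, rfl⟩ := (Finsupp.mem_span_image_iff_linearCombination E).mp
    (show z ∈ Submodule.span E (algebraMap R E '' (𝔞 : Set R)) from hz)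
  have h0 : ∑ a : l.support, (a : R) • π (l a) = 0 := by
    have hzk' : π (Finsupp.linearCombination E (algebraMap R E) l) = 0 := hzk
    rw [Finsupp.linearCombination_apply, Finsupp.sum, map_sum] at hzk'
    rw [Finset.sum_coe_sort l.support fun a => a • π (l a)]
    refine Eq.trans (Finset.sum_congr rfl fun a _ => ?_) hzk'
    rw [smul_eq_mul, map_mul, AlgHom.commutes, Algebra.smul_def, mul_comm]
  obtain ⟨k, c, y, hy, hc⟩ := Module.Flat.isTrivialRelation_of_sum_smul_eq_zero h0
  choose t ht using fun j => hπ (y j)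
  let q : l.support → E := fun a => l a - ∑ j, c a j • t j
  have hq : ∀ a, q a ∈ RingHom.ker π.toRingHom := fun a => by
    show π (l a - ∑ j, c a j • t j) = 0
    rw [map_sub, map_sum, sub_eq_zero]
    refine (hy a).trans ?_
    exact Finset.sum_congr rfl fun j _ => by rw [map_smul, ht]
  have h1 : Finsupp.linearCombination E (algebraMap R E) l =
      ∑ a : l.support, algebraMap R E (a : R) * q a := by
    rw [Finsupp.linearCombination_apply, Finsupp.sum, ← Finset.sum_coe_sort l.support]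
    have h2 : ∑ a : l.support, algebraMap R E (a : R) * ∑ j, c a j • t j = 0 := by
      simp only [Finset.mul_sum]
      rw [Finset.sum_comm]
      refine Finset.sum_eq_zero fun j _ => ?_
      simp only [Algebra.smul_def, ← mul_assoc, ← map_mul]
      rw [← Finset.sum_mul, ← map_sum, hc j, map_zero, zero_mul]
    simp only [q, mul_sub, Finset.sum_sub_distrib, h2, sub_zero, smul_eq_mul, mul_comm]
  rw [h1]
  exact Submodule.sum_mem _ fun a _ =>
    Ideal.mul_mem_mul (Ideal.mem_map_of_mem _ (hl a.2)) (hq a)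

/-- A surjection of a Noetherian local ring onto a flat algebra, with small kernel, is bijective. -/
theorem injective_of_flat {R E B : Type u} [CommRing R] [CommRing E] [IsLocalRing E] [IsNoetherianRing E]
    [CommRing B] [Algebra R E] [Algebra R B] [Module.Flat R B] (π : E →ₐ[R] B)
    (hπ : Function.Surjective π) (𝔞 : Ideal R) (h𝔞 : 𝔞.map (algebraMap R E) ≤ maximalIdeal E)
    (hker : RingHom.ker π.toRingHom ≤ 𝔞.map (algebraMap R E)) : Function.Injective π := by
  have h1 : RingHom.ker π.toRingHom ≤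
      𝔞.map (algebraMap R E) * RingHom.ker π.toRingHom :=
    (le_inf hker le_rfl).trans (inf_ker_le_of_flat π hπ 𝔞)
  have h2 : RingHom.ker π.toRingHom = ⊥ :=
    Submodule.eq_bot_of_le_smul_of_le_jacobson_bot _ _ (IsNoetherian.noetherian _) (by rwa [smul_eq_mul])
      (h𝔞.trans (jacobson_eq_maximalIdeal (⊥ : Ideal E) bot_ne_top).ge)
  exact (injective_iff_map_eq_zero π).mpr fun x hx => by
    have : x ∈ RingHom.ker π.toRingHom := hx
    rwa [h2, Ideal.mem_bot] at this

section Lift

variable {A B B' : Type u} [CommRing A] [CommRing B] [IsLocalRing B] [CommRing B'] [IsLocalRing B']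
  [IsNoetherianRing B'] [Algebra A B] [Algebra A B']

/-- Lifting a surjection onto a quotient of a complete ring. -/
theorem exists_surjective_lift (J : Ideal A) (𝔟 : Ideal B) (𝔠 : Ideal B') [IsAdicComplete 𝔟 B]
    [IsAdicComplete 𝔠 B'] (h𝔟 : J.map (algebraMap A B) ≤ 𝔟) (h𝔟' : 𝔟 ≤ maximalIdeal B)
    (h𝔠 : J.map (algebraMap A B') ≤ 𝔠) (h𝔠' : 𝔠 ≤ maximalIdeal B')
    (hfs : EGA41.IsFormallySmoothAdic A J B 𝔟)
    (u₀ : B →ₐ[A] B' ⧸ J.map (algebraMap A B')) (hu₀ : Function.Surjective u₀)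
    (hc : ∃ k : ℕ, (𝔟 ^ k).map u₀.toRingHom ≤ 𝔠.map (Ideal.Quotient.mk (J.map (algebraMap A B')))) :
    ∃ v : B →ₐ[A] B', Function.Surjective v ∧ ∀ b, Ideal.Quotient.mk _ (v b) = u₀ b := by
  let J' : Ideal B' := J.map (algebraMap A B')
  have hJ'm : J' ≤ maximalIdeal B' := h𝔠.trans h𝔠'
  haveI : Nontrivial (B' ⧸ J') := Ideal.Quotient.nontrivial_iff.mpr fun h =>
    (maximalIdeal.isMaximal B').ne_top (top_le_iff.mp (h.ge.trans hJ'm))
  haveI : IsLocalRing (B' ⧸ J') := IsLocalRing.of_surjective' _ Ideal.Quotient.mk_surjective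
  haveI : IsHausdorff (𝔠.map (Ideal.Quotient.mk J')) (B' ⧸ J') := by
    refine IsHausdorff.of_le_jacobson _ _ ((Ideal.map_mono h𝔠').trans ?_)
    exact (IsLocalRing.map_maximalIdeal_of_surjective (Ideal.Quotient.mk J') Ideal.Quotient.mk_surjective).le.trans
      (jacobson_eq_maximalIdeal (⊥ : Ideal (B' ⧸ J')) bot_ne_top).ge
  obtain ⟨v, -, hv⟩ := Lib.FSAdic.Basic.exists_lift_complete hfs 𝔠 ⟨1, by rwa [pow_one]⟩ J'
    ⟨1, by rwa [pow_one]⟩ u₀ hc
  have hvu : ∀ b, Ideal.Quotient.mk J' (v b) = u₀ b := fun b => AlgHom.congr_fun hv b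
  refine ⟨v, ?_, hvu⟩
  haveI : IsLocalHom u₀.toRingHom := IsLocalHom.of_surjective _ hu₀
  have hmap : 𝔟.map v.toRingHom ≤ maximalIdeal B' := by
    refine Ideal.map_le_iff_le_comap.mpr fun b hb hu => ?_
    have h1 : IsUnit (u₀.toRingHom b) := by
      show IsUnit (u₀ b)
      rw [← hvu]
      exact hu.map _
    exact h𝔟' hb (isUnit_of_map_unit u₀.toRingHom b h1)
  haveI : IsHausdorff (𝔟.map v.toRingHom) B' :=
    IsHausdorff.of_le_jacobson _ _ (hmap.trans (jacobson_eq_maximalIdeal (⊥ : Ideal B') bot_ne_top).ge)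
  refine surjective_of_mk_map_comp_surjective (f := v.toRingHom) (I := 𝔟) fun q => ?_
  obtain ⟨y, rfl⟩ := Ideal.Quotient.mk_surjective q
  obtain ⟨b, hb⟩ := hu₀ (Ideal.Quotient.mk J' y)
  refine ⟨b, ?_⟩
  show Ideal.Quotient.mk _ (v b) = Ideal.Quotient.mk _ y
  rw [Ideal.Quotient.eq]
  have h1 : v b - y ∈ J' := Ideal.Quotient.eq.mp ((hvu b).trans hb)
  refine (?_ : J' ≤ 𝔟.map v.toRingHom) h1
  refine (le_of_eq ?_).trans (Ideal.map_mono (f := v.toRingHom) h𝔟)
  show J.map (algebraMap A B') = (J.map (algebraMap A B)).map v.toRingHom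
  rw [Ideal.map_map, show v.toRingHom.comp (algebraMap A B) = algebraMap A B' from RingHom.ext v.commutes]

/-- Lifting an isomorphism modulo `J` with values in a flat algebra. -/
theorem exists_algEquiv_lift [IsNoetherianRing B] (J : Ideal A) (𝔟 : Ideal B) (𝔠 : Ideal B')
    [IsAdicComplete 𝔟 B] [IsAdicComplete 𝔠 B'] [Module.Flat A B'] (h𝔟 : J.map (algebraMap A B) ≤ 𝔟)
    (h𝔟' : 𝔟 ≤ maximalIdeal B) (h𝔠 : J.map (algebraMap A B') ≤ 𝔠) (h𝔠' : 𝔠 ≤ maximalIdeal B')
    (hfs : EGA41.IsFormallySmoothAdic A J B 𝔟)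
    (u₀ : B →ₐ[A] B' ⧸ J.map (algebraMap A B')) (hu₀ : Function.Surjective u₀)
    (hker : RingHom.ker u₀.toRingHom ≤ J.map (algebraMap A B))
    (hc : ∃ k : ℕ, (𝔟 ^ k).map u₀.toRingHom ≤ 𝔠.map (Ideal.Quotient.mk (J.map (algebraMap A B')))) :
    ∃ v : B ≃ₐ[A] B', ∀ b, Ideal.Quotient.mk _ (v b) = u₀ b := by
  obtain ⟨v, hv, hvu⟩ := exists_surjective_lift J 𝔟 𝔠 h𝔟 h𝔟' h𝔠 h𝔠' hfs u₀ hu₀ hc
  have hk : RingHom.ker v.toRingHom ≤ J.map (algebraMap A B) := fun b hb => hker (by
    show u₀ b = 0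
    rw [← hvu, show v b = 0 from hb, map_zero])
  exact ⟨AlgEquiv.ofBijective v ⟨injective_of_flat v hv J (h𝔟.trans h𝔟') hk, hv⟩, hvu⟩

end Lift

/-- Adic formal smoothness of a flat algebra from the one of a quotient by an extended ideal. -/
theorem adic_of_flat_of_surjective {R R' S S₀ : Type u} [CommRing R] [CommRing R'] [CommRing S]
    [IsLocalRing S] [IsNoetherianRing S] [CommRing S₀] [IsLocalRing S₀] [Algebra R R'] [Algebra R S]
    [Module.Flat R S] [Algebra R' S₀] [Algebra R S₀] [IsScalarTower R R' S₀] {𝔞 : Ideal R}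
    (h𝔞 : 𝔞.map (algebraMap R S) ≤ maximalIdeal S) (hR : Function.Surjective (algebraMap R R'))
    (hR' : RingHom.ker (algebraMap R R') ≤ 𝔞) (π : S →ₐ[R] S₀) (hπ : Function.Surjective π)
    (hker : RingHom.ker π.toRingHom ≤ 𝔞.map (algebraMap R S))
    (h : CAlgX.IsAdicFormallySmooth R' S₀ (maximalIdeal S₀)) :
    CAlgX.IsAdicFormallySmooth R S (maximalIdeal S) := by
  refine SmallExt.isAdicFormallySmooth_of_flat (𝔞 := 𝔞) ?_ h𝔞
  intro C _ _ _ _ J hC hJ _ _ ψ hψ
  have hzero : ∀ r ∈ 𝔞, algebraMap R C r = 0 := fun r hr =>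
    Ideal.mem_bot.mp (hC ▸ Ideal.mem_map_of_mem _ hr)
  let g : R' →+* C := RingHom.liftOfSurjective (algebraMap R R') hR
    ⟨algebraMap R C, fun r hr => hzero r (hR' hr)⟩
  letI : Algebra R' C := g.toAlgebra
  haveI : IsScalarTower R R' C := IsScalarTower.of_algebraMap_eq fun r =>
    (RingHom.liftOfRightInverse_comp_apply (algebraMap R R') _ _
      ⟨algebraMap R C, fun x hx => hzero x (hR' hx)⟩ r).symm
  have hψ0 : ∀ s ∈ RingHom.ker π.toRingHom, ψ s = 0 := fun s hs => by
    have hs' := Ideal.mem_map_of_mem ψ.toRingHom (hker hs)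
    rw [Ideal.map_map, show ψ.toRingHom.comp (algebraMap R S) = (Ideal.Quotient.mk J).comp (algebraMap R C)
      from RingHom.ext ψ.commutes, ← Ideal.map_map, hC, Ideal.map_bot, Ideal.mem_bot] at hs'
    exact hs'
  let ψ₁ : S₀ →ₐ[R] C ⧸ J := AlgHom.liftOfSurjective π hπ ψ hψ0
  have hψ₁ : ∀ s, ψ₁ (π s) = ψ s := fun s => AlgHom.liftOfSurjective_apply _ _ _ _ s
  let ψ' : S₀ →ₐ[R'] C ⧸ J :=
    { ψ₁.toRingHom with
      commutes' := fun r' => by
        obtain ⟨r, rfl⟩ := hR r'
        show ψ₁ (algebraMap R' S₀ (algebraMap R R' r)) = _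
        rw [← IsScalarTower.algebraMap_apply, ← IsScalarTower.algebraMap_apply]
        exact ψ₁.commutes r }
  have hψ' : Function.Surjective ψ'.toRingHom := fun c => by
    obtain ⟨s, rfl⟩ := hψ c
    exact ⟨π s, hψ₁ s⟩
  haveI : IsLocalHom ψ'.toRingHom := IsLocalHom.of_surjective _ hψ'
  obtain ⟨k, hk⟩ := SmallExt.exists_pow_kills ψ'.toRingHom
  obtain ⟨χ, hχ⟩ := h C J hJ ψ' ⟨k, fun x hx =>
    Ideal.mem_bot.mp (hk ▸ Ideal.mem_map_of_mem ψ'.toRingHom hx)⟩
  refine ⟨(χ.restrictScalars R).comp π, AlgHom.ext fun s => ?_⟩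
  exact (AlgHom.congr_fun hχ (π s)).trans (hψ₁ s)

/-- Adic formal smoothness over the adic topology gives it over the discrete one. -/
theorem adic_of_isFormallySmoothAdic {A B : Type u} [CommRing A] [CommRing B] [Algebra A B]
    {𝔞 : Ideal A} {𝔟 : Ideal B} (h𝔞 : 𝔞.map (algebraMap A B) ≤ 𝔟)
    (h : EGA41.IsFormallySmoothAdic A 𝔞 B 𝔟) : CAlgX.IsAdicFormallySmooth A B 𝔟 := by
  intro C _ _ J hJ ψ hψ
  obtain ⟨k, hk⟩ := hψ
  refine h C J ⟨2, hJ⟩ ⟨k * 2, eq_bot_iff.mpr ?_⟩ ψ ⟨k, hk⟩
  have h1 : (𝔞 ^ k).map (algebraMap A C) ≤ J := by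
    refine Ideal.map_le_iff_le_comap.mpr fun a ha => ?_
    rw [Ideal.mem_comap, ← Ideal.Quotient.eq_zero_iff_mem]
    show algebraMap A (C ⧸ J) a = 0
    rw [← ψ.commutes]
    refine hk _ ?_
    have h2 := Ideal.mem_map_of_mem (algebraMap A B) ha
    rw [Ideal.map_pow] at h2
    exact Ideal.pow_right_mono h𝔞 k h2
  rw [pow_mul, Ideal.map_pow, ← hJ]
  exact Ideal.pow_right_mono h1 2

/-- An adically smooth algebra over a field is regular. -/
theorem isRegularLocalRing_of_adic {k B : Type u} [Field k] [CommRing B] [IsLocalRing B]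
    [IsNoetherianRing B] [Algebra k B] (h : CAlgX.IsAdicFormallySmooth k B (maximalIdeal B)) :
    IsRegularLocalRing B := (Lib.SymGr.RegularField.iff_regular_and_injective_int.1 h).1

/-- **Flat lifts of complete regular algebras over the residue field.** -/
theorem exists_flat_lift {A B : Type u} [CommRing A] [CommRing B] [IsLocalRing A] [IsRegularLocalRing B]
    [IsNoetherianRing A] [IsAdicComplete (maximalIdeal A) A] [IsAdicComplete (maximalIdeal B) B]
    [Algebra A B] [IsLocalHom (algebraMap A B)] (hm : (maximalIdeal A).map (algebraMap A B) = ⊥) :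
    ∃ (C : Type u) (_ : CommRing C) (_ : IsLocalRing C) (_ : Algebra A C) (π : C →ₐ[A] B),
      IsNoetherianRing C ∧ IsAdicComplete (maximalIdeal C) C ∧ IsLocalHom (algebraMap A C) ∧
        Module.Flat A C ∧ Function.Surjective π ∧
        RingHom.ker π.toRingHom = (maximalIdeal A).map (algebraMap A C) := by
  obtain ⟨Λ, Λ', iΛ, iΛ', jΛ, jΛ', n, m, ρ, σ, τ, -, hΛ', -, hR, hS, hρ, hσ, hsq, hflat, hloc, hFreg, hdim⟩ :=
    CohenLift.exists_presentation_min (A := A) (B := B)
  let R := MvPowerSeries (Fin n) Λ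
  let S := MvPowerSeries (Fin m) Λ'
  haveI := hR
  haveI := hS
  obtain ⟨p, hp⟩ := CharP.exists (ResidueField Λ')
  haveI : IsAdicComplete (maximalIdeal Λ') Λ' := (CohenLift.data hΛ' p).2.2.1
  haveI : IsRegularLocalRing Λ' := (CohenLift.data hΛ' p).2.1
  haveI : IsAdicComplete (maximalIdeal S) S := Lib.Cohen.CTensorReduced.isAdicComplete_ps Λ' m
  letI : Algebra R A := ρ.toAlgebra
  letI : Algebra R S := τ.toAlgebra
  haveI : Module.Flat R S := hflat
  letI : Algebra R B := ((algebraMap A B).comp ρ).toAlgebra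
  haveI : IsScalarTower R A B := IsScalarTower.of_algebraMap_eq fun _ => rfl
  let σ' : S →ₐ[R] B := { σ with commutes' := fun x => RingHom.congr_fun hsq x }
  let C := A ⊗[R] S
  let π : C →ₐ[A] B := Algebra.TensorProduct.lift (Algebra.ofId A B) σ' fun _ _ => Commute.all _ _
  let inc : S →ₐ[R] C := Algebra.TensorProduct.includeRight
  have hπi : ∀ s, π (inc s) = σ s := fun s => by
    show π ((1 : A) ⊗ₜ[R] s) = _
    rw [Algebra.TensorProduct.lift_tmul, map_one, one_mul]
    rfl
  have hπ : Function.Surjective π := fun b => by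
    obtain ⟨s, rfl⟩ := hσ b
    exact ⟨inc s, hπi s⟩
  have hinc : Function.Surjective inc := fun z => by
    induction z using TensorProduct.induction_on with
    | zero => exact ⟨0, map_zero _⟩
    | tmul a s =>
      obtain ⟨r, rfl⟩ := hρ a
      refine ⟨r • s, ?_⟩
      rw [Algebra.TensorProduct.includeRight_apply, TensorProduct.tmul_smul, TensorProduct.smul_tmul',
        Algebra.smul_def, mul_one]
      rfl
    | add x y hx hy =>
      obtain ⟨b, rfl⟩ := hx
      obtain ⟨c, rfl⟩ := hy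
      exact ⟨b + c, map_add _ _ _⟩
  haveI : IsNoetherianRing C := isNoetherianRing_of_surjective S C inc.toRingHom hinc
  haveI : Nontrivial C := π.toRingHom.domain_nontrivial
  haveI : IsLocalRing C := IsLocalRing.of_surjective' inc.toRingHom hinc
  have hcomp : IsAdicComplete (maximalIdeal C) C := by
    letI : Algebra S C := inc.toRingHom.toAlgebra
    haveI : Module.Finite S C := Module.Finite.of_surjective (Algebra.linearMap S C) hinc
    rw [← IsLocalRing.map_maximalIdeal_of_surjective inc.toRingHom hinc]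
    show IsAdicComplete ((maximalIdeal S).map (algebraMap S C)) C
    rw [IsAdicComplete.map_algebraMap_iff]
    exact Lib.Adic.Complete.isAdicComplete_of_finite
  haveI : IsLocalHom π.toRingHom := IsLocalHom.of_surjective _ hπ
  have hlocC : IsLocalHom (algebraMap A C) := ⟨fun a ha =>
    isUnit_of_map_unit (algebraMap A B) a (by rw [← π.commutes]; exact ha.map π)⟩
  refine ⟨C, inferInstance, inferInstance, inferInstance, π, inferInstance, hcomp, hlocC,
    inferInstance, hπ, le_antisymm ?_ ?_⟩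
  swap
  · refine Ideal.map_le_iff_le_comap.mpr fun a ha => ?_
    show π (algebraMap A C a) = 0
    rw [π.commutes]
    exact Ideal.mem_bot.mp (hm ▸ Ideal.mem_map_of_mem _ ha)
  -- the closed fibre of the presentation is `B`
  let I : Ideal S := (maximalIdeal R).map τ
  haveI : IsLocalHom ρ := IsLocalHom.of_surjective ρ hρ
  have hI : ∀ s ∈ I, σ s = 0 := by
    refine fun s hs => ?_
    have h2 := Ideal.mem_map_of_mem σ hs
    rw [show I = (maximalIdeal R).map τ from rfl, Ideal.map_map, hsq, ← Ideal.map_map] at h2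
    exact Ideal.mem_bot.mp (hm ▸ Ideal.map_mono (IsLocalRing.map_maximalIdeal_le ρ) h2)
  haveI : IsRegularLocalRing (S ⧸ I) := hFreg
  let φ : S ⧸ I →+* B := Ideal.Quotient.lift I σ hI
  have hφ : Function.Surjective φ := fun b => by
    obtain ⟨s, rfl⟩ := hσ b
    exact ⟨Ideal.Quotient.mk I s, rfl⟩
  have hinj : Function.Injective φ := by
    refine H24.PowerSeries.injective_of_spanFinrank φ hφ ?_
    have h1 := IsRegularLocalRing.spanFinrank_maximalIdeal (R := S ⧸ I)
    have h2 := IsRegularLocalRing.spanFinrank_maximalIdeal (R := B)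
    have h3 := ringKrullDim_le_of_surjective φ hφ
    rw [← h1, ← h2, Nat.cast_le] at h3
    have h4 : ringKrullDim (S ⧸ I) ≤ _ := hdim
    rw [← h1, Nat.cast_le] at h4
    exact le_antisymm h4 h3
  intro c hc
  obtain ⟨s, rfl⟩ := hinc c
  have hs : s ∈ I := by
    rw [← Ideal.Quotient.eq_zero_iff_mem]
    refine hinj ?_
    rw [map_zero]
    show σ s = 0
    rw [← hπi]
    exact hc
  have h2 := Ideal.mem_map_of_mem inc.toRingHom hs
  rw [show I = (maximalIdeal R).map τ from rfl, Ideal.map_map,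
    show inc.toRingHom.comp τ = (algebraMap A C).comp ρ from RingHom.ext fun r => inc.commutes r,
    ← Ideal.map_map] at h2
  exact Ideal.map_mono (IsLocalRing.map_maximalIdeal_le ρ) h2

/-- The closed fibre of a flat lift. -/
noncomputable def fiberEquiv {A B C : Type u} [CommRing A] [IsLocalRing A] [CommRing B] [CommRing C]
    [Algebra A B] [Algebra A C] [Algebra (maximalIdeal A).ResidueField B]
    [IsScalarTower A (maximalIdeal A).ResidueField B] (π : C →ₐ[A] B) (hπ : Function.Surjective π)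
    (hker : RingHom.ker π.toRingHom = (maximalIdeal A).map (algebraMap A C)) :
    (maximalIdeal A).Fiber C ≃ₐ[(maximalIdeal A).ResidueField] B :=
  AlgEquiv.ofBijective
    (Algebra.TensorProduct.lift (Algebra.ofId _ _) π fun _ _ => Commute.all _ _) <| by
    refine ⟨(injective_iff_map_eq_zero _).mpr fun z hz => ?_,
      fun b => ⟨1 ⊗ₜ[A] Function.surjInv hπ b, ?_⟩⟩
    · have hs : ∀ z : (maximalIdeal A).Fiber C, ∃ c : C, (1 : (maximalIdeal A).ResidueField) ⊗ₜ[A] c = z := by
        intro z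
        induction z using TensorProduct.induction_on with
        | zero => exact ⟨0, TensorProduct.tmul_zero _ _⟩
        | tmul r c =>
          obtain ⟨a, rfl⟩ := Ideal.algebraMap_residueField_surjective (maximalIdeal A) r
          refine ⟨a • c, ?_⟩
          rw [TensorProduct.tmul_smul, TensorProduct.smul_tmul', Algebra.smul_def, mul_one]
        | add x y hx hy =>
          obtain ⟨c, rfl⟩ := hx
          obtain ⟨d, rfl⟩ := hy
          exact ⟨c + d, TensorProduct.tmul_add _ _ _⟩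
      obtain ⟨c, rfl⟩ := hs z
      rw [Algebra.TensorProduct.lift_tmul, map_one, one_mul] at hz
      have hc : c ∈ RingHom.ker π.toRingHom := hz
      rw [hker] at hc
      refine Submodule.span_induction (p := fun c _ => (1 : (maximalIdeal A).ResidueField) ⊗ₜ[A] c = 0)
        ?_ (TensorProduct.tmul_zero _ _) ?_ ?_ hc
      · rintro _ ⟨a, ha, rfl⟩
        rw [Algebra.algebraMap_eq_smul_one, TensorProduct.tmul_smul, TensorProduct.smul_tmul',
          Algebra.smul_def, Ideal.algebraMap_residueField_eq_zero.mpr ha, zero_mul, TensorProduct.zero_tmul]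
      · intro x y _ _ hx hy
        rw [TensorProduct.tmul_add, hx, hy, add_zero]
      · intro r x _ hx
        have : (1 : (maximalIdeal A).ResidueField) ⊗ₜ[A] (r • x) =
            ((1 : (maximalIdeal A).ResidueField) ⊗ₜ[A] r) * ((1 : (maximalIdeal A).ResidueField) ⊗ₜ[A] x) := by
          rw [Algebra.TensorProduct.tmul_mul_tmul, one_mul, smul_eq_mul]
        rw [this, hx, mul_zero]
    · rw [Algebra.TensorProduct.lift_tmul, map_one, one_mul, Function.surjInv_eq hπ]

/-- **Flat lifts, over any Noetherian local ring.** -/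
theorem exists_flat_lift' {A B : Type u} [CommRing A] [CommRing B] [IsLocalRing A] [IsRegularLocalRing B]
    [IsNoetherianRing A] [IsAdicComplete (maximalIdeal B) B]
    [Algebra A B] [IsLocalHom (algebraMap A B)] (hm : (maximalIdeal A).map (algebraMap A B) = ⊥) :
    ∃ (C : Type u) (_ : CommRing C) (_ : IsLocalRing C) (_ : Algebra A C) (π : C →ₐ[A] B),
      IsNoetherianRing C ∧ IsAdicComplete (maximalIdeal C) C ∧ IsLocalHom (algebraMap A C) ∧
        Module.Flat A C ∧ Function.Surjective π ∧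
        RingHom.ker π.toRingHom = (maximalIdeal A).map (algebraMap A C) := by
  let A' := AdicCompletion (maximalIdeal A) A
  have h0 : ∀ a ∈ maximalIdeal A, algebraMap A B a = 0 := fun a ha =>
    Ideal.mem_bot.mp (hm ▸ Ideal.mem_map_of_mem _ ha)
  let g : A' →+* B := (Ideal.Quotient.lift (maximalIdeal A) (algebraMap A B) h0).comp
    (AdicCompletion.evalOneₐ (maximalIdeal A)).toRingHom
  letI : Algebra A' B := g.toAlgebra
  haveI : IsScalarTower A A' B := IsScalarTower.of_algebraMap_eq fun a => by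
    show _ = Ideal.Quotient.lift (maximalIdeal A) (algebraMap A B) h0
      (AdicCompletion.evalOneₐ (maximalIdeal A) (algebraMap A A' a))
    rw [AlgHom.commutes]
    rfl
  have hmA := AdicCompletion.maximalIdeal_eq_map (R := A)
  have hm' : (maximalIdeal A').map (algebraMap A' B) = ⊥ := by
    rw [hmA, Ideal.map_map, ← IsScalarTower.algebraMap_eq, hm]
  haveI : IsLocalHom (algebraMap A' B) :=
    ((local_hom_TFAE _).out 2 0).mp (hm'.le.trans bot_le)
  obtain ⟨C, iC, jC, kC, π, hN, hC, hloc, hflat, hπ, hker⟩ := exists_flat_lift (A := A') (B := B) hm'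
  letI : Algebra A C := ((algebraMap A' C).comp (algebraMap A A')).toAlgebra
  haveI : IsScalarTower A A' C := IsScalarTower.of_algebraMap_eq fun _ => rfl
  haveI : Module.Flat A A' := AdicCompletion.flat_of_isNoetherian _
  haveI := hflat
  have hmC : (maximalIdeal A).map (algebraMap A C) = (maximalIdeal A').map (algebraMap A' C) := by
    rw [hmA, Ideal.map_map, ← IsScalarTower.algebraMap_eq]
  refine ⟨C, iC, jC, inferInstance, π.restrictScalars A, hN, hC, ?_, Module.Flat.trans A A' C, hπ,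
    hker.trans hmC.symm⟩
  refine ((local_hom_TFAE _).out 2 0).mp ?_
  rw [hmC]
  exact ((local_hom_TFAE _).out 0 2).mp hloc

/-- a quotient of a complete Noetherian local ring is complete -/
theorem complete_quotient {B : Type u} [CommRing B] [IsLocalRing B] [IsNoetherianRing B]
    [IsAdicComplete (maximalIdeal B) B] (I : Ideal B) :
    IsAdicComplete ((maximalIdeal B).map (Ideal.Quotient.mk I)) (B ⧸ I) :=
  Lib.Adic.Complete.isAdicComplete_quotient I

section Base

variable {A B B₀ : Type u} [CommRing A] (J : Ideal A) [CommRing B] [CommRing B₀] [Algebra A B]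

lemma exists_one_tmul (z : (A ⧸ J) ⊗[A] B) : ∃ c : B, (1 : A ⧸ J) ⊗ₜ[A] c = z := by
  induction z using TensorProduct.induction_on with
  | zero => exact ⟨0, TensorProduct.tmul_zero _ _⟩
  | tmul r c =>
    obtain ⟨a, rfl⟩ := Ideal.Quotient.mk_surjective r
    refine ⟨a • c, ?_⟩
    rw [TensorProduct.tmul_smul, TensorProduct.smul_tmul', Algebra.smul_def, mul_one]
    rfl
  | add x y hx hy =>
    obtain ⟨c, rfl⟩ := hx
    obtain ⟨d, rfl⟩ := hy
    exact ⟨c + d, TensorProduct.tmul_add _ _ _⟩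

lemma one_tmul_eq_zero {c : B} (hc : c ∈ J.map (algebraMap A B)) : (1 : A ⧸ J) ⊗ₜ[A] c = 0 := by
  refine Submodule.span_induction (p := fun c _ => (1 : A ⧸ J) ⊗ₜ[A] c = 0)
    ?_ (TensorProduct.tmul_zero _ _) ?_ ?_ hc
  · rintro _ ⟨a, ha, rfl⟩
    rw [Algebra.algebraMap_eq_smul_one, TensorProduct.tmul_smul, TensorProduct.smul_tmul',
      Algebra.smul_def, Ideal.Quotient.algebraMap_eq, Ideal.Quotient.eq_zero_iff_mem.mpr ha, zero_mul,
      TensorProduct.zero_tmul]
  · intro x y _ _ hx hy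
    rw [TensorProduct.tmul_add, hx, hy, add_zero]
  · intro r x _ hx
    have : (1 : A ⧸ J) ⊗ₜ[A] (r • x) = ((1 : A ⧸ J) ⊗ₜ[A] r) * ((1 : A ⧸ J) ⊗ₜ[A] x) := by
      rw [Algebra.TensorProduct.tmul_mul_tmul, one_mul, smul_eq_mul]
    rw [this, hx, mul_zero]

variable [Algebra (A ⧸ J) B₀] [Algebra A B₀] [IsScalarTower A (A ⧸ J) B₀]

/-- base change to a quotient -/
noncomputable def baseEquiv (v : B →ₐ[A] B₀) (hv : Function.Surjective v)
    (hker : ∀ c, v c = 0 → c ∈ J.map (algebraMap A B)) : (A ⧸ J) ⊗[A] B ≃ₐ[A ⧸ J] B₀ :=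
  AlgEquiv.ofBijective (Algebra.TensorProduct.lift (Algebra.ofId _ _) v fun _ _ => Commute.all _ _) <| by
    refine ⟨(injective_iff_map_eq_zero _).mpr fun z hz => ?_,
      fun b => ⟨1 ⊗ₜ[A] Function.surjInv hv b, ?_⟩⟩
    · obtain ⟨c, rfl⟩ := exists_one_tmul J z
      rw [Algebra.TensorProduct.lift_tmul, map_one, one_mul] at hz
      exact one_tmul_eq_zero J (hker c hz)
    · rw [Algebra.TensorProduct.lift_tmul, map_one, one_mul, Function.surjInv_eq hv]

/-- the projection to an isomorphic base change -/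
theorem base_surjective_ker (u : (A ⧸ J) ⊗[A] B ≃ₐ[A ⧸ J] B₀) :
    Function.Surjective ((u.toAlgHom.restrictScalars A).comp Algebra.TensorProduct.includeRight :
      B →ₐ[A] B₀) ∧
    RingHom.ker ((u.toAlgHom.restrictScalars A).comp Algebra.TensorProduct.includeRight :
      B →ₐ[A] B₀).toRingHom = J.map (algebraMap A B) := by
  refine ⟨fun b => ?_, le_antisymm (fun c hc => ?_) (fun c hc => ?_)⟩
  · obtain ⟨c, hc⟩ := exists_one_tmul J (u.symm b)
    refine ⟨c, ?_⟩
    show u ((1 : A ⧸ J) ⊗ₜ[A] c) = b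
    rw [hc, AlgEquiv.apply_symm_apply]
  · have h1 : (1 : A ⧸ J) ⊗ₜ[A] c = 0 := u.injective ((hc : u _ = 0).trans (map_zero u).symm)
    let f : (A ⧸ J) ⊗[A] B →ₐ[A ⧸ J] B ⧸ J.map (algebraMap A B) :=
      Algebra.TensorProduct.lift (Algebra.ofId _ _) (Ideal.Quotient.mkₐ A _) fun _ _ => Commute.all _ _
    have h2 := congrArg f h1
    rw [Algebra.TensorProduct.lift_tmul, map_one, one_mul, map_zero] at h2
    exact Ideal.Quotient.eq_zero_iff_mem.mp h2
  · show u ((1 : A ⧸ J) ⊗ₜ[A] c) = 0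
    rw [one_tmul_eq_zero J hc, map_zero]

end Base

end Groth.Agent.H68.FlatLift
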