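import Groth.Agent.H68.CohenLift
import Groth.Agent.H18.FEquidim.Loc
import Groth.Agent.Lib.FSAdic.Completion
import Groth.Agent.Lib.Flat55.FlatDescend
import Groth.Agent.Lib.LocalFlat.Criterion
import Groth.Agent.H80.Extend.FormalCompl

/-!
# Adically formally smooth local homomorphisms are flat (EGA 0_IV 19.7.1)
-/

set_option autoImplicit false

universe u

open IsLocalRing
open scoped TensorProduct

namespace Groth.Agent.H68.AdicFlat

variable {A B : Type u} [CommRing A] [CommRing B] [IsLocalRing A] [IsLocalRing B]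
  [IsNoetherianRing A] [IsNoetherianRing B] [Algebra A B] [IsLocalHom (algebraMap A B)]

omit [IsNoetherianRing A] in
/-- The key inclusion, for a presentation of an adically smooth algebra. -/
theorem map_inf_ker_le (h : CAlgX.IsAdicFormallySmooth A B (maximalIdeal B))
    {E : Type u} [CommRing E] [IsLocalRing E] [IsNoetherianRing E] [Algebra A E]
    (π : E →ₐ[A] B) (hπ : Function.Surjective π) :
    (maximalIdeal A).map (algebraMap A E) ⊓ RingHom.ker π.toRingHom ≤
      (maximalIdeal A).map (algebraMap A E) * RingHom.ker π.toRingHom := by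
  rintro z ⟨hz, hzk⟩
  let mE : Ideal E := (maximalIdeal A).map (algebraMap A E)
  let J : Ideal E := RingHom.ker π.toRingHom
  haveI : IsLocalHom π.toRingHom := IsLocalHom.of_surjective _ hπ
  have hJ : J ≤ maximalIdeal E := IsLocalRing.le_maximalIdeal (RingHom.ker_ne_top _)
  have hmE : mE ≤ maximalIdeal E := Ideal.map_le_iff_le_comap.mpr fun a ha hu =>
    ha (isUnit_of_map_unit (algebraMap A B) a (by rw [← π.commutes]; exact hu.map π))
  suffices key : ∀ N : ℕ, z ∈ mE * J ⊔ maximalIdeal E ^ (N + 1) by
    have hle : mE * J ≤ maximalIdeal E := Ideal.mul_le_right.trans hJ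
    haveI : Nontrivial (E ⧸ mE * J) := Ideal.Quotient.nontrivial_iff.mpr fun ht =>
      (maximalIdeal.isMaximal E).ne_top (top_le_iff.mp (ht.ge.trans hle))
    haveI : IsLocalRing (E ⧸ mE * J) := IsLocalRing.of_surjective' _ Ideal.Quotient.mk_surjective
    rw [← Ideal.Quotient.eq_zero_iff_mem, ← Ideal.mem_bot,
      ← Ideal.iInf_pow_eq_bot_of_isLocalRing (maximalIdeal (E ⧸ mE * J))
        (maximalIdeal.isMaximal _).ne_top, Ideal.mem_iInf]
    intro N
    obtain ⟨a, ha, b, hb, hab⟩ := Submodule.mem_sup.mp (key N)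
    rw [← hab, map_add, Ideal.Quotient.eq_zero_iff_mem.mpr ha, zero_add,
      ← IsLocalRing.map_maximalIdeal_of_surjective (Ideal.Quotient.mk (mE * J)) Ideal.Quotient.mk_surjective,
      ← Ideal.map_pow]
    exact Ideal.mem_map_of_mem _ (Ideal.pow_le_pow_right (Nat.le_succ N) hb)
  intro N
  let Q : Ideal E := mE * J ⊔ maximalIdeal E ^ (N + 1)
  let C := E ⧸ Q
  let mkQ : E →ₐ[A] C := Ideal.Quotient.mkₐ A Q
  let I : Ideal C := J.map (Ideal.Quotient.mk Q)
  have hM : (maximalIdeal E).map (Ideal.Quotient.mk Q) ^ (N + 1) = ⊥ := by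
    rw [← Ideal.map_pow, Ideal.map_eq_bot_iff_le_ker, Ideal.mk_ker]
    exact le_sup_right
  have hI : IsNilpotent I :=
    ⟨N + 1, le_bot_iff.mp (hM ▸ Ideal.pow_right_mono (Ideal.map_mono hJ) _)⟩
  let ψ : B →ₐ[A] C ⧸ I := AlgHom.liftOfSurjective π hπ ((Ideal.Quotient.mkₐ A I).comp mkQ)
    fun y hy => by
      show Ideal.Quotient.mk I (Ideal.Quotient.mk Q y) = 0
      exact Ideal.Quotient.eq_zero_iff_mem.mpr (Ideal.mem_map_of_mem (Ideal.Quotient.mk Q) hy)
  have hψ : ∀ y, ψ (π y) = Ideal.Quotient.mk I (Ideal.Quotient.mk Q y) := fun y =>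
    AlgHom.liftOfSurjective_apply _ _ _ _ y
  obtain ⟨v, hv⟩ := FlatFibre.isFormallySmoothAdic_of_adic (⊥ : Ideal A) h C I hI
    ⟨1, by rw [pow_one, Ideal.map_bot]⟩ ψ ⟨N + 1, fun x hx => by
      rw [← IsLocalRing.map_maximalIdeal_of_surjective π.toRingHom hπ, ← Ideal.map_pow] at hx
      obtain ⟨y, hy, rfl⟩ := (Ideal.mem_map_iff_of_surjective π.toRingHom hπ).mp hx
      show ψ (π y) = 0
      rw [hψ, Ideal.Quotient.eq_zero_iff_mem.mpr (Ideal.mem_sup_right hy), map_zero]⟩
  have hdiff : ∀ y, Ideal.Quotient.mk Q y - v (π y) ∈ I := fun y => by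
    rw [← Ideal.Quotient.eq_zero_iff_mem, map_sub, ← hψ, sub_eq_zero]
    exact (AlgHom.congr_fun hv _).symm
  have hmI : mE.map (Ideal.Quotient.mk Q) * I = ⊥ := by
    rw [← Ideal.map_mul, Ideal.map_eq_bot_iff_le_ker, Ideal.mk_ker]
    exact le_sup_left
  have hagree : ∀ w ∈ mE, Ideal.Quotient.mk Q w = v (π w) := by
    intro w hw
    induction hw using Submodule.span_induction with
    | mem x hx =>
      obtain ⟨a, -, rfl⟩ := hx
      rw [π.commutes, v.commutes]
      rfl
    | zero => rw [map_zero, map_zero, map_zero]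
    | add x y _ _ hx hy => rw [map_add, map_add, map_add, hx, hy]
    | smul c x hx ih =>
      rw [smul_eq_mul, map_mul, map_mul, map_mul, ← ih, ← sub_eq_zero, ← sub_mul, mul_comm,
        ← Ideal.mem_bot, ← hmI]
      exact Ideal.mul_mem_mul (Ideal.mem_map_of_mem _ hx) (hdiff c)
  show z ∈ Q
  rw [← Ideal.Quotient.eq_zero_iff_mem, hagree z hz, show π z = 0 from hzk, map_zero]

/-- The complete case. -/
theorem flat_of_complete [IsAdicComplete (maximalIdeal A) A] [IsAdicComplete (maximalIdeal B) B]
    (h : CAlgX.IsAdicFormallySmooth A B (maximalIdeal B)) : Module.Flat A B := by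
  obtain ⟨Λ, Λ', _, _, _, _, n, m, ρ, σ, τ, -, -, -, hR, hS, hρ, hσ, hsq, hflat, -, -⟩ :=
    CohenLift.exists_presentation (A := A) (B := B)
  let R := MvPowerSeries (Fin n) Λ
  let S := MvPowerSeries (Fin m) Λ'
  letI : Algebra R A := ρ.toAlgebra
  letI : Algebra R S := τ.toAlgebra
  haveI : Module.Flat R S := hflat
  letI : Algebra R B := ((algebraMap A B).comp ρ).toAlgebra
  haveI : IsScalarTower R A B := IsScalarTower.of_algebraMap_eq fun _ => rfl
  let σ' : S →ₐ[R] B := { σ with commutes' := fun x => RingHom.congr_fun hsq x }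
  let E := A ⊗[R] S
  let π : E →ₐ[A] B := Algebra.TensorProduct.lift (Algebra.ofId A B) σ' fun _ _ => Commute.all _ _
  have hπ : Function.Surjective π := fun b => by
    obtain ⟨s, rfl⟩ := hσ b
    refine ⟨1 ⊗ₜ[R] s, ?_⟩
    rw [Algebra.TensorProduct.lift_tmul, map_one, one_mul]
    rfl
  have hinc : Function.Surjective (Algebra.TensorProduct.includeRight : S →ₐ[R] E) := fun z => by
    induction z using TensorProduct.induction_on with
    | zero => exact ⟨0, map_zero _⟩
    | tmul a s =>
      obtain ⟨r, rfl⟩ := hρ a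
      refine ⟨r • s, ?_⟩
      rw [Algebra.TensorProduct.includeRight_apply, TensorProduct.tmul_smul, TensorProduct.smul_tmul',
        Algebra.smul_def, mul_one]
      rfl
    | add x y hx hy =>
      obtain ⟨b, rfl⟩ := hx
      obtain ⟨c, rfl⟩ := hy
      exact ⟨b + c, map_add _ _ _⟩
  haveI : IsNoetherianRing E := isNoetherianRing_of_surjective S E
    (Algebra.TensorProduct.includeRight : S →ₐ[R] E).toRingHom hinc
  haveI : Nontrivial E := π.toRingHom.domain_nontrivial
  haveI : IsLocalRing E := IsLocalRing.of_surjective'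
    (Algebra.TensorProduct.includeRight : S →ₐ[R] E).toRingHom hinc
  haveI : Module.Flat A E := inferInstance
  -- injectivity of `m ⊗ B → B`
  have hinj : Function.Injective ((maximalIdeal A).subtype.lTensor B) := by
    let f : maximalIdeal A →ₗ[A] A := (maximalIdeal A).subtype
    have hE : Function.Injective (f.lTensor E) :=
      Module.Flat.lTensor_preserves_injective_linearMap f (maximalIdeal A).injective_subtype
    rw [injective_iff_map_eq_zero]
    intro x hx
    obtain ⟨y, rfl⟩ := LinearMap.rTensor_surjective (maximalIdeal A) (g := π.toLinearMap) hπ x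
    let g : E ⊗[A] maximalIdeal A →ₗ[A] E := (TensorProduct.rid A E).toLinearMap ∘ₗ f.lTensor E
    have hgt : ∀ (e : E) (a : maximalIdeal A), g (e ⊗ₜ a) = algebraMap A E (a : A) * e := fun e a => by
      simp only [g, LinearMap.comp_apply, LinearMap.lTensor_tmul]
      refine (TensorProduct.rid_tmul _ _).trans ?_
      exact algebra_compatible_smul E (a : A) e
    have hgmem : ∀ w, g w ∈ (maximalIdeal A).map (algebraMap A E) := fun w => by
      induction w using TensorProduct.induction_on with
      | zero => rw [map_zero]; exact zero_mem _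
      | tmul e a => rw [hgt]; exact Ideal.mul_mem_right _ _ (Ideal.mem_map_of_mem _ a.2)
      | add a b ha hb => rw [map_add]; exact add_mem ha hb
    have hcomm : ∀ w, π (g w) =
        TensorProduct.rid A B (f.lTensor B (π.toLinearMap.rTensor (maximalIdeal A) w)) := fun w => by
      induction w using TensorProduct.induction_on with
      | zero => simp only [map_zero]
      | tmul e a => rw [hgt]; simp [f, Algebra.smul_def, AlgHom.commutes]
      | add a b ha hb => simp only [map_add, ha, hb]
    have hz : g y ∈ RingHom.ker π.toRingHom := by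
      show π (g y) = 0
      rw [hcomm, hx, map_zero]
    obtain ⟨y', hy', hyy'⟩ : ∃ y', π.toLinearMap.rTensor (maximalIdeal A) y' = 0 ∧ g y' = g y := by
      let M : Submodule E E := (maximalIdeal A).map (algebraMap A E) * RingHom.ker π.toRingHom
      suffices h' : ∀ w ∈ M, ∃ y', π.toLinearMap.rTensor (maximalIdeal A) y' = 0 ∧ g y' = w from
        h' _ (map_inf_ker_le h π hπ ⟨hgmem y, hz⟩)
      intro w hw
      induction hw using Submodule.mul_induction_on' with
      | mem_mul_mem a ha j hj =>
        induction ha using Submodule.span_induction generalizing j with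
        | mem x hx =>
          obtain ⟨a, ha, rfl⟩ := hx
          refine ⟨j ⊗ₜ ⟨a, ha⟩, ?_, hgt _ _⟩
          rw [LinearMap.rTensor_tmul, show π.toLinearMap j = 0 from hj, TensorProduct.zero_tmul]
        | zero => exact ⟨0, map_zero _, by rw [map_zero, zero_mul]⟩
        | add x x' _ _ ih ih' =>
          obtain ⟨y₁, h₁, h₁'⟩ := ih j hj
          obtain ⟨y₂, h₂, h₂'⟩ := ih' j hj
          exact ⟨y₁ + y₂, by rw [map_add, h₁, h₂, add_zero], by rw [map_add, h₁', h₂', add_mul]⟩
        | smul c x _ ih =>
          obtain ⟨y₁, h₁, h₁'⟩ := ih (c * j) (Ideal.mul_mem_left _ c hj)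
          exact ⟨y₁, h₁, by rw [h₁', smul_eq_mul]; ring⟩
      | add a _ b _ iha ihb =>
        obtain ⟨y₁, h₁, h₁'⟩ := iha
        obtain ⟨y₂, h₂, h₂'⟩ := ihb
        exact ⟨y₁ + y₂, by rw [map_add, h₁, h₂, add_zero], by rw [map_add, h₁', h₂']⟩
    rw [← hE ((TensorProduct.rid A E).injective hyy'), hy']
  letI : Field (A ⧸ maximalIdeal A) := Ideal.Quotient.field _
  exact Lib.LocalFlat.Criterion.flat_of_injective_of_flat_quotient B (maximalIdeal A)
    (Lib.LocalFlat.Criterion.map_le_jacobson_bot_of_isLocalHom (maximalIdeal.isMaximal A).ne_top) hinj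

/-- **Adically formally smooth local homomorphisms of Noetherian local rings are flat.** -/
theorem flat (h : CAlgX.IsAdicFormallySmooth A B (maximalIdeal B)) : Module.Flat A B := by
  let A' := AdicCompletion (maximalIdeal A) A
  let B' := AdicCompletion (maximalIdeal B) B
  obtain ⟨φ, hφ⟩ := H18.FEquidim.Loc.exists_cplMap A B
  letI : Algebra A' B' := RingHom.toAlgebra φ
  have hAB : ∀ a, φ (algebraMap A A' a) = algebraMap A B' a := fun a =>
    (RingHom.congr_fun hφ a).trans (IsScalarTower.algebraMap_apply A B B' a).symm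
  haveI : IsScalarTower A A' B' := IsScalarTower.of_algebraMap_eq fun a => (hAB a).symm
  have hmA := AdicCompletion.maximalIdeal_eq_map (R := A)
  have hmB := AdicCompletion.maximalIdeal_eq_map (R := B)
  haveI hloc : IsLocalHom (algebraMap A' B') := by
    refine ((local_hom_TFAE _).out 2 0).mp ?_
    show (maximalIdeal A').map φ ≤ maximalIdeal B'
    rw [hmA, hmB, Ideal.map_map, hφ, ← Ideal.map_map]
    exact Ideal.map_mono (IsLocalRing.map_maximalIdeal_le _)
  haveI : IsNoetherianRing A' := inferInstance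
  haveI : IsNoetherianRing B' := inferInstance
  have h' : CAlgX.IsAdicFormallySmooth A' B' (maximalIdeal B') := by
    intro C _ _ J hJ ψ ⟨k, hk⟩
    letI : Algebra A C := ((algebraMap A' C).comp (algebraMap A A')).toAlgebra
    haveI : IsScalarTower A A' C := IsScalarTower.of_algebraMap_eq fun _ => rfl
    have hB' := (Lib.FSAdic.Completion.iff_adicCompletion (⊥ : Ideal A)
      (IsNoetherian.noetherian (maximalIdeal B))).mp (FlatFibre.isFormallySmoothAdic_of_adic ⊥ h)
    obtain ⟨χ, hχ⟩ := hB' C J ⟨2, hJ⟩ ⟨1, by rw [pow_one, Ideal.map_bot]⟩ (ψ.restrictScalars A)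
      ⟨k, fun x hx => hk x (by rw [hmB]; exact hx)⟩
    refine ⟨{ χ.toRingHom with commutes' := fun r => ?_ }, AlgHom.ext fun x => AlgHom.congr_fun hχ x⟩
    -- both maps agree on `A` and kill a power of the maximal ideal
    have hzero : ((maximalIdeal A).map (algebraMap A C)) ^ (2 * k) = ⊥ := by
      have h1 : ((maximalIdeal A).map (algebraMap A C)) ^ k ≤ J := by
        rw [← Ideal.map_pow, Ideal.map_le_iff_le_comap]
        intro a ha
        rw [Ideal.mem_comap, ← Ideal.Quotient.eq_zero_iff_mem]
        show algebraMap A' (C ⧸ J) (algebraMap A A' a) = 0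
        rw [← ψ.commutes]
        refine hk _ ?_
        have h2 := Ideal.mem_map_of_mem ((algebraMap A' B').comp (algebraMap A A')) ha
        rw [Ideal.map_pow] at h2
        refine Ideal.pow_right_mono ?_ k h2
        rw [← Ideal.map_map, ← hmA]
        exact IsLocalRing.map_maximalIdeal_le _
      rw [mul_comm, pow_mul, eq_bot_iff, ← hJ]
      exact Ideal.pow_right_mono h1 2
    obtain ⟨a, ha⟩ := Lib.FSAdic.Completion.exists_sub_mem (IsNoetherian.noetherian (maximalIdeal A)) (2 * k) r
    rw [← Ideal.map_pow] at ha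
    have e1 : χ (φ (r - algebraMap A A' a)) = 0 := by
      have h2 := Ideal.mem_map_of_mem ((χ : B' →+* C).comp φ) ha
      rw [Ideal.map_map, show ((χ : B' →+* C).comp φ).comp (algebraMap A A') = algebraMap A C from
        RingHom.ext fun a => (congrArg χ (hAB a)).trans (χ.commutes a), Ideal.map_pow, hzero, Ideal.mem_bot] at h2
      exact h2
    have e2 : algebraMap A' C (r - algebraMap A A' a) = 0 := by
      have h2 := Ideal.mem_map_of_mem (algebraMap A' C) ha
      rw [Ideal.map_map, ← IsScalarTower.algebraMap_eq A A' C, Ideal.map_pow, hzero, Ideal.mem_bot] at h2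
      exact h2
    rw [map_sub, map_sub, sub_eq_zero] at e1
    rw [map_sub, sub_eq_zero] at e2
    show χ (φ r) = _
    rw [e1, e2, hAB, χ.commutes, ← IsScalarTower.algebraMap_apply A A' C]
  haveI : Module.Flat A' B' := flat_of_complete h'
  haveI : Module.Flat A B' := Module.Flat.trans A A' B'
  haveI := H80.Extend.faithfullyFlat_completion B
  refine RingHom.flat_algebraMap_iff.mp (Lib.Flat55.FlatDescend.ringHom_flat_of_comp
    (g := algebraMap B B') (RingHom.faithfullyFlat_algebraMap_iff.mpr inferInstance) ?_)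
  rw [← IsScalarTower.algebraMap_eq]
  exact RingHom.flat_algebraMap_iff.mpr inferInstance

end Groth.Agent.H68.AdicFlat
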