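import Groth.Agent.Lib.Unram.ArtinianLifting
import Groth.Prelude.Def_CAlgX
import Groth.Prelude.Def_EGA41

/-!
# Adic formal smoothness gives lifts along small Artinian extensions
-/

set_option autoImplicit false

universe u

open IsLocalRing
open Groth.Agent.Lib.Unram.ArtinianLifting

namespace Groth.Agent.H68.AdicSmoothLifts

variable {R B : Type u} [CommRing R] [CommRing B] [Algebra R B] [IsLocalRing B]

theorem sq_eq_bot {A' : Type u} [CommRing A'] [IsLocalRing A'] {I : Ideal A'} (hI : I ≠ ⊤)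
    (h0 : I * maximalIdeal A' = ⊥) : I ^ 2 = ⊥ := by
  rw [pow_two, eq_bot_iff, ← h0]
  exact Ideal.mul_mono_right (IsLocalRing.le_maximalIdeal hI)

theorem kills {A' : Type u} [CommRing A'] [IsLocalRing A'] [IsArtinianRing A'] {I : Ideal A'}
    (g₀ : B →+* A' ⧸ I) (hmax : ∀ b ∈ maximalIdeal B, g₀ b ∈ (maximalIdeal A').map (Ideal.Quotient.mk I)) :
    ∃ k : ℕ, ∀ x ∈ maximalIdeal B ^ k, g₀ x = 0 := by
  obtain ⟨n, hn⟩ := (isArtinianRing_iff_isNilpotent_maximalIdeal (R := A')).mp inferInstance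
  refine ⟨n, fun x hx => ?_⟩
  have h1 : (maximalIdeal B ^ n).map g₀ ≤ ((maximalIdeal A').map (Ideal.Quotient.mk I)) ^ n := by
    rw [Ideal.map_pow]
    exact Ideal.pow_right_mono (Ideal.map_le_iff_le_comap.mpr hmax) n
  have h2 := h1 (Ideal.mem_map_of_mem g₀ hx)
  rw [← Ideal.map_pow, hn, Ideal.zero_eq_bot, Ideal.map_bot] at h2
  exact h2

/-- `CAlgX` form, with the base a localization: lifts over the base itself. -/
theorem hasLifts_of_isAdicFormallySmooth (R' : Type u) [CommRing R'] [Algebra R R'] (M : Submonoid R)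
    [IsLocalization M R'] [Algebra R' B] [IsScalarTower R R' B]
    (h : CAlgX.IsAdicFormallySmooth R' B (maximalIdeal B)) : HasLifts R B := by
  intro A' _ _ _ f I hI h0 g₀ hcomp hmax _
  have hunit : ∀ y : M, IsUnit (f y) := fun y => by
    have hu : IsUnit (algebraMap R B y) := by
      rw [IsScalarTower.algebraMap_apply R R' B]
      exact (IsLocalization.map_units R' y).map _
    have h1 : IsUnit (Ideal.Quotient.mk I (f y)) := (RingHom.congr_fun hcomp y) ▸ hu.map g₀
    exact (IsNilpotent.isUnit_quotient_mk_iff ⟨2, sq_eq_bot hI h0⟩).mp h1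
  let f' : R' →+* A' := IsLocalization.lift hunit
  letI : Algebra R' A' := f'.toAlgebra
  have hc : g₀.comp (algebraMap R' B) = (Ideal.Quotient.mk I).comp f' := by
    refine IsLocalization.ringHom_ext M ?_
    rw [RingHom.comp_assoc, ← IsScalarTower.algebraMap_eq R R' B, hcomp, RingHom.comp_assoc,
      IsLocalization.lift_comp]
  obtain ⟨χ, hχ⟩ := h A' I (sq_eq_bot hI h0) ⟨g₀, fun a => RingHom.congr_fun hc a⟩ (kills g₀ hmax)
  refine ⟨χ.toRingHom, ?_, congrArg AlgHom.toRingHom hχ⟩
  refine RingHom.ext fun r => ?_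
  show χ (algebraMap R B r) = f r
  rw [IsScalarTower.algebraMap_apply R R' B, χ.commutes]
  exact IsLocalization.lift_eq hunit r

end Groth.Agent.H68.AdicSmoothLifts
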