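import Groth.Agent.Lib.UnifReg.Hyperplane
import Groth.Agent.Lib.Ample.Basis
import Groth.Agent.Lib.ClSub.Cartier

/-!
# A combination of generating sections avoiding finitely many points

Over a Noetherian local ring with infinite residue field, some combination with coefficients in the
ring of finitely many sections of an invertible module generates at each of finitely many given
points, provided that at each point one of the sections does.
-/

set_option autoImplicit false
universe u

open CategoryTheory CategoryTheory.Limits AlgebraicGeometry Opposite TopologicalSpace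

noncomputable section

namespace Groth.Agent.H68.AvoidSpan

open Groth.Agent.Lib Ample.GenLocus TensorMod TensorMod.Basic TensorMod.Free TensorMod.Dual
  TensorMod.Gen TensorMod.LocIso

/-- Finitely many proper submodules do not cover `R^n` when the residue field is infinite. -/
theorem exists_forall_notMem {R : Type*} [CommRing R] [IsLocalRing R]
    [Infinite (IsLocalRing.ResidueField R)] {ι : Type*} [Finite ι] {n : ℕ}
    (p : ι → Submodule R (Fin n → R)) (h : ∀ i, p i ≠ ⊤) :
    ∃ x, ∀ i, x ∉ p i := by
  let r := IsLocalRing.residue R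
  haveI : RingHomSurjective r := ⟨IsLocalRing.residue_surjective⟩
  let π : (Fin n → R) →ₛₗ[r] (Fin n → IsLocalRing.ResidueField R) :=
    { toFun := fun x j => r (x j)
      map_add' := fun x y => funext fun j => by simp
      map_smul' := fun c x => funext fun j => by simp }
  have hq : ∀ i, (p i).map π ≠ ⊤ := by
    intro i hi
    refine h i (eq_top_iff.2 (Submodule.le_of_le_smul_of_le_jacobson_bot Module.Finite.fg_top
      (le_of_eq (IsLocalRing.jacobson_eq_maximalIdeal ⊥ bot_ne_top).symm) ?_))
    intro x _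
    obtain ⟨y, hy, hxy⟩ : π x ∈ (p i).map π := hi ▸ Submodule.mem_top
    have hd : x - y ∈ IsLocalRing.maximalIdeal R • (⊤ : Submodule R (Fin n → R)) := by
      rw [show x - y = ∑ j, (x j - y j) • (Pi.single j 1 : Fin n → R) from (pi_eq_sum_univ' (x - y))]
      refine Submodule.sum_mem _ fun j _ => Submodule.smul_mem_smul ?_ Submodule.mem_top
      refine (IsLocalRing.residue_eq_zero_iff _).1 ?_
      rw [map_sub, sub_eq_zero]
      exact (congrFun hxy j).symm
    exact Submodule.mem_sup.2 ⟨y, hy, x - y, hd, by abel⟩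
  obtain ⟨z, hz⟩ := Submodule.exists_forall_notMem_of_forall_ne_top _ hq
  choose x hx using fun j => IsLocalRing.residue_surjective (z j)
  exact ⟨x, fun i hxi => hz i ⟨x, hxi, funext hx⟩⟩

variable {A : Type u} [CommRing A] [IsLocalRing A] {V : Scheme.{u}}

/-- A combination of sections generating at finitely many points. -/
theorem exists_combination (hA : Infinite (IsLocalRing.ResidueField A)) (φ : A →+* Γ(V, ⊤))
    {L : V.Modules} (hL : PicF.IsInvertible L) {n : ℕ} (σ : Fin n → (Coh.structureModule V ⟶ L))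
    {S : Set V} (hS : S.Finite) (hgen : ∀ x ∈ S, ∃ i, x ∈ CohB1.genLocus L (σ i)) :
    ∃ (τ : Coh.structureModule V ⟶ L) (a : Fin n → A),
      sv τ ⊤ = ∑ i, φ (a i) • sv (σ i) ⊤ ∧ ∀ x ∈ S, x ∈ CohB1.genLocus L τ := by
  classical
  have key : ∀ x ∈ S, ∃ p : Submodule A (Fin n → A), p ≠ ⊤ ∧
      ∀ (a : Fin n → A) (τ : Coh.structureModule V ⟶ L),
        sv τ ⊤ = ∑ i, φ (a i) • sv (σ i) ⊤ → a ∉ p → x ∈ CohB1.genLocus L τ := by
    intro x hx
    obtain ⟨U, e, hxU, he⟩ := isInvertible_iff.1 hL x
    choose c hc using fun i => exists_coord he (sv (σ i) U)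
    let g : Γ(V, U) →+* IsLocalRing.ResidueField (V.presheaf.stalk x) :=
      (IsLocalRing.residue _).comp (V.presheaf.germ U x hxU).hom
    let χ : A →+* IsLocalRing.ResidueField (V.presheaf.stalk x) :=
      g.comp ((V.presheaf.map (homOfLE (le_top : U ≤ ⊤)).op).hom.comp φ)
    letI := χ.toAlgebra
    let ℓ : (Fin n → A) →ₗ[A] IsLocalRing.ResidueField (V.presheaf.stalk x) :=
      Fintype.linearCombination A fun i => g (c i)
    refine ⟨LinearMap.ker ℓ, ?_, ?_⟩
    · intro htop
      obtain ⟨i, hi⟩ := hgen x hx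
      have h1 := (genLocus_inf_eq he (σ i) (hc i)).le ⟨hi, hxU⟩
      rw [Scheme.mem_basicOpen _ _ x hxU] at h1
      have h2 : ℓ (Pi.single i 1) = 0 := LinearMap.mem_ker.1 (htop ▸ Submodule.mem_top)
      rw [Fintype.linearCombination_apply_single, one_smul] at h2
      exact ((IsLocalRing.residue_ne_zero_iff_isUnit _).2 h1) h2
    · intro a τ hτ ha
      have hU : sv τ U = (∑ i, V.presheaf.map (homOfLE (le_top : U ≤ ⊤)).op (φ (a i)) * c i) • e := by
        rw [← rs_sv τ (le_top : U ≤ ⊤), hτ, Finset.sum_smul]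
        change (L.presheaf.map (homOfLE (le_top : U ≤ ⊤)).op) (∑ i, φ (a i) • sv (σ i) ⊤) = _
        rw [map_sum]
        refine Finset.sum_congr rfl fun i _ => ?_
        rw [mul_smul, ← hc i, ← rs_sv (σ i) (le_top : U ≤ ⊤)]
        exact rs_smul L _ _ _
      refine ((genLocus_inf_eq he τ hU).ge ((Scheme.mem_basicOpen _ _ x hxU).2 ?_)).1
      rw [← IsLocalRing.residue_ne_zero_iff_isUnit]
      intro h0
      apply ha
      rw [LinearMap.mem_ker, Fintype.linearCombination_apply]
      refine Eq.trans ?_ h0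
      rw [map_sum, map_sum]
      refine Finset.sum_congr rfl fun i _ => ?_
      rw [map_mul, map_mul]
      rfl
  choose p hp hgood using key
  haveI := hS.to_subtype
  obtain ⟨a, ha⟩ := exists_forall_notMem (fun x : S => p x.1 x.2) fun x => hp x.1 x.2
  obtain ⟨τ, hτ⟩ := exists_hom_of_sec (L := L) (∑ i, φ (a i) • sv (σ i) ⊤)
  exact ⟨τ, a, hτ, fun x hx => hgood x hx a τ hτ (ha ⟨x, hx⟩)⟩

end Groth.Agent.H68.AvoidSpan

namespace Groth.Agent.H68.AvoidSpan

open Groth.Agent.Lib TensorMod.Basic

/-- `tensorBi` applied to a morphism in the second variable is `tmap`. -/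
theorem tmap_id_eq_tensorBi {V : Scheme.{u}} {L M : V.Modules} (τ : Coh.structureModule V ⟶ L) :
    tmap (𝟙 M) τ = ((DCoh.tensorBi (X := V)).obj M).map τ := by
  change Groth.Agent.Lib.TensorMod.Reflective.tm (sh V) (fgt V) (𝟙 M) τ = _
  rw [Groth.Agent.Lib.TensorMod.Reflective.tm, CategoryTheory.Functor.map_id, MonoidalCategory.id_tensorHom]
  rfl

end Groth.Agent.H68.AvoidSpan
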