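import Mathlib.NumberTheory.Bernoulli
import Mathlib.NumberTheory.ZetaValues
import Mathlib.Analysis.Polynomial.Basic

set_option autoImplicit false

open PowerSeries

namespace Groth.Agent.H68.Bernoulli

local notation "B" => bernoulli'PowerSeries ℚ

theorem coeff_B (m : ℕ) : coeff m B = bernoulli' m / (m.factorial : ℚ) := by
  simp [bernoulli'PowerSeries]

theorem rescale_neg_one_B : rescale (-1 : ℚ) B = B * rescale (-1 : ℚ) (PowerSeries.exp ℚ) := by
  have h1 := bernoulli'PowerSeries_mul_exp_sub_one ℚ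
  have h2 := congrArg (rescale (-1 : ℚ)) h1
  simp only [map_mul, map_sub, map_one, rescale_X] at h2
  set E := rescale (-1 : ℚ) (PowerSeries.exp ℚ) with hE
  have hee : PowerSeries.exp ℚ * E = 1 := by
    have := exp_mul_exp_eq_exp_add (A := ℚ) 1 (-1)
    simpa [hE, rescale_zero] using this
  have hne : PowerSeries.exp ℚ - 1 ≠ 0 := by
    intro h
    have := congrArg (coeff 1) h
    simp at this
  apply mul_right_cancel₀ hne
  have hC : (C : ℚ →+* ℚ⟦X⟧) (-1) = -1 := by simp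
  rw [hC] at h2
  linear_combination (-(PowerSeries.exp ℚ)) * h2 + (rescale (-1 : ℚ) B) * hee - E * h1

theorem rescale_neg_B (a : ℚ) :
    rescale (-a) B = rescale a B * rescale (-a) (PowerSeries.exp ℚ) := by
  have h := congrArg (rescale a) rescale_neg_one_B
  simpa [rescale_rescale] using h

/-- The `p`-independent factor of the Todd product. -/
noncomputable def cc (n : ℕ) (d s : ℚ) : ℚ⟦X⟧ :=
  (rescale (-d) B)⁻¹ * B ^ (n + 1) * rescale (s - d - n - 1) (PowerSeries.exp ℚ)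

theorem todd_eq (n : ℕ) (d s a : ℚ) :
    (rescale (-d) B)⁻¹ * rescale (-a) B * B ^ (n + 1)
      * rescale (a - d - n - 1 + s) (PowerSeries.exp ℚ) = cc n d s * rescale a B := by
  rw [rescale_neg_B a, cc]
  have := exp_mul_exp_eq_exp_add (A := ℚ) (-a) (a - d - n - 1 + s)
  rw [show -a + (a - d - n - 1 + s) = s - d - n - 1 by ring] at this
  rw [← this]
  ring

theorem coeff_cc_mul (m n : ℕ) (d s a : ℚ) :
    coeff m (cc n d s * rescale a B) =
      ∑ j ∈ Finset.range (m + 1),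
        coeff (m - j) (cc n d s) * (a ^ j * (bernoulli' j / (j.factorial : ℚ))) := by
  rw [mul_comm (cc n d s), coeff_mul, Finset.Nat.sum_antidiagonal_eq_sum_range_succ_mk]
  refine Finset.sum_congr rfl fun j _ => ?_
  rw [coeff_rescale, coeff_B]
  ring

theorem cc_mul (n : ℕ) (d s : ℚ) :
    rescale (-d) B * cc n d s = B ^ (n + 1) * rescale (s - d - n - 1) (PowerSeries.exp ℚ) := by
  have hne : constantCoeff (rescale (-d) B) ≠ 0 := by
    rw [← coeff_zero_eq_constantCoeff_apply, coeff_rescale, coeff_B]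
    simp
  rw [cc, ← mul_assoc, ← mul_assoc, PowerSeries.mul_inv_cancel _ hne, one_mul]

theorem coeff_zero_cc (n : ℕ) (d s : ℚ) : coeff 0 (cc n d s) = 1 := by
  have h := congrArg (coeff 0) (cc_mul n d s)
  have hB : constantCoeff B = (1 : ℚ) := by
    rw [← coeff_zero_eq_constantCoeff_apply, coeff_B]; simp
  simp [coeff_mul, coeff_rescale, coeff_B, hB] at h ⊢
  exact h

theorem coeff_one_cc (n : ℕ) (d s : ℚ) : coeff 1 (cc n d s) = (2 * s - d - n - 1) / 2 := by
  have h := congrArg (coeff 1) (cc_mul n d s)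
  have hB : constantCoeff B = (1 : ℚ) := by
    rw [← coeff_zero_eq_constantCoeff_apply, coeff_B]; simp
  have h1 : coeff 1 (B ^ (n + 1)) = ((n : ℚ) + 1) / 2 := by
    rw [PowerSeries.coeff_one_pow, hB, coeff_B]
    simp [bernoulli'_one]
    ring
  have hc := coeff_zero_cc n d s
  simp only [coeff_mul, Finset.Nat.sum_antidiagonal_succ, Finset.Nat.antidiagonal_zero,
    Finset.sum_singleton, zero_add, coeff_rescale, coeff_B, h1, hc] at h
  simp [hB, bernoulli'_one, coeff_exp] at h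
  linarith

theorem zeta_sign (m : ℕ) (hm : m ≠ 0) : 0 < (-1 : ℚ) ^ (m + 1) * bernoulli (2 * m) := by
  have h := hasSum_zeta_nat hm
  have h1 : (1 : ℝ) ≤ (-1 : ℝ) ^ (m + 1) * (2 : ℝ) ^ (2 * m - 1) * Real.pi ^ (2 * m) *
        bernoulli (2 * m) / (2 * m).factorial := by
    refine le_trans ?_ (le_hasSum h 1 fun j _ => by positivity)
    simp
  have h2 : (0 : ℝ) < ((-1 : ℝ) ^ (m + 1) * bernoulli (2 * m)) *
      ((2 : ℝ) ^ (2 * m - 1) * Real.pi ^ (2 * m) / (2 * m).factorial) := by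
    refine lt_of_lt_of_le one_pos (h1.trans (le_of_eq ?_))
    ring
  have h3 : (0 : ℝ) < (-1 : ℝ) ^ (m + 1) * bernoulli (2 * m) :=
    (pos_iff_pos_of_mul_pos h2).mpr (by positivity)
  exact_mod_cast h3

theorem bernoulli'_neg (m : ℕ) (h0 : m ≠ 0) (h : m % 4 = 0) : bernoulli' m < 0 := by
  obtain ⟨k, rfl⟩ : ∃ k, m = 2 * (2 * k) := ⟨m / 4, by omega⟩
  have := zeta_sign (2 * k) (by omega)
  rw [← bernoulli_eq_bernoulli'_of_ne_one (by omega)]
  simpa [pow_succ, pow_mul] using this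

theorem bernoulli'_pos (m : ℕ) (h : m % 4 = 2) : 0 < bernoulli' m := by
  obtain ⟨k, rfl⟩ : ∃ k, m = 2 * (2 * k + 1) := ⟨m / 4, by omega⟩
  have := zeta_sign (2 * k + 1) (by omega)
  rw [← bernoulli_eq_bernoulli'_of_ne_one (by omega)]
  simpa [pow_succ, pow_mul] using this

theorem leading (n d : ℕ) (s : ℤ) (hn : 2 ≤ n) :
    ∃ P : Polynomial ℚ, P.natDegree ≤ n - 2 ∧ ∀ p : ℕ,
      PowerSeries.coeff n ((PowerSeries.rescale (-(d : ℚ)) B)⁻¹ *
          PowerSeries.rescale (-((d : ℚ) * p)) B * B ^ (n + 1) *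
          PowerSeries.rescale ((d : ℚ) * p - d - n - 1 + s) (PowerSeries.exp ℚ)) =
        bernoulli' n * ((d : ℚ) * p) ^ n / (Nat.factorial n : ℚ) +
          (2 * (s : ℚ) - d - n - 1) / 2 * bernoulli' (n - 1) * ((d : ℚ) * p) ^ (n - 1) /
            (Nat.factorial (n - 1) : ℚ) +
          P.eval (p : ℚ) := by
  obtain ⟨m, rfl⟩ : ∃ m, n = m + 2 := ⟨n - 2, by omega⟩
  refine ⟨∑ j ∈ Finset.range (m + 1), Polynomial.C (coeff (m + 2 - j) (cc (m + 2) d s) *
      ((d : ℚ) ^ j * (bernoulli' j / (j.factorial : ℚ)))) * Polynomial.X ^ j, ?_, fun p => ?_⟩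
  · refine Polynomial.natDegree_sum_le_of_forall_le _ _ fun j hj => ?_
    refine (Polynomial.natDegree_C_mul_X_pow_le _ _).trans ?_
    have := Finset.mem_range.1 hj
    omega
  · rw [todd_eq, coeff_cc_mul, Finset.sum_range_succ, Finset.sum_range_succ,
      Polynomial.eval_finsetSum]
    have e1 : m + 2 - (m + 1) = 1 := by omega
    have e2 : m + 2 - 1 = m + 1 := by omega
    rw [e1, Nat.sub_self, e2, coeff_zero_cc, coeff_one_cc]
    have : ∀ j ∈ Finset.range (m + 1),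
        coeff (m + 2 - j) (cc (m + 2) (d : ℚ) s) *
          (((d : ℚ) * p) ^ j * (bernoulli' j / (j.factorial : ℚ))) =
        (Polynomial.C (coeff (m + 2 - j) (cc (m + 2) d s) *
          ((d : ℚ) ^ j * (bernoulli' j / (j.factorial : ℚ)))) * Polynomial.X ^ j).eval (p : ℚ) := by
      intro j _
      simp only [Polynomial.eval_mul, Polynomial.eval_C, Polynomial.eval_pow, Polynomial.eval_X]
      ring
    rw [Finset.sum_congr rfl this]
    ring

theorem eventually_neg (k : ℕ) (a : ℚ) (ha : a < 0) (P : Polynomial ℚ) (hP : P.natDegree < k) :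
    ∃ N : ℕ, ∀ p : ℕ, N ≤ p → a * (p : ℚ) ^ k + P.eval (p : ℚ) < 0 := by
  set Q := Polynomial.C a * Polynomial.X ^ k + P with hQ
  have hd : (Polynomial.C a * Polynomial.X ^ k).degree = (k : WithBot ℕ) := Polynomial.degree_C_mul_X_pow k ha.ne
  have hlt : P.degree < (Polynomial.C a * Polynomial.X ^ k).degree := by
    rw [hd]; exact lt_of_le_of_lt Polynomial.degree_le_natDegree (by exact_mod_cast hP)
  have hQd : Q.degree = k := by rw [hQ, Polynomial.degree_add_eq_left_of_degree_lt hlt, hd]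
  have hQl : Q.leadingCoeff = a := by
    rw [hQ, Polynomial.leadingCoeff_add_of_degree_lt' hlt, Polynomial.leadingCoeff_C_mul_X_pow]
  have ht := (Q.tendsto_atBot_of_leadingCoeff_nonpos (by rw [hQd]; exact_mod_cast (by omega : 0 < k))
    (by rw [hQl]; exact ha.le)).comp tendsto_natCast_atTop_atTop
  obtain ⟨N, hN⟩ := Filter.eventually_atTop.1 (ht.eventually (Filter.eventually_lt_atBot 0))
  refine ⟨N, fun p hp => ?_⟩
  simpa [hQ] using hN p hp

theorem neg_eventually (n d : ℕ) (s : ℤ) (hn : 2 ≤ n) (hd : 1 ≤ d)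
    (h : n % 4 = 0 ∨ (n % 4 = 1 ∧ (n : ℤ) + d + 1 < 2 * s) ∨
      (n % 4 = 3 ∧ 2 * s < (n : ℤ) + d + 1)) :
    ∃ P : ℕ, ∀ p : ℕ, P ≤ p →
      PowerSeries.coeff n ((PowerSeries.rescale (-(d : ℚ)) B)⁻¹ *
          PowerSeries.rescale (-((d : ℚ) * p)) B * B ^ (n + 1) *
          PowerSeries.rescale ((d : ℚ) * p - d - n - 1 + s) (PowerSeries.exp ℚ)) < 0 := by
  obtain ⟨P, hP, hev⟩ := leading n d s hn
  have hdq : (0 : ℚ) < d := by exact_mod_cast hd
  simp only [hev]
  set b := (2 * (s : ℚ) - d - n - 1) / 2 * bernoulli' (n - 1) * (d : ℚ) ^ (n - 1) /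
    (Nat.factorial (n - 1) : ℚ) with hb
  by_cases h0 : n % 4 = 0
  · obtain ⟨N, hN⟩ := eventually_neg n (bernoulli' n * (d : ℚ) ^ n / (Nat.factorial n : ℚ))
      (div_neg_of_neg_of_pos (mul_neg_of_neg_of_pos (bernoulli'_neg n (by omega) h0)
        (by positivity)) (by positivity))
      (Polynomial.C b * Polynomial.X ^ (n - 1) + P)
      (lt_of_le_of_lt ((Polynomial.natDegree_add_le _ _).trans
        (max_le (Polynomial.natDegree_C_mul_X_pow_le _ _) (hP.trans (by omega : n - 2 ≤ n - 1))))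
        (by omega))
    refine ⟨N, fun p hp => ?_⟩
    have := hN p hp
    simp only [Polynomial.eval_add, Polynomial.eval_mul, Polynomial.eval_C, Polynomial.eval_pow,
      Polynomial.eval_X, hb] at this
    rw [mul_pow, mul_pow]
    refine lt_of_eq_of_lt ?_ this
    ring
  · have hz : bernoulli' n = 0 := bernoulli'_eq_zero_of_odd (Nat.odd_iff.2 (by omega)) (by omega)
    have hbneg : b < 0 := by
      refine div_neg_of_neg_of_pos (mul_neg_of_neg_of_pos ?_ (by positivity)) (by positivity)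
      rcases h.resolve_left h0 with ⟨h1, hs⟩ | ⟨h3, hs⟩
      · have hs' : ((n : ℚ) + d + 1 : ℚ) < 2 * s := by exact_mod_cast hs
        exact mul_neg_of_pos_of_neg (by linarith) (bernoulli'_neg (n - 1) (by omega) (by omega))
      · have hs' : 2 * (s : ℚ) < (n : ℚ) + d + 1 := by exact_mod_cast hs
        exact mul_neg_of_neg_of_pos (by linarith) (bernoulli'_pos (n - 1) (by omega))
    obtain ⟨N, hN⟩ := eventually_neg (n - 1) b hbneg P (by omega)
    refine ⟨N, fun p hp => ?_⟩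
    have := hN p hp
    rw [hz, mul_pow, mul_pow]
    refine lt_of_eq_of_lt ?_ this
    rw [hb]; ring

theorem three (d p : ℕ) :
    PowerSeries.coeff 3 ((PowerSeries.rescale (-(d : ℚ)) B)⁻¹ *
        PowerSeries.rescale (-((d : ℚ) * p)) B * B ^ 4 *
        PowerSeries.rescale ((d : ℚ) * p - d - 3) (PowerSeries.exp ℚ)) =
      -((d : ℚ) * (d + 2) * (p - 1) * (d * p - d - 2)) / 24 := by
  have e : ((d : ℚ) * p - d - 3) = (d : ℚ) * p - d - ((3 : ℕ) : ℚ) - 1 + ((1 : ℤ) : ℚ) := by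
    push_cast; ring
  rw [e, todd_eq 3]
  have hB : constantCoeff B = (1 : ℚ) := by
    rw [← coeff_zero_eq_constantCoeff_apply, coeff_B]; simp
  have h0 := congrArg (coeff 0) (cc_mul 3 (d : ℚ) ((1 : ℤ) : ℚ))
  have h1 := congrArg (coeff 1) (cc_mul 3 (d : ℚ) ((1 : ℤ) : ℚ))
  have h2 := congrArg (coeff 2) (cc_mul 3 (d : ℚ) ((1 : ℤ) : ℚ))
  have h3 := congrArg (coeff 3) (cc_mul 3 (d : ℚ) ((1 : ℤ) : ℚ))
  simp only [pow_succ, pow_zero, one_mul, coeff_mul, Finset.Nat.sum_antidiagonal_succ,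
    Finset.Nat.antidiagonal_zero, Finset.sum_singleton, zero_add, coeff_rescale, coeff_B,
    coeff_exp, bernoulli'_zero, bernoulli'_one,
    Nat.factorial, Algebra.algebraMap_self, RingHom.id_apply] at h0 h1 h2 h3 ⊢
  norm_num at h0 h1 h2 h3 ⊢
  rw [h0] at h1 h2
  generalize coeff 1 (cc 3 (d : ℚ) 1) = c1 at h1 h2 h3 ⊢
  generalize coeff 2 (cc 3 (d : ℚ) 1) = c2 at h2 h3 ⊢
  generalize coeff 3 (cc 3 (d : ℚ) 1) = c3 at h3 ⊢
  have hc1 : c1 = -(d : ℚ) / 2 - 1 := by linarith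
  subst hc1
  have hc2 : c2 = 1/3 + (d : ℚ)/2 + (d : ℚ)^2/6 := by linarith
  subst hc2
  have hc3 : c3 = -(d : ℚ)/6 - (d : ℚ)^2/6 - (d : ℚ)^3/24 := by linarith
  subst hc3
  ring

end Groth.Agent.H68.Bernoulli
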