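import Mathlib

/-!
Binary forms of degree `n` over a field: the monomial coordinates and the dimension `n + 1`.
-/

set_option autoImplicit false

open MvPolynomial

namespace Groth.Agent.H68.BinForms

variable {K : Type*} [Field K]

/-- The exponent vector `(i, n - i)`. -/
noncomputable def expo (n : ℕ) (i : Fin (n + 1)) : Fin 2 →₀ ℕ :=
  Finsupp.single 0 (i : ℕ) + Finsupp.single 1 (n - i)

lemma expo_zero (n : ℕ) (i : Fin (n + 1)) : expo n i 0 = i := by simp [expo]
lemma expo_one (n : ℕ) (i : Fin (n + 1)) : expo n i 1 = n - i := by simp [expo]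

lemma expo_degree (n : ℕ) (i : Fin (n + 1)) : (expo n i).degree = n := by
  rw [expo, map_add, Finsupp.degree_single, Finsupp.degree_single]
  omega

lemma expo_injective (n : ℕ) : Function.Injective (expo n) := fun i j h => by
  have := congrArg (fun d : Fin 2 →₀ ℕ => d 0) h
  simp only [expo_zero] at this
  exact Fin.ext this

lemma exists_expo {n : ℕ} {d : Fin 2 →₀ ℕ} (h : d.degree = n) : ∃ i, expo n i = d := by
  have hd : d 0 + d 1 = n := by
    rw [← h, Finsupp.degree_apply]
    have : ∑ j ∈ d.support, d j = ∑ j : Fin 2, d j :=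
      Finset.sum_subset (Finset.subset_univ _) fun j _ hj => Finsupp.notMem_support_iff.mp hj
    rw [this, Fin.sum_univ_two]
  refine ⟨⟨d 0, by omega⟩, Finsupp.ext fun j => ?_⟩
  fin_cases j <;> simp [expo]
  omega

/-- Coefficients of a binary form of degree `n`. -/
noncomputable def coordEquiv (K : Type*) [Field K] (n : ℕ) :
    homogeneousSubmodule (Fin 2) K n ≃ₗ[K] (Fin (n + 1) → K) where
  toFun p := fun i => coeff (expo n i) (p : MvPolynomial (Fin 2) K)
  map_add' p q := by ext i; simp
  map_smul' c p := by ext i; simp [coeff_smul]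
  invFun c := ⟨∑ i, monomial (expo n i) (c i), by
    refine Submodule.sum_mem _ fun i _ => ?_
    exact isHomogeneous_monomial _ (expo_degree n i)⟩
  left_inv p := by
    classical
    refine Subtype.ext (MvPolynomial.ext _ _ fun d => ?_)
    simp only [coeff_sum, coeff_monomial]
    by_cases hd : d.degree = n
    · obtain ⟨i, rfl⟩ := exists_expo hd
      rw [Finset.sum_eq_single i]
      · rw [if_pos rfl]
      · intro j _ hj; rw [if_neg fun h => hj (expo_injective n h)]
      · simp
    · rw [Finset.sum_eq_zero fun i _ => if_neg fun h => hd (by rw [← h, expo_degree]),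
        (show (p : MvPolynomial (Fin 2) K).IsHomogeneous n from p.2).coeff_eq_zero hd]
  right_inv c := by
    classical
    ext i
    simp only [coeff_sum, coeff_monomial]
    rw [Finset.sum_eq_single i]
    · rw [if_pos rfl]
    · intro j _ hj; rw [if_neg fun h => hj (expo_injective n h)]
    · simp

instance finite_homogeneous (n : ℕ) : Module.Finite K (homogeneousSubmodule (Fin 2) K n) :=
  Module.Finite.equiv (coordEquiv K n).symm

theorem finrank_homogeneous (n : ℕ) : Module.finrank K (homogeneousSubmodule (Fin 2) K n) = n + 1 := by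
  rw [(coordEquiv K n).finrank_eq, Module.finrank_fin_fun]

/-- Multiplication of binary forms, as a bilinear map. -/
noncomputable def mulForms (a b : ℕ) :
    homogeneousSubmodule (Fin 2) K a →ₗ[K] homogeneousSubmodule (Fin 2) K b →ₗ[K]
      homogeneousSubmodule (Fin 2) K (a + b) :=
  LinearMap.mk₂ K (fun p q => ⟨p.1 * q.1, IsHomogeneous.mul p.2 q.2⟩)
    (fun p p' q => Subtype.ext (add_mul p.1 p'.1 q.1))
    (fun c p q => Subtype.ext (smul_mul_assoc c p.1 q.1))
    (fun p q q' => Subtype.ext (mul_add p.1 q.1 q'.1))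
    (fun c p q => Subtype.ext (mul_smul_comm c p.1 q.1))

@[simp] lemma mulForms_coe (a b : ℕ) (p : homogeneousSubmodule (Fin 2) K a)
    (q : homogeneousSubmodule (Fin 2) K b) : ((mulForms a b p q : homogeneousSubmodule (Fin 2) K (a + b)) :
      MvPolynomial (Fin 2) K) = p.1 * q.1 := rfl

/-- Over an algebraically closed field a binary cubic is divisible by a binary quadratic form. -/
theorem exists_quadratic_factor [IsAlgClosed K] {g : MvPolynomial (Fin 2) K}
    (hg : g ∈ homogeneousSubmodule (Fin 2) K 3) :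
    ∃ e ∈ homogeneousSubmodule (Fin 2) K 2, ∃ l ∈ homogeneousSubmodule (Fin 2) K 1, g = l * e := by
  classical
  let x : MvPolynomial (Fin 2) K := X 0
  let y : MvPolynomial (Fin 2) K := X 1
  have hexp : ∀ i : Fin 4, ∀ c : K, monomial (expo 3 i) c = C c * x ^ (i : ℕ) * y ^ (3 - (i : ℕ)) := by
    intro i c
    rw [expo, ← mul_one c, ← monomial_mul, mul_one]
    simp only [x, y, X_pow_eq_monomial, C_mul_monomial, mul_one]
  have hg' : g = C (coeff (expo 3 3) g) * x ^ 3 + C (coeff (expo 3 2) g) * x ^ 2 * y
      + C (coeff (expo 3 1) g) * x * y ^ 2 + C (coeff (expo 3 0) g) * y ^ 3 := by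
    conv_lhs => rw [show g = (((coordEquiv K 3).symm (coordEquiv K 3 ⟨g, hg⟩)) : MvPolynomial (Fin 2) K) by
      rw [LinearEquiv.symm_apply_apply]]
    show ∑ i : Fin (3 + 1), monomial (expo 3 i) (coeff (expo 3 i) g) = _
    rw [Fin.sum_univ_four, hexp, hexp, hexp, hexp]
    simp only [Fin.val_zero, Fin.val_one, Fin.val_two, show ((3 : Fin 4) : ℕ) = 3 from rfl,
      Nat.sub_zero, Nat.sub_self, pow_zero, pow_one,
      show (3 - 1 : ℕ) = 2 from rfl, show (3 - 2 : ℕ) = 1 from rfl, mul_one]
    ring
  generalize coeff (expo 3 3) g = a at hg'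
  generalize coeff (expo 3 2) g = b at hg'
  generalize coeff (expo 3 1) g = c at hg'
  generalize coeff (expo 3 0) g = d at hg'
  have hquad : ∀ p q r : K, C p * x ^ 2 + C q * x * y + C r * y ^ 2 ∈ homogeneousSubmodule (Fin 2) K 2 := fun p q r =>
    (((isHomogeneous_C _ p).mul ((isHomogeneous_X K 0).pow 2)).add
      (((isHomogeneous_C _ q).mul (isHomogeneous_X K 0)).mul (isHomogeneous_X K 1))).add
      ((isHomogeneous_C _ r).mul ((isHomogeneous_X K 1).pow 2))
  by_cases ha : a = 0
  · refine ⟨_, hquad b c d, y, isHomogeneous_X K 1, ?_⟩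
    rw [hg', ha, map_zero]
    ring
  obtain ⟨t, ht⟩ := IsAlgClosed.exists_root (Polynomial.C a * Polynomial.X ^ 3 + Polynomial.C b * Polynomial.X ^ 2
      + Polynomial.C c * Polynomial.X + Polynomial.C d) (by
    rw [Polynomial.degree_cubic ha]; decide)
  simp only [Polynomial.IsRoot, Polynomial.eval_add, Polynomial.eval_mul, Polynomial.eval_C,
    Polynomial.eval_pow, Polynomial.eval_X] at ht
  refine ⟨_, hquad a (b + a * t) (c + (b + a * t) * t), x - C t * y,
    (isHomogeneous_X K 0).sub (by simpa using (isHomogeneous_C _ t).mul (isHomogeneous_X K 1)), ?_⟩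
  have hd : d = -(a * t ^ 3 + b * t ^ 2 + c * t) := by linear_combination ht
  rw [hg', hd]
  simp only [map_add, map_mul, map_neg, map_pow]
  ring

end Groth.Agent.H68.BinForms
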