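import Mathlib.NumberTheory.Padics.PadicIntegers
import Mathlib.LinearAlgebra.Matrix.Charpoly.Coeff
import Mathlib.RingTheory.IntegralClosure.IsIntegral.Basic
import Mathlib.Algebra.Polynomial.Expand
import Mathlib.Algebra.Polynomial.AlgebraMap
import Mathlib.Tactic

/-!
# Integrality of `(α - 1) / √n`
-/

set_option autoImplicit false

universe v

open Polynomial

namespace Groth.Agent.H68.Charpoly

variable {R : Type*} [CommRing R] {ι : Type*} [Fintype ι] [DecidableEq ι]

theorem charpoly_comp (M : Matrix ι ι R) (q : R[X]) :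
    M.charpoly.comp q = (q • (1 : Matrix ι ι R[X]) - (C : R →+* R[X]).mapMatrix M).det := by
  rw [Matrix.charpoly, ← coe_compRingHom_apply, RingHom.map_det]
  congr 1
  ext i j
  by_cases h : i = j
  · subst h; simp [Matrix.charmatrix]
  · simp [Matrix.charmatrix, h]

theorem comp_sq (A : Matrix ι ι R) :
    C ((-1 : R) ^ Fintype.card ι) * A.charpoly.comp (X + 1) * A.charpoly.comp (1 - X) =
      ((A - 1) ^ 2).charpoly.comp (X ^ 2) := by
  simp only [charpoly_comp, map_pow, map_neg, map_one, map_sub]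
  set N := (C : R →+* R[X]).mapMatrix A with hN
  have e : (X : R[X]) ^ 2 • (1 : Matrix ι ι R[X]) - (N - 1) ^ 2 =
      ((X + 1 : R[X]) • (1 : Matrix ι ι R[X]) - N) * (-((1 - X : R[X]) • (1 : Matrix ι ι R[X]) - N)) := by
    simp only [add_smul, sub_smul, one_smul, pow_two, mul_neg, sub_mul, mul_sub, add_mul,
      one_mul, mul_one, Matrix.smul_mul, Matrix.mul_smul, smul_smul, neg_sub, smul_sub]
    abel
  rw [e, Matrix.det_mul, Matrix.det_neg]
  ring

theorem coeff_charpoly_smul [IsDomain R] (c : R) (hc : c ≠ 0) (B : Matrix ι ι R) (i : ℕ)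
    (hi : i ≤ Fintype.card ι) :
    (c • B).charpoly.coeff i = c ^ (Fintype.card ι - i) * B.charpoly.coeff i := by
  have h : (c • B).charpoly.comp (C c * X) = C (c ^ Fintype.card ι) * B.charpoly := by
    rw [charpoly_comp, map_pow]
    have e : (C c * X) • (1 : Matrix ι ι R[X]) - (C : R →+* R[X]).mapMatrix (c • B) =
        (C c : R[X]) • ((X : R[X]) • (1 : Matrix ι ι R[X]) - (C : R →+* R[X]).mapMatrix B) := by
      ext a b
      by_cases h : a = b
      · subst h; simp [mul_sub]
      · simp [h]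
    rw [e, Matrix.det_smul]
    congr 1
    have := charpoly_comp B X
    rw [comp_X] at this
    exact this.symm
  have h2 := congrArg (fun p => coeff p i) h
  simp only [comp_C_mul_X_coeff, coeff_C_mul] at h2
  refine mul_right_cancel₀ (pow_ne_zero i hc) ?_
  rw [h2, mul_right_comm, ← pow_add, Nat.sub_add_cancel hi]

theorem integral (n : ℕ) (hn : 0 < n) (g : ℕ) (f : Polynomial ℤ)
    (hf : f.Monic)
    (hA : ∀ (ℓ : ℕ) [Fact ℓ.Prime], ℓ ∣ n → ∃ A : Matrix (Fin g) (Fin g) ℤ_[ℓ],
      A.charpoly = f.map (Int.castRingHom ℤ_[ℓ]) ∧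
        ∃ B : Matrix (Fin g) (Fin g) ℤ_[ℓ], (A - 1) ^ 2 = (n : ℤ_[ℓ]) • B)
    (K : Type v) [Field K] [CharZero K] (α s : K) (hα : Polynomial.aeval α f = 0) (hs : s ^ 2 = (n : K)) :
    IsIntegral ℤ ((α - 1) / s) := by
  classical
  set d := f.natDegree with hd
  set Q : ℤ[X] := C ((-1 : ℤ) ^ d) * f.comp (X + 1) * f.comp (1 - X) with hQ
  have heven : Q.comp (C (-1 : ℤ) * X) = Q := by
    rw [hQ, map_neg, map_one, neg_one_mul]
    simp only [mul_comp, C_comp, comp_assoc, add_comp, sub_comp, X_comp, one_comp]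
    rw [show (-X + 1 : ℤ[X]) = 1 - X by ring, show (1 - -X : ℤ[X]) = X + 1 by ring]
    ring
  set h := contract 2 Q with hh
  have hexp : expand ℤ 2 h = Q := by
    ext k
    rw [coeff_expand two_pos]
    split_ifs with hk
    · rw [hh, coeff_contract two_ne_zero, Nat.div_mul_cancel hk]
    · have := congrArg (fun p => coeff p k) heven
      rw [comp_C_mul_X_coeff, (Nat.odd_iff.2 (by omega) : Odd k).neg_one_pow] at this
      omega
  have hQm : Q.Monic := by
    have e : Q = f.comp (X + C 1) * (((-1) ^ f.natDegree) * f.comp (-X)).comp (X + C (-1)) := by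
      simp only [hQ, mul_comp, pow_comp, neg_comp, one_comp, comp_assoc, X_comp, map_neg, map_one,
        map_pow]
      rw [show -(X + -1) = (1 - X : ℤ[X]) by ring]
      ring
    rw [e]
    exact (hf.comp_X_add_C 1).mul (hf.neg_one_pow_natDegree_mul_comp_neg_X.comp_X_add_C _)
  have hhm : h.Monic := (monic_expand_iff two_pos).1 (hexp ▸ hQm)
  have hhd : h.natDegree ≤ d := by
    have h1 : Q.natDegree ≤ d * 2 := by
      have a1 : (f.comp (X + 1)).natDegree ≤ d := natDegree_comp_le.trans (by
        rw [← map_one (C : ℤ →+* ℤ[X]), natDegree_X_add_C, mul_one])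
      have a2 : (f.comp (1 - X)).natDegree ≤ d := natDegree_comp_le.trans (by
        rw [show (1 - X : ℤ[X]) = -(X - C 1) by simp, natDegree_neg, natDegree_X_sub_C, mul_one])
      refine natDegree_mul_le.trans ?_
      have a3 := natDegree_C_mul_le ((-1 : ℤ) ^ d) (f.comp (X + 1))
      omega
    rw [← hexp, natDegree_expand] at h1
    omega
  have hdiv : ∀ i ≤ d, (n : ℤ) ^ (d - i) ∣ h.coeff i := by
    intro i hi
    rw [← Nat.cast_pow, Int.natCast_dvd]
    refine (Nat.dvd_iff_prime_pow_dvd_dvd _ _).2 fun p k hp hk => ?_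
    rw [← Int.natCast_dvd, Nat.cast_pow]
    rcases Nat.eq_zero_or_pos k with rfl | hk0
    · simp
    haveI : Fact p.Prime := ⟨hp⟩
    have hpn : p ∣ n := hp.dvd_of_dvd_pow ((dvd_pow_self p hk0.ne').trans hk)
    obtain ⟨A, hA1, B, hB⟩ := hA p hpn
    have hgd : g = d := by
      have := Matrix.charpoly_natDegree_eq_dim A
      rw [hA1, hf.natDegree_map, Fintype.card_fin] at this
      exact this.symm
    rw [← PadicInt.pow_p_dvd_int_iff]
    have hmap : h.map (Int.castRingHom ℤ_[p]) = ((A - 1) ^ 2).charpoly := by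
      refine expand_injective two_pos ?_
      rw [← map_expand, hexp, expand_eq_comp_X_pow, ← comp_sq, hA1, hQ, Fintype.card_fin, hgd]
      simp [map_comp]
    have hcoe : ((h.coeff i : ℤ) : ℤ_[p]) = (n : ℤ_[p]) ^ (d - i) * B.charpoly.coeff i := by
      rw [← eq_intCast (Int.castRingHom ℤ_[p]) (h.coeff i), ← coeff_map, hmap, hB,
        coeff_charpoly_smul _ (Nat.cast_ne_zero.2 hn.ne') B i (by rw [Fintype.card_fin, hgd]; exact hi),
        Fintype.card_fin]
      congr 3
    rw [hcoe]
    refine dvd_mul_of_dvd_left ?_ _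
    rw [← Nat.cast_pow, ← Nat.cast_pow]
    exact Nat.cast_dvd_cast hk
  choose b hb using hdiv
  have hs0 : s ≠ 0 := by
    rintro rfl
    rw [zero_pow two_ne_zero] at hs
    exact hn.ne' (Nat.cast_eq_zero.1 hs.symm)
  have hn0 : (n : K) ≠ 0 := Nat.cast_ne_zero.2 hn.ne'
  refine IsIntegral.of_pow two_pos ?_
  rw [div_pow, hs]
  set q : ℤ[X] := ∑ i ∈ Finset.range (d + 1), if hi : i ≤ d then monomial i (b i hi) else 0 with hq
  have hhd' : h.natDegree = d := by
    refine le_antisymm hhd ?_
    have h1 : Q.natDegree = h.natDegree * 2 := by rw [← hexp, natDegree_expand]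
    have e : Q.natDegree = d * 2 := by
      have c1 : (X + 1 : ℤ[X]).natDegree = 1 := by rw [← map_one (C : ℤ →+* ℤ[X]), natDegree_X_add_C]
      have c2 : (1 - X : ℤ[X]).natDegree = 1 := by
        rw [show (1 - X : ℤ[X]) = -(X - C 1) by simp, natDegree_neg, natDegree_X_sub_C]
      have n1 : (f.comp (X + 1)).natDegree = d := by rw [natDegree_comp, c1, mul_one]
      have n2 : (f.comp (1 - X)).natDegree = d := by rw [natDegree_comp, c2, mul_one]
      have z1 : f.comp (X + 1) ≠ 0 := fun hz => by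
        refine hQm.ne_zero ?_; rw [hQ, hz, mul_zero, zero_mul]
      have z2 : f.comp (1 - X) ≠ 0 := fun hz => by
        refine hQm.ne_zero ?_; rw [hQ, hz, mul_zero]
      rw [hQ, natDegree_mul (mul_ne_zero (C_ne_zero.2 (by simp)) z1) z2,
        natDegree_C_mul (by simp : (-1 : ℤ) ^ d ≠ 0), n1, n2]
      ring
    omega
  have hbd : b d le_rfl = 1 := by
    have := hb d le_rfl
    rw [Nat.sub_self, pow_zero, one_mul] at this
    rw [← this, ← hhd']
    exact hhm.coeff_natDegree
  refine ⟨q, ?_, ?_⟩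
  · refine monic_of_natDegree_le_of_coeff_eq_one d ?_ ?_
    · refine natDegree_sum_le_of_forall_le _ _ fun i hi => ?_
      split_ifs with h'
      · exact (natDegree_monomial_le _).trans h'
      · simp
    · rw [hq, finsetSum_coeff, Finset.sum_eq_single d]
      · rw [dif_pos le_rfl, coeff_monomial, if_pos rfl, hbd]
      · intro i hi hne
        split_ifs
        · rw [coeff_monomial, if_neg hne]
        · exact coeff_zero _
      · simp
  · rw [← aeval_def, hq, map_sum]
    have hroot : aeval ((α - 1) ^ 2) h = 0 := by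
      rw [← expand_aeval, hexp, hQ, map_mul, map_mul, aeval_comp]
      simp [hα]
    rw [aeval_eq_sum_range' (by omega : h.natDegree < d + 1)] at hroot
    refine (mul_eq_zero.1 ?_).resolve_left (pow_ne_zero d hn0)
    rw [Finset.mul_sum, ← hroot]
    refine Finset.sum_congr rfl fun i hi => ?_
    have hid : i ≤ d := by have := Finset.mem_range.1 hi; omega
    rw [dif_pos hid, aeval_monomial, hb i hid, zsmul_eq_mul, eq_intCast, Int.cast_mul, Int.cast_pow,
      Int.cast_natCast, div_pow]
    conv_lhs => rw [show d = (d - i) + i by omega, pow_add]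
    field_simp

end Groth.Agent.H68.Charpoly
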