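import Groth.Agent.H68.FlatFibre
import Groth.Agent.Lib.SymGr.RegularField
import Groth.Agent.Lib.Regular.Quotient
import Groth.Agent.Lib.Cohen.PSRegular
import Mathlib.Algebra.CharP.Algebra
import Mathlib.Algebra.Algebra.ZMod
import Mathlib.Algebra.CharP.Quotient
import Groth.Agent.S2462
import Groth.Prelude.Def_EGA41

/-!
# Regular local rings over the integers: adic formal smoothness, Cohen rings
-/

set_option autoImplicit false

universe u

open IsLocalRing

namespace Groth.Agent.H68.CohenFS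

/-- Regular local algebras over a field without differentials are adically smooth. -/
theorem adic_of_regular_of_subsingleton {k A : Type u} [Field k] [CommRing A] [IsRegularLocalRing A]
    [Algebra k A] [Subsingleton (Ω[k⁄ℤ])] : CAlgX.IsAdicFormallySmooth k A (maximalIdeal A) := by
  refine Lib.SymGr.RegularField.iff_regular_and_injective_int.mpr ⟨inferInstance, ?_⟩
  intro x y _
  exact Subsingleton.elim x y

/-- A field in which every element is a ratio of integers has no differentials. -/
theorem subsingleton_of_frac (k : Type u) [Field k]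
    (h : ∀ x : k, ∃ a b : ℤ, (b : k) ≠ 0 ∧ (b : k) * x = a) : Subsingleton (Ω[k⁄ℤ]) := by
  refine subsingleton_of_forall_eq 0 fun ω => ?_
  have hω : ω ∈ Submodule.span k (Set.range (KaehlerDifferential.D ℤ k)) := by
    rw [KaehlerDifferential.span_range_derivation]; trivial
  have h0 : ∀ x, KaehlerDifferential.D ℤ k x = 0 := fun x => by
    obtain ⟨a, b, hb, hab⟩ := h x
    have h2 := congrArg (KaehlerDifferential.D ℤ k) hab
    rw [Derivation.leibniz, Derivation.map_intCast, Derivation.map_intCast, smul_zero, add_zero] at h2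
    exact (smul_eq_zero.mp h2).resolve_left hb
  induction hω using Submodule.span_induction with
  | mem w hw => obtain ⟨x, rfl⟩ := hw; exact h0 x
  | zero => rfl
  | add a b _ _ ha hb => rw [ha, hb, add_zero]
  | smul c w _ hw => rw [hw, smul_zero]

theorem subsingleton_zmod (p : ℕ) [Fact p.Prime] : Subsingleton (Ω[ULift.{u} (ZMod p)⁄ℤ]) :=
  subsingleton_of_frac _ fun x => by
    obtain ⟨n, hn⟩ := ZMod.intCast_surjective x.down
    exact ⟨n, 1, by simp, ULift.ext _ _ (by simp [hn])⟩

theorem subsingleton_rat : Subsingleton (Ω[ULift.{u} ℚ⁄ℤ]) :=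
  subsingleton_of_frac _ fun x => ⟨x.down.num, (x.down.den : ℤ),
    fun h => by
      have h' := congrArg ULift.down h
      simp at h',
    ULift.ext _ _ (by simp [mul_comm, Rat.mul_den_eq_num])⟩

variable {R S : Type u} [CommRing R] [CommRing S] [Algebra R S]

/-- a ring homomorphism is linear over a quotient of `ℤ` -/
lemma commutes_of_surjective (hR : Function.Surjective (Int.cast : ℤ → R)) {C : Type u} [CommRing C]
    [Algebra R C] (f : S →+* C) (r : R) : f (algebraMap R S r) = algebraMap R C r := by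
  obtain ⟨n, rfl⟩ := hR r
  simp

/-- **Over the integers: a prime that is regular with regular quotient.** -/
theorem adic_of_prime_regular [IsLocalRing S] [IsNoetherianRing S]
    (hR : Function.Surjective (Int.cast : ℤ → R)) (p : ℕ) [Fact p.Prime]
    (hp : (p : S) ∈ maximalIdeal S) (hreg : IsSMulRegular S (p : S))
    [IsRegularLocalRing (S ⧸ Ideal.span {(p : S)})] :
    CAlgX.IsAdicFormallySmooth R S (maximalIdeal S) := by
  have hmap : ∀ (T : Type u) [CommRing T] [Algebra R T],
      (Ideal.span {(p : R)}).map (algebraMap R T) = Ideal.span {(p : T)} := fun T _ _ => by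
    rw [Ideal.map_span, Set.image_singleton, map_natCast]
  refine SmallExt.isAdicFormallySmooth_of_key
    (SmallExt.apply_eq_zero (𝔞 := Ideal.span {(p : R)}) ?_ ?_ ?_)
  rotate_left
  · rw [hmap, Ideal.span_singleton_le_iff_mem]
    exact hp
  · rintro z ⟨hz, hzk⟩
    rw [hmap] at hz ⊢
    obtain ⟨q, rfl⟩ := Ideal.mem_span_singleton'.mp hz
    rw [mul_comm q]
    refine Ideal.mul_mem_mul (Ideal.mem_span_singleton_self _) ?_
    have h1 : SmallExt.π R S (q * (p : MvPolynomial S R)) = 0 := hzk
    rw [map_mul, map_natCast, mul_comm] at h1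
    show SmallExt.π R S q = 0
    refine hreg ?_
    simpa [smul_eq_mul] using h1
  intro C _ _ _ _ J hC hJ _ _ ψ hψ
  have hpC : (p : C) = 0 := Ideal.mem_bot.mp (hC ▸ (hmap C).symm ▸ Ideal.mem_span_singleton_self _)
  let K := ULift.{u} (ZMod p)
  haveI : CharP C p := (CharP.charP_iff_prime_eq_zero Fact.out).mpr hpC
  let iC : K →+* C := (ZMod.castHom (dvd_refl p) C).comp (ULift.ringEquiv : K ≃+* ZMod p).toRingHom
  letI : Algebra K C := iC.toAlgebra
  let S₀ := S ⧸ Ideal.span {(p : S)}
  have hpS₀ : (p : S₀) = 0 := by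
    rw [← map_natCast (Ideal.Quotient.mk (Ideal.span {(p : S)})), Ideal.Quotient.eq_zero_iff_mem]
    exact Ideal.mem_span_singleton_self _
  haveI : CharP S₀ p := (CharP.charP_iff_prime_eq_zero Fact.out).mpr hpS₀
  letI : Algebra K S₀ :=
    ((ZMod.castHom (dvd_refl p) S₀).comp (ULift.ringEquiv : K ≃+* ZMod p).toRingHom).toAlgebra
  have hψ0 : ∀ s ∈ Ideal.span {(p : S)}, ψ s = 0 := fun s hs => by
    obtain ⟨c, rfl⟩ := Ideal.mem_span_singleton'.mp hs
    rw [map_mul, map_natCast, ← map_natCast (Ideal.Quotient.mk J), hpC, map_zero, mul_zero]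
  have hext : ∀ {T : Type u} [CommRing T] (f g : K →+* T), f = g := fun f g => by
    refine RingHom.ext fun x => ?_
    obtain ⟨n, hn⟩ := ZMod.intCast_surjective x.down
    rw [show x = (n : K) from ULift.ext _ _ (by rw [ULift.down_intCast]; exact hn.symm), map_intCast, map_intCast]
  let ψ₀ : S₀ →ₐ[K] C ⧸ J :=
    { Ideal.Quotient.lift _ ψ.toRingHom hψ0 with
      commutes' := fun x => RingHom.congr_fun (hext ((Ideal.Quotient.lift (Ideal.span {(p : S)})
        ψ.toRingHom hψ0).comp (algebraMap K S₀)) (algebraMap K (C ⧸ J))) x }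
  have hψ₀ : Function.Surjective ψ₀ := fun c => by
    obtain ⟨s, rfl⟩ := hψ c
    exact ⟨Ideal.Quotient.mk _ s, rfl⟩
  haveI : IsLocalHom ψ₀.toRingHom := IsLocalHom.of_surjective _ hψ₀
  obtain ⟨k, hk⟩ := SmallExt.exists_pow_kills ψ₀.toRingHom
  haveI : Subsingleton (Ω[K⁄ℤ]) := subsingleton_zmod p
  obtain ⟨χ, hχ⟩ := adic_of_regular_of_subsingleton (k := K) (A := S₀) C J hJ ψ₀
    ⟨k, fun x hx => Ideal.mem_bot.mp (hk ▸ Ideal.mem_map_of_mem ψ₀.toRingHom hx)⟩
  refine ⟨{ χ.toRingHom.comp (Ideal.Quotient.mk _) with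
    commutes' := commutes_of_surjective hR _ }, AlgHom.ext fun s => ?_⟩
  exact AlgHom.congr_fun hχ (Ideal.Quotient.mk _ s)

/-- **Over the integers: residue characteristic zero.** -/
theorem adic_of_charZero [IsRegularLocalRing S] (hR : Function.Surjective (Int.cast : ℤ → R))
    [CharZero (ResidueField S)] : CAlgX.IsAdicFormallySmooth R S (maximalIdeal S) := by
  refine SmallExt.isAdicFormallySmooth ?_
  intro C _ _ _ _ J hJ _ _ ψ hψ
  have hS : ∀ n : nonZeroDivisors ℤ, IsUnit (Int.castRingHom S n) := fun n => by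
    by_contra hu
    have h1 := (residue_eq_zero_iff _).mpr ((mem_maximalIdeal _).mpr hu)
    rw [eq_intCast, map_intCast] at h1
    exact nonZeroDivisors.coe_ne_zero n (Int.cast_eq_zero.mp h1)
  have hC : ∀ n : nonZeroDivisors ℤ, IsUnit (Int.castRingHom C n) := fun n => by
    refine (IsNilpotent.isUnit_quotient_mk_iff ⟨2, hJ⟩).mp ?_
    have h1 := (hS n).map ψ
    rw [eq_intCast, map_intCast] at h1 ⊢
    exact h1
  let K := ULift.{u} ℚ
  let iS : K →+* S := (IsLocalization.lift hS).comp (ULift.ringEquiv : K ≃+* ℚ).toRingHom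
  let iC : K →+* C := (IsLocalization.lift hC).comp (ULift.ringEquiv : K ≃+* ℚ).toRingHom
  letI : Algebra K S := iS.toAlgebra
  letI : Algebra K C := iC.toAlgebra
  have hext : ∀ {T : Type u} [CommRing T] (f g : K →+* T), f = g := fun f g => by
    have h2 : f.comp (ULift.ringEquiv : K ≃+* ℚ).symm.toRingHom =
        g.comp (ULift.ringEquiv : K ≃+* ℚ).symm.toRingHom :=
      IsLocalization.ringHom_ext (nonZeroDivisors ℤ) (RingHom.ext_int _ _)
    exact RingHom.ext fun x => RingHom.congr_fun h2 x.down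
  let ψ₀ : S →ₐ[K] C ⧸ J :=
    { ψ.toRingHom with
      commutes' := fun x => RingHom.congr_fun (hext (ψ.toRingHom.comp (algebraMap K S))
        (algebraMap K (C ⧸ J))) x }
  haveI : IsLocalHom ψ₀.toRingHom := IsLocalHom.of_surjective _ hψ
  obtain ⟨k, hk⟩ := SmallExt.exists_pow_kills ψ₀.toRingHom
  haveI : Subsingleton (Ω[K⁄ℤ]) := subsingleton_rat
  obtain ⟨χ, hχ⟩ := adic_of_regular_of_subsingleton (k := K) (A := S) C J hJ ψ₀
    ⟨k, fun x hx => Ideal.mem_bot.mp (hk ▸ Ideal.mem_map_of_mem ψ₀.toRingHom hx)⟩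
  exact ⟨{ χ.toRingHom with commutes' := commutes_of_surjective hR _ },
    AlgHom.ext fun s => AlgHom.congr_fun hχ s⟩

lemma surjective_intCast_ulift : Function.Surjective (Int.cast : ℤ → ULift.{u} ℤ) := fun n =>
  ⟨n.down, by apply ULift.ext; simp⟩

/-- Power series over a Cohen ring are adically smooth over the integers. -/
theorem adic_mvPowerSeries (hR : Function.Surjective (Int.cast : ℤ → R)) {Λ : Type u} [CommRing Λ]
    (hΛ : CAlg.IsCohenRing Λ) (n : ℕ) [Algebra R (MvPowerSeries (Fin n) Λ)]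
    [IsLocalRing (MvPowerSeries (Fin n) Λ)] :
    CAlgX.IsAdicFormallySmooth R (MvPowerSeries (Fin n) Λ) (maximalIdeal (MvPowerSeries (Fin n) Λ)) := by
  obtain ⟨_, _, _, p, hp, hm⟩ := hΛ
  haveI := Fact.mk hp
  haveI := (Lib.Cohen.PSRegular.mvPowerSeries Λ n).1
  have hp0 : (p : Λ) ≠ 0 := fun h0 =>
    IsDiscreteValuationRing.not_a_field Λ (by rw [hm, h0, Ideal.span_singleton_eq_bot.mpr rfl])
  have hpm : (p : MvPowerSeries (Fin n) Λ) ∈ maximalIdeal (MvPowerSeries (Fin n) Λ) := by
    rw [mem_maximalIdeal, mem_nonunits_iff, MvPowerSeries.isUnit_iff_constantCoeff, map_natCast]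
    rw [← mem_nonunits_iff, ← mem_maximalIdeal, hm]
    exact Ideal.mem_span_singleton_self _
  have hp2 : (p : MvPowerSeries (Fin n) Λ) ∉ maximalIdeal (MvPowerSeries (Fin n) Λ) ^ 2 := fun h => by
    have h1 := Ideal.mem_map_of_mem (MvPowerSeries.constantCoeff (σ := Fin n) (R := Λ)) h
    have h2 : (maximalIdeal (MvPowerSeries (Fin n) Λ)).map MvPowerSeries.constantCoeff ≤ maximalIdeal Λ :=
      Ideal.map_le_iff_le_comap.mpr fun f hf => by
        rw [mem_maximalIdeal, mem_nonunits_iff, MvPowerSeries.isUnit_iff_constantCoeff] at hf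
        exact hf
    rw [Ideal.map_pow, map_natCast] at h1
    have h3 := Ideal.pow_right_mono h2 2 h1
    rw [hm, Ideal.span_singleton_pow, Ideal.mem_span_singleton'] at h3
    obtain ⟨c, hc⟩ := h3
    have h4 : c * (p : Λ) = 1 := mul_right_cancel₀ hp0 (by rw [one_mul, mul_assoc, ← pow_two]; exact hc)
    exact (maximalIdeal.isMaximal Λ).ne_top (Ideal.eq_top_iff_one _ |>.mpr (by
      rw [hm, ← h4]; exact Ideal.mul_mem_left _ _ (Ideal.mem_span_singleton_self _)))
  haveI := (Lib.Regular.Quotient.quotient_singleton hpm hp2).1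
  refine adic_of_prime_regular hR p hpm fun a b hab => ?_
  refine mul_left_cancel₀ (fun h0 => hp0 ?_) hab
  simpa using congrArg MvPowerSeries.constantCoeff h0

/-- Cohen rings are adically smooth over the integers. -/
theorem adic_of_isCohenRingEGA (hR : Function.Surjective (Int.cast : ℤ → R)) {W : Type u} [CommRing W]
    [IsLocalRing W] [Algebra R W] (hW : EGA41.IsCohenRingEGA W) :
    CAlgX.IsAdicFormallySmooth R W (maximalIdeal W) := by
  rcases hW with ⟨hf, hc⟩ | ⟨_, _, _, p, hp, hm⟩
  · letI := hf.toField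
    haveI : IsRegularLocalRing W := by
      haveI : IsNoetherianRing W := inferInstance
      refine IsRegularLocalRing.of_spanFinrank_maximalIdeal_le _ ?_
      rw [show maximalIdeal W = ⊥ from Ideal.eq_bot_of_prime _, Submodule.spanFinrank_bot, Nat.cast_zero]
      exact ringKrullDim_nonneg_of_nontrivial
    haveI : CharZero (ResidueField W) :=
      (algebraMap W (ResidueField W)).charZero_iff (RingHom.injective _) |>.mp hc
    exact adic_of_charZero hR
  · haveI := Fact.mk hp
    have hp0 : (p : W) ≠ 0 := fun h0 =>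
      IsDiscreteValuationRing.not_a_field W (by rw [hm, h0, Ideal.span_singleton_eq_bot.mpr rfl])
    haveI : (Ideal.span {(p : W)}).IsMaximal := hm ▸ maximalIdeal.isMaximal W
    letI := Ideal.Quotient.field (Ideal.span {(p : W)})
    haveI : IsRegularLocalRing (W ⧸ Ideal.span {(p : W)}) := by
      refine IsRegularLocalRing.of_spanFinrank_maximalIdeal_le _ ?_
      rw [show maximalIdeal (W ⧸ Ideal.span {(p : W)}) = ⊥ from Ideal.eq_bot_of_prime _,
        Submodule.spanFinrank_bot, Nat.cast_zero]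
      exact ringKrullDim_nonneg_of_nontrivial
    exact adic_of_prime_regular hR p (hm ▸ Ideal.mem_span_singleton_self _)
      fun a b hab => mul_left_cancel₀ hp0 hab

/-- Cohen rings lift local maps into complete local rings. -/
theorem exists_lift {W C : Type u} [CommRing W] [IsLocalRing W] (hW : EGA41.IsCohenRingEGA W)
    [CommRing C] [IsLocalRing C] [IsNoetherianRing C] [IsAdicComplete (maximalIdeal C) C]
    (J : Ideal C) (hJ : J ≠ ⊤) [IsLocalRing (C ⧸ J)] (u : W →+* C ⧸ J) [IsLocalHom u] :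
    ∃ v : W →+* C, IsLocalHom v ∧ (Ideal.Quotient.mk J).comp v = u := by
  let R := ULift.{u} ℤ
  have hR := surjective_intCast_ulift.{u}
  letI : Algebra R W := ((Int.castRingHom W).comp (ULift.ringEquiv : R ≃+* ℤ).toRingHom).toAlgebra
  letI : Algebra R C := ((Int.castRingHom C).comp (ULift.ringEquiv : R ≃+* ℤ).toRingHom).toAlgebra
  let u' : W →ₐ[R] C ⧸ J := { u with commutes' := commutes_of_surjective hR u }
  have hmax : (maximalIdeal W).map u ≤ (maximalIdeal C).map (Ideal.Quotient.mk J) := by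
    rw [Ideal.map_le_iff_le_comap]
    intro x hx
    obtain ⟨c, hc⟩ := Ideal.Quotient.mk_surjective (u x)
    rw [Ideal.mem_comap, ← hc]
    exact Ideal.mem_map_of_mem _ fun hu =>
      hx (isUnit_of_map_unit u x (hc ▸ hu.map (Ideal.Quotient.mk J)))
  obtain ⟨v, -, hv⟩ := S2462.result (⊥ : Ideal R) (maximalIdeal W)
    (Lib.FSAdic.Basic.of_sqZero fun D _ _ I hI _ w hw => adic_of_isCohenRingEGA hR hW D I hI w hw)
    (by rw [Ideal.map_bot]; exact bot_le) J hJ u' hmax
  have hv' : ∀ x, Ideal.Quotient.mk J (v x) = u x := fun x => AlgHom.congr_fun hv x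
  refine ⟨v.toRingHom, ⟨fun x hx => isUnit_of_map_unit u x ?_⟩, RingHom.ext hv'⟩
  rw [← hv']
  exact hx.map _

end Groth.Agent.H68.CohenFS
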