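import Groth.Agent.H68.CohenFS
import Groth.Agent.Lib.Cohen.Presentation
import Groth.Agent.Lib.Cohen.CTensorReduced
import Groth.Agent.Lib.JacCrit.FlatRegular
import Groth.Agent.H24.CoefficientField
import Groth.Agent.H24.PowerSeries
import Mathlib.RingTheory.Flat.Stability

/-!
# Flat Cohen presentations of local homomorphisms of complete Noetherian local rings
-/

set_option autoImplicit false

universe u

open IsLocalRing
open scoped TensorProduct

namespace Groth.Agent.H68.CohenLift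

/-- The basic properties of a Cohen ring with residue characteristic `p`. -/
theorem data {Λ : Type u} [CommRing Λ] [IsLocalRing Λ] (hΛ : EGA41.IsCohenRingEGA Λ) (p : ℕ)
    [CharP (ResidueField Λ) p] :
    IsDomain Λ ∧ IsRegularLocalRing Λ ∧ IsAdicComplete (maximalIdeal Λ) Λ ∧
      maximalIdeal Λ = Ideal.span {(p : Λ)} ∧
      ((p = 0 ∧ IsField Λ ∧ ringKrullDim Λ = 0) ∨
        (p ≠ 0 ∧ CAlg.IsCohenRing Λ ∧ ringKrullDim Λ = 1)) := by
  have hcp : CharP (ResidueField Λ) p := inferInstance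
  rcases hΛ with ⟨hf, hc⟩ | hC
  · letI := hf.toField
    have hm : maximalIdeal Λ = ⊥ := Ideal.eq_bot_of_prime _
    have hp : p = 0 := by
      haveI : CharZero (ResidueField Λ) := (residue Λ).charZero_iff (RingHom.injective _) |>.mp hc
      exact CharP.eq (ResidueField Λ) hcp (CharP.ofCharZero _)
    have hd : ringKrullDim Λ = 0 := ringKrullDim_eq_zero_of_field Λ
    refine ⟨inferInstance, ?_, ?_, ?_, Or.inl ⟨hp, hf, hd⟩⟩
    · refine IsRegularLocalRing.of_spanFinrank_maximalIdeal_le _ ?_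
      rw [hm, Submodule.spanFinrank_bot, Nat.cast_zero]
      exact ringKrullDim_nonneg_of_nontrivial
    · rw [hm]; infer_instance
    · rw [hm, hp, Nat.cast_zero, Ideal.span_singleton_eq_bot.mpr rfl]
  · have hC' := hC
    obtain ⟨_, _, hcompl, q, hq, hm⟩ := hC
    have hqp : q = p := by
      have h1 : CharP (ResidueField Λ) q := (CharP.charP_iff_prime_eq_zero hq).mpr
        (by rw [← map_natCast (residue Λ), residue_eq_zero_iff, hm]; exact Ideal.mem_span_singleton_self _)
      exact CharP.eq (ResidueField Λ) h1 hcp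
    subst hqp
    refine ⟨inferInstance, inferInstance, hcompl, hm, Or.inr ⟨hq.ne_zero, hC', ?_⟩⟩
    exact IsPrincipalIdealRing.ringKrullDim_eq_one Λ (IsDiscreteValuationRing.not_isField Λ)

/-- Coefficient rings. -/
theorem exists_coefficient (R : Type u) [CommRing R] [IsLocalRing R] [IsNoetherianRing R]
    [IsAdicComplete (maximalIdeal R) R] :
    ∃ (Λ : Type u) (_ : CommRing Λ) (_ : IsLocalRing Λ) (f : Λ →+* R),
      EGA41.IsCohenRingEGA Λ ∧ IsLocalHom f ∧ Function.Surjective ((residue R).comp f) := by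
  obtain ⟨p, hp⟩ := CharP.exists (ResidueField R)
  obtain hp' | hp' := CharP.char_is_prime_or_zero (ResidueField R) p
  · haveI := Fact.mk hp'
    have hpm : (p : R) ∈ maximalIdeal R := by
      rw [← residue_eq_zero_iff, map_natCast, CharP.cast_eq_zero]
    obtain ⟨Λ, _, _, hΛ, -, f, hfm, hf⟩ := Lib.Cohen.Exists.exists_cohenRing_hom R p hpm
    exact ⟨Λ, inferInstance, inferInstance, f, Or.inr hΛ,
      ⟨fun x hx => by_contra fun h => (hfm x).mp h hx⟩, hf⟩
  · subst hp'
    haveI := CharP.charP_to_charZero (ResidueField R)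
    have hunit : ∀ m : ℤ, m ≠ 0 → IsUnit (m : R) := fun m hm => by
      by_contra hu
      have h := (residue_eq_zero_iff (m : R)).2 hu
      rw [map_intCast] at h
      exact hm (Int.cast_eq_zero.1 h)
    let φ : ℚ →+* R := IsLocalization.lift (M := nonZeroDivisors ℤ) (g := Int.castRingHom R)
      fun y => hunit _ (nonZeroDivisors.coe_ne_zero y)
    letI : Algebra (ULift.{u} ℚ) R :=
      (φ.comp (ULift.ringEquiv : ULift.{u} ℚ ≃+* ℚ).toRingHom).toAlgebra
    obtain ⟨σ, hσ⟩ := H24.CoefficientField.exists_coefficientField R (ULift.{u} ℚ)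
    exact ⟨ResidueField R, inferInstance, inferInstance, σ,
      Or.inl ⟨Field.toIsField _, inferInstance⟩,
      ⟨fun x hx => isUnit_iff_ne_zero.mpr fun h => by rw [h, map_zero] at hx; exact not_isUnit_zero hx⟩,
      fun z => ⟨z, hσ z⟩⟩

/-- A presentation by a minimal number of variables. -/
theorem exists_surjective_min (R : Type u) [CommRing R] [IsLocalRing R] [IsNoetherianRing R]
    [IsAdicComplete (maximalIdeal R) R] {Λ : Type u} [CommRing Λ] [IsLocalRing Λ]
    [IsAdicComplete (maximalIdeal Λ) Λ] (f : Λ →+* R)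
    (hloc : (maximalIdeal Λ).map f ≤ maximalIdeal R)
    (hf : Function.Surjective ((residue R).comp f)) :
    ∃ (n : ℕ) (g : MvPowerSeries (Fin n) Λ →+* R),
      Function.Surjective g ∧ n ≤ (maximalIdeal R).spanFinrank := by
  classical
  letI := f.toAlgebra
  obtain ⟨s, hsc, hs⟩ := Submodule.FG.exists_span_finset_card_eq_spanFinrank
    (IsNoetherian.noetherian (maximalIdeal R))
  let x : Fin s.card → R := fun i => (s.equivFin.symm i : R)
  have hx : Ideal.span (Set.range x) = maximalIdeal R := by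
    have hr : Set.range x = (s : Set R) := by
      ext z
      exact ⟨fun ⟨i, hi⟩ => hi ▸ (s.equivFin.symm i).2, fun hz => ⟨s.equivFin ⟨z, hz⟩, by simp [x]⟩⟩
    rw [hr]
    exact hs
  have hxm : ∀ i, x i ∈ maximalIdeal R := fun i => hx ▸ Ideal.subset_span ⟨i, rfl⟩
  obtain ⟨g, hgX, hgfin⟩ := Lib.Cohen.FiniteOver.exists_finite_algHom (Λ := Λ) hloc hf x hxm
    (le_trans (by rw [hx]; exact le_sup_right) Ideal.le_radical)
  refine ⟨s.card, g.toRingHom, ?_, hsc.le⟩
  letI : Algebra (MvPowerSeries (Fin s.card) Λ) R := g.toRingHom.toAlgebra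
  haveI : Module.Finite (MvPowerSeries (Fin s.card) Λ) R := hgfin
  let N : Submodule (MvPowerSeries (Fin s.card) Λ) R := LinearMap.range (Algebra.linearMap _ R)
  have hX : ∀ i, (MvPowerSeries.X i : MvPowerSeries (Fin s.card) Λ) ∈
      maximalIdeal (MvPowerSeries (Fin s.card) Λ) := fun i => by
    rw [mem_maximalIdeal, mem_nonunits_iff, MvPowerSeries.isUnit_iff_constantCoeff]
    simp
  have htop : (⊤ : Submodule (MvPowerSeries (Fin s.card) Λ) R) ≤ N := by
    refine Submodule.le_of_le_smul_of_le_jacobson_bot Module.Finite.fg_top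
      (jacobson_eq_maximalIdeal ⊥ bot_ne_top).ge ?_
    intro r _
    obtain ⟨l, hl⟩ := hf (residue R r)
    refine Submodule.mem_sup.2 ⟨f l, ⟨algebraMap Λ _ l, g.commutes l⟩, r - f l, ?_, by abel⟩
    rw [Ideal.smul_top_eq_map, Submodule.restrictScalars_mem]
    refine (le_of_eq_of_le hx.symm (Ideal.span_le.2 ?_)) ?_
    · rintro _ ⟨i, rfl⟩
      exact hgX i ▸ Ideal.mem_map_of_mem (algebraMap (MvPowerSeries (Fin s.card) Λ) R) (hX i)
    · rw [← residue_eq_zero_iff, map_sub, sub_eq_zero]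
      exact hl.symm
  intro r
  exact htop (Submodule.mem_top (x := r))

/-- A flat Cohen presentation with minimally many variables. -/
theorem exists_presentation_min {A B : Type u} [CommRing A] [CommRing B] [IsLocalRing A] [IsLocalRing B]
    [IsNoetherianRing A] [IsNoetherianRing B] [IsAdicComplete (maximalIdeal A) A]
    [IsAdicComplete (maximalIdeal B) B] [Algebra A B] [IsLocalHom (algebraMap A B)] :
    ∃ (Λ Λ' : Type u) (_ : CommRing Λ) (_ : CommRing Λ') (_ : IsLocalRing Λ) (_ : IsLocalRing Λ')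
      (n m : ℕ) (ρ : MvPowerSeries (Fin n) Λ →+* A) (σ : MvPowerSeries (Fin m) Λ' →+* B)
      (τ : MvPowerSeries (Fin n) Λ →+* MvPowerSeries (Fin m) Λ'),
      EGA41.IsCohenRingEGA Λ ∧ EGA41.IsCohenRingEGA Λ' ∧
      ((CharZero (ResidueField A) ∧ IsField Λ ∧ IsField Λ') ∨
        (¬ CharZero (ResidueField A) ∧ CAlg.IsCohenRing Λ ∧ CAlg.IsCohenRing Λ')) ∧
      IsRegularLocalRing (MvPowerSeries (Fin n) Λ) ∧ IsRegularLocalRing (MvPowerSeries (Fin m) Λ') ∧
        Function.Surjective ρ ∧ Function.Surjective σ ∧ σ.comp τ = (algebraMap A B).comp ρ ∧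
        τ.Flat ∧ IsLocalHom τ ∧ IsRegularLocalRing (MvPowerSeries (Fin m) Λ' ⧸
          (maximalIdeal (MvPowerSeries (Fin n) Λ)).map τ) ∧
        ringKrullDim (MvPowerSeries (Fin m) Λ' ⧸ (maximalIdeal (MvPowerSeries (Fin n) Λ)).map τ) ≤
          ((maximalIdeal B).spanFinrank : WithBot ℕ∞) := by
  classical
  obtain ⟨Λ, _, _, f, hΛ, hf, hfres⟩ := exists_coefficient A
  obtain ⟨Λ', _, _, g, hΛ', hg, hgres⟩ := exists_coefficient B
  haveI := hf
  haveI := hg
  obtain ⟨p, hp⟩ := CharP.exists (ResidueField A)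
  haveI : CharP (ResidueField B) p :=
    charP_of_injective_ringHom (RingHom.injective (ResidueField.map (algebraMap A B))) p
  haveI : CharP (ResidueField Λ) p :=
    (RingHom.charP_iff (ResidueField.map f) (RingHom.injective _) p).mpr hp
  haveI : CharP (ResidueField Λ') p :=
    (RingHom.charP_iff (ResidueField.map g) (RingHom.injective _) p).mpr inferInstance
  obtain ⟨_, _, _, hm, hcase⟩ := data hΛ p
  obtain ⟨_, _, _, hm', hcase'⟩ := data hΛ' p
  obtain ⟨n, ρ, hρ⟩ := Lib.Cohen.Presentation.exists_surjective A f (IsLocalRing.map_maximalIdeal_le f) hfres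
  obtain ⟨m, γ, hγ, hmle⟩ := exists_surjective_min B g (IsLocalRing.map_maximalIdeal_le g) hgres
  let R := MvPowerSeries (Fin n) Λ
  let S := MvPowerSeries (Fin (n + m)) Λ'
  haveI hR := (Lib.Cohen.PSRegular.mvPowerSeries Λ n).1
  haveI hS := (Lib.Cohen.PSRegular.mvPowerSeries Λ' (n + m)).1
  haveI hT := (Lib.Cohen.PSRegular.mvPowerSeries Λ' m).1
  haveI : IsAdicComplete (maximalIdeal S) S := Lib.Cohen.CTensorReduced.isAdicComplete_ps Λ' (n + m)
  haveI : IsLocalHom ρ := IsLocalHom.of_surjective ρ hρ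
  haveI : IsLocalHom γ := IsLocalHom.of_surjective γ hγ
  have hXmem : ∀ {L : Type u} [CommRing L] [IsLocalRing L] {k : ℕ}
      [IsLocalRing (MvPowerSeries (Fin k) L)] (i : Fin k),
      (MvPowerSeries.X i : MvPowerSeries (Fin k) L) ∈ maximalIdeal (MvPowerSeries (Fin k) L) := by
    intro L _ _ k _ i
    rw [mem_maximalIdeal, mem_nonunits_iff, MvPowerSeries.isUnit_iff_constantCoeff]
    simp
  -- the coefficient map of the presentation of `A`
  let f₀ : Λ →+* A := ρ.comp (algebraMap Λ R)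
  let g₀ : Λ' →+* B := γ.comp (algebraMap Λ' (MvPowerSeries (Fin m) Λ'))
  letI : Algebra Λ' B := g₀.toAlgebra
  let γ' : MvPowerSeries (Fin m) Λ' →ₐ[Λ'] B := { γ with commutes' := fun _ => rfl }
  let b : Fin (n + m) → B :=
    Fin.append (fun i => algebraMap A B (ρ (MvPowerSeries.X i))) (fun j => γ (MvPowerSeries.X j))
  have hb : ∀ k, b k ∈ maximalIdeal B := fun k => by
    refine Fin.addCases (fun i => ?_) (fun j => ?_) k
    · simp only [b, Fin.append_left]
      exact map_nonunit (algebraMap A B) _ (map_nonunit ρ _ (hXmem i))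
    · simp only [b, Fin.append_right]
      exact map_nonunit γ _ (hXmem j)
  obtain ⟨σ, hσX⟩ := H24.PowerSeries.exists_hom (A := Λ') (σ := Fin (n + m)) (maximalIdeal B) b hb
  obtain ⟨j, hjX⟩ := H24.PowerSeries.exists_hom (A := Λ') (σ := Fin m) (R := S) (maximalIdeal S)
    (fun i => MvPowerSeries.X (Fin.natAdd n i)) (fun i => hXmem _)
  have hσj : σ.comp j = γ' := by
    refine H24.PowerSeries.hom_ext (maximalIdeal B) (fun i => ?_) (fun i => ?_)
    · rw [AlgHom.comp_apply, hjX, hσX]; exact hb _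
    · rw [AlgHom.comp_apply, hjX, hσX]
      simp only [b, Fin.append_right]
      rfl
  have hσ : Function.Surjective σ := fun y => by
    obtain ⟨z, rfl⟩ := hγ y
    exact ⟨j z, AlgHom.congr_fun hσj z⟩
  haveI : IsLocalHom σ.toRingHom := IsLocalHom.of_surjective _ hσ
  -- lift the coefficient map
  let K : Ideal S := RingHom.ker σ.toRingHom
  have hK : K ≠ ⊤ := RingHom.ker_ne_top _
  haveI : Nontrivial (S ⧸ K) := Ideal.Quotient.nontrivial_iff.mpr hK
  haveI : IsLocalRing (S ⧸ K) := IsLocalRing.of_surjective' _ Ideal.Quotient.mk_surjective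
  let e : S ⧸ K ≃+* B := RingHom.quotientKerEquivOfSurjective (f := σ.toRingHom) hσ
  let w : Λ →+* S ⧸ K := e.symm.toRingHom.comp ((algebraMap A B).comp f₀)
  haveI : IsLocalHom w := ⟨fun x hx => by
    have h1 := hx.map e
    rw [show e (w x) = algebraMap A B (f₀ x) from e.apply_symm_apply _] at h1
    have h2 := isUnit_of_map_unit (algebraMap A B) _ h1
    have h3 := isUnit_of_map_unit ρ _ h2
    rw [MvPowerSeries.isUnit_iff_constantCoeff, MvPowerSeries.algebraMap_apply] at h3
    simpa using h3⟩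
  obtain ⟨v, hv, hvw⟩ := CohenFS.exists_lift hΛ K hK w
  letI : Algebra Λ S := v.toAlgebra
  letI : Algebra Λ B := ((algebraMap A B).comp f₀).toAlgebra
  obtain ⟨τ, hτX⟩ := H24.PowerSeries.exists_hom (A := Λ) (σ := Fin n) (R := S) (maximalIdeal S)
    (fun i => MvPowerSeries.X (Fin.castAdd m i)) (fun i => hXmem _)
  have hσv : ∀ x : Λ, σ (v x) = algebraMap A B (f₀ x) := fun x => by
    have h1 := congrArg e (RingHom.congr_fun hvw x)
    rw [show e (w x) = algebraMap A B (f₀ x) from e.apply_symm_apply _] at h1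
    exact h1
  let σΛ : S →ₐ[Λ] B := { σ.toRingHom with commutes' := hσv }
  let ρΛ : R →ₐ[Λ] B := { (algebraMap A B).comp ρ with commutes' := fun _ => rfl }
  have hsq : σΛ.comp τ = ρΛ := by
    refine H24.PowerSeries.hom_ext (maximalIdeal B) (fun i => ?_) (fun i => ?_)
    · rw [AlgHom.comp_apply, hτX]
      show σ (MvPowerSeries.X (Fin.castAdd m i)) ∈ _
      rw [hσX]; exact hb _
    · rw [AlgHom.comp_apply, hτX]
      show σ (MvPowerSeries.X (Fin.castAdd m i)) = algebraMap A B (ρ (MvPowerSeries.X i))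
      rw [hσX]
      simp [b]
  -- the closed fibre
  letI : Algebra R S := τ.toRingHom.toAlgebra
  have hmR : (maximalIdeal R).map τ.toRingHom =
      Ideal.span {(p : S)} ⊔ Ideal.span (Set.range fun i : Fin n => (MvPowerSeries.X (Fin.castAdd m i) : S)) := by
    rw [Lib.Cohen.CTensorReduced.maximalIdeal_ps Λ n, Ideal.map_sup, Ideal.map_span, ← Set.range_comp,
      hm, Ideal.map_map, Ideal.map_span, Set.image_singleton, map_natCast, sup_comm]
    congr 3
    funext i
    exact hτX i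
  have hpS : (p : S) ∈ maximalIdeal S := by
    rw [Lib.Cohen.CTensorReduced.maximalIdeal_ps Λ' (n + m)]
    refine Ideal.mem_sup_right ?_
    rw [← map_natCast (MvPowerSeries.C (σ := Fin (n + m)) (R := Λ'))]
    exact Ideal.mem_map_of_mem _ (hm' ▸ Ideal.mem_span_singleton_self _)
  haveI hloc : IsLocalHom (algebraMap R S) := by
    refine ((local_hom_TFAE _).out 2 0).mp ?_
    rw [RingHom.algebraMap_toAlgebra, hmR]
    exact sup_le ((Ideal.span_singleton_le_iff_mem _).mpr hpS)
      (Ideal.span_le.mpr (Set.range_subset_iff.mpr fun i => hXmem _))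
  let s₀ : Finset S := if p = 0 then ∅ else {(p : S)}
  let s : Finset S := s₀ ∪ Finset.univ.image fun i : Fin n => (MvPowerSeries.X (Fin.castAdd m i) : S)
  let t : Finset S := Finset.univ.image fun i : Fin m => (MvPowerSeries.X (Fin.natAdd n i) : S)
  have hs₀ : Ideal.span (s₀ : Set S) = Ideal.span {(p : S)} := by
    by_cases h0 : p = 0 <;> simp [s₀, h0]
  have hs : Ideal.span (s : Set S) = (maximalIdeal R).map τ.toRingHom := by
    rw [hmR, Finset.coe_union, Ideal.span_union, hs₀, Finset.coe_image, Finset.coe_univ, Set.image_univ]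
  have hst : Ideal.span ((s ∪ t : Finset S) : Set S) = maximalIdeal S := by
    rw [Finset.coe_union, Ideal.span_union, hs, hmR, Finset.coe_image, Finset.coe_univ, Set.image_univ,
      Lib.Cohen.CTensorReduced.maximalIdeal_ps Λ' (n + m), hm', Ideal.map_span, Set.image_singleton,
      map_natCast, sup_assoc, ← Ideal.span_union, sup_comm]
    congr 2
    ext z
    simp only [Set.mem_union, Set.mem_range]
    constructor
    · rintro (⟨i, rfl⟩ | ⟨i, rfl⟩) <;> exact ⟨_, rfl⟩
    · rintro ⟨k, rfl⟩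
      induction k using Fin.addCases with
      | left i => exact Or.inl ⟨i, rfl⟩
      | right i => exact Or.inr ⟨i, rfl⟩
  have htc : t.card ≤ m := Finset.card_image_le.trans (by simp)
  let ε : ℕ := if p = 0 then 0 else 1
  have hdimΛ : ringKrullDim Λ = (ε : WithBot ℕ∞) := by
    rcases hcase with ⟨h0, -, h⟩ | ⟨h0, -, h⟩ <;> simp [ε, h0, h]
  have hdimΛ' : ringKrullDim Λ' = (ε : WithBot ℕ∞) := by
    rcases hcase' with ⟨h0, -, h⟩ | ⟨h0, -, h⟩ <;> simp [ε, h0, h]
  have hsc : s.card ≤ ε + n := by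
    refine (Finset.card_union_le _ _).trans (add_le_add ?_ (Finset.card_image_le.trans (by simp)))
    by_cases h0 : p = 0 <;> simp [s₀, ε, h0]
  obtain ⟨hFreg, hFdim, -⟩ := Lib.Regular.Quotient.quotient_of_gens s t hst (by
    rw [(Lib.Cohen.PSRegular.mvPowerSeries Λ' (n + m)).2, hdimΛ', ← Nat.cast_add, Nat.cast_le]
    omega)
  rw [hs] at hFreg hFdim
  haveI : IsRegularLocalRing (S ⧸ (maximalIdeal R).map (algebraMap R S)) := hFreg
  have hflat : Module.Flat R S := Lib.JacCrit.FlatRegular.flat (by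
    rw [RingHom.algebraMap_toAlgebra, hFdim, (Lib.Cohen.PSRegular.mvPowerSeries Λ n).2,
      (Lib.Cohen.PSRegular.mvPowerSeries Λ' (n + m)).2, hdimΛ, hdimΛ', ← Nat.cast_add, ← Nat.cast_add,
      ← Nat.cast_add, Nat.cast_le]
    omega)
  refine ⟨Λ, Λ', inferInstance, inferInstance, inferInstance, inferInstance, n, n + m, ρ, σ.toRingHom,
    τ.toRingHom, hΛ, hΛ', ?_, hR, hS, hρ, hσ, RingHom.ext fun x => AlgHom.congr_fun hsq x, hflat, hloc,
    hFreg, hFdim.le.trans (Nat.cast_le.mpr (htc.trans hmle))⟩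
  rcases hcase with ⟨h0, hF, -⟩ | ⟨h0, hC, -⟩
  · refine Or.inl ⟨?_, hF, ?_⟩
    · haveI : CharP (ResidueField A) 0 := h0 ▸ hp
      exact CharP.charP_to_charZero _
    · exact (hcase'.resolve_right fun h => h.1 h0).2.1
  · refine Or.inr ⟨fun hc => h0 ?_, hC, (hcase'.resolve_left fun h => h0 h.1).2.1⟩
    haveI := hc
    exact CharP.eq (ResidueField A) hp (CharP.ofCharZero _)

/-- A flat Cohen presentation (EGA / Stacks 07NQ). -/
theorem exists_presentation {A B : Type u} [CommRing A] [CommRing B] [IsLocalRing A] [IsLocalRing B]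
    [IsNoetherianRing A] [IsNoetherianRing B] [IsAdicComplete (maximalIdeal A) A]
    [IsAdicComplete (maximalIdeal B) B] [Algebra A B] [IsLocalHom (algebraMap A B)] :
    ∃ (Λ Λ' : Type u) (_ : CommRing Λ) (_ : CommRing Λ') (_ : IsLocalRing Λ) (_ : IsLocalRing Λ')
      (n m : ℕ) (ρ : MvPowerSeries (Fin n) Λ →+* A) (σ : MvPowerSeries (Fin m) Λ' →+* B)
      (τ : MvPowerSeries (Fin n) Λ →+* MvPowerSeries (Fin m) Λ'),
      EGA41.IsCohenRingEGA Λ ∧ EGA41.IsCohenRingEGA Λ' ∧
      ((CharZero (ResidueField A) ∧ IsField Λ ∧ IsField Λ') ∨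
        (¬ CharZero (ResidueField A) ∧ CAlg.IsCohenRing Λ ∧ CAlg.IsCohenRing Λ')) ∧
      IsRegularLocalRing (MvPowerSeries (Fin n) Λ) ∧ IsRegularLocalRing (MvPowerSeries (Fin m) Λ') ∧
        Function.Surjective ρ ∧ Function.Surjective σ ∧ σ.comp τ = (algebraMap A B).comp ρ ∧
        τ.Flat ∧ IsLocalHom τ ∧ IsRegularLocalRing (MvPowerSeries (Fin m) Λ' ⧸
          (maximalIdeal (MvPowerSeries (Fin n) Λ)).map τ) := by
  obtain ⟨Λ, Λ', i1, i2, i3, i4, n, m, ρ, σ, τ, h1, h2, h3, h4, h5, h6, h7, h8, h9, h10, h11, -⟩ :=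
    exists_presentation_min (A := A) (B := B)
  exact ⟨Λ, Λ', i1, i2, i3, i4, n, m, ρ, σ, τ, h1, h2, h3, h4, h5, h6, h7, h8, h9, h10, h11⟩

end Groth.Agent.H68.CohenLift
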