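import Mathlib.LinearAlgebra.Matrix.Rank
import Mathlib.LinearAlgebra.Matrix.ToLin
import Mathlib.LinearAlgebra.Dimension.Localization
import Mathlib.Algebra.GCDMonoid.Finset
import Mathlib.RingTheory.PrincipalIdealDomain
import Mathlib.Data.ZMod.QuotientGroup
import Mathlib.GroupTheory.Index
import Mathlib.Data.Int.NatAbs
import Mathlib.Tactic

set_option autoImplicit false

open Finset

namespace Groth.Agent.H68.CompLat

variable {n : ℕ}

theorem card_quot (K N : Submodule ℤ (Fin n → ℤ)) :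
    Nat.card (K ⧸ N.comap K.subtype) = N.toAddSubgroup.relIndex K.toAddSubgroup := rfl

abbrev Sm (n : ℕ) : (Fin n → ℤ) →ₗ[ℤ] ℤ := ∑ i : Fin n, (LinearMap.proj i : (Fin n → ℤ) →ₗ[ℤ] ℤ)

abbrev Dm (δ : Fin n → ℤ) : (Fin n → ℤ) →ₗ[ℤ] (Fin n → ℤ) :=
  Matrix.mulVecLin (Matrix.diagonal δ)

theorem Sm_apply (x : Fin n → ℤ) : Sm n x = ∑ i, x i := by simp [Sm]

theorem Dm_apply (δ : Fin n → ℤ) (x : Fin n → ℤ) (i : Fin n) : Dm δ x i = δ i * x i := by
  simp [Dm, Matrix.mulVec_diagonal]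

theorem Dm_injective (δ : Fin n → ℤ) (hδ : ∀ i, δ i ≠ 0) : Function.Injective (Dm δ) := by
  intro x y h
  funext i
  have := congrFun h i
  rw [Dm_apply, Dm_apply] at this
  exact mul_left_cancel₀ (hδ i) this

theorem index_range_Dm (δ : Fin n → ℤ) :
    (LinearMap.range (Dm δ)).toAddSubgroup.index = (∏ i, δ i).natAbs := by
  have : (LinearMap.range (Dm δ)).toAddSubgroup =
      AddSubgroup.pi Set.univ fun i => AddSubgroup.zmultiples (δ i) := by
    ext x
    simp only [Submodule.mem_toAddSubgroup, LinearMap.mem_range, AddSubgroup.mem_pi,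
      Set.mem_univ, true_implies, Int.mem_zmultiples_iff]
    refine ⟨fun ⟨y, hy⟩ i => ⟨y i, by rw [← hy, Dm_apply]⟩, fun h => ?_⟩
    choose y hy using h
    exact ⟨y, funext fun i => by rw [Dm_apply, hy]⟩
  rw [this, AddSubgroup.index_pi]
  simp only [Int.index_zmultiples]
  exact (map_prod Int.natAbsHom δ univ).symm

theorem gcd_nonneg' (δ : Fin n → ℤ) : 0 ≤ univ.gcd δ := by
  rw [← Finset.normalize_gcd, ← Int.abs_eq_normalize]; exact abs_nonneg _

theorem map_Sm (δ : Fin n → ℤ) :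
    AddSubgroup.map (Sm n).toAddMonoidHom (LinearMap.range (Dm δ)).toAddSubgroup =
      AddSubgroup.zmultiples (univ.gcd δ) := by
  ext z
  simp only [AddSubgroup.mem_map, Submodule.mem_toAddSubgroup, LinearMap.mem_range,
    Int.mem_zmultiples_iff, LinearMap.toAddMonoidHom_coe]
  constructor
  · rintro ⟨_, ⟨y, rfl⟩, rfl⟩
    rw [Sm_apply]
    refine Finset.dvd_sum fun i _ => ?_
    rw [Dm_apply]
    exact (Finset.gcd_dvd (mem_univ i)).mul_right _
  · rintro ⟨c, rfl⟩
    obtain ⟨g, hg⟩ := Finset.gcd_eq_sum_mul univ δ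
    refine ⟨_, ⟨fun i => g i * c, rfl⟩, ?_⟩
    rw [Sm_apply, hg, Finset.sum_mul]
    exact Finset.sum_congr rfl fun i _ => by rw [Dm_apply]; ring

theorem relIndex_ker (hn : 0 < n) (δ : Fin n → ℤ) :
    (univ.gcd δ) * ((LinearMap.range (Dm δ)).toAddSubgroup.relIndex (Sm n).toAddMonoidHom.ker : ℕ) =
      |∏ i, δ i| := by
  set M := (LinearMap.range (Dm δ)).toAddSubgroup with hM
  set L := (Sm n).toAddMonoidHom.ker with hL
  have hsurj : Function.Surjective (Sm n).toAddMonoidHom := by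
    intro z
    refine ⟨Pi.single ⟨0, hn⟩ z, ?_⟩
    rw [LinearMap.toAddMonoidHom_coe, Sm_apply, Finset.sum_pi_single']
    simp
  have h1 : (L ⊔ M).index = (univ.gcd δ).natAbs := by
    rw [sup_comm, hL, ← AddSubgroup.comap_map_eq, AddSubgroup.index_comap_of_surjective _ hsurj,
      hM, map_Sm, Int.index_zmultiples]
  have h2 : M.relIndex L * (univ.gcd δ).natAbs = (∏ i, δ i).natAbs := by
    rw [← h1, ← AddSubgroup.relIndex_sup_right (H := L) (K := M),
      AddSubgroup.relIndex_mul_index le_sup_right, hM, index_range_Dm]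
  rw [Int.abs_eq_natAbs, ← h2, Nat.cast_mul, Int.natAbs_of_nonneg (gcd_nonneg' δ)]
  ring

theorem main₁ (hn : 0 < n) (δ : Fin n → ℤ) (hδ : ∀ i, δ i ≠ 0)
    (f : (Fin n → ℤ) →ₗ[ℤ] (Fin n → ℤ)) (hf : Sm n ∘ₗ Dm δ ∘ₗ f = 0) :
    (Nat.card (LinearMap.ker (Sm n ∘ₗ Dm δ) ⧸
          (LinearMap.range f).comap (LinearMap.ker (Sm n ∘ₗ Dm δ)).subtype) : ℤ) * |∏ i, δ i| =
      (univ.gcd δ) * Nat.card (LinearMap.ker (Sm n) ⧸
        (LinearMap.range (Dm δ ∘ₗ f)).comap (LinearMap.ker (Sm n)).subtype) := by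
  rw [card_quot, card_quot, ← relIndex_ker hn δ]
  set K := (LinearMap.ker (Sm n ∘ₗ Dm δ)).toAddSubgroup with hK
  set D := (Dm δ).toAddMonoidHom with hD
  have hle : (LinearMap.range f).toAddSubgroup ≤ K := by
    rintro _ ⟨x, rfl⟩
    exact LinearMap.congr_fun hf x
  have hDK : AddSubgroup.map D K =
      (LinearMap.range (Dm δ)).toAddSubgroup ⊓ (Sm n).toAddMonoidHom.ker := by
    ext x
    constructor
    · rintro ⟨y, hy, rfl⟩
      exact ⟨⟨y, rfl⟩, hy⟩
    · rintro ⟨⟨y, rfl⟩, hy⟩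
      exact ⟨y, hy, rfl⟩
  have hmap : AddSubgroup.map D (LinearMap.range f).toAddSubgroup =
      (LinearMap.range (Dm δ ∘ₗ f)).toAddSubgroup := by
    rw [LinearMap.range_comp]
    rfl
  have h1 : AddSubgroup.relIndex (AddSubgroup.map D (LinearMap.range f).toAddSubgroup)
      (AddSubgroup.map D K) = (LinearMap.range f).toAddSubgroup.relIndex K :=
    AddSubgroup.relIndex_map_map_of_injective _ _ (Dm_injective δ hδ)
  have h2 := AddSubgroup.relIndex_mul_relIndex _ _ ((Sm n).toAddMonoidHom.ker)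
    (AddSubgroup.map_mono (f := D) hle) (hDK ▸ inf_le_right)
  rw [h1, hDK, AddSubgroup.inf_relIndex_right, hmap] at h2
  rw [show (LinearMap.ker (Sm n)).toAddSubgroup = (Sm n).toAddMonoidHom.ker from rfl, ← h2]
  push_cast
  ring

theorem ker_eq_zmultiples (A : Matrix (Fin n) (Fin n) ℤ) (hA : A.rank = n - 1) (hn : 0 < n)
    (v : Fin n → ℤ) (hv : v ∈ LinearMap.ker A.mulVecLin) (hgcd : ∃ c : Fin n → ℤ, ∑ i, c i * v i = 1) :
    (LinearMap.ker A.mulVecLin).toAddSubgroup = AddSubgroup.zmultiples v := by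
  obtain ⟨c, hc⟩ := hgcd
  refine le_antisymm (fun x hx => ?_) ((AddSubgroup.zmultiples_le).2 hv)
  have hrank : Module.finrank ℤ (LinearMap.ker A.mulVecLin) = 1 := by
    have h1 := Submodule.finrank_quotient_add_finrank (LinearMap.ker A.mulVecLin)
    rw [A.mulVecLin.quotKerEquivRange.finrank_eq, Module.finrank_fin_fun] at h1
    have h2 : Module.finrank ℤ (LinearMap.range A.mulVecLin) = n - 1 := hA
    omega
  have hdep : ¬ LinearIndependent ℤ (![⟨x, hx⟩, ⟨v, hv⟩] : Fin 2 → LinearMap.ker A.mulVecLin) := by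
    intro h
    have := h.fintype_card_le_finrank
    simp [hrank] at this
  rw [LinearIndependent.pair_iff] at hdep
  simp only [not_forall, not_and] at hdep
  obtain ⟨a, b, hab, hne⟩ := hdep
  have hab' : ∀ i, a * x i + b * v i = 0 := fun i => by
    have := congrArg (fun w : LinearMap.ker A.mulVecLin => (w : Fin n → ℤ) i) hab
    simpa using this
  have ha : a ≠ 0 := by
    intro ha
    refine hne ha ?_
    have : ∑ i, c i * (b * v i) = 0 := Finset.sum_eq_zero fun i _ => by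
      have := hab' i; rw [ha] at this; simp at this ⊢; exact Or.inr this
    calc b = b * ∑ i, c i * v i := by rw [hc, mul_one]
      _ = 0 := by rw [Finset.mul_sum]; rw [← this]; exact Finset.sum_congr rfl fun i _ => by ring
  refine ⟨∑ i, c i * x i, funext fun j => ?_⟩
  show (∑ i, c i * x i) • v j = x j
  rw [smul_eq_mul, Finset.sum_mul]
  calc ∑ i, c i * x i * v j = ∑ i, c i * v i * x j := Finset.sum_congr rfl fun i _ => by
        have : a * (x i * v j - v i * x j) = 0 := by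
          linear_combination v j * hab' i - v i * hab' j
        have := (mul_eq_zero.1 this).resolve_left ha
        linear_combination c i * this
    _ = x j := by rw [← Finset.sum_mul, hc, one_mul]

theorem main₂ (hn : 0 < n) (δ' : Fin n → ℤ) (hδ' : ∀ i, δ' i ≠ 0)
    (A : Matrix (Fin n) (Fin n) ℤ) (hA : A.rank = n - 1)
    (h0 : A.mulVecLin δ' = 0) :
    (univ.gcd δ') * ((LinearMap.range (A.mulVecLin ∘ₗ Dm δ')).toAddSubgroup.relIndex
      (LinearMap.range A.mulVecLin).toAddSubgroup : ℕ) = |∏ i, δ' i| := by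
  obtain ⟨v, hv, hv1⟩ := Finset.extract_gcd (s := univ) δ' ⟨⟨0, hn⟩, mem_univ _⟩
  obtain ⟨c, hc⟩ := Finset.gcd_eq_sum_mul univ v
  rw [hv1] at hc
  set d := univ.gcd δ' with hd
  have hd0 : d ≠ 0 := fun h => hδ' ⟨0, hn⟩ (by rw [hv _ (mem_univ _), h, zero_mul])
  have hv0 : v ∈ LinearMap.ker A.mulVecLin := by
    have e : δ' = d • v := funext fun i => by rw [hv i (mem_univ i)]; rfl
    rw [e, map_smul] at h0
    exact (smul_eq_zero.1 h0).resolve_left hd0
  have hker := ker_eq_zmultiples A hA hn v hv0 ⟨c, by rw [hc]; exact Finset.sum_congr rfl fun i _ => mul_comm _ _⟩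
  set M := (LinearMap.range (Dm δ')).toAddSubgroup with hM
  set N := (LinearMap.ker A.mulVecLin).toAddSubgroup with hN
  have h1 : (LinearMap.range (A.mulVecLin ∘ₗ Dm δ')).toAddSubgroup.relIndex
      (LinearMap.range A.mulVecLin).toAddSubgroup = (N ⊔ M).index := by
    have e1 : (LinearMap.range (A.mulVecLin ∘ₗ Dm δ')).toAddSubgroup =
        AddSubgroup.map A.mulVecLin.toAddMonoidHom M := by rw [LinearMap.range_comp]; rfl
    have e2 : (LinearMap.range A.mulVecLin).toAddSubgroup =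
        AddSubgroup.map A.mulVecLin.toAddMonoidHom ⊤ := by rw [← AddMonoidHom.range_eq_map]; rfl
    rw [e1, e2, ← AddSubgroup.relIndex_comap, AddSubgroup.relIndex_top_right,
      AddSubgroup.comap_map_eq, sup_comm]
    rfl
  have h2 : M.relIndex N = d.natAbs := by
    set φ : ℤ →+ (Fin n → ℤ) := zmultiplesHom (Fin n → ℤ) v with hφ
    have e : N = AddSubgroup.map φ ⊤ := by
      rw [hker, ← AddMonoidHom.range_eq_map, hφ, AddSubgroup.range_zmultiplesHom]
    rw [e, ← AddSubgroup.relIndex_comap, AddSubgroup.relIndex_top_right, ← Int.index_zmultiples]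
    congr 1
    ext z
    simp only [AddSubgroup.mem_comap, hM, Submodule.mem_toAddSubgroup, LinearMap.mem_range,
      Int.mem_zmultiples_iff, hφ, zmultiplesHom_apply]
    constructor
    · rintro ⟨y, hy⟩
      have hi : ∀ i, d ∣ z := fun i => by
        have := congrFun hy i
        rw [Dm_apply, hv i (mem_univ i)] at this
        refine ⟨y i, ?_⟩
        have hvi : v i ≠ 0 := fun h => hδ' i (by rw [hv i (mem_univ i), h, mul_zero])
        apply mul_right_cancel₀ hvi
        simp only [Pi.smul_apply, smul_eq_mul] at this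
        linear_combination -this
      exact hi ⟨0, hn⟩
    · rintro ⟨k, rfl⟩
      exact ⟨fun _ => k, funext fun i => by
        rw [Dm_apply, hv i (mem_univ i)]; simp; ring⟩
  have h3 : M.relIndex N * (N ⊔ M).index = (∏ i, δ' i).natAbs := by
    rw [← AddSubgroup.relIndex_sup_right (H := N) (K := M),
      AddSubgroup.relIndex_mul_index le_sup_right, hM, index_range_Dm]
  rw [h1, Int.abs_eq_natAbs, ← h3, h2, Nat.cast_mul, Int.natAbs_of_nonneg (gcd_nonneg' δ')]

theorem main₃ (hn : 0 < n) (δ δ' : Fin n → ℤ) (hδ : ∀ i, δ i ≠ 0) (hδ' : ∀ i, δ' i ≠ 0)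
    (A : Matrix (Fin n) (Fin n) ℤ) (hA : A.rank = n - 1)
    (hSDA : Sm n ∘ₗ Dm δ ∘ₗ A.mulVecLin = 0)
    (hADΔ : A.mulVecLin ∘ₗ Dm δ' ∘ₗ
        (LinearMap.pi fun _ : Fin n => (LinearMap.id : ℤ →ₗ[ℤ] ℤ)) = 0) :
    (Nat.card (LinearMap.ker (Sm n ∘ₗ Dm δ) ⧸
          (LinearMap.range A.mulVecLin).comap (LinearMap.ker (Sm n ∘ₗ Dm δ)).subtype) : ℤ) *
        |∏ i, δ i| * |∏ i, δ' i| =
      (univ.gcd δ) * (univ.gcd δ') * Nat.card (LinearMap.ker (Sm n) ⧸
        (LinearMap.range (Dm δ ∘ₗ A.mulVecLin ∘ₗ Dm δ')).comap (LinearMap.ker (Sm n)).subtype) := by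
  have h0 : A.mulVecLin δ' = 0 := by
    have := LinearMap.congr_fun hADΔ 1
    simp only [LinearMap.coe_comp, Function.comp_apply, LinearMap.zero_apply] at this
    convert! this using 2
    funext i
    rw [Dm_apply]; simp
  rw [main₁ hn δ hδ A.mulVecLin hSDA, card_quot, card_quot]
  have hinj := Dm_injective δ hδ
  have h1 : AddSubgroup.relIndex
      (AddSubgroup.map (Dm δ).toAddMonoidHom (LinearMap.range (A.mulVecLin ∘ₗ Dm δ')).toAddSubgroup)
      (AddSubgroup.map (Dm δ).toAddMonoidHom (LinearMap.range A.mulVecLin).toAddSubgroup) =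
      (LinearMap.range (A.mulVecLin ∘ₗ Dm δ')).toAddSubgroup.relIndex
        (LinearMap.range A.mulVecLin).toAddSubgroup :=
    AddSubgroup.relIndex_map_map_of_injective _ _ hinj
  have e1 : AddSubgroup.map (Dm δ).toAddMonoidHom (LinearMap.range (A.mulVecLin ∘ₗ Dm δ')).toAddSubgroup =
      (LinearMap.range (Dm δ ∘ₗ A.mulVecLin ∘ₗ Dm δ')).toAddSubgroup := by
    rw [LinearMap.range_comp (A.mulVecLin ∘ₗ Dm δ') (Dm δ)]; rfl
  have e2 : AddSubgroup.map (Dm δ).toAddMonoidHom (LinearMap.range A.mulVecLin).toAddSubgroup =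
      (LinearMap.range (Dm δ ∘ₗ A.mulVecLin)).toAddSubgroup := by
    rw [LinearMap.range_comp A.mulVecLin (Dm δ)]; rfl
  rw [e1, e2] at h1
  have h2 := AddSubgroup.relIndex_mul_relIndex
    (LinearMap.range (Dm δ ∘ₗ A.mulVecLin ∘ₗ Dm δ')).toAddSubgroup
    (LinearMap.range (Dm δ ∘ₗ A.mulVecLin)).toAddSubgroup
    (LinearMap.ker (Sm n)).toAddSubgroup
    (by rintro _ ⟨x, rfl⟩; exact ⟨Dm δ' x, rfl⟩)
    (by rintro _ ⟨x, rfl⟩; exact LinearMap.congr_fun hSDA x)
  rw [h1] at h2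
  rw [← h2, Nat.cast_mul, ← main₂ hn δ' hδ' A hA h0]
  ring

end Groth.Agent.H68.CompLat
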