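import Groth.Prelude.Def_W4c3cyccovratcurvTree
import Mathlib

/-!
Conic deformations connect all marked trees on a given number of vertices.
-/

set_option autoImplicit false

open W4c3cyccovratcurv

namespace Groth.Agent.H68.ConicTree

variable {k : ℕ}

lemma adj_symm {T₁ T₂ : MarkedTree k} (h : ConicAdj T₁ T₂) : ConicAdj T₂ T₁ := by
  obtain ⟨u₁, w₁, u₂, w₂, h₁, h₂, φ, hu, hm⟩ := h
  refine ⟨u₂, w₂, u₁, w₁, h₂, h₁, φ.symm, ?_, fun i => ?_⟩
  · rw [← hu, RelIso.symm_apply_apply]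
  · rw [← hm i, RelIso.symm_apply_apply]

/-- Two trees with the same contraction along the same edge are one step apart. -/
lemma adj_of_contract_eq {n : ℕ} (G G' : SimpleGraph (Fin n)) (hG : G.IsTree) (hG' : G'.IsTree)
    (m m' : Fin k → Fin n) (u w : Fin n) (h : G.Adj u w) (h' : G'.Adj u w)
    (hc : contract G u w = contract G' u w) (hm : ∀ i, contractMark m u w h.ne i = contractMark m' u w h.ne i) :
    ConicAdj ⟨n, G, hG, m⟩ ⟨n, G', hG', m'⟩ :=
  ⟨u, w, u, w, h, h', { toEquiv := Equiv.refl _, map_rel_iff' := by intro a b; exact iff_of_eq (congrArg (fun H : SimpleGraph _ => H.Adj a b) hc.symm) },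
    rfl, hm⟩

/-- Moving one neighbour of `w` over to `u`. -/
def slide {n : ℕ} (G : SimpleGraph (Fin n)) (u w x : Fin n) : SimpleGraph (Fin n) :=
  G.deleteEdges {s(w, x)} ⊔ SimpleGraph.edge u x

lemma slide_adj {n : ℕ} (G : SimpleGraph (Fin n)) (u w x a b : Fin n) : (slide G u w x).Adj a b ↔
    (G.Adj a b ∧ ¬ ((a = w ∧ b = x) ∨ (a = x ∧ b = w))) ∨ (((a = u ∧ b = x) ∨ (a = x ∧ b = u)) ∧ a ≠ b) := by
  simp [slide, SimpleGraph.edge_adj, eq_comm]
  tauto

lemma slide_isTree {n : ℕ} {G : SimpleGraph (Fin n)} (hG : G.IsTree) {u w x : Fin n} (huw : G.Adj u w)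
    (hwx : G.Adj w x) (hxu : x ≠ u) : (slide G u w x).IsTree := by
  have huw' : (G.deleteEdges {s(w, x)}).Adj u w := by
    simp [huw, hxu.symm, huw.ne]
  have hnr : ¬ (G.deleteEdges {s(w, x)}).Reachable u x := fun hr => by
    have hb : G.IsBridge s(w, x) := SimpleGraph.isAcyclic_iff_forall_adj_isBridge.mp hG.IsAcyclic hwx
    exact SimpleGraph.isBridge_iff.mp hb (huw'.symm.reachable.trans hr)
  refine ⟨?_, (hG.IsAcyclic.anti (SimpleGraph.deleteEdges_le _)).sup_edge_of_not_reachable hnr⟩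
  have : Nonempty (Fin n) := ⟨u⟩
  refine ⟨fun a b => ?_⟩
  have hstep : ∀ a b, G.Adj a b → (slide G u w x).Reachable a b := by
    intro a b hab
    have hux : (slide G u w x).Adj u x := by simp [slide_adj, hxu.symm]
    have hwu : (slide G u w x).Adj w u := by
      rw [slide_adj]; left
      exact ⟨huw.symm, by rintro (⟨-, rfl⟩ | ⟨rfl, -⟩) <;> [exact hxu rfl; exact hwx.ne rfl]⟩
    by_cases h : (a = w ∧ b = x) ∨ (a = x ∧ b = w)
    · rcases h with ⟨rfl, rfl⟩ | ⟨rfl, rfl⟩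
      · exact hwu.reachable.trans hux.reachable
      · exact hux.symm.reachable.trans hwu.symm.reachable
    · exact ((slide_adj G u w x a b).mpr (Or.inl ⟨hab, h⟩)).reachable
  obtain ⟨p⟩ := hG.isConnected.preconnected a b
  induction p with
  | nil => rfl
  | cons h p ih => exact (hstep _ _ h).trans ih

lemma contract_slide {n : ℕ} {G : SimpleGraph (Fin n)} {u w x : Fin n} (huw : G.Adj u w) (hwx : G.Adj w x)
    (hxu : x ≠ u) : contract G u w = contract (slide G u w x) u w := by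
  ext ⟨a, ha⟩ ⟨b, hb⟩
  simp only [contract, SimpleGraph.fromRel_adj, slide_adj, ne_eq, Subtype.mk.injEq]
  constructor
  · rintro ⟨hne, h⟩
    refine ⟨hne, ?_⟩
    rcases h with (h | ⟨rfl, h⟩) | (h | ⟨rfl, h⟩)
    · exact Or.inl (Or.inl (Or.inl ⟨h, by tauto⟩))
    · by_cases hbx : b = x
      · exact Or.inl (Or.inl (Or.inr ⟨Or.inl ⟨rfl, hbx⟩, hne⟩))
      · exact Or.inl (Or.inr ⟨rfl, Or.inl ⟨h, by tauto⟩⟩)
    · exact Or.inr (Or.inl (Or.inl ⟨h, by tauto⟩))
    · by_cases hax : a = x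
      · exact Or.inl (Or.inl (Or.inr ⟨Or.inr ⟨hax, rfl⟩, hne⟩))
      · exact Or.inr (Or.inr ⟨rfl, Or.inl ⟨h, by tauto⟩⟩)
  · rintro ⟨hne, h⟩
    refine ⟨hne, ?_⟩
    rcases h with ((⟨h, -⟩ | ⟨⟨rfl, rfl⟩ | ⟨rfl, rfl⟩, -⟩) | ⟨rfl, ⟨h, -⟩ | ⟨h, -⟩⟩) |
      ((⟨h, -⟩ | ⟨⟨rfl, rfl⟩ | ⟨rfl, rfl⟩, -⟩) | ⟨rfl, ⟨h, -⟩ | ⟨h, -⟩⟩)
    · exact Or.inl (Or.inl h)
    · exact Or.inl (Or.inr ⟨rfl, hwx⟩)
    · exact Or.inr (Or.inr ⟨rfl, hwx⟩)
    · exact Or.inl (Or.inr ⟨rfl, h⟩)
    · rcases h with ⟨h1, -⟩ | ⟨h1, -⟩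
      · exact absurd h1.symm huw.ne
      · exact absurd h1 hwx.ne
    · exact Or.inr (Or.inl h)
    · exact Or.inr (Or.inr ⟨rfl, hwx⟩)
    · exact Or.inl (Or.inr ⟨rfl, hwx⟩)
    · exact Or.inr (Or.inr ⟨rfl, h⟩)
    · rcases h with ⟨h1, -⟩ | ⟨h1, -⟩
      · exact absurd h1.symm huw.ne
      · exact absurd h1 hwx.ne

open Classical in
/-- The distance to the star centred at `r`. -/
noncomputable def excess {n : ℕ} (G : SimpleGraph (Fin n)) (m : Fin k → Fin n) (r : Fin n) : ℕ :=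
  (Finset.univ.filter fun x => x ≠ r ∧ ¬ G.Adj r x).card + (Finset.univ.filter fun i => m i ≠ r).card

lemma step {n : ℕ} (G : SimpleGraph (Fin n)) (hG : G.IsTree) (m : Fin k → Fin n) (r : Fin n)
    (hpos : 0 < excess G m r) :
    ∃ (G' : SimpleGraph (Fin n)) (hG' : G'.IsTree) (m' : Fin k → Fin n),
      excess G' m' r < excess G m r ∧ ConicAdj ⟨n, G, hG, m⟩ ⟨n, G', hG', m'⟩ := by
  classical
  by_cases hstar : ∃ x, x ≠ r ∧ ¬ G.Adj r x
  · obtain ⟨x, hxr, hx⟩ := hstar
    obtain ⟨p⟩ := hG.isConnected.preconnected r x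
    obtain ⟨d, -, h1, h2⟩ := p.exists_boundary_dart {v | v = r ∨ G.Adj r v} (Or.inl rfl) (by simp [hxr, hx])
    simp only [Set.mem_setOf_eq, not_or] at h1 h2
    have hrw : G.Adj r d.fst := h1.resolve_left fun h => h2.2 (h ▸ d.adj)
    have ht := slide_isTree hG hrw d.adj h2.1
    have hrw' : (slide G r d.fst d.snd).Adj r d.fst := by
      rw [slide_adj]; left
      refine ⟨hrw, ?_⟩
      rintro (⟨h, -⟩ | ⟨h, -⟩)
      · exact hrw.ne h
      · exact h2.1 h.symm
    refine ⟨_, ht, m, ?_, adj_of_contract_eq G _ hG ht m m r d.fst hrw hrw' (contract_slide hrw d.adj h2.1) fun _ => rfl⟩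
    unfold excess
    refine Nat.add_lt_add_right (Finset.card_lt_card ?_) _
    rw [Finset.ssubset_iff_of_subset]
    · refine ⟨d.snd, by simp [h2.1, h2.2], ?_⟩
      simp [slide_adj, Ne.symm h2.1]
    · intro y hy
      simp only [Finset.mem_filter, Finset.mem_univ, true_and, slide_adj] at hy ⊢
      refine ⟨hy.1, fun h => hy.2 (Or.inl ⟨h, ?_⟩)⟩
      rintro (⟨h', -⟩ | ⟨h', -⟩)
      · exact hrw.ne h'
      · exact h2.1 h'.symm
  · push Not at hstar
    have hz : (Finset.univ.filter fun x => x ≠ r ∧ ¬ G.Adj r x) = ∅ :=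
      Finset.filter_eq_empty_iff.mpr fun x _ h => h.2 (hstar x h.1)
    unfold excess at hpos
    rw [hz, Finset.card_empty, zero_add, Finset.card_pos] at hpos
    obtain ⟨i, hi⟩ := hpos
    simp only [Finset.mem_filter, Finset.mem_univ, true_and] at hi
    have hrw := hstar (m i) hi
    refine ⟨G, hG, fun j => if m j = m i then r else m j, ?_,
      adj_of_contract_eq G G hG hG m _ r (m i) hrw hrw rfl fun j => ?_⟩
    · unfold excess
      refine Nat.add_lt_add_left (Finset.card_lt_card ?_) _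
      rw [Finset.ssubset_iff_of_subset]
      · exact ⟨i, by simp [hi], by simp⟩
      · intro j hj
        simp only [Finset.mem_filter, Finset.mem_univ, true_and] at hj ⊢
        by_cases hji : m j = m i
        · rw [if_pos hji] at hj; exact absurd rfl hj
        · rwa [if_neg hji] at hj
    · unfold contractMark
      by_cases hji : m j = m i
      · simp [hji, hrw.ne]
      · simp [hji]

lemma reach_star {n : ℕ} (r : Fin n) : ∀ (e : ℕ) (G : SimpleGraph (Fin n)) (hG : G.IsTree) (m : Fin k → Fin n),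
    excess G m r = e → ∃ (G' : SimpleGraph (Fin n)) (hG' : G'.IsTree),
      (∀ x, x ≠ r → G'.Adj r x) ∧ Relation.ReflTransGen ConicAdj ⟨n, G, hG, m⟩ ⟨n, G', hG', fun _ => r⟩ := by
  classical
  intro e
  induction e using Nat.strong_induction_on with
  | _ e ih =>
    intro G hG m he
    rcases Nat.eq_zero_or_pos e with rfl | hpos
    · unfold excess at he
      simp only [Nat.add_eq_zero_iff, Finset.card_eq_zero, Finset.filter_eq_empty_iff, Finset.mem_univ, true_implies,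
        not_and, not_not] at he
      have : m = fun _ => r := funext fun i => he.2 (x := i)
      subst this
      exact ⟨G, hG, fun x hx => he.1 hx, Relation.ReflTransGen.refl⟩
    · obtain ⟨G', hG', m', hlt, hadj⟩ := step G hG m r (he ▸ hpos)
      obtain ⟨G'', hG'', hs, hr⟩ := ih _ (he ▸ hlt) G' hG' m' rfl
      exact ⟨G'', hG'', hs, (Relation.ReflTransGen.single hadj).trans hr⟩

lemma star_unique {n : ℕ} (r : Fin n) {G G' : SimpleGraph (Fin n)} (hG : G.IsTree) (hG' : G'.IsTree)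
    (h : ∀ x, x ≠ r → G.Adj r x) (h' : ∀ x, x ≠ r → G'.Adj r x) : G = G' := by
  have key : ∀ {H : SimpleGraph (Fin n)}, H.IsTree → (∀ x, x ≠ r → H.Adj r x) →
      ∀ a b, H.Adj a b ↔ a ≠ b ∧ (a = r ∨ b = r) := by
    intro H hH hr a b
    refine ⟨fun hab => ⟨hab.ne, ?_⟩, ?_⟩
    · by_contra hcon
      push Not at hcon
      have hra := hr a hcon.1
      have hrb := hr b hcon.2
      let p : H.Walk a b := .cons hra.symm (.cons hrb .nil)
      let q : H.Walk a b := .cons hab .nil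
      have hp : p.IsPath := by simp [p, hcon.1, hcon.2.symm, hab.ne]
      have hq : q.IsPath := by simp [q, hab.ne]
      have := congrArg SimpleGraph.Walk.length ((hH.existsUnique_path a b).unique hp hq)
      simp [p, q] at this
    · rintro ⟨hne, rfl | rfl⟩
      · exact hr b hne.symm
      · exact (hr a hne).symm
  ext a b
  rw [key hG h, key hG' h']

lemma rtg_symm {T₁ T₂ : MarkedTree k} (h : Relation.ReflTransGen ConicAdj T₁ T₂) :
    Relation.ReflTransGen ConicAdj T₂ T₁ := by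
  induction h with
  | refl => exact Relation.ReflTransGen.refl
  | tail _ h ih => exact (Relation.ReflTransGen.single (adj_symm h)).trans ih

theorem reflTransGen (T₁ T₂ : MarkedTree k) (h : T₁.n = T₂.n) : Relation.ReflTransGen ConicAdj T₁ T₂ := by
  obtain ⟨n, G₁, hG₁, m₁⟩ := T₁
  obtain ⟨n₂, G₂, hG₂, m₂⟩ := T₂
  dsimp only at h
  subst h
  obtain ⟨r⟩ := hG₁.isConnected.nonempty
  obtain ⟨A, hA, hA', h₁⟩ := reach_star r _ G₁ hG₁ m₁ rfl
  obtain ⟨B, hB, hB', h₂⟩ := reach_star r _ G₂ hG₂ m₂ rfl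
  obtain rfl := star_unique r hA hB hA' hB'
  exact h₁.trans (rtg_symm h₂)

end Groth.Agent.H68.ConicTree
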