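import Groth.Agent.Lib.Cohen.GenRegInsep
import Groth.Agent.Lib.Regular.Indep
import Mathlib.LinearAlgebra.Matrix.NonsingularInverse
import Mathlib.RingTheory.Derivation.MapCoeffs

/-!
# Regularity of quotients through derivations
-/

set_option autoImplicit false
set_option linter.style.haveILetI false

universe u

open IsLocalRing

namespace Groth.Agent.H68.DerivRegular

/-- `R / (f)` is regular where a derivation does not kill `f`. -/
theorem isRegularRing_quotient (R : Type u) [CommRing R] [IsRegularRing R] (f : R) (D : Derivation ℤ R R)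
    (hD : IsUnit (Ideal.Quotient.mk (Ideal.span {f}) (D f))) : IsRegularRing (R ⧸ Ideal.span {f}) := by
  let J : Ideal R := Ideal.span {f}
  refine isRegularRing_iff.mpr fun Q hQ => ?_
  let P : Ideal R := Q.comap (Ideal.Quotient.mk J)
  haveI : P.IsPrime := Ideal.IsPrime.comap _
  have hDP : D f ∉ P := fun h => hQ.ne_top (Ideal.eq_top_of_isUnit_mem _ h hD)
  have hfP : f ∈ P := by
    show Ideal.Quotient.mk J f ∈ Q
    rw [Ideal.Quotient.eq_zero_iff_mem.mpr (Ideal.mem_span_singleton_self f)]
    exact zero_mem _
  let T := Localization.AtPrime P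
  haveI : IsRegularLocalRing T := IsRegularRing.isRegularLocalRing_localization P
  have hsq : ∀ x ∈ P ^ 2, D x ∈ P := by
    intro x hx
    rw [pow_two] at hx
    refine Submodule.mul_induction_on hx (fun a ha b hb => ?_) fun a b ha hb => ?_
    · rw [Derivation.leibniz, smul_eq_mul, smul_eq_mul]
      exact add_mem (Ideal.mul_mem_right _ _ ha) (Ideal.mul_mem_right _ _ hb)
    · rw [map_add]; exact add_mem ha hb
  have hf2 : algebraMap R T f ∉ maximalIdeal T ^ 2 := by
    intro h2
    rw [← Localization.AtPrime.map_eq_maximalIdeal, ← Ideal.map_pow,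
      IsLocalization.algebraMap_mem_map_algebraMap_iff P.primeCompl] at h2
    obtain ⟨s, hs, hsf⟩ := h2
    have h1 := hsq _ hsf
    rw [Derivation.leibniz, smul_eq_mul, smul_eq_mul] at h1
    have h3 : s * D f ∈ P := (Ideal.add_mem_iff_left _ (Ideal.mul_mem_right _ _ hfP)).1 h1
    exact (Ideal.IsPrime.mem_or_mem inferInstance h3).elim hs hDP
  have hfm : algebraMap R T f ∈ maximalIdeal T :=
    (IsLocalization.AtPrime.to_map_mem_maximal_iff T P f).2 hfP
  haveI := Lib.Cohen.GenRegInsep.quotient_singleton hfm hf2
  have hJ : J.map (algebraMap R T) = Ideal.span {algebraMap R T f} := by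
    rw [Ideal.map_span, Set.image_singleton]
  haveI : IsRegularLocalRing (T ⧸ J.map (algebraMap R T)) :=
    IsRegularLocalRing.of_ringEquiv (R := T ⧸ Ideal.span {algebraMap R T f}) (Ideal.quotEquivOfEq hJ.symm)
  have hM : Algebra.algebraMapSubmonoid (R ⧸ J) P.primeCompl = Q.primeCompl := by
    ext z
    constructor
    · rintro ⟨y, hy, rfl⟩; exact hy
    · intro hz
      obtain ⟨y, rfl⟩ := Ideal.Quotient.mk_surjective z
      exact ⟨y, hz, rfl⟩
  haveI hL : IsLocalization (Algebra.algebraMapSubmonoid (R ⧸ J) P.primeCompl)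
      (T ⧸ J.map (algebraMap R T)) := inferInstance
  rw [hM] at hL
  haveI : IsLocalization Q.primeCompl (T ⧸ J.map (algebraMap R T)) := hL
  exact IsRegularLocalRing.of_ringEquiv (R := T ⧸ J.map (algebraMap R T))
    (IsLocalization.algEquiv Q.primeCompl (T ⧸ J.map (algebraMap R T)) (Localization.AtPrime Q)).toRingEquiv

/-- The coefficientwise derivation of a polynomial ring. -/
noncomputable def coeffsDeriv {R : Type u} [CommRing R] (D : Derivation ℤ R R) :
    Derivation ℤ (Polynomial R) (Polynomial R) :=
  (PolynomialModule.equivPolynomialSelf (R := R)).toLinearMap.compDer D.mapCoeffs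

/-- `R[z] / (q(z) - f)` is regular. -/
theorem isRegularRing_polynomial_quotient (R : Type u) [CommRing R] [IsRegularRing R] (f : R)
    (D : Derivation ℤ R R) (hD : IsUnit (D f)) (q : Polynomial ℤ) :
    IsRegularRing (Polynomial R ⧸
      Ideal.span ({Polynomial.map (Int.castRingHom R) q - Polynomial.C f} : Set (Polynomial R))) := by
  refine isRegularRing_quotient (Polynomial R) _ (coeffsDeriv D) ?_
  have h : coeffsDeriv D (Polynomial.map (Int.castRingHom R) q - Polynomial.C f) = Polynomial.C (-D f) := by
    ext n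
    change D ((Polynomial.map (Int.castRingHom R) q - Polynomial.C f).coeff n) = _
    rw [Polynomial.coeff_sub, map_sub, Polynomial.coeff_map, eq_intCast, Derivation.map_intCast, zero_sub,
      Polynomial.coeff_C, Polynomial.coeff_C]
    split <;> simp
  exact (congrArg (fun z => IsUnit (Ideal.Quotient.mk (Ideal.span {Polynomial.map (Int.castRingHom R) q -
    Polynomial.C f}) z)) h).mpr (((hD.neg).map Polynomial.C).map _)

/-- Independence of cotangent classes from an invertible Jacobian matrix. -/
theorem linearIndependent_of_det (R : Type u) [CommRing R] [IsLocalRing R] (m : ℕ) (f : Fin m → R)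
    (hf : ∀ i, f i ∈ maximalIdeal R) (D : Fin m → Derivation ℤ R R)
    (hdet : IsUnit (Matrix.det (Matrix.of (fun i j : Fin m => D i (f j))))) :
    LinearIndependent (ResidueField R)
      (fun i => (maximalIdeal R).toCotangent ⟨f i, hf i⟩) := by
  rw [Fintype.linearIndependent_iff]
  intro g hg i
  choose c hc using fun i => residue_surjective (g i)
  have hsum : (∑ i, c i * f i) ∈ maximalIdeal R ^ 2 := by
    have h1 : (maximalIdeal R).toCotangent (∑ i, c i • ⟨f i, hf i⟩) = 0 := by
      rw [map_sum, ← hg]
      refine Finset.sum_congr rfl fun i _ => ?_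
      rw [map_smul, ← hc i]
      rfl
    have h2 := (Ideal.toCotangent_eq_zero _ _).mp h1
    simpa [Submodule.coe_sum] using h2
  have hsq : ∀ (E : Derivation ℤ R R), ∀ x ∈ maximalIdeal R ^ 2, E x ∈ maximalIdeal R := by
    intro E x hx
    rw [pow_two] at hx
    refine Submodule.mul_induction_on hx (fun a ha b hb => ?_) fun a b ha hb => ?_
    · rw [Derivation.leibniz, smul_eq_mul, smul_eq_mul]
      exact add_mem (Ideal.mul_mem_right _ _ ha) (Ideal.mul_mem_right _ _ hb)
    · rw [map_add]; exact add_mem ha hb
  let M : Matrix (Fin m) (Fin m) (ResidueField R) :=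
    (residue R).mapMatrix (Matrix.of (fun i j : Fin m => D i (f j)))
  have hM : M.mulVec g = 0 := by
    funext l
    have h1 := hsq (D l) _ hsum
    rw [map_sum] at h1
    have h2 : residue R (∑ i, D l (c i * f i)) = 0 := (residue_eq_zero_iff _).mpr h1
    rw [map_sum] at h2
    rw [Pi.zero_apply, ← h2]
    show ∑ i, residue R (D l (f i)) * g i = ∑ i, residue R (D l (c i * f i))
    refine Finset.sum_congr rfl fun i _ => ?_
    rw [Derivation.leibniz, smul_eq_mul, smul_eq_mul, map_add, map_mul, map_mul,
      (residue_eq_zero_iff _).mpr (hf i), zero_mul, add_zero, hc i, mul_comm]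
  have hMdet : IsUnit M.det := by
    rw [show M.det = residue R (Matrix.det (Matrix.of (fun i j : Fin m => D i (f j)))) from
      (RingHom.map_det _ _).symm]
    exact hdet.map _
  have hinj := (Matrix.mulVec_injective_iff_isUnit.mpr ((Matrix.isUnit_iff_isUnit_det M).mpr hMdet))
  exact congrFun (hinj (hM.trans (Matrix.mulVec_zero M).symm)) i

/-- An invertible Jacobian: regular quotient by a regular sequence. -/
theorem quotient_of_det (R : Type u) [CommRing R] [IsRegularLocalRing R] (m : ℕ) (f : Fin m → R)
    (hf : ∀ i, f i ∈ maximalIdeal R) (D : Fin m → Derivation ℤ R R)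
    (hdet : IsUnit (Matrix.det (Matrix.of (fun i j : Fin m => D i (f j))))) :
    IsRegularLocalRing (R ⧸ Ideal.span (Set.range f)) ∧
      RingTheory.Sequence.IsRegular R (List.ofFn f) := by
  classical
  have hli := linearIndependent_of_det R m f hf D hdet
  refine ⟨(Lib.Regular.Indep.quotient_of_indep (fun i => ⟨f i, hf i⟩) hli).1, ?_⟩
  obtain ⟨t, ht, hc⟩ := Lib.Regular.Indep.exists_gens_extend (fun i => ⟨f i, hf i⟩) hli
  have hreg := Lib.Regular.Quotient.isRegular_of_span_eq_maximalIdeal (List.ofFn f ++ t.toList) ?_ ?_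
  · refine ⟨((RingTheory.Sequence.isWeaklyRegular_append_iff R _ _).mp hreg.toIsWeaklyRegular).1, ?_⟩
    intro h
    rw [smul_eq_mul, Ideal.mul_top] at h
    refine (maximalIdeal.isMaximal R).ne_top (top_le_iff.mp (h.le.trans ?_))
    rw [Ideal.ofList, Ideal.span_le]
    intro x hx
    obtain ⟨i, rfl⟩ := List.mem_ofFn.mp hx
    exact hf i
  · rw [← ht, Ideal.ofList]
    congr 1
    ext x
    simp only [List.mem_append, List.mem_ofFn, Finset.mem_toList, Finset.coe_union, Finset.coe_image,
      Finset.coe_univ, Set.image_univ, Set.mem_union, Set.mem_range, Finset.mem_coe]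
    rfl
  · rw [List.length_append, List.length_ofFn, Finset.length_toList, hc]

end Groth.Agent.H68.DerivRegular
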