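import Mathlib.Algebra.BigOperators.Intervals
import Mathlib.Data.Nat.GCD.Basic
import Mathlib.Tactic
import Groth.Prelude.Def_W4c5stcicurvesp3Euclid

set_option autoImplicit false

open Finset W4c5stcicurvesp3

namespace Groth.Agent.H68.Euclid

theorem irem_shift (N k : ℕ) (h : N % k ≠ 0) : ∀ n, irem N k (n + 1) = irem k (N % k) n := by
  intro n
  induction n using Nat.strong_induction_on with
  | _ n ih =>
    match n, ih with
    | 0, _ => simp [irem]
    | 1, _ => simp [irem, h]
    | n + 2, ih =>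
      rw [irem, ih (n + 1) (by omega), ih n (by omega), irem.eq_3]

theorem idiv_shift (N k : ℕ) (h : N % k ≠ 0) : ∀ n, idiv N k (n + 2) = idiv k (N % k) (n + 1) := by
  intro n
  match n with
  | 0 => simp [idiv, irem, h]
  | n + 1 => rw [idiv, irem_shift N k h (n + 1), irem_shift N k h n, idiv.eq_3]

theorem sum_idiv_mul_gcd : ∀ t k N : ℕ, 0 < k → k ≤ N → 0 < t → irem N k t = 0 →
    (∀ i, 0 < i → i < t → irem N k i ≠ 0) →
    (∑ i ∈ Finset.Icc 1 t, idiv N k i) * Nat.gcd k N ≤ N := by
  intro t
  induction t with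
  | zero => intro k N _ _ h; omega
  | succ t ih =>
    intro k N hk hkN _ hzero hmin
    rcases Nat.eq_zero_or_pos t with rfl | ht
    · simp only [zero_add, Finset.Icc_self, Finset.sum_singleton, idiv]
      calc N / k * Nat.gcd k N ≤ N / k * k := Nat.mul_le_mul_left _ (Nat.gcd_le_left N hk)
        _ ≤ N := Nat.div_mul_le_self N k
    · have hr : N % k ≠ 0 := by simpa [irem] using hmin 1 one_pos (by omega)
      have hsh := irem_shift N k hr
      have hzero' : irem k (N % k) t = 0 := by rw [← hsh]; exact hzero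
      have hmin' : ∀ i, 0 < i → i < t → irem k (N % k) i ≠ 0 := fun i hi hit => by
        rw [← hsh]; exact hmin (i + 1) (by omega) (by omega)
      have := ih (N % k) k (Nat.pos_of_ne_zero hr) (Nat.mod_lt _ hk).le ht hzero' hmin'
      have hg : Nat.gcd (N % k) k = Nat.gcd k N := by rw [Nat.gcd_rec k N]
      rw [hg] at this
      have hsum : ∑ i ∈ Finset.Icc 1 (t + 1), idiv N k i =
          N / k + ∑ i ∈ Finset.Icc 1 t, idiv k (N % k) i := by
        rw [← Finset.Ico_add_one_right_eq_Icc, ← Finset.Ico_add_one_right_eq_Icc,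
          Finset.sum_Ico_eq_sum_range, Finset.sum_Ico_eq_sum_range,
          show t + 1 + 1 - 1 = t + 1 by omega, show t + 1 - 1 = t by omega,
          Finset.sum_range_succ', add_comm (N / k)]
        congr 1
        refine Finset.sum_congr rfl fun i _ => ?_
        rw [show 1 + (i + 1) = i + 2 by ring, idiv_shift N k hr, add_comm 1 i]
      rw [hsum, add_mul]
      have hg0 : 0 < Nat.gcd k N := Nat.gcd_pos_of_pos_left _ hk
      have hgk : Nat.gcd k N ≤ k := Nat.gcd_le_left N hk
      have hgr : Nat.gcd k N ≤ N % k :=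
        Nat.le_of_dvd (Nat.pos_of_ne_zero hr) (by rw [← hg]; exact Nat.gcd_dvd_left _ _)
      have hd1 : 1 ≤ N / k := (Nat.one_le_div_iff hk).2 hkN
      have hdm := Nat.div_add_mod N k
      nlinarith

theorem irem_pos_lt (N k t : ℕ) (hk : 0 < k) (hmin : ∀ i, 0 < i → i < t → irem N k i ≠ 0) :
    ∀ i, i < t → irem N k (i + 1) < irem N k i := by
  intro i hi
  match i, hi with
  | 0, _ => simpa [irem] using Nat.mod_lt N hk
  | i + 1, hi =>
    have h := hmin (i + 1) (by omega) hi
    rw [irem, if_neg h]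
    exact Nat.mod_lt _ (Nat.pos_of_ne_zero h)

theorem key {k r s d e : ℚ} (hd : 2 ≤ d) (he : 1 ≤ e) (hr : 0 < r) (hs : 0 ≤ s) (hsr : s < r)
    (hk : k = e * r + s) (he' : e = 1 ∨ 2 ≤ e) (h1 : e = 1 → 0 < s) :
    (k - r) / d + (r - s) / (d + e) + s / (d + e + 1) ≤ k ^ 2 / (d * k + r) := by
  have hk0 : 0 < k := by rw [hk]; have := mul_pos (by linarith : (0:ℚ) < e) hr; linarith
  have hN : 0 < d * k + r := by positivity
  have hd0 : 0 < d := by linarith
  have hae : 0 < d + e := by linarith
  have hae1 : 0 < d + e + 1 := by linarith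
  suffices h : r / (d + e) - s / ((d + e) * (d + e + 1)) ≤ r * ((d * k + r) - k) / (d * (d * k + r)) by
    have e1 : (r - s) / (d + e) + s / (d + e + 1) = r / (d + e) - s / ((d + e) * (d + e + 1)) := by
      field_simp; ring
    have e2 : k ^ 2 / (d * k + r) = (k - r) / d + r * ((d * k + r) - k) / (d * (d * k + r)) := by
      field_simp; ring
    linarith
  rcases he' with rfl | he2
  · have hs0 := h1 rfl
    rw [div_sub_div _ _ hae.ne' (by positivity), div_le_div_iff₀ (by positivity) (by positivity)]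
    subst hk
    have hA : 0 ≤ d * (d * (1 * r + s) + r) - r * (d + 2) := by
      nlinarith [mul_nonneg (mul_nonneg (sub_nonneg.2 hd) hd0.le) hr.le,
        mul_nonneg (sq_nonneg d) hs]
    nlinarith [mul_nonneg (mul_nonneg hs0.le hA) hae.le]
  · have h2 : r / (d + e) ≤ r * ((d * k + r) - k) / (d * (d * k + r)) := by
      rw [div_le_div_iff₀ hae (by positivity)]
      have : d + e ≤ d * e := by nlinarith
      nlinarith [mul_nonneg (mul_nonneg hr.le hk0.le) (sub_nonneg.2 this),
        mul_nonneg (mul_nonneg hr.le hr.le) (by linarith : (0:ℚ) ≤ e)]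
    have : 0 ≤ s / ((d + e) * (d + e + 1)) := by positivity
    linarith

theorem three_terms (k N : ℕ) (hk : 0 < k) (hkN : 2 * k ≤ N) (h1 : irem N k 1 ≠ 0) :
    ((irem N k 0 : ℚ) - irem N k 1) / (idiv N k 1)
      + ((irem N k 1 : ℚ) - irem N k 2) / ((idiv N k 1 : ℚ) + idiv N k 2)
      + (irem N k 2 : ℚ) / ((idiv N k 1 : ℚ) + idiv N k 2 + 1)
      ≤ (k : ℚ) ^ 2 / N := by
  simp only [irem] at h1
  simp only [irem, idiv, if_neg h1]
  have hr := Nat.pos_of_ne_zero h1
  have hrk := Nat.mod_lt N hk
  have hdN := Nat.div_add_mod N k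
  have hd : 2 ≤ N / k := (Nat.le_div_iff_mul_le hk).2 hkN
  have hek := Nat.div_add_mod k (N % k)
  have hsr := Nat.mod_lt k hr
  have he : 1 ≤ k / (N % k) := (Nat.one_le_div_iff hr).2 hrk.le
  generalize N % k = r at *
  generalize N / k = d at *
  generalize k % r = s at *
  generalize k / r = e at *
  have hNq : (N : ℚ) = d * k + r := by
    have : ((k * d + r : ℕ) : ℚ) = N := by exact_mod_cast hdN
    rw [← this]; push_cast; ring
  rw [hNq]
  refine key (by exact_mod_cast hd) (by exact_mod_cast he) (by exact_mod_cast hr)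
    (by positivity) (by exact_mod_cast hsr) ?_ ?_ ?_
  · have : ((r * e + s : ℕ) : ℚ) = k := by exact_mod_cast hek
    rw [← this]; push_cast; ring
  · rcases eq_or_lt_of_le he with h | h
    · left; exact_mod_cast h.symm
    · right; exact_mod_cast h
  · intro h
    have h' : e = 1 := by exact_mod_cast h
    subst h'
    exact_mod_cast (by omega : 0 < s)

theorem sum_le (k N t : ℕ) (hk : 0 < k) (hkN : 2 * k ≤ N) (ht : 0 < t)
    (hzero : irem N k t = 0) (hmin : ∀ i, 0 < i → i < t → irem N k i ≠ 0) :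
    ∑ i ∈ Finset.range t, ((irem N k i : ℚ) - irem N k (i + 1)) /
        (∑ j ∈ Finset.Icc 1 (i + 1), (idiv N k j : ℚ)) ≤ (k : ℚ) ^ 2 / N := by
  rcases Nat.lt_or_ge t 2 with h | h
  · obtain rfl : t = 1 := by omega
    simp only [irem] at hzero
    simp only [Finset.sum_range_one, Finset.Icc_self, Finset.sum_singleton, irem, idiv, zero_add,
      hzero, Nat.cast_zero, sub_zero]
    have hdN := Nat.div_add_mod N k
    rw [hzero, add_zero] at hdN
    have hq : (N : ℚ) = k * (N / k : ℕ) := by exact_mod_cast hdN.symm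
    rw [hq]
    have hk' : (k : ℚ) ≠ 0 := by positivity
    rw [pow_two, mul_div_mul_left _ _ hk']
  · obtain ⟨u, rfl⟩ : ∃ u, t = 2 + u := ⟨t - 2, by omega⟩
    have hlt := irem_pos_lt N k (2 + u) hk hmin
    have hd3 : ∀ j, 2 < j → j ≤ 2 + u → 1 ≤ idiv N k j := by
      intro j hj hju
      obtain ⟨i, rfl⟩ : ∃ i, j = i + 2 := ⟨j - 2, by omega⟩
      have h0 := hmin (i + 1) (by omega) (by omega)
      rw [idiv, if_neg h0]
      exact (Nat.one_le_div_iff (Nat.pos_of_ne_zero h0)).2 (hlt i (by omega)).le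
    set S : ℕ → ℚ := fun i => ∑ j ∈ Finset.Icc 1 i, (idiv N k j : ℚ) with hS
    have hSs : ∀ i, S (i + 1) = S i + idiv N k (i + 1) := fun i => by
      simp only [hS]; rw [Finset.sum_Icc_succ_top (by omega)]
    have hS1 : S 1 = idiv N k 1 := by simp [hS]
    have hS2 : S 2 = (idiv N k 1 : ℚ) + idiv N k 2 := by rw [hSs 1, hS1]
    have hS3 : ∀ i, i < u → (idiv N k 1 : ℚ) + idiv N k 2 + 1 ≤ S (2 + i + 1) := by
      intro i
      induction i with
      | zero =>
        intro hu
        have : (1 : ℚ) ≤ idiv N k 3 := by exact_mod_cast hd3 3 (by omega) (by omega)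
        rw [hSs 2, hS2]; linarith
      | succ i ih =>
        intro hu
        have := ih (by omega)
        have h0 : (0 : ℚ) ≤ idiv N k (2 + i + 1 + 1) := by positivity
        rw [show 2 + (i + 1) + 1 = (2 + i + 1) + 1 by ring, hSs (2 + i + 1)]
        linarith
    have htail : ∑ i ∈ Finset.range u, ((irem N k (2 + i) : ℚ) - irem N k (2 + i + 1)) / S (2 + i + 1) ≤
        (irem N k 2 : ℚ) / ((idiv N k 1 : ℚ) + idiv N k 2 + 1) := by
      calc _ ≤ ∑ i ∈ Finset.range u, ((irem N k (2 + i) : ℚ) - irem N k (2 + i + 1)) /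
            ((idiv N k 1 : ℚ) + idiv N k 2 + 1) := by
            refine Finset.sum_le_sum fun i hi => ?_
            have hiu := Finset.mem_range.1 hi
            refine div_le_div_of_nonneg_left ?_ (by positivity) (hS3 i hiu)
            have := hlt (2 + i) (by omega)
            exact sub_nonneg.2 (by exact_mod_cast this.le)
        _ = _ := by
            rw [← Finset.sum_div]
            congr 1
            have := Finset.sum_range_sub' (fun i => (irem N k (2 + i) : ℚ)) u
            simp only [← add_assoc, add_zero] at this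
            rw [this, hzero, Nat.cast_zero, sub_zero]
    have h3 := three_terms k N hk hkN (hmin 1 one_pos (by omega))
    rw [Finset.sum_range_add, Finset.sum_range_succ, Finset.sum_range_one]
    show ((irem N k 0 : ℚ) - irem N k (0 + 1)) / S (0 + 1) +
      ((irem N k 1 : ℚ) - irem N k (1 + 1)) / S (1 + 1) + _ ≤ _
    simp only [zero_add, show (1 : ℕ) + 1 = 2 from rfl, hS1, hS2]
    linarith

theorem degree_bounds (d g s t n : ℤ) (hd : 1 ≤ d) (hg : 0 ≤ g) (hs : 1 ≤ s) (hst : s ≤ t)
    (hn : s * t = d * n) (hn2 : 2 ≤ n)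
    (hpos : 0 < d * (n * (s - 4) + t) + (2 - 2 * g) * n)
    (hdvd : (n - 1) ∣ d * (n * (s - 4) + t) + (2 - 2 * g) * n) :
    s < 2 * d ^ 2 ∧ t < 2 * d ^ 4 := by
  set m := d * (s - 4) + 2 - 2 * g with hm
  have hr : d * (n * (s - 4) + t) + (2 - 2 * g) * n = n * m + d * t := by rw [hm]; ring
  rw [hr] at hpos hdvd
  have ht : 1 ≤ t := by linarith
  have hE : 0 < m + d * t := by
    rcases le_or_gt 0 m with h | h
    · have := mul_pos (by linarith : 0 < d) (by linarith : 0 < t); linarith
    · nlinarith [mul_nonneg (by linarith : 0 ≤ n - 1) (neg_nonneg.2 h.le)]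
  obtain ⟨q, hq⟩ : (n - 1) ∣ m + d * t := by
    have h1 : n * m + d * t = (n - 1) * m + (m + d * t) := by ring
    rw [h1] at hdvd
    exact (dvd_add_right (Dvd.intro m rfl)).1 hdvd
  have hq1 : 1 ≤ q := by
    rcases le_or_gt q 0 with h | h
    · have := mul_nonpos_of_nonneg_of_nonpos (by linarith : 0 ≤ n - 1) h; linarith
    · linarith
  have hkey : t * (s * q - d ^ 2) = d * (m + q) := by
    linear_combination q * hn - d * hq
  have hm' : m ≤ d * (s - 4) + 2 := by rw [hm]; linarith
  have hsd : s < 2 * d ^ 2 := by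
    by_contra hcon
    have hcon' : 2 * d ^ 2 ≤ s := not_lt.1 hcon
    have h1 : d * (n - 1) ≤ d * (m + d * t) := by
      refine mul_le_mul_of_nonneg_left ?_ (by linarith)
      rw [hq]; exact le_mul_of_one_le_right (by linarith) hq1
    nlinarith [mul_le_mul_of_nonneg_right hcon' (by linarith : 0 ≤ t),
      mul_le_mul_of_nonneg_left hm' (by linarith : 0 ≤ d),
      mul_nonneg (sq_nonneg d) (by linarith : 0 ≤ t - s)]
  refine ⟨hsd, ?_⟩
  have hd4 : d ^ 4 = d ^ 2 * d ^ 2 := by ring
  rcases lt_trichotomy (s * q - d ^ 2) 0 with h | h | h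
  · have hmq : m + q < 0 := by
      by_contra hcon
      have := mul_neg_of_pos_of_neg (by linarith : 0 < t) h
      have := mul_nonneg (by linarith : 0 ≤ d) (not_lt.1 hcon)
      linarith
    -- `-m` is small because the type numbers are positive
    have h2 : s * (-m) < d ^ 2 := by
      have h3 : 0 < s * (n * m + d * t) := mul_pos (by linarith) hpos
      have h4 : s * (n * m + d * t) = n * (s * m + d ^ 2) := by linear_combination d * hn
      rw [h4] at h3
      have := (mul_pos_iff_of_pos_left (by linarith : 0 < n)).1 h3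
      linarith
    have hmneg : m < 0 := by linarith
    have h5 : -m < d ^ 2 := lt_of_le_of_lt (le_mul_of_one_le_left (by linarith) hs) h2
    have h6 : t ≤ d * (-(m + q)) := by
      have : t * (d ^ 2 - s * q) = d * (-(m + q)) := by linear_combination -hkey
      rw [← this]
      exact le_mul_of_one_le_right (by linarith) (by linarith)
    nlinarith [mul_le_mul_of_nonneg_left (by linarith : -(m + q) ≤ d ^ 2) (by linarith : 0 ≤ d)]
  · exfalso
    rw [h, mul_zero, eq_comm] at hkey
    have hmq : m + q = 0 := (mul_eq_zero.1 hkey).resolve_left (by linarith)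
    have hm0 : m = -q := by linarith
    have h3 : 0 < s * (n * m + d * t) := mul_pos (by linarith) hpos
    have h4 : s * (n * m + d * t) = 0 := by
      rw [hm0]; linear_combination d * hn - n * h
    linarith
  · set δ := s * q - d ^ 2 with hδ
    have h1 : m + q ≤ d * (d ^ 2 + δ) + 3 - 4 * d := by
      have : 0 ≤ (d * s - 1) * (q - 1) := mul_nonneg (by nlinarith) (by linarith)
      nlinarith
    have h2 : t * δ ≤ d * (d * (d ^ 2 + δ) + 3 - 4 * d) := hkey ▸ mul_le_mul_of_nonneg_left h1 (by linarith)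
    have h3 : t * δ < 2 * d ^ 4 * δ := by
      rcases eq_or_lt_of_le hd with rfl | hd'
      · nlinarith
      · nlinarith [mul_nonneg (by nlinarith : (0:ℤ) ≤ d ^ 4 - d ^ 2) (by linarith : (0:ℤ) ≤ δ - 1)]
    exact lt_of_mul_lt_mul_right h3 (by linarith)

end Groth.Agent.H68.Euclid
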