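import Mathlib.Algebra.Category.ModuleCat.Ext.HasExt
import Mathlib.Algebra.Category.ModuleCat.Localization
import Mathlib.RingTheory.LocalProperties.ProjectiveDimension
import Mathlib.Algebra.Module.FinitePresentation
import Mathlib.Algebra.Category.ModuleCat.Projective
import Mathlib.Algebra.Homology.DerivedCategory.Ext.Map
import Mathlib.Algebra.Homology.DerivedCategory.Ext.Linear

/-!
# `Ext` of finite modules over a Noetherian ring commutes with localisation
-/

set_option autoImplicit false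
universe u

open CategoryTheory Limits Abelian

namespace Groth.Agent.H68.ExtLoc

variable {R : Type u} [CommRing R] (S : Submonoid R)

local notation "Lf" => (ModuleCat.localizedModuleFunctor S)
local notation "R'" => Localization S

theorem map_smul_id (N : ModuleCat.{u} R) (r : R) :
    (Lf).map (r • 𝟙 N) = algebraMap R R' r • 𝟙 ((Lf).obj N) := by
  refine ModuleCat.hom_ext ?_
  let f := N.localizedModuleMkLinearMap S
  have h : IsLocalizedModule.mapExtendScalars S f f R' (r • LinearMap.id) =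
      (algebraMap R R' r • LinearMap.id : N.localizedModule S →ₗ[R'] N.localizedModule S) := by
    apply LinearMap.restrictScalars_injective R
    apply IsLocalizedModule.ext S f (IsLocalizedModule.map_units (S := S) (f := f))
    ext x
    simp [IsLocalizedModule.mapExtendScalars, algebraMap_smul]
  exact h

theorem map_smul_ext {M N : ModuleCat.{u} R} {n : ℕ} (r : R) (e : Ext M N n) :
    (Lf).mapExtAddHom M N n (r • e) = algebraMap R R' r • (Lf).mapExtAddHom M N n e := by
  simp only [Functor.mapExtAddHom_apply]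
  rw [Ext.smul_eq_comp_mk₀ e r, Ext.mapExactFunctor_comp, Ext.mapExactFunctor_mk₀, map_smul_id,
    Ext.smul_eq_comp_mk₀ (e.mapExactFunctor Lf)]

theorem exhibits_zero (M N : ModuleCat.{u} R) [Module.FinitePresentation R M] :
    (∀ y : Ext ((Lf).obj M) ((Lf).obj N) 0, ∃ (e : Ext M N 0) (s : S),
        algebraMap R R' (s : R) • y = (Lf).mapExtAddHom M N 0 e) ∧
      (∀ e : Ext M N 0, (Lf).mapExtAddHom M N 0 e = 0 → ∃ s : S, (s : R) • e = 0) := by
  have hmap : ∀ g : M ⟶ N, ((Lf).map g).hom = IsLocalizedModule.mapExtendScalars S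
      (M.localizedModuleMkLinearMap S) (N.localizedModuleMkLinearMap S) R' g.hom := fun _ => rfl
  constructor
  · intro y
    obtain ⟨h, rfl⟩ := (Ext.mk₀_bijective _ _).2 y
    obtain ⟨⟨g, s⟩, hg⟩ := IsLocalizedModule.surj S
      (IsLocalizedModule.mapExtendScalars S (M.localizedModuleMkLinearMap S)
        (N.localizedModuleMkLinearMap S) R') h.hom
    refine ⟨Ext.mk₀ (ModuleCat.ofHom g), s, ?_⟩
    rw [Functor.mapExtAddHom_apply, Ext.mapExactFunctor_mk₀, ← Ext.mk₀_smul]
    congr 1
    apply ModuleCat.hom_ext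
    rw [ModuleCat.hom_smul, hmap]
    refine Eq.trans ?_ hg
    exact LinearMap.ext fun x =>
      algebraMap_smul (M := N.localizedModule S) R' (s : R) (h.hom x : N.localizedModule S)
  · intro e he
    obtain ⟨g, rfl⟩ := (Ext.mk₀_bijective _ _).2 e
    rw [Functor.mapExtAddHom_apply, Ext.mapExactFunctor_mk₀] at he
    have h0 : (Lf).map g = 0 := (Ext.mk₀_bijective _ _).1 (by rw [he, Ext.mk₀_zero])
    have h1 := hmap g
    rw [h0, ModuleCat.hom_zero] at h1
    obtain ⟨s, hs⟩ := (IsLocalizedModule.eq_zero_iff S (IsLocalizedModule.mapExtendScalars S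
      (M.localizedModuleMkLinearMap S) (N.localizedModuleMkLinearMap S) R')).1 h1.symm
    refine ⟨s, ?_⟩
    rw [← Ext.mk₀_smul, ← Ext.mk₀_zero]
    congr 1
    apply ModuleCat.hom_ext
    rw [ModuleCat.hom_smul, ModuleCat.hom_zero]
    exact hs

/-- The dimension shift. -/
theorem step (N : ModuleCat.{u} R) (n : ℕ) {C : ShortComplex (ModuleCat.{u} R)} (hC : C.ShortExact)
    [Projective C.X₂]
    (hK1 : ∀ y : Ext ((Lf).obj C.X₁) ((Lf).obj N) n, ∃ (e : Ext C.X₁ N n) (s : S),
        algebraMap R R' (s : R) • y = (Lf).mapExtAddHom C.X₁ N n e)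
    (hK2 : ∀ e : Ext C.X₁ N n, (Lf).mapExtAddHom C.X₁ N n e = 0 → ∃ s : S, (s : R) • e = 0)
    (hP1 : ∀ y : Ext ((Lf).obj C.X₂) ((Lf).obj N) n, ∃ (e : Ext C.X₂ N n) (s : S),
        algebraMap R R' (s : R) • y = (Lf).mapExtAddHom C.X₂ N n e) :
    (∀ y : Ext ((Lf).obj C.X₃) ((Lf).obj N) (n + 1), ∃ (e : Ext C.X₃ N (n + 1)) (s : S),
        algebraMap R R' (s : R) • y = (Lf).mapExtAddHom C.X₃ N (n + 1) e) ∧
      (∀ e : Ext C.X₃ N (n + 1), (Lf).mapExtAddHom C.X₃ N (n + 1) e = 0 →
        ∃ s : S, (s : R) • e = 0) := by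
  haveI hP' : Projective (C.map Lf).X₂ :=
    (ModuleCat.localizedModuleFunctor.{u} S).projective_obj C.X₂
  have hC' : (C.map Lf).ShortExact := hC.map_of_exact Lf
  have hcomp : ∀ e : Ext C.X₁ N n, (Lf).mapExtAddHom C.X₃ N (n + 1) (hC.extClass.comp e (add_comm 1 n)) =
      hC'.extClass.comp ((Lf).mapExtAddHom C.X₁ N n e) (add_comm 1 n) := fun e => by
    rw [Functor.mapExtAddHom_apply, Ext.mapExactFunctor_comp, Ext.mapExactFunctor_extClass]
    rfl
  constructor
  · intro y
    obtain ⟨y', rfl⟩ := Ext.contravariant_sequence_exact₃ hC' ((Lf).obj N) y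
      (Ext.eq_zero_of_projective _) (add_comm 1 n)
    obtain ⟨e, s, he⟩ := hK1 y'
    refine ⟨hC.extClass.comp e (add_comm 1 n), s, ?_⟩
    refine (Ext.comp_smul hC'.extClass y' (add_comm 1 n) (algebraMap R R' (s : R))).symm.trans ?_
    exact (congrArg (fun z => hC'.extClass.comp z (add_comm 1 n)) he).trans (hcomp e).symm
  · intro x hx
    obtain ⟨e, rfl⟩ := Ext.contravariant_sequence_exact₃ hC N x
      (Ext.eq_zero_of_projective _) (add_comm 1 n)
    rw [hcomp] at hx
    obtain ⟨z, hz⟩ := Ext.contravariant_sequence_exact₁ hC' ((Lf).obj N) _ (add_comm 1 n) hx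
    obtain ⟨z', s, hz'⟩ := hP1 z
    have h0 : (Lf).mapExtAddHom C.X₁ N n ((s : R) • e - (Ext.mk₀ C.f).comp z' (zero_add n)) = 0 := by
      have h2 : (Lf).mapExtAddHom C.X₁ N n ((Ext.mk₀ C.f).comp z' (zero_add n)) =
          (Ext.mk₀ (C.map Lf).f).comp ((Lf).mapExtAddHom C.X₂ N n z') (zero_add n) := by
        rw [Functor.mapExtAddHom_apply, Ext.mapExactFunctor_comp, Ext.mapExactFunctor_mk₀]
        rfl
      rw [map_sub, sub_eq_zero, h2, map_smul_ext]
      refine Eq.trans ?_ (congrArg (fun w => (Ext.mk₀ (C.map Lf).f).comp w (zero_add n)) hz')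
      refine Eq.trans ?_ (Ext.comp_smul (Ext.mk₀ (C.map Lf).f) z (zero_add n) _).symm
      exact congrArg (algebraMap R R' (s : R) • ·) hz.symm
    obtain ⟨t, ht⟩ := hK2 _ h0
    refine ⟨t * s, ?_⟩
    rw [smul_sub, sub_eq_zero] at ht
    rw [Submonoid.coe_mul, mul_smul, ← Ext.comp_smul, ← Ext.comp_smul, ht, Ext.comp_smul,
      ShortComplex.ShortExact.extClass_comp_assoc hC, smul_zero]

theorem exhibits [IsNoetherianRing R] (N : ModuleCat.{u} R) (n : ℕ) :
    ∀ (M : ModuleCat.{u} R) [Module.Finite R M],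
    (∀ y : Ext ((Lf).obj M) ((Lf).obj N) n, ∃ (e : Ext M N n) (s : S),
        algebraMap R R' (s : R) • y = (Lf).mapExtAddHom M N n e) ∧
      (∀ e : Ext M N n, (Lf).mapExtAddHom M N n e = 0 → ∃ s : S, (s : R) • e = 0) := by
  induction n with
  | zero =>
    intro M _
    haveI := Module.finitePresentation_of_finite R M
    exact exhibits_zero S M N
  | succ n ih =>
    intro M _
    obtain ⟨k, p, hp⟩ := Module.Finite.exists_fin' R M
    let C : ShortComplex (ModuleCat.{u} R) := ShortComplex.mk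
      (X₁ := ModuleCat.of R (LinearMap.ker p)) (X₂ := ModuleCat.of R (Fin k → R)) (X₃ := M)
      (ModuleCat.ofHom (LinearMap.ker p).subtype) (ModuleCat.ofHom p)
      (ModuleCat.hom_ext (LinearMap.ext fun x => x.2))
    have hC : C.ShortExact := by
      refine ShortComplex.ShortExact.mk' ?_ ((ModuleCat.mono_iff_injective _).2 Subtype.val_injective)
        ((ModuleCat.epi_iff_surjective _).2 hp)
      rw [ShortComplex.ShortExact.moduleCat_exact_iff_function_exact]
      exact fun x => ⟨fun hx => ⟨⟨x, hx⟩, rfl⟩, fun ⟨z, hz⟩ => hz ▸ z.2⟩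
    haveI : Module.Finite R C.X₁ := Module.Finite.of_fg (IsNoetherian.noetherian (LinearMap.ker p))
    haveI : Module.Finite R C.X₂ := inferInstanceAs (Module.Finite R (Fin k → R))
    haveI : Projective C.X₂ :=
      (IsProjective.iff_projective (ModuleCat.of R (Fin k → R))).1 inferInstance
    exact step S N n hC (ih C.X₁).1 (ih C.X₁).2 (ih C.X₂).1

theorem eq_zero_iff [IsNoetherianRing R] (M N : ModuleCat.{u} R) [Module.Finite R M] (n : ℕ)
    (e : Ext M N n) : (Lf).mapExtAddHom M N n e = 0 ↔ ∃ s : S, (s : R) • e = 0 := by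
  refine ⟨(exhibits S N n M).2 e, fun ⟨s, hs⟩ => ?_⟩
  have h := map_smul_ext S (s : R) e
  rw [hs, map_zero] at h
  obtain ⟨v, hv⟩ := (IsLocalization.map_units R' s).exists_left_inv
  rw [← one_smul R' ((Lf).mapExtAddHom M N n e), ← hv, mul_smul, ← h, smul_zero]

end Groth.Agent.H68.ExtLoc
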