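import Groth.Agent.Lib.Unram.ArtinianLifting
import Mathlib.LinearAlgebra.Finsupp.Supported
import Mathlib.RingTheory.Ideal.Cotangent
import Mathlib.RingTheory.Ideal.Quotient.Nilpotent

/-!
# Formal smoothness of quotients of formally smooth algebras is local

`P` is formally smooth over `R`, `C = P/J`.  `Retr s` says that the conormal map has a retraction up
to the scalar `s`; the localizations of `C` that are formally smooth are those inverting such an `s`.
Also: the lifting criterion of `Lib.Unram.ArtinianLifting` without finiteness of `Ω`.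
-/

set_option autoImplicit false

universe u

open IsLocalRing
open scoped TensorProduct

namespace Groth.Agent.H68.FSLocal

section Retr

variable (R : Type u) {P : Type u} [CommRing R] [CommRing P] [Algebra R P] (J : Ideal P)

/-- A retraction of the conormal map, up to the scalar `s`. -/
def Retr (s : P) : Prop :=
  ∃ g : Ω[P⁄R] →ₗ[P] J.Cotangent, ∀ j : J, g (KaehlerDifferential.D R P (j : P)) = s • J.toCotangent j

lemma retr_zero : Retr R J 0 := ⟨0, fun j => by simp⟩

lemma Retr.add {s t : P} (hs : Retr R J s) (ht : Retr R J t) : Retr R J (s + t) := by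
  obtain ⟨g, hg⟩ := hs
  obtain ⟨g', hg'⟩ := ht
  exact ⟨g + g', fun j => by rw [LinearMap.add_apply, hg, hg', add_smul]⟩

lemma Retr.mul {t : P} (c : P) (ht : Retr R J t) : Retr R J (c * t) := by
  obtain ⟨g, hg⟩ := ht
  exact ⟨c • g, fun j => by rw [LinearMap.smul_apply, hg, mul_smul]⟩

lemma retr_of_mem {s : P} (hs : s ∈ J) : Retr R J s :=
  ⟨0, fun j => by
    rw [LinearMap.zero_apply, ← map_smul]
    exact ((J.toCotangent_eq_zero _).mpr
      (by rw [pow_two]; exact Ideal.mul_mem_mul hs j.2)).symm⟩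

/-- The ideal of scalars with a retraction. -/
def retrIdeal : Ideal P where
  carrier := {s | Retr R J s}
  add_mem' := Retr.add R J
  zero_mem' := retr_zero R J
  smul_mem' c _ h := Retr.mul R J c h

end Retr

variable {R P C : Type u} [CommRing R] [CommRing P] [CommRing C] [Algebra R P] [Algebra P C]
  [Algebra R C] [IsScalarTower R P C] [Algebra.FormallySmooth R P]

local notation "𝔍" => RingHom.ker (algebraMap P C)

/-- A retraction up to an inverted scalar gives formal smoothness. -/
theorem formallySmooth_of_retr (hsurj : Function.Surjective (algebraMap P C)) (M : Submonoid C)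
    (Cs : Type u) [CommRing Cs] [Algebra C Cs] [Algebra R Cs] [IsScalarTower R C Cs]
    [IsLocalization M Cs] {s : P} (hs : Retr R 𝔍 s) (hsM : algebraMap P C s ∈ M) :
    Algebra.FormallySmooth R Cs := by
  obtain ⟨g, hg⟩ := hs
  refine Algebra.FormallySmooth.iff_comp_surjective.mpr fun Q _ _ I hI u => ?_
  have hIn : IsNilpotent I := ⟨2, hI⟩
  let π : P →ₐ[R] C := IsScalarTower.toAlgHom R P C
  let v : C →ₐ[R] Q ⧸ I := u.comp (IsScalarTower.toAlgHom R C Cs)
  obtain ⟨L, hL⟩ := Algebra.FormallySmooth.exists_lift I hIn (v.comp π)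
  have hL' : ∀ x, Ideal.Quotient.mk I (L x) = v (π x) := fun x => AlgHom.congr_fun hL x
  have hsu : IsUnit (L s) := by
    refine (IsNilpotent.isUnit_quotient_mk_iff hIn).mp ?_
    rw [hL']
    exact (IsLocalization.map_units Cs (⟨_, hsM⟩ : M)).map u
  letI : Algebra P Q := L.toRingHom.toAlgebra
  haveI : IsScalarTower R P Q := IsScalarTower.of_algebraMap_eq fun r => (L.commutes r).symm
  have hLJ : ∀ x ∈ 𝔍, L x ∈ I := fun x hx => by
    rw [← Ideal.Quotient.eq_zero_iff_mem, hL']
    show v (algebraMap P C x) = 0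
    rw [RingHom.mem_ker.mp hx, map_zero]
  have hLJ2 : ∀ x ∈ 𝔍 ^ 2, L x = 0 := fun x hx => by
    have h1 : (𝔍).map L.toRingHom ≤ I := Ideal.map_le_iff_le_comap.mpr hLJ
    have h2 : L x ∈ ((𝔍) ^ 2).map L.toRingHom := Ideal.mem_map_of_mem _ hx
    rw [Ideal.map_pow] at h2
    have h3 := Ideal.pow_right_mono h1 2 h2
    rwa [hI, Ideal.mem_bot] at h3
  -- the conormal map into `Q`
  let L₀ : P ⧸ 𝔍 ^ 2 →ₐ[P] Q := Ideal.Quotient.liftₐ _ (Algebra.ofId P Q) hLJ2
  let μ : (𝔍).Cotangent →ₗ[P] Q := L₀.toLinearMap ∘ₗ (𝔍).cotangentToQuotientSquare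
  have hμ : ∀ j : 𝔍, μ ((𝔍).toCotangent j) = L j := fun j => by
    show L₀ ((𝔍).cotangentToQuotientSquare ((𝔍).toCotangent j)) = _
    rw [Ideal.toCotangent_to_quotient_square]
    rfl
  have hμI : ∀ z, μ z ∈ I := fun z => by
    obtain ⟨j, rfl⟩ := (𝔍).toCotangent_surjective z
    rw [hμ]
    exact hLJ _ j.2
  let w : Q := ↑hsu.unit⁻¹
  have hw : w * L s = 1 := IsUnit.val_inv_mul hsu
  let δ : Derivation R P Q := (w • (μ ∘ₗ g)).compDer (KaehlerDifferential.D R P)
  have hδI : ∀ x, δ x ∈ I := fun x => Ideal.mul_mem_left _ _ (hμI _)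
  have hδJ : ∀ x ∈ 𝔍, δ x = L x := fun x hx => by
    show w * μ (g (KaehlerDifferential.D R P x)) = _
    rw [hg ⟨x, hx⟩, map_smul, hμ, Algebra.smul_def, ← mul_assoc]
    show w * L s * L x = L x
    rw [hw, one_mul]
  let ψ : P →ₐ[R] Q := AlgHom.ofLinearMap (L.toLinearMap - δ.toLinearMap)
    (by show L 1 - δ 1 = 1; rw [map_one, δ.map_one_eq_zero, sub_zero])
    (fun x y => by
      show L (x * y) - δ (x * y) = (L x - δ x) * (L y - δ y)
      have h0 : δ x * δ y = 0 := by
        rw [← Ideal.mem_bot, ← hI, pow_two]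
        exact Ideal.mul_mem_mul (hδI x) (hδI y)
      rw [map_mul, δ.leibniz, Algebra.smul_def, Algebra.smul_def]
      show L x * L y - (L x * δ y + L y * δ x) = _
      linear_combination -h0)
  have hψ : ∀ x ∈ 𝔍, ψ x = 0 := fun x hx => by
    show L x - δ x = 0
    rw [hδJ x hx, sub_self]
  let χ : C →+* Q := RingHom.liftOfSurjective (algebraMap P C) hsurj ⟨ψ.toRingHom, hψ⟩
  have hχ : ∀ x, χ (algebraMap P C x) = ψ x := fun x =>
    RingHom.liftOfRightInverse_comp_apply _ _ _ _ x
  have hχI : ∀ c, Ideal.Quotient.mk I (χ c) = v c := fun c => by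
    obtain ⟨x, rfl⟩ := hsurj c
    rw [hχ]
    show Ideal.Quotient.mk I (L x - δ x) = _
    rw [map_sub, Ideal.Quotient.eq_zero_iff_mem.mpr (hδI x), sub_zero, hL']
    rfl
  have hχM : ∀ m : M, IsUnit (χ m) := fun m =>
    (IsNilpotent.isUnit_quotient_mk_iff hIn).mp ((hχI _).symm ▸ (IsLocalization.map_units Cs m).map u)
  refine ⟨{ IsLocalization.lift hχM with commutes' := fun r => ?_ }, ?_⟩
  · show IsLocalization.lift hχM (algebraMap R Cs r) = _
    rw [IsScalarTower.algebraMap_apply R C Cs, IsLocalization.lift_eq,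
      IsScalarTower.algebraMap_apply R P C, hχ, AlgHom.commutes]
  · apply AlgHom.coe_ringHom_injective
    refine IsLocalization.ringHom_ext M (RingHom.ext fun c => ?_)
    show Ideal.Quotient.mk I (IsLocalization.lift hχM (algebraMap C Cs c)) = u (algebraMap C Cs c)
    rw [IsLocalization.lift_eq, hχI]
    rfl

/-- A formally smooth localization yields a retraction up to an inverted scalar. -/
theorem exists_retr (hsurj : Function.Surjective (algebraMap P C))
    [Module.Finite P (𝔍).Cotangent] (M : Submonoid C)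
    (Cs : Type u) [CommRing Cs] [Algebra C Cs] [Algebra R Cs] [IsScalarTower R C Cs]
    [IsLocalization M Cs] [Algebra.FormallySmooth R Cs] :
    ∃ s : P, Retr R 𝔍 s ∧ algebraMap P C s ∈ M := by
  classical
  let M' : Submonoid P := M.comap (algebraMap P C)
  let M₂ : Submonoid (P ⧸ 𝔍 ^ 2) := M'.map (Ideal.Quotient.mk (𝔍 ^ 2))
  let T := Localization M₂
  let π₂ : P ⧸ 𝔍 ^ 2 →ₐ[R] C := Ideal.Quotient.liftₐ _ (IsScalarTower.toAlgHom R P C)
    fun x hx => Ideal.pow_le_self two_ne_zero hx
  have hu : ∀ y : M₂, IsUnit ((IsScalarTower.toAlgHom R C Cs).comp π₂ (y : P ⧸ 𝔍 ^ 2)) := by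
    rintro ⟨_, x, hx, rfl⟩
    exact IsLocalization.map_units Cs (⟨algebraMap P C x, hx⟩ : M)
  let φ : T →ₐ[R] Cs := IsLocalization.liftAlgHom (M := M₂) hu
  have hφ : ∀ x, φ (algebraMap P T x) = algebraMap C Cs (algebraMap P C x) := fun x => by
    rw [IsScalarTower.algebraMap_apply P (P ⧸ 𝔍 ^ 2) T]
    exact IsLocalization.lift_eq _ _
  have hφsurj : Function.Surjective φ := by
    intro z
    obtain ⟨⟨c, ⟨m, hm⟩⟩, hz⟩ := IsLocalization.surj M z
    obtain ⟨x, rfl⟩ := hsurj c
    obtain ⟨t, rfl⟩ := hsurj m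
    refine ⟨IsLocalization.mk' T (Ideal.Quotient.mk (𝔍 ^ 2) x)
      (⟨Ideal.Quotient.mk (𝔍 ^ 2) t, Submonoid.mem_map_of_mem _ (show t ∈ M' from hm)⟩ : M₂), ?_⟩
    refine (IsLocalization.map_units Cs (⟨algebraMap P C t, hm⟩ : M)).mul_left_inj.mp ?_
    rw [hz, ← hφ t, ← map_mul, IsScalarTower.algebraMap_apply P (P ⧸ 𝔍 ^ 2) T,
      Ideal.Quotient.algebraMap_eq, IsLocalization.mk'_spec]
    exact hφ x
  have hK : ∀ z : T, φ z = 0 → ∃ (c : 𝔍) (t : M'),
      z * algebraMap P T (t : P) = algebraMap P T (c : P) := by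
    intro z hz
    obtain ⟨⟨y, ⟨_, t, ht, rfl⟩⟩, hy⟩ := IsLocalization.surj M₂ z
    obtain ⟨x, rfl⟩ := Ideal.Quotient.mk_surjective y
    have h1 : algebraMap C Cs (algebraMap P C x) = 0 := by
      rw [← hφ, IsScalarTower.algebraMap_apply P (P ⧸ 𝔍 ^ 2) T, Ideal.Quotient.algebraMap_eq, ← hy,
        map_mul, hz, zero_mul]
    obtain ⟨⟨m, hm⟩, hm0⟩ := (IsLocalization.map_eq_zero_iff M Cs _).mp h1
    obtain ⟨c', rfl⟩ := hsurj m
    refine ⟨⟨c' * x, by rw [RingHom.mem_ker, map_mul]; exact hm0⟩,
      ⟨c', hm⟩ * ⟨t, ht⟩, ?_⟩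
    show z * algebraMap P T (c' * t) = algebraMap P T (c' * x)
    rw [map_mul, map_mul, mul_left_comm, IsScalarTower.algebraMap_apply P (P ⧸ 𝔍 ^ 2) T t,
      IsScalarTower.algebraMap_apply P (P ⧸ 𝔍 ^ 2) T x, Ideal.Quotient.algebraMap_eq, hy]
  have hsq : ∀ a b : T, φ a = 0 → φ b = 0 → a * b = 0 := by
    intro a b ha hb
    obtain ⟨c, t, hc⟩ := hK a ha
    obtain ⟨c', t', hc'⟩ := hK b hb
    have hunit : ∀ t : M', IsUnit (algebraMap P T (t : P)) := fun t => by
      rw [IsScalarTower.algebraMap_apply P (P ⧸ 𝔍 ^ 2) T]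
      exact IsLocalization.map_units T (⟨_, t, t.2, rfl⟩ : M₂)
    rw [← ((hunit t).mul (hunit t')).mul_left_eq_zero, mul_mul_mul_comm, hc, hc',
      ← map_mul, IsScalarTower.algebraMap_apply P (P ⧸ 𝔍 ^ 2) T, Ideal.Quotient.algebraMap_eq,
      Ideal.Quotient.eq_zero_iff_mem.mpr (by rw [pow_two]; exact Ideal.mul_mem_mul c.2 c'.2),
      map_zero]
  have hker : IsNilpotent (RingHom.ker (φ : T →+* Cs)) := by
    refine ⟨2, le_bot_iff.mp ?_⟩
    rw [pow_two (RingHom.ker (φ : T →+* Cs)), Ideal.mul_le]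
    exact fun z hz z' hz' => Ideal.mem_bot.mpr (hsq z z' hz hz')
  let σ : Cs →ₐ[R] T := Algebra.FormallySmooth.liftOfSurjective (AlgHom.id R Cs) φ hφsurj hker
  have hσ : ∀ z, φ (σ z) = z := fun z =>
    Algebra.FormallySmooth.liftOfSurjective_apply _ _ hφsurj hker z
  let τ : P →ₐ[R] T :=
    σ.comp ((IsScalarTower.toAlgHom R C Cs).comp (IsScalarTower.toAlgHom R P C))
  have hdiff : ∀ x, φ (algebraMap P T x - τ x) = 0 := fun x => by
    rw [map_sub, hφ]
    show _ - φ (σ (algebraMap C Cs (algebraMap P C x))) = 0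
    rw [hσ, sub_self]
  let G₀ : Derivation R P T := Derivation.mk' ((IsScalarTower.toAlgHom R P T).toLinearMap - τ.toLinearMap)
    fun x y => by
      show algebraMap P T (x * y) - τ (x * y) =
        x • (algebraMap P T y - τ y) + y • (algebraMap P T x - τ x)
      rw [Algebra.smul_def, Algebra.smul_def, map_mul, map_mul]
      linear_combination -(hsq _ _ (hdiff x) (hdiff y))
  let G := G₀.liftKaehlerDifferential
  have hGJ : ∀ j : 𝔍, G (KaehlerDifferential.D R P (j : P)) = algebraMap P T (j : P) := fun j => by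
    rw [Derivation.liftKaehlerDifferential_comp_D]
    show algebraMap P T (j : P) - σ (algebraMap C Cs (algebraMap P C (j : P))) = _
    rw [RingHom.mem_ker.mp j.2, map_zero, map_zero, sub_zero]
  have hG0 : ∀ ω, φ (G ω) = 0 := fun ω => by
    have hω : ω ∈ Submodule.span P (Set.range (KaehlerDifferential.D R P)) := by
      rw [KaehlerDifferential.span_range_derivation]; trivial
    induction hω using Submodule.span_induction with
    | mem w hw =>
      obtain ⟨x, rfl⟩ := hw
      rw [Derivation.liftKaehlerDifferential_comp_D]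
      exact hdiff x
    | zero => rw [map_zero, map_zero]
    | add a b _ _ ha hb => rw [map_add, map_add, ha, hb, add_zero]
    | smul c w _ hw => rw [map_smul, Algebra.smul_def, map_mul, hw, mul_zero]
  -- clear denominators on a finite set of coordinates
  obtain ⟨F, hF⟩ := Module.Finite.fg_top (R := P) (M := (𝔍).Cotangent)
  choose rep hrep using (𝔍).toCotangent_surjective
  obtain ⟨i, hi⟩ := Module.projective_def.mp (inferInstance : Module.Projective P Ω[P⁄R])
  let S : Finset Ω[P⁄R] := F.biUnion fun z => (i (KaehlerDifferential.D R P (rep z : P))).support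
  choose cω tω hct using fun ω => hK (G ω) (hG0 ω)
  let t : M' := ∏ ω ∈ S, tω ω
  let e : Ω[P⁄R] → (𝔍).Cotangent := fun ω =>
    if ω ∈ S then ((∏ ω' ∈ S.erase ω, tω ω' : M') : P) • (𝔍).toCotangent (cω ω) else 0
  let Λ : (𝔍).Cotangent →ₗ[P] T :=
    (IsScalarTower.toAlgHom P (P ⧸ 𝔍 ^ 2) T).toLinearMap ∘ₗ (𝔍).cotangentToQuotientSquare
  have hΛ : ∀ j : 𝔍, Λ ((𝔍).toCotangent j) = algebraMap P T (j : P) := fun j => by
    show algebraMap (P ⧸ 𝔍 ^ 2) T ((𝔍).cotangentToQuotientSquare ((𝔍).toCotangent j)) = _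
    rw [Ideal.toCotangent_to_quotient_square, IsScalarTower.algebraMap_apply P (P ⧸ 𝔍 ^ 2) T]
    rfl
  have he : ∀ ω ∈ S, Λ (e ω) = algebraMap P T (t : P) * G ω := fun ω hω => by
    have ht : (t : P) = (∏ ω' ∈ S.erase ω, tω ω' : M') * (tω ω : P) := by
      rw [← Submonoid.coe_mul, Finset.prod_erase_mul S tω hω]
    simp only [e, if_pos hω]
    rw [map_smul, hΛ, ← hct, ht, map_mul, Algebra.smul_def]
    ring
  let g : Ω[P⁄R] →ₗ[P] (𝔍).Cotangent := Finsupp.linearCombination P e ∘ₗ i
  have hgz : ∀ z ∈ F, Λ (g (KaehlerDifferential.D R P (rep z : P)) - (t : P) • z) = 0 := fun z hz => by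
    set ω₀ := KaehlerDifferential.D R P (rep z : P) with hω₀
    have h1 : Λ (g ω₀) = algebraMap P T (t : P) * G ω₀ := by
      conv_rhs => rw [show ω₀ = Finsupp.linearCombination P id (i ω₀) from (hi ω₀).symm]
      show Λ (Finsupp.linearCombination P e (i ω₀)) = _
      rw [Finsupp.linearCombination_apply, Finsupp.linearCombination_apply, Finsupp.sum, Finsupp.sum,
        map_sum, map_sum, Finset.mul_sum]
      refine Finset.sum_congr rfl fun ω hω => ?_
      rw [map_smul, map_smul, he ω (Finset.mem_biUnion.mpr ⟨z, hz, hω⟩), mul_smul_comm]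
      rfl
    rw [map_sub, h1, hGJ, map_smul, ← hrep z, hΛ, hrep z, Algebra.smul_def, sub_self]
  have hkill : ∀ z ∈ F, ∃ t' : M', (t' : P) • (g (KaehlerDifferential.D R P (rep z : P)) - (t : P) • z) = 0 :=
    fun z hz => by
    obtain ⟨⟨_, t', ht', rfl⟩, h0⟩ := (IsLocalization.map_eq_zero_iff M₂ T _).mp (hgz z hz)
    refine ⟨⟨t', ht'⟩, (𝔍).cotangentToQuotientSquare_injective ?_⟩
    rw [map_zero, map_smul, Algebra.smul_def]
    exact h0
  choose t' ht' using hkill
  let s : M' := (∏ z ∈ F.attach, t' z.1 z.2) * t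
  refine ⟨(s : P), ⟨((∏ z ∈ F.attach, t' z.1 z.2 : M') : P) • g, fun j => ?_⟩, s.2⟩
  -- both sides are linear and agree on generators
  let W : Submodule P 𝔍 :=
    { carrier := {j | ((∏ z ∈ F.attach, t' z.1 z.2 : M') : P) • g (KaehlerDifferential.D R P (j : P)) =
        (s : P) • (𝔍).toCotangent j}
      add_mem' := fun {a b} ha hb => by
        simp only [Set.mem_ofPred_eq] at ha hb ⊢
        rw [Submodule.coe_add, map_add, map_add, map_add, smul_add, smul_add, ha, hb]
      zero_mem' := by simp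
      smul_mem' := fun c a ha => by
        simp only [Set.mem_ofPred_eq] at ha ⊢
        have h0 : ∀ w : (𝔍).Cotangent, (a : P) • w = 0 := fun w => by
          obtain ⟨b, rfl⟩ := (𝔍).toCotangent_surjective w
          rw [← map_smul]
          exact ((𝔍).toCotangent_eq_zero _).mpr (by rw [pow_two]; exact Ideal.mul_mem_mul a.2 b.2)
        rw [Submodule.coe_smul, smul_eq_mul, Derivation.leibniz, map_add, map_smul, map_smul, h0,
          add_zero, smul_comm, ha, smul_comm, ← map_smul] }
  have hker' : ∀ a : 𝔍, (a : P) ∈ 𝔍 ^ 2 → a ∈ W := by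
    rintro ⟨a, ha'⟩ ha
    show _ • g (KaehlerDifferential.D R P a) = _
    rw [((𝔍).toCotangent_eq_zero _).mpr ha, smul_zero]
    suffices g (KaehlerDifferential.D R P a) = 0 by rw [this, smul_zero]
    replace ha : a ∈ 𝔍 ^ 2 := ha
    clear ha'
    rw [pow_two] at ha
    induction ha using Submodule.mul_induction_on' with
    | mem_mul_mem x hx y hy =>
      have h0 : ∀ (x : P), x ∈ 𝔍 → ∀ w : (𝔍).Cotangent, x • w = 0 := fun x hx w => by
        obtain ⟨b, rfl⟩ := (𝔍).toCotangent_surjective w
        rw [← map_smul]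
        exact ((𝔍).toCotangent_eq_zero _).mpr (by rw [pow_two]; exact Ideal.mul_mem_mul hx b.2)
      rw [Derivation.leibniz, map_add, map_smul, map_smul, h0 x hx, h0 y hy, add_zero]
    | add x hx y hy h h' => rw [map_add, map_add, h, h', add_zero]
  have hgen : ∀ z : (𝔍).Cotangent, ∃ b ∈ W, (𝔍).toCotangent b = z := by
    intro z
    have hz : z ∈ Submodule.span P (↑F : Set (𝔍).Cotangent) := by rw [hF]; trivial
    induction hz using Submodule.span_induction with
    | mem z hz =>
      refine ⟨rep z, ?_, hrep z⟩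
      show _ • g (KaehlerDifferential.D R P (rep z : P)) = _
      have h := ht' z hz
      rw [smul_sub, sub_eq_zero] at h
      rw [← Finset.prod_erase_mul F.attach _ (Finset.mem_attach F ⟨z, hz⟩), Submonoid.coe_mul, mul_smul, h,
        hrep]
      simp only [s, Submonoid.coe_mul, ← Finset.prod_erase_mul F.attach _ (Finset.mem_attach F ⟨z, hz⟩),
        mul_smul]
    | zero => exact ⟨0, zero_mem _, map_zero _⟩
    | add a b _ _ ha hb =>
      obtain ⟨a', ha', rfl⟩ := ha
      obtain ⟨b', hb', rfl⟩ := hb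
      exact ⟨a' + b', add_mem ha' hb', map_add _ _ _⟩
    | smul c a _ ha =>
      obtain ⟨a', ha', rfl⟩ := ha
      exact ⟨c • a', W.smul_mem c ha', map_smul _ _ _⟩
  obtain ⟨b, hb, hbz⟩ := hgen ((𝔍).toCotangent j)
  have hjb : j - b ∈ W := by
    refine hker' _ (((𝔍).toCotangent_eq_zero _).mp ?_)
    rw [map_sub, hbz, sub_self]
  have := W.add_mem hjb hb
  rw [sub_add_cancel] at this
  exact this

/-- Formal smoothness is local at maximal ideals. -/
theorem formallySmooth_of_forall_maximal (hsurj : Function.Surjective (algebraMap P C))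
    [Module.Finite P (𝔍).Cotangent]
    (h : ∀ (m : Ideal C) [m.IsMaximal], Algebra.FormallySmooth R (Localization.AtPrime m)) :
    Algebra.FormallySmooth R C := by
  have htop : (retrIdeal R 𝔍).map (algebraMap P C) = ⊤ := by
    by_contra hne
    obtain ⟨m, hm, hle⟩ := Ideal.exists_le_maximal _ hne
    haveI := hm
    haveI := h m
    obtain ⟨s, hs, hsm⟩ := exists_retr (R := R) hsurj m.primeCompl (Localization.AtPrime m)
    exact hsm (hle (Ideal.mem_map_of_mem _ hs))
  have h1 : (1 : C) ∈ (retrIdeal R 𝔍).map (algebraMap P C) := htop ▸ Submodule.mem_top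
  obtain ⟨s, hs, hs1⟩ := (Ideal.mem_map_iff_of_surjective _ hsurj).mp h1
  haveI : IsLocalization (⊥ : Submonoid C) C := IsLocalization.self fun x hx => by
    rw [Submonoid.mem_bot] at hx; subst hx; exact isUnit_one
  exact formallySmooth_of_retr hsurj ⊥ C hs (Submonoid.mem_bot.mpr hs1)

section Local

variable {B N₁ N₂ : Type u} [CommRing B] [IsLocalRing B] [AddCommGroup N₁] [Module B N₁]
  [AddCommGroup N₂] [Module B N₂]

/-- A map from a finite module to a projective one that is injective on the residue field is split. -/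
theorem split_of_lTensor [Module.Finite B N₁] [Module.Projective B N₂] (f : N₁ →ₗ[B] N₂)
    (hf : Function.Injective (f.lTensor (ResidueField B))) : ∃ g, g ∘ₗ f = LinearMap.id := by
  classical
  obtain ⟨i, hi⟩ := Module.projective_def.mp (inferInstance : Module.Projective B N₂)
  have hif : Function.Injective ((i ∘ₗ f).lTensor (ResidueField B)) := by
    refine Function.Injective.of_comp (f := (Finsupp.linearCombination B id).lTensor (ResidueField B)) ?_
    rw [← LinearMap.coe_comp, ← LinearMap.lTensor_comp, ← LinearMap.comp_assoc,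
      show Finsupp.linearCombination B id ∘ₗ i = LinearMap.id from LinearMap.ext hi, LinearMap.id_comp]
    exact hf
  obtain ⟨F, hF⟩ := Module.Finite.fg_top (R := B) (M := N₁)
  let S : Finset N₂ := F.biUnion fun z => (i (f z)).support
  let q : (N₂ →₀ B) →ₗ[B] (S → B) := LinearMap.pi fun s => Finsupp.lapply (s : N₂)
  let r : (S → B) →ₗ[B] (N₂ →₀ B) := Fintype.linearCombination B fun s : S => Finsupp.single (s : N₂) 1
  have hrq : r ∘ₗ q ∘ₗ i ∘ₗ f = i ∘ₗ f := by
    refine LinearMap.ext_on hF fun z hz => ?_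
    simp only [r, q, LinearMap.comp_apply, Fintype.linearCombination_apply, LinearMap.pi_apply,
      Finsupp.lapply_apply, Finsupp.smul_single, smul_eq_mul, mul_one]
    rw [Finset.sum_coe_sort S fun s => Finsupp.single s (i (f z) s)]
    refine Eq.trans ?_ (Finsupp.sum_single _)
    exact (Finset.sum_subset (Finset.subset_biUnion_of_mem (fun z => (i (f z)).support) hz)
      fun x _ hx => by rw [Finsupp.notMem_support_iff.mp hx, Finsupp.single_zero]).symm
  have hq : Function.Injective ((q ∘ₗ i ∘ₗ f).lTensor (ResidueField B)) := by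
    refine Function.Injective.of_comp (f := r.lTensor (ResidueField B)) ?_
    rw [← LinearMap.coe_comp, ← LinearMap.lTensor_comp, hrq]
    exact hif
  obtain ⟨g, hg⟩ := (IsLocalRing.split_injective_iff_lTensor_residueField_injective _).mpr hq
  exact ⟨g ∘ₗ q ∘ₗ i, hg⟩

end Local

section Lifts

open Groth.Agent.Lib.Unram.ArtinianLifting

variable {R B : Type u} [CommRing R] [CommRing B] [Algebra R B] [IsLocalRing B]

/-- The lifting criterion without finiteness of `Ω[P⁄R]` (adapted from `Lib.Unram.ArtinianLifting`). -/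
theorem formallySmooth_of_hasLifts_local {P : Type u} [CommRing P] [IsLocalRing P] [IsNoetherianRing P]
    [Algebra R P] [Algebra P B] [IsScalarTower R P B] [Algebra.FormallySmooth R P]
    
    (hs : Function.Surjective (algebraMap P B)) (hlift : HasLifts R B) :
    Algebra.FormallySmooth R B := by
  classical
  have : Nontrivial B := inferInstance
  have hJm : RingHom.ker (algebraMap P B) ≤ maximalIdeal P :=
    IsLocalRing.le_maximalIdeal (RingHom.ker_ne_top _)
  have hφm : (maximalIdeal P).map (algebraMap P B) = maximalIdeal B := by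
    have := IsLocalHom.of_surjective (algebraMap P B) hs
    refine le_antisymm (IsLocalRing.map_maximalIdeal_le _) fun b hb => ?_
    obtain ⟨x, rfl⟩ := hs b
    exact Ideal.mem_map_of_mem _ fun hx => hb (hx.map _)
  set J := RingHom.ker (algebraMap P B) with hJ
  set m := maximalIdeal P with hm
  suffices hinj : Function.Injective
      (KaehlerDifferential.cotangentComplexBaseChange R B P (ResidueField B)) by
    let P' : Algebra.Extension R B :=
      { Ring := P, σ := Function.surjInv hs, algebraMap_σ := Function.surjInv_eq hs }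
    haveI : Module.Finite P'.Ring P'.ker := .of_fg (IsNoetherian.noetherian (R := P) (RingHom.ker (algebraMap P B)))
    haveI : Module.Finite P'.Ring P'.Cotangent :=
      .of_surjective _ Algebra.Extension.Cotangent.mk_surjective
    haveI : Module.Finite B P'.Cotangent := Module.Finite.of_restrictScalars_finite P'.Ring _ _
    haveI : Algebra.FormallySmooth R P'.Ring := inferInstanceAs (Algebra.FormallySmooth R P)
    haveI : Module.Projective B P'.CotangentSpace :=
      inferInstanceAs (Module.Projective B (B ⊗[P] Ω[P⁄R]))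
    rw [P'.formallySmooth_iff_split_injection]
    refine split_of_lTensor _ ?_
    rw [P'.cotangentComplexBaseChange_eq_lTensor_cotangentComplex (ResidueField B)] at hinj
    rw [LinearMap.coe_comp, LinearMap.coe_comp, ← Function.comp_assoc, LinearEquiv.coe_coe,
      LinearEquiv.coe_coe, EquivLike.injective_comp, EquivLike.comp_injective] at hinj
    exact hinj
  rw [injective_iff_map_eq_zero]
  intro z hz
  obtain ⟨j, rfl⟩ : ∃ j : J, (1 : ResidueField B) ⊗ₜ[P] j = z := by
    clear hz
    induction z using TensorProduct.induction_on with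
    | zero => exact ⟨0, TensorProduct.tmul_zero _ _⟩
    | tmul c j =>
      obtain ⟨b, rfl⟩ := IsLocalRing.residue_surjective c
      obtain ⟨x, rfl⟩ := hs b
      refine ⟨x • j, ?_⟩
      rw [← TensorProduct.smul_tmul, Algebra.smul_def, mul_one]
      rfl
    | add a b ha hb =>
      obtain ⟨i, rfl⟩ := ha
      obtain ⟨j, rfl⟩ := hb
      exact ⟨i + j, TensorProduct.tmul_add _ _ _⟩
  rw [KaehlerDifferential.cotangentComplexBaseChange_tmul, one_smul,
    KaehlerDifferential.kerToTensor_apply] at hz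
  have hsK : Function.Surjective (algebraMap P (ResidueField B)) :=
    IsLocalRing.residue_surjective.comp hs
  have hkerK : RingHom.ker (algebraMap P (ResidueField B)) = m :=
    IsLocalRing.eq_maximalIdeal (RingHom.ker_isMaximal_of_surjective _ hsK)
  have hDj : KaehlerDifferential.D R P (j : P) ∈ (m • ⊤ : Submodule P Ω[P⁄R]) := by
    let e : (P ⧸ m) ≃ₐ[P] ResidueField B :=
      (Ideal.quotientEquivAlgOfEq P hkerK.symm).trans
        (Ideal.quotientKerAlgEquivOfSurjective (f := Algebra.ofId P (ResidueField B)) hsK)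
    have h' : (1 : P ⧸ m) ⊗ₜ[P] KaehlerDifferential.D R P (j : P) = 0 := by
      apply (TensorProduct.congr e.toLinearEquiv (LinearEquiv.refl P Ω[P⁄R])).injective
      rw [TensorProduct.congr_tmul, map_zero, LinearEquiv.refl_apply]
      refine Eq.trans ?_ hz
      congr 1
      exact map_one e
    rw [← LinearMap.ker_tensorProductMk (Q := Ω[P⁄R]) (I := m)]
    exact h'
  -- the small extension
  obtain ⟨k, hk⟩ := Ideal.exists_pow_inf_eq_pow_smul m (J : Submodule P P)
  let N := k + 1
  let K₀ : Ideal P := m * J ⊔ m ^ N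
  have hK₀ : K₀ ≤ m := sup_le Ideal.mul_le_left (Ideal.pow_le_self (Nat.succ_ne_zero k))
  let A' := P ⧸ K₀
  have : Nontrivial A' := Ideal.Quotient.nontrivial_iff.mpr fun h =>
    (maximalIdeal.isMaximal P).ne_top (top_le_iff.mp (h.ge.trans hK₀))
  have : IsLocalRing A' := IsLocalRing.of_surjective' _ Ideal.Quotient.mk_surjective
  have hmA : maximalIdeal A' = m.map (Ideal.Quotient.mk K₀) :=
    (IsLocalRing.eq_maximalIdeal (Ideal.IsMaximal.map_of_surjective_of_ker_le
      Ideal.Quotient.mk_surjective (m := m) (by rwa [Ideal.mk_ker]))).symm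
  have : IsArtinianRing A' := by
    rw [isArtinianRing_iff_isNilpotent_maximalIdeal]
    refine ⟨N, ?_⟩
    rw [hmA, ← Ideal.map_pow, Ideal.zero_eq_bot, Ideal.map_eq_bot_iff_le_ker, Ideal.mk_ker]
    exact le_sup_right
  let I : Ideal A' := (J ⊔ m ^ N).map (Ideal.Quotient.mk K₀)
  have hIm : I ≤ maximalIdeal A' := hmA ▸ Ideal.map_mono (sup_le hJm (Ideal.pow_le_self (Nat.succ_ne_zero k)))
  have hI0 : I * maximalIdeal A' = ⊥ := by
    rw [hmA, ← Ideal.map_mul, Ideal.map_eq_bot_iff_le_ker, Ideal.mk_ker, Ideal.sup_mul]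
    exact sup_le (le_sup_of_le_left (Ideal.mul_comm J m).le) (le_sup_of_le_right Ideal.mul_le_left)
  have hI : I ≠ ⊤ := fun h =>
    (maximalIdeal.isMaximal A').ne_top (top_le_iff.mp (h.ge.trans hIm))
  let g₀ : B →+* A' ⧸ I := RingHom.liftOfSurjective (algebraMap P B) hs
    ⟨(Ideal.Quotient.mk I).comp (Ideal.Quotient.mk K₀), fun x hx => by
      rw [RingHom.mem_ker, RingHom.comp_apply, Ideal.Quotient.eq_zero_iff_mem]
      exact Ideal.mem_map_of_mem _ (Ideal.mem_sup_left hx)⟩
  have hg₀ : ∀ x, g₀ (algebraMap P B x) = Ideal.Quotient.mk I (Ideal.Quotient.mk K₀ x) := fun x =>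
    RingHom.liftOfRightInverse_comp_apply _ _ _ _ x
  obtain ⟨g, hgR, hgI⟩ := hlift A' (algebraMap R A') I hI hI0 g₀ (RingHom.ext fun r => by
      rw [RingHom.comp_apply, RingHom.comp_apply, IsScalarTower.algebraMap_apply R P B, hg₀]
      rfl)
    (fun b hb => by
      rw [← hφm] at hb
      obtain ⟨x, hx, rfl⟩ := (Ideal.mem_map_iff_of_surjective _ hs).mp hb
      rw [hg₀, hmA]
      exact Ideal.mem_map_of_mem _ (Ideal.mem_map_of_mem _ hx))
    (fun a => by
      obtain ⟨x, rfl⟩ := Ideal.Quotient.mk_surjective a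
      exact ⟨algebraMap P B x, by rw [hg₀, sub_self]; exact zero_mem _⟩)
  have hgR' : ∀ r, g (algebraMap P B (algebraMap R P r)) = algebraMap R A' r := fun r => by
    rw [← IsScalarTower.algebraMap_apply R P B]; exact RingHom.congr_fun hgR r
  have hdiff : ∀ x, Ideal.Quotient.mk K₀ x - g (algebraMap P B x) ∈ I := fun x => by
    rw [← Ideal.Quotient.eq_zero_iff_mem, map_sub, ← hg₀, sub_eq_zero]
    exact (RingHom.congr_fun hgI _).symm
  let d : P →ₗ[R] A' :=
    { toFun := fun x => Ideal.Quotient.mk K₀ x - g (algebraMap P B x)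
      map_add' := fun x y => by simp only [map_add]; abel
      map_smul' := fun r x => by
        simp only [RingHom.id_apply, Algebra.smul_def, map_mul, hgR']
        rw [mul_sub]
        rfl }
  let D : Derivation R P A' := Derivation.mk' d fun x y => by
    have h0 : (Ideal.Quotient.mk K₀ x - g (algebraMap P B x)) *
        (Ideal.Quotient.mk K₀ y - g (algebraMap P B y)) = 0 := by
      rw [← Ideal.mem_bot, ← hI0]
      exact Ideal.mul_mem_mul (hdiff x) (hIm (hdiff y))
    simp only [d, LinearMap.coe_mk, AddHom.coe_mk, map_mul, Algebra.smul_def,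
      Ideal.Quotient.algebraMap_eq]
    linear_combination -h0
  let L := D.liftKaehlerDifferential
  have hL : ∀ ω, L ω ∈ I := fun ω => by
    have hω : ω ∈ Submodule.span P (Set.range (KaehlerDifferential.D R P)) := by
      rw [KaehlerDifferential.span_range_derivation]; trivial
    induction hω using Submodule.span_induction with
    | mem w hw =>
      obtain ⟨x, rfl⟩ := hw
      rw [Derivation.liftKaehlerDifferential_comp_D]
      exact hdiff x
    | zero => rw [map_zero]; exact zero_mem _
    | add a b _ _ ha hb => rw [map_add]; exact add_mem ha hb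
    | smul c w _ hw =>
      rw [map_smul, Algebra.smul_def]
      exact Ideal.mul_mem_left _ _ hw
  have hL0 : L (KaehlerDifferential.D R P (j : P)) = 0 := by
    refine Submodule.smul_induction_on hDj (fun r hr w _ => ?_) (fun a b ha hb => by simp [ha, hb])
    rw [map_smul, Algebra.smul_def, ← Ideal.mem_bot, ← hI0, mul_comm (algebraMap P A' r)]
    refine Ideal.mul_mem_mul ?_ ?_
    · exact hL w
    · rw [hmA]
      exact Ideal.mem_map_of_mem _ hr
  rw [Derivation.liftKaehlerDifferential_comp_D] at hL0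
  have hj0 : algebraMap P B (j : P) = 0 := j.2
  have hjK : (j : P) ∈ K₀ := by
    rw [← Ideal.Quotient.eq_zero_iff_mem]
    have : Ideal.Quotient.mk K₀ (j : P) - g (algebraMap P B (j : P)) = 0 := hL0
    rwa [hj0, map_zero, sub_zero] at this
  obtain ⟨a, ha, b, hb, hab⟩ := Submodule.mem_sup.mp hjK
  have hbJ : b ∈ (m ^ N • ⊤ ⊓ J : Submodule P P) := by
    refine ⟨?_, ?_⟩
    · change b ∈ m ^ N * (⊤ : Ideal P)
      rwa [Ideal.mul_top]
    have h1 : a ∈ J := Ideal.mul_le_right ha
    have : b = (j : P) - a := by rw [← hab]; ring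
    rw [this]
    exact sub_mem j.2 h1
  rw [hk N (Nat.le_succ k), show N - k = 1 by omega, pow_one] at hbJ
  have hbm : b ∈ m * J := (Submodule.smul_mono le_rfl inf_le_right : _ ≤ m • (J : Submodule P P)) hbJ
  have hjmJ : (j : P) ∈ m * J := hab ▸ add_mem ha hbm
  -- hence `1 ⊗ j = 0`
  have hkill : ∀ w ∈ (m • ⊤ : Submodule P J), (1 : ResidueField B) ⊗ₜ[P] w = 0 := fun w hw => by
    refine Submodule.smul_induction_on hw (fun r hr v _ => ?_)
      (fun a b ha hb => by rw [TensorProduct.tmul_add, ha, hb, add_zero])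
    rw [← TensorProduct.smul_tmul, Algebra.smul_def, mul_one,
      show algebraMap P (ResidueField B) r = 0 from hkerK.ge hr, TensorProduct.zero_tmul]
  refine hkill j ?_
  have h2 : (j : P) ∈ (m • ⊤ : Submodule P J).map J.subtype := by
    rw [Submodule.map_smul'', Submodule.map_top, Submodule.range_subtype]
    exact hjmJ
  obtain ⟨w, hw, hwj⟩ := h2
  rwa [← Subtype.ext hwj]

end Lifts

end Groth.Agent.H68.FSLocal
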