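import Groth.Agent.Lib.GRing.Detect
import Groth.Agent.Lib.Cohen.PSDerivation
import Mathlib.Algebra.Polynomial.Expand
import Mathlib.FieldTheory.IntermediateField.Adjoin.Basic

/-!
# Derivations of finitely generated extensions detecting non-`p`-th powers
-/

set_option autoImplicit false
set_option linter.style.haveILetI false

universe u

open Polynomial

namespace Groth.Agent.H68.FTDerivation

variable {M : Type u} [Field M] (p : ℕ) [Fact p.Prime] [CharP M p]
variable {ι : Type u}

/-- The subfield `G₀ i · K ^ p`. -/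
def G (G₀ : ι → Subfield M) (K : Subfield M) (i : ι) : Subfield M :=
  Subfield.closure ((G₀ i : Set M) ∪ (fun z => z ^ p) '' (K : Set M))

/-- Elements in all `G₀ i · K ^ p` are `p`-th powers in `K`. -/
def Good (G₀ : ι → Subfield M) (K : Subfield M) : Prop :=
  (∀ i, G₀ i ≤ K) ∧ ∀ f ∈ K, (∀ i, f ∈ G p G₀ K i) → ∃ z ∈ K, z ^ p = f

variable {p} {G₀ : ι → Subfield M} {K : Subfield M}

omit [Fact p.Prime] [CharP M p] in
theorem G_le (hK : ∀ i, G₀ i ≤ K) (i : ι) : G p G₀ K i ≤ K := by
  refine Subfield.closure_le.2 (Set.union_subset (hK i) ?_)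
  rintro _ ⟨z, hz, rfl⟩
  exact pow_mem hz p

omit [Fact p.Prime] [CharP M p] in
theorem pow_mem_G {z : M} (hz : z ∈ K) (i : ι) : z ^ p ∈ G p G₀ K i :=
  Subfield.subset_closure (Or.inr ⟨z, hz, rfl⟩)

/-- The finite step. -/
theorem good_of_finite [Preorder ι] [IsDirected ι (· ≤ ·)] [Nonempty ι]
    (hanti : ∀ i j, i ≤ j → G₀ j ≤ G₀ i) (hK : Good p G₀ K) (K' : IntermediateField K M)
    [FiniteDimensional K K'] : Good p G₀ K'.toSubfield := by
  classical
  haveI : ExpChar M p := ExpChar.prime Fact.out
  have hKK' : K ≤ K'.toSubfield := fun x hx => K'.algebraMap_mem ⟨x, hx⟩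
  refine ⟨fun i => (hK.1 i).trans hKK', fun f hfK' hf => ?_⟩
  by_contra hne
  push Not at hne
  let v := Module.finBasis K K'
  let w : Fin (Module.finrank K K') → M := fun l => (v l : M)
  have hspan : ∀ x ∈ K'.toSubfield, ∃ c : Fin (Module.finrank K K') → K, ∑ l, (c l : M) * w l = x := by
    intro x hx
    refine ⟨fun l => v.repr ⟨x, hx⟩ l, ?_⟩
    have h := congrArg (algebraMap K' M) (v.sum_repr ⟨x, hx⟩)
    rw [map_sum] at h
    refine Eq.trans (Finset.sum_congr rfl fun l _ => ?_) h
    rw [Algebra.smul_def, map_mul, ← IsScalarTower.algebraMap_apply]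
    rfl
  have hindep : ∀ c : Fin (Module.finrank K K') → K, ∑ l, (c l : M) * w l = 0 → c = 0 := by
    intro c hc
    refine funext (Fintype.linearIndependent_iff.1 v.linearIndependent c ((algebraMap K' M).injective ?_))
    rw [map_sum, map_zero, ← hc]
    refine Finset.sum_congr rfl fun l _ => ?_
    rw [Algebra.smul_def, map_mul, ← IsScalarTower.algebraMap_apply]
    rfl
  have hanti' : ∀ i j, i ≤ j → G p G₀ K j ≤ G p G₀ K i := fun i j hij =>
    Subfield.closure_mono (Set.union_subset_union_left _ (hanti i j hij))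
  obtain ⟨i₀, hi₀⟩ := Groth.Agent.Lib.PBasis.Eventual.eventually_relations (G p G₀ K) hanti'
    (fun a : Option (Fin (Module.finrank K K')) => Option.elim a f fun l => w l ^ p) fun g hg hsum => by
    obtain ⟨i₁⟩ := ‹Nonempty ι›
    choose e heK he using fun a => hK.2 (g a) (G_le hK.1 i₁ (hg a i₁)) (hg a)
    have hsum' : e none ^ p * f + (∑ l, e (some l) * w l) ^ p = 0 := by
      rw [sum_pow_char, ← hsum, Fintype.sum_option]
      simp only [Option.elim, ← he, mul_pow]
    have he0 : e none = 0 := by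
      by_contra h0
      refine hne (-(∑ l, e (some l) * w l) / e none) (div_mem (neg_mem (sum_mem fun l _ =>
        mul_mem (hKK' (heK _)) (v l).2)) (hKK' (heK _))) ?_
      have hn : (-(∑ l, e (some l) * w l)) ^ p = -((∑ l, e (some l) * w l) ^ p) := by
        rw [neg_pow, show (-1 : M) ^ p = -1 by
          rw [← frobenius_def, map_neg, map_one], neg_one_mul]
      rw [div_pow, hn, eq_neg_of_add_eq_zero_right hsum', neg_neg,
        mul_div_cancel_left₀ _ (pow_ne_zero _ h0)]
    have hsum'' : ∑ l, e (some l) * w l = 0 := by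
      rw [he0, zero_pow (Fact.out : p.Prime).ne_zero, zero_mul, zero_add] at hsum'
      exact eq_zero_of_pow_eq_zero hsum'
    have hall := hindep (fun l => ⟨e (some l), heK _⟩) hsum''
    funext a
    cases a with
    | none => rw [← he, he0]; simp [(Fact.out : p.Prime).ne_zero]
    | some l =>
      rw [← he, show e (some l) = 0 from congrArg Subtype.val (congrFun hall l)]
      simp [(Fact.out : p.Prime).ne_zero]
  let V : Submodule (G p G₀ K i₀) M := Submodule.span (G p G₀ K i₀) (Set.range fun l => w l ^ p)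
  have hMp : ∀ x ∈ K'.toSubfield, x ^ p ∈ V := by
    intro x hx
    obtain ⟨c, rfl⟩ := hspan x hx
    rw [sum_pow_char]
    refine Submodule.sum_mem _ fun l _ => ?_
    rw [mul_pow]
    exact V.smul_mem (⟨_, pow_mem_G (c l).2 i₀⟩ : G p G₀ K i₀) (Submodule.subset_span ⟨l, rfl⟩)
  have h1 : (1 : M) ∈ V := by simpa using hMp 1 (one_mem _)
  have hmul : ∀ x ∈ V, ∀ y ∈ V, x * y ∈ V := by
    intro x hx y hy
    induction hx using Submodule.span_induction with
    | mem z hz =>
      obtain ⟨l, rfl⟩ := hz
      induction hy using Submodule.span_induction with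
      | mem z hz => obtain ⟨l', rfl⟩ := hz; rw [← mul_pow]; exact hMp _ (mul_mem (v l).2 (v l').2)
      | zero => rw [mul_zero]; exact V.zero_mem
      | add a b _ _ ha hb => rw [mul_add]; exact V.add_mem ha hb
      | smul r a _ ha => rw [mul_smul_comm]; exact V.smul_mem r ha
    | zero => rw [zero_mul]; exact V.zero_mem
    | add a b _ _ ha hb => rw [add_mul]; exact V.add_mem ha hb
    | smul r a _ ha => rw [smul_mul_assoc]; exact V.smul_mem r ha
  have hVK' : ∀ x ∈ V, x ∈ K'.toSubfield := by
    intro x hx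
    induction hx using Submodule.span_induction with
    | mem z hz => obtain ⟨l, rfl⟩ := hz; exact pow_mem (v l).2 p
    | zero => exact zero_mem _
    | add a b _ _ ha hb => exact add_mem ha hb
    | smul r a _ ha => exact mul_mem (hKK' (G_le hK.1 i₀ r.2)) ha
  have hpow : ∀ x ∈ V, ∀ n : ℕ, x ^ n ∈ V := by
    intro x hx n
    induction n with
    | zero => rwa [pow_zero]
    | succ n ih => rw [pow_succ]; exact hmul _ ih _ hx
  let T : Subfield M :=
    { carrier := V
      mul_mem' := fun {a b} ha hb => hmul a ha b hb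
      one_mem' := h1
      add_mem' := fun {a b} ha hb => V.add_mem ha hb
      zero_mem' := V.zero_mem
      neg_mem' := fun {a} ha => V.neg_mem ha
      inv_mem' := fun x hx => by
        change x⁻¹ ∈ V
        rcases eq_or_ne x 0 with rfl | hx0
        · rw [inv_zero]; exact V.zero_mem
        · have hp1 : p - 1 + 1 = p := Nat.succ_pred_eq_of_pos (Fact.out : p.Prime).pos
          have e : x⁻¹ = x ^ (p - 1) * (x⁻¹) ^ p := by
            conv_rhs => rw [inv_pow, ← hp1, pow_succ, mul_inv, hp1]
            rw [← mul_assoc, mul_inv_cancel₀ (pow_ne_zero _ hx0), one_mul]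
          rw [e]
          exact hmul _ (hpow x hx _) _ (hMp _ (inv_mem (hVK' x hx))) }
  have hfT : f ∈ V := by
    refine (Subfield.closure_le (t := T)).2 (Set.union_subset (fun g hg => ?_) ?_) (hf i₀)
    · rw [← mul_one g]
      exact V.smul_mem (⟨g, Subfield.subset_closure (Or.inl hg)⟩ : G p G₀ K i₀) h1
    · rintro _ ⟨z, hz, rfl⟩
      exact hMp z hz
  obtain ⟨c, hc⟩ := (Submodule.mem_span_range_iff_exists_fun _).1 hfT
  have := congrFun (hi₀ i₀ le_rfl (fun a => Option.elim a (-1) fun l => (c l : M)) (fun a => by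
      cases a with
      | none => exact (G p G₀ K i₀).neg_mem (G p G₀ K i₀).one_mem
      | some l => exact (c l).2) (by
    rw [Fintype.sum_option]
    simp only [Option.elim, neg_mul, one_mul]
    rw [← hc, neg_add_eq_zero]
    exact Finset.sum_congr rfl fun l _ => Subfield.smul_def _ _)) none
  simp at this

variable (p) in
/-- Polynomials with coefficients in `F` and exponents divisible by `p`. -/
def pPoly {L : Type u} [Field L] (F : Subfield L) : Subring L[X] where
  carrier := {w | ∀ n, w.coeff n ∈ F ∧ (w.coeff n ≠ 0 → p ∣ n)}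
  one_mem' := fun n => by
    rw [coeff_one]
    split_ifs with h
    · exact ⟨one_mem _, fun _ => h ▸ dvd_zero p⟩
    · exact ⟨zero_mem _, fun h => absurd rfl h⟩
  zero_mem' := fun n => by simp
  neg_mem' := fun {a} ha n => by
    rw [coeff_neg]
    exact ⟨neg_mem (ha n).1, fun h => (ha n).2 (fun h0 => h (by rw [h0, neg_zero]))⟩
  add_mem' := fun {a b} ha hb n => by
    rw [coeff_add]
    refine ⟨add_mem (ha n).1 (hb n).1, fun h => ?_⟩
    by_cases h0 : a.coeff n = 0
    · exact (hb n).2 fun h1 => h (by rw [h0, h1, add_zero])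
    · exact (ha n).2 h0
  mul_mem' := fun {a b} ha hb n => by
    rw [coeff_mul]
    refine ⟨sum_mem fun x _ => mul_mem (ha _).1 (hb _).1, fun h => ?_⟩
    obtain ⟨x, hx, hx0⟩ := Finset.exists_ne_zero_of_sum_ne_zero h
    rw [← Finset.mem_antidiagonal.1 hx]
    exact dvd_add ((ha _).2 (left_ne_zero_of_mul hx0)) ((hb _).2 (right_ne_zero_of_mul hx0))

omit [CharP M p] in
theorem mem_pPoly_of_mul {L : Type u} [Field L] {F : Subfield L} {w z : L[X]} (hz : z ∈ pPoly p F) (hz0 : z ≠ 0)
    (hwz : w * z ∈ pPoly p F) : w ∈ pPoly p F := by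
  induction hN : w.natDegree using Nat.strong_induction_on generalizing w with
  | h N ih =>
    subst hN
    rcases eq_or_ne w 0 with rfl | hw0
    · exact Subring.zero_mem _
    have hlz : z.leadingCoeff ≠ 0 := leadingCoeff_ne_zero.2 hz0
    have hlw : w.leadingCoeff ≠ 0 := leadingCoeff_ne_zero.2 hw0
    have hl := hwz (w.natDegree + z.natDegree)
    rw [coeff_mul_degree_add_degree] at hl
    have hdvd : p ∣ w.natDegree :=
      (Nat.dvd_add_left ((hz _).2 (show z.coeff z.natDegree ≠ 0 from hlz))).1 (hl.2 (mul_ne_zero hlw hlz))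
    have hc : w.leadingCoeff ∈ F := by
      have := F.div_mem hl.1 (hz z.natDegree).1
      rwa [show z.coeff z.natDegree = z.leadingCoeff from rfl, mul_div_cancel_right₀ _ hlz] at this
    have hlead : C w.leadingCoeff * X ^ w.natDegree ∈ pPoly p F := fun n => by
      rw [coeff_C_mul_X_pow]
      split_ifs with h
      · exact ⟨hc, fun _ => h ▸ hdvd⟩
      · exact ⟨zero_mem _, fun h => absurd rfl h⟩
    rw [← w.eraseLead_add_C_mul_X_pow]
    refine Subring.add_mem _ ?_ hlead
    rcases eraseLead_natDegree_lt_or_eraseLead_eq_zero w with h | h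
    · refine ih _ h ?_ rfl
      rw [show w.eraseLead * z = w * z - C w.leadingCoeff * X ^ w.natDegree * z by
        conv_rhs => enter [1, 1]; rw [← w.eraseLead_add_C_mul_X_pow]
        ring]
      exact Subring.sub_mem _ hwz (Subring.mul_mem _ hlead hz)
    · rw [h]; exact Subring.zero_mem _

/-- The transcendental step. -/
theorem good_of_transcendental [Nonempty ι] (hK : Good p G₀ K) (t : M) (ht : Transcendental K t) :
    Good p G₀ (IntermediateField.adjoin K {t}).toSubfield := by
  classical
  haveI : ExpChar M p := ExpChar.prime Fact.out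
  haveI : CharP K p := (RingHom.charP_iff (algebraMap K M) (algebraMap K M).injective p).2 ‹_›
  haveI : ExpChar K p := ExpChar.prime Fact.out
  let K' := IntermediateField.adjoin K {t}
  let φ : K[X] →ₐ[K] M := aeval t
  have hφ : Function.Injective φ := transcendental_iff_injective.1 ht
  have hKK' : K ≤ K'.toSubfield := fun x hx => K'.algebraMap_mem ⟨x, hx⟩
  refine ⟨fun i => (hK.1 i).trans hKK', fun f hfK' hf => ?_⟩
  have hfrac : ∀ x ∈ K'.toSubfield, ∃ a b : K[X], φ a / φ b = x := by
    intro x hx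
    obtain ⟨a, b, h⟩ := IntermediateField.mem_adjoin_simple_iff K (α := t) x |>.1 hx
    exact ⟨a, b, h.symm⟩
  obtain ⟨a, b, rfl⟩ := hfrac f hfK'
  rcases eq_or_ne (φ b) 0 with hb | hb
  · exact ⟨0, zero_mem _, by rw [hb, div_zero, zero_pow (Fact.out : p.Prime).ne_zero]⟩
  let R : ι → Subring K[X] := fun i => pPoly p ((G p G₀ K i).comap (algebraMap K M))
  have hC : ∀ i (x : K), (x : M) ∈ G p G₀ K i → C x ∈ R i := fun i x hx n => by
    rw [coeff_C]
    split_ifs with h
    · exact ⟨hx, fun _ => h ▸ dvd_zero p⟩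
    · exact ⟨zero_mem _, fun h => absurd rfl h⟩
  have hpowR : ∀ i (c : K[X]), c ^ p ∈ R i := fun i c n => by
    rw [← Polynomial.map_frobenius_expand (p := p) c, coeff_map, coeff_expand (Fact.out : p.Prime).pos]
    split_ifs with h
    · refine ⟨?_, fun _ => h⟩
      change (algebraMap K M) (c.coeff (n / p) ^ p) ∈ G p G₀ K i
      rw [map_pow]
      exact pow_mem_G (c.coeff (n / p)).2 i
    · rw [map_zero]
      exact ⟨zero_mem _, fun h => absurd rfl h⟩
  have hw : ∀ i, a * b ^ (p - 1) ∈ R i := by
    intro i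
    have hle : G p G₀ K'.toSubfield i ≤ Subfield.closure (φ '' (R i : Set K[X])) := by
      refine Subfield.closure_le.2 (Set.union_subset (fun g hg => ?_) ?_)
      · refine Subfield.subset_closure ⟨C ⟨g, hK.1 i hg⟩, hC i _ (Subfield.subset_closure (Or.inl hg)), ?_⟩
        simp [φ]
        rfl
      · rintro _ ⟨z, hz, rfl⟩
        obtain ⟨c, d, rfl⟩ := hfrac z hz
        show (φ c / φ d) ^ p ∈ _
        rw [div_pow, ← map_pow, ← map_pow]
        exact Subfield.div_mem _ (Subfield.subset_closure ⟨_, hpowR i c, rfl⟩)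
          (Subfield.subset_closure ⟨_, hpowR i d, rfl⟩)
    obtain ⟨u, hu, v, hv, huv⟩ := Subfield.mem_closure_iff.1 (hle (hf i))
    have hmap : ∀ u ∈ Subring.closure (φ '' (R i : Set K[X])), ∃ u' ∈ R i, φ u' = u := by
      intro u hu
      rw [show (φ '' (R i : Set K[X])) = φ.toRingHom '' (R i : Set K[X]) from rfl,
        ← RingHom.map_closure, Subring.closure_eq] at hu
      exact hu
    obtain ⟨u', hu', rfl⟩ := hmap u hu
    obtain ⟨v', hv', rfl⟩ := hmap v hv
    rcases eq_or_ne v' 0 with rfl | hv0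
    · rw [map_zero, div_zero, eq_comm, div_eq_zero_iff] at huv
      rw [hφ ((huv.resolve_right hb).trans (map_zero _).symm), zero_mul]
      exact Subring.zero_mem _
    refine mem_pPoly_of_mul hv' hv0 ?_
    rw [div_eq_div_iff ((map_ne_zero_iff _ hφ).2 hv0) hb, ← map_mul, ← map_mul] at huv
    have hp1 : p - 1 + 1 = p := Nat.succ_pred_eq_of_pos (Fact.out : p.Prime).pos
    have : a * b ^ (p - 1) * v' = u' * b ^ p := by
      conv_rhs => rw [← hp1, pow_succ', ← mul_assoc, hφ huv]
      ring
    rw [this]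
    exact Subring.mul_mem _ hu' (hpowR i b)
  -- the root
  choose c hcK hc using fun n => hK.2 _ ((a * b ^ (p - 1)).coeff n).2 (fun i => (hw i n).1)
  let r : K[X] := ∑ m ∈ Finset.range ((a * b ^ (p - 1)).natDegree + 1), C ⟨c (p * m), hcK _⟩ * X ^ m
  have hr : r ^ p = a * b ^ (p - 1) := by
    obtain ⟨i₁⟩ := ‹Nonempty ι›
    ext n
    rw [← Polynomial.map_frobenius_expand (p := p) r, coeff_map, coeff_expand (Fact.out : p.Prime).pos]
    split_ifs with h
    · obtain ⟨m, rfl⟩ := h
      rw [Nat.mul_div_cancel_left _ (Fact.out : p.Prime).pos, frobenius_def]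
      simp only [r, finset_sum_coeff, coeff_C_mul_X_pow]
      rw [Finset.sum_ite_eq]
      split_ifs with hm
      · rw [SubmonoidClass.coe_pow]
        exact hc _
      · rw [coeff_eq_zero_of_natDegree_lt]
        · simp [(Fact.out : p.Prime).ne_zero]
        · rw [Finset.mem_range, not_lt] at hm
          exact lt_of_lt_of_le hm (Nat.le_mul_of_pos_left m (Fact.out : p.Prime).pos)
    · rw [map_zero]
      have := mt (hw i₁ n).2 h
      push Not at this
      rw [this]
  refine ⟨φ r / φ b, div_mem ?_ ?_, ?_⟩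
  · exact (IntermediateField.mem_adjoin_simple_iff K _).2 ⟨r, 1, by simp [φ]⟩
  · exact (IntermediateField.mem_adjoin_simple_iff K _).2 ⟨b, 1, by simp [φ]⟩
  · have hp1 : p - 1 + 1 = p := Nat.succ_pred_eq_of_pos (Fact.out : p.Prime).pos
    rw [div_pow, ← map_pow, hr, div_eq_div_iff (pow_ne_zero _ hb) hb, map_mul, map_pow, mul_assoc,
      ← pow_succ, hp1]

/-- The inductive step. -/
theorem good_step [Preorder ι] [IsDirected ι (· ≤ ·)] [Nonempty ι]
    (hanti : ∀ i j, i ≤ j → G₀ j ≤ G₀ i) (hK : Good p G₀ K) (t : M) :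
    Good p G₀ (IntermediateField.adjoin K {t}).toSubfield := by
  by_cases h : Transcendental K t
  · exact good_of_transcendental hK t h
  · haveI := IntermediateField.adjoin.finiteDimensional (K := K) (x := t)
      (isAlgebraic_iff_isIntegral.1 (not_not.1 h))
    exact good_of_finite hanti hK _

/-- Derivations of algebras of finite type over a domain with small subrings of constants. -/
theorem exists_derivation {p : ℕ} [Fact p.Prime] (S : Type u) [CommRing S] [IsDomain S] [CharP S p]
    (hfam : Groth.Agent.Lib.GRing.Detect.Family p S) (B : Type u) [CommRing B] [IsDomain B] [Algebra S B]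
    [FaithfulSMul S B] [Algebra.FiniteType S B] (M : Type u) [Field M] [Algebra B M] [IsFractionRing B M]
    (f : B) (hf : ∀ z : M, z ^ p ≠ algebraMap B M f) : ∃ D : Derivation ℤ B B, D f ≠ 0 := by
  classical
  obtain ⟨ι, _, _, _, R, hanti, hfin, hpow, hdiv, hint⟩ := hfam
  letI : Algebra S M := ((algebraMap B M).comp (algebraMap S B)).toAlgebra
  haveI : IsScalarTower S B M := .of_algebraMap_eq' rfl
  have hinjB := IsFractionRing.injective B M
  have hinj : Function.Injective (algebraMap S M) := hinjB.comp (FaithfulSMul.algebraMap_injective S B)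
  haveI : CharP M p := charP_of_injective_ringHom hinj p
  haveI : ExpChar M p := ExpChar.prime Fact.out
  have hp1 : p - 1 + 1 = p := Nat.succ_pred_eq_of_pos (Fact.out : p.Prime).pos
  let K₀ : Subfield M := Subfield.closure (Set.range (algebraMap S M))
  let G₀ : ι → Subfield M := fun i => Subfield.closure (algebraMap S M '' (R i : Set S))
  have hanti₀ : ∀ i j, i ≤ j → G₀ j ≤ G₀ i := fun i j hij =>
    Subfield.closure_mono (Set.image_mono (hanti i j hij))
  have hK₀ : ∀ x ∈ K₀, ∃ a b : S, algebraMap S M a / algebraMap S M b = x := by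
    intro x hx
    obtain ⟨y, hy, z, hz, rfl⟩ := Subfield.mem_closure_iff.1 hx
    rw [← RingHom.coe_range, Subring.closure_eq] at hy hz
    obtain ⟨a, rfl⟩ := hy
    obtain ⟨b, rfl⟩ := hz
    exact ⟨a, b, rfl⟩
  have hbase : Good p G₀ K₀ := by
    refine ⟨fun i => Subfield.closure_mono (Set.image_subset_range _ _), fun g hgK hg => ?_⟩
    obtain ⟨a, b, rfl⟩ := hK₀ g hgK
    rcases eq_or_ne (algebraMap S M b) 0 with hb' | hb'
    · exact ⟨0, zero_mem _, by rw [hb', div_zero, zero_pow (Fact.out : p.Prime).ne_zero]⟩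
    have hw : ∀ i, a * b ^ (p - 1) ∈ R i := by
      intro i
      have hle : G p G₀ K₀ i ≤ G₀ i := by
        refine Subfield.closure_le.2 (Set.union_subset le_rfl ?_)
        rintro _ ⟨z, hz, rfl⟩
        obtain ⟨c, d, rfl⟩ := hK₀ z hz
        show (algebraMap S M c / algebraMap S M d) ^ p ∈ G₀ i
        rw [div_pow, ← map_pow, ← map_pow]
        exact (G₀ i).div_mem (Subfield.subset_closure ⟨_, hpow i c, rfl⟩)
          (Subfield.subset_closure ⟨_, hpow i d, rfl⟩)
      obtain ⟨u, hu, v, hv, huv⟩ := Subfield.mem_closure_iff.1 (hle (hg i))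
      have hmap : ∀ u ∈ Subring.closure (algebraMap S M '' (R i : Set S)),
          ∃ u' ∈ R i, algebraMap S M u' = u := by
        intro u hu
        rw [← RingHom.map_closure, Subring.closure_eq] at hu
        exact hu
      obtain ⟨u', hu', rfl⟩ := hmap u hu
      obtain ⟨v', hv', rfl⟩ := hmap v hv
      rcases eq_or_ne v' 0 with rfl | hv0
      · rw [map_zero, div_zero, eq_comm, div_eq_zero_iff] at huv
        rw [hinj ((huv.resolve_right hb').trans (map_zero _).symm), zero_mul]
        exact Subring.zero_mem _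
      refine hdiv i _ v' hv' hv0 ?_
      rw [div_eq_div_iff ((map_ne_zero_iff _ hinj).2 hv0) hb', ← map_mul, ← map_mul] at huv
      have : a * b ^ (p - 1) * v' = u' * b ^ p := by
        conv_rhs => rw [← hp1, pow_succ', ← mul_assoc, hinj huv]
        ring
      rw [this]
      exact Subring.mul_mem _ hu' (hpow i b)
    obtain ⟨v, hv⟩ := hint _ hw
    refine ⟨algebraMap S M v / algebraMap S M b,
      div_mem (Subfield.subset_closure ⟨v, rfl⟩) (Subfield.subset_closure ⟨b, rfl⟩), ?_⟩
    rw [div_pow, ← map_pow, hv, div_eq_div_iff (pow_ne_zero _ hb') hb', map_mul, map_pow, mul_assoc,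
      ← pow_succ, hp1]
  have hall : ∀ s : Finset M, ∃ K : Subfield M, Good p G₀ K ∧ K₀ ≤ K ∧ (s : Set M) ⊆ K := by
    intro s
    induction s using Finset.induction_on with
    | empty => exact ⟨K₀, hbase, le_rfl, by simp⟩
    | @insert t s _ ih =>
      obtain ⟨K, hK, hle, hs⟩ := ih
      have hKK' : K ≤ (IntermediateField.adjoin K {t}).toSubfield := fun x hx =>
        IntermediateField.algebraMap_mem _ (⟨x, hx⟩ : K)
      refine ⟨_, good_step hanti₀ hK t, hle.trans hKK', ?_⟩
      rw [Finset.coe_insert]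
      exact Set.insert_subset (IntermediateField.mem_adjoin_simple_self K t) (hs.trans hKK')
  obtain ⟨gs, hgs⟩ := ‹Algebra.FiniteType S B›.out
  obtain ⟨K, hK, hKle, hKgs⟩ := hall (gs.image (algebraMap B M))
  have hBK : ∀ a : B, algebraMap B M a ∈ K := by
    intro a
    have ha : a ∈ Algebra.adjoin S (gs : Set B) := hgs ▸ Algebra.mem_top
    induction ha using Algebra.adjoin_induction with
    | mem x hx => exact hKgs (Finset.mem_coe.2 (Finset.mem_image_of_mem _ hx))
    | algebraMap r =>
      rw [← IsScalarTower.algebraMap_apply]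
      exact hKle (Subfield.subset_closure ⟨r, rfl⟩)
    | add a b _ _ ha hb => rw [map_add]; exact add_mem ha hb
    | mul a b _ _ ha hb => rw [map_mul]; exact mul_mem ha hb
  have hKall : ∀ x : M, x ∈ K := fun x => by
    obtain ⟨a, b, _, rfl⟩ := IsFractionRing.div_surjective B x
    exact div_mem (hBK a) (hBK b)
  obtain ⟨i, hi⟩ : ∃ i, algebraMap B M f ∉ G p G₀ K i := by
    by_contra! h
    obtain ⟨z, -, hz⟩ := hK.2 _ (hKall _) h
    exact hf z hz
  let T := G p G₀ K i
  have hpT : ∀ x : M, x ^ p ∈ T := fun x => pow_mem_G (hKall x) i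
  have hD : KaehlerDifferential.D T M (algebraMap B M f) ≠ 0 := by
    intro h0
    have := Groth.Agent.Lib.PBasis.Eventual.mem_pPowerSubalgebra_of_D_eq_zero (p := p) h0
    rw [Groth.Agent.Lib.PBasis.Basic.pPower_eq_range p fun b => ⟨⟨b ^ p, hpT b⟩, rfl⟩] at this
    obtain ⟨t, ht⟩ := Algebra.mem_bot.1 this
    exact hi (ht ▸ t.2)
  obtain ⟨φ, hφ⟩ : ∃ φ : Ω[M⁄T] →ₗ[M] M, φ (KaehlerDifferential.D T M (algebraMap B M f)) ≠ 0 := by
    by_contra! h
    exact hD ((Module.forall_dual_apply_eq_zero_iff M _).1 h)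
  let D : Derivation T M M := φ.compDer (KaehlerDifferential.D T M)
  haveI := hfin i
  have hD0 : ∀ r : R i, D (algebraMap S M (r : S)) = 0 := fun r =>
    D.map_algebraMap (⟨_, Subfield.subset_closure (Or.inl (Subfield.subset_closure ⟨_, r.2, rfl⟩))⟩ : T)
  obtain ⟨gS, hgS⟩ := Module.Finite.fg_top (R := R i) (M := S)
  obtain ⟨⟨s, hs⟩, hs'⟩ := IsLocalization.exist_integer_multiples_of_finset (nonZeroDivisors B)
    ((gS.image fun a => D (algebraMap S M a)) ∪ (gs.image fun a => D (algebraMap B M a)))
  have hS : ∀ x : S, ∃ a' : B, algebraMap B M a' = algebraMap B M s * D (algebraMap S M x) := by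
    intro x
    have hx : x ∈ Submodule.span (R i) (gS : Set S) := hgS ▸ Submodule.mem_top
    induction hx using Submodule.span_induction with
    | mem x hx =>
      obtain ⟨a', ha'⟩ := hs' _ (Finset.mem_union_left _ (Finset.mem_image_of_mem _ hx))
      exact ⟨a', ha'.trans (by rw [Algebra.smul_def])⟩
    | zero => exact ⟨0, by simp⟩
    | add x y _ _ hx hy =>
      obtain ⟨a, ha⟩ := hx
      obtain ⟨b, hb⟩ := hy
      exact ⟨a + b, by rw [map_add, ha, hb, map_add, map_add, mul_add]⟩
    | smul r x _ hx =>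
      obtain ⟨a, ha⟩ := hx
      refine ⟨algebraMap S B (r : S) * a, ?_⟩
      rw [Subring.smul_def, smul_eq_mul, map_mul (algebraMap S M), Derivation.leibniz, hD0, smul_zero,
        add_zero, smul_eq_mul, map_mul, ← IsScalarTower.algebraMap_apply, ha]
      ring
  have hmem : ∀ a : B, ∃ a' : B, algebraMap B M a' = algebraMap B M s * D (algebraMap B M a) := by
    intro a
    have ha : a ∈ Algebra.adjoin S (gs : Set B) := hgs ▸ Algebra.mem_top
    induction ha using Algebra.adjoin_induction with
    | mem x hx =>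
      obtain ⟨a', ha'⟩ := hs' _ (Finset.mem_union_right _ (Finset.mem_image_of_mem _ hx))
      exact ⟨a', ha'.trans (by rw [Algebra.smul_def])⟩
    | algebraMap r => rw [← IsScalarTower.algebraMap_apply]; exact hS r
    | add x y _ _ hx hy =>
      obtain ⟨a, ha⟩ := hx
      obtain ⟨b, hb⟩ := hy
      exact ⟨a + b, by rw [map_add, ha, hb, map_add, map_add, mul_add]⟩
    | mul x y _ _ hx hy =>
      obtain ⟨a, ha⟩ := hx
      obtain ⟨b, hb⟩ := hy
      refine ⟨x * b + y * a, ?_⟩
      rw [map_add, map_mul, map_mul, ha, hb, map_mul, Derivation.leibniz, smul_eq_mul, smul_eq_mul]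
      ring
  choose E hE using hmem
  refine ⟨Derivation.mk' (AddMonoidHom.toIntLinearMap
    { toFun := E
      map_zero' := hinjB (by rw [hE, map_zero, map_zero, mul_zero])
      map_add' := fun a b => hinjB (by rw [hE, map_add, map_add, map_add, mul_add, hE, hE]) })
    (fun a b => hinjB (by
      change algebraMap B M (E (a * b)) = algebraMap B M (a • E b + b • E a)
      rw [hE, map_mul, Derivation.leibniz, smul_eq_mul, smul_eq_mul, smul_eq_mul, smul_eq_mul, map_add,
        map_mul, map_mul, hE, hE]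
      ring)), fun h => hφ ?_⟩
  have h' : E f = 0 := h
  have := hE f
  rw [h', map_zero, eq_comm, mul_eq_zero] at this
  exact this.resolve_left ((map_ne_zero_iff _ hinjB).2 (nonZeroDivisors.ne_zero hs))

end Groth.Agent.H68.FTDerivation
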