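import Groth.Agent.H68.GenDescend
import Groth.Agent.Lib.Flat55.RegularAlteration
import Mathlib

/-!
A normal integral variety whose base change to a Galois extension is reducible is defined over a subfield.
-/

set_option autoImplicit false

universe u

open AlgebraicGeometry CategoryTheory Limits
open scoped TensorProduct
open Groth.Agent.Lib

namespace Groth.Agent.H68.FactorSubfield

theorem exists_factor (k : Type u) [Field k] (X : Scheme.{u}) [X.Over (Spec (CommRingCat.of k))]
    [IsIntegral X] (hn : ∀ x : X, IsIntegrallyClosed (X.presheaf.stalk x))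
    (L : Type u) [Field L] [Algebra k L] [FiniteDimensional k L] [IsGalois k L]
    (hred : ¬ IrreducibleSpace ↥(Curv2.bc k X L)) :
    ∃ F : IntermediateField k L, F ≠ ⊥ ∧
      ∃ g : X ⟶ Spec (CommRingCat.of F),
        g ≫ Spec.map (CommRingCat.ofHom (algebraMap k F)) = X ↘ Spec (CommRingCat.of k) := by
  classical
  set f := X ↘ Spec (CommRingCat.of k) with hf
  let ψ : k →+* Γ(X, ⊤) := ((Scheme.ΓSpecIso (CommRingCat.of k)).inv ≫ f.appTop).hom
  let η := genericPoint X
  let γ : Γ(X, ⊤) →+* X.functionField := (X.presheaf.germ ⊤ η trivial).hom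
  letI : Algebra k X.functionField := (γ.comp ψ).toAlgebra
  have hfac : f = X.toSpecΓ ≫ Spec.map (CommRingCat.ofHom ψ) := by
    show f = X.toSpecΓ ≫ Spec.map ((Scheme.ΓSpecIso (CommRingCat.of k)).inv ≫ f.appTop)
    rw [Spec.map_comp, ← Scheme.toSpecΓ_naturality_assoc]
    simp
  have hφ : Spec.map (CommRingCat.ofHom (algebraMap k X.functionField)) =
      X.fromSpecStalk η ≫ f := by
    conv_rhs => rw [hfac, Scheme.fromSpecStalk_toSpecΓ_assoc, ← Spec.map_comp]
    rfl
  have hnf : ¬ IsField (X.functionField ⊗[k] L) := fun h =>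
    hred (GenDescend.irreducibleSpace_bc k X L hφ h)
  obtain ⟨F', hF', ⟨σ'⟩⟩ := GenDescend.exists_subfield hnf
  let F := F'
  let σ : F →ₐ[k] X.functionField := σ'
  have hγ : Function.Injective γ := germ_injective_of_isIntegral X (U := ⊤) η trivial
  have hrange : ∀ b : F, σ b ∈ γ.range := by
    intro b
    obtain ⟨s, hs⟩ := Flat55.RegularAlteration.exists_global_of_isIntegral f hn (σ b) (by
      have h1 : IsIntegral k (σ b) := (Algebra.IsIntegral.isIntegral (R := k) b).map σ
      refine (?_ : (algebraMap k X.functionField).IsIntegralElem (σ b) → _) h1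
      intro h
      convert h using 2
      refine congrArg₂ RingHom.comp rfl ?_
      show (f.appLE ⊤ ⊤ _).hom.comp (Scheme.ΓSpecIso (CommRingCat.of k)).inv.hom = ψ
      have he : f.appLE ⊤ ⊤ (fun _ _ => trivial) = f.app ⊤ := Scheme.Hom.appLE_eq_app ..
      exact congrArg (fun (φ : Γ(Spec (CommRingCat.of k), ⊤) ⟶ Γ(X, ⊤)) => φ.hom.comp (Scheme.ΓSpecIso (CommRingCat.of k)).inv.hom) he)
    exact ⟨s, hs⟩
  let e : Γ(X, ⊤) ≃+* γ.range := RingEquiv.ofBijective γ.rangeRestrict
    ⟨fun a b hab => hγ (congrArg Subtype.val hab), γ.rangeRestrict_surjective⟩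
  let τ : F →+* Γ(X, ⊤) := e.symm.toRingHom.comp (σ.toRingHom.codRestrict γ.range hrange)
  have hτ : ∀ b, γ (τ b) = σ b := fun b =>
    congrArg Subtype.val (e.apply_symm_apply ⟨σ b, hrange b⟩)
  have hτψ : τ.comp (algebraMap k F) = ψ := RingHom.ext fun c => hγ ((hτ _).trans (σ.commutes c))
  refine ⟨F, hF', X.toSpecΓ ≫ Spec.map (CommRingCat.ofHom τ), ?_⟩
  rw [Category.assoc, ← Spec.map_comp, ← CommRingCat.ofHom_comp, hτψ]
  exact hfac.symm

end Groth.Agent.H68.FactorSubfield
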