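import Groth.Agent.Lib.QDepth.FourTermAt
import Groth.Agent.Lib.QDepth.Local
import Groth.Agent.Lib.DMod.LocLoc
import Groth.Agent.Lib.FlatCx.Ker
import Mathlib.RingTheory.Support

/-!
# Depth of fibre stalks along an ideal, pointwise
-/

set_option autoImplicit false
universe u

open LocCoh IsLocalRing
open Groth.Agent.Lib Groth.Agent.Lib.Depth

namespace Groth.Agent.H68.FibDepth

variable {A B : Type u} [CommRing A] [CommRing B] [Algebra A B]

/-- Quotients by an extended ideal commute with localisation at a prime. -/
theorem nonempty_localizedQuot_equiv (P : Ideal A) (q : PrimeSpectrum B) (M : Type u)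
    [AddCommGroup M] [Module B M] :
    Nonempty (LocalizedModule q.asIdeal.primeCompl (M ⧸ (P.map (algebraMap A B) • (⊤ : Submodule B M)))
      ≃ₗ[Localization.AtPrime q.asIdeal] LocalizedModule q.asIdeal.primeCompl M ⧸
        (P.map (algebraMap A (Localization.AtPrime q.asIdeal)) •
          (⊤ : Submodule (Localization.AtPrime q.asIdeal) (LocalizedModule q.asIdeal.primeCompl M)))) :=
  ⟨(localizedQuotientEquiv _ _).symm ≪≫ₗ Submodule.quotEquivOfEq _ _ (by
    rw [Submodule.localized, Submodule.localized'_smul, Ideal.localized'_eq_map,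
      Submodule.localized'_top, Ideal.map_map, ← IsScalarTower.algebraMap_eq])⟩

variable [IsNoetherianRing B]

/-- The depth of a fibre stalk along `J` from the depths at the primes containing `J`. -/
theorem le_idealDepth_of_forall [IsNoetherianRing A] (J : Ideal B) (q : PrimeSpectrum B) (M : Type u)
    [AddCommGroup M] [Module B M] [Module.Finite B M] (k : ℕ)
    (h : ∀ q' : PrimeSpectrum B, q'.asIdeal ≤ q.asIdeal → J ≤ q'.asIdeal →
      (k : ℕ∞) ≤ idealDepth (q'.asIdeal.map (algebraMap B (EGA4.FibLocRing A B q'.asIdeal)))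
        (EGA4.FibLocMod A B q'.asIdeal M)) :
    (k : ℕ∞) ≤ idealDepth (J.map (algebraMap B (EGA4.FibLocRing A B q.asIdeal)))
      (EGA4.FibLocMod A B q.asIdeal M) := by
  rw [QDepth.idealDepth_fibLocMod_eq (A := A)]
  set p := q.asIdeal.comap (algebraMap A B) with hp
  let M'' := M ⧸ (p.map (algebraMap A B) • (⊤ : Submodule B M))
  obtain ⟨e⟩ := nonempty_localizedQuot_equiv p q M
  refine le_of_le_of_eq ?_ (Basic.idealDepth_congr _ e)
  refine (QDepth.le_idealDepth_iff_forall _ _ k).2 fun r hr => ?_
  obtain ⟨S, _, _, _, N, _, _, _, _, hbij, ⟨e'⟩, hd, -⟩ := DMod.LocLoc.exists_equiv q M'' r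
  rw [← hd, DMod.LocLoc.depth_eq hbij N, ← Basic.depth_congr e']
  let q' : PrimeSpectrum B := ⟨r.asIdeal.comap (algebraMap B (Localization.AtPrime q.asIdeal)), inferInstance⟩
  show (k : ℕ∞) ≤ depth (Localization.AtPrime q'.asIdeal) (LocalizedModule q'.asIdeal.primeCompl M'')
  have hJ : J ≤ q'.asIdeal := Ideal.map_le_iff_le_comap.1 hr
  have hqq : q'.asIdeal ≤ q.asIdeal := (Ideal.comap_mono (IsLocalRing.le_maximalIdeal r.2.ne_top)).trans
    (IsLocalization.AtPrime.comap_maximalIdeal (Localization.AtPrime q.asIdeal) q.asIdeal).le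
  by_cases hpq : p.map (algebraMap A B) ≤ q'.asIdeal
  swap
  · have : Subsingleton (LocalizedModule q'.asIdeal.primeCompl M'') := by
      refine Module.notMem_support_iff.1 fun hs => hpq (le_trans ?_ (Module.annihilator_le_of_mem_support hs))
      intro x hx
      rw [Module.mem_annihilator]
      intro m
      obtain ⟨m, rfl⟩ := Submodule.Quotient.mk_surjective _ m
      rw [← Submodule.Quotient.mk_smul, Submodule.Quotient.mk_eq_zero]
      exact Submodule.smul_mem_smul hx Submodule.mem_top
    rw [depth, Basic.idealDepth_subsingleton]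
    exact le_top
  have hpp : q'.asIdeal.comap (algebraMap A B) = p :=
    le_antisymm (Ideal.comap_mono hqq) (Ideal.map_le_iff_le_comap.1 hpq)
  obtain ⟨e''⟩ := nonempty_localizedQuot_equiv p q' M
  rw [Basic.depth_congr e'']
  have := h q' hqq hJ
  rw [QDepth.idealDepth_fibLocMod_eq (A := A), Localization.AtPrime.map_eq_maximalIdeal, hpp] at this
  exact this

omit [IsNoetherianRing B] in
/-- Kernels of four term sequences with flat terms are flat after localisation. -/
theorem flat_localized_kernel {F E0 E1 G : Type u}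
    [AddCommGroup F] [Module B F] [Module A F] [IsScalarTower A B F]
    [AddCommGroup E0] [Module B E0] [Module A E0] [IsScalarTower A B E0] [Module.Flat A E0]
    [AddCommGroup E1] [Module B E1] [Module A E1] [IsScalarTower A B E1] [Module.Flat A E1]
    [AddCommGroup G] [Module B G] [Module A G] [IsScalarTower A B G]
    (f : F →ₗ[B] E0) (u : E0 →ₗ[B] E1) (v : E1 →ₗ[B] G)
    (hf : Function.Injective f) (hfu : Function.Exact f u) (huv : Function.Exact u v)
    (hv : Function.Surjective v) (q : PrimeSpectrum B)
    (hG : Module.Flat A (LocalizedModule q.asIdeal.primeCompl G)) :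
    Module.Flat A (LocalizedModule q.asIdeal.primeCompl F) := by
  let W := q.asIdeal.primeCompl
  let f' := LocalizedModule.map W f
  let u' := LocalizedModule.map W u
  let v' := LocalizedModule.map W v
  have x2 : Function.Exact f' u' := LocalizedModule.map_exact _ f u hfu
  have x3 : Function.Exact u' v' := LocalizedModule.map_exact _ u v huv
  have : Module.Flat A (LocalizedModule W E0) := QDepth.flat_localized W E0
  have : Module.Flat A (LocalizedModule W E1) := QDepth.flat_localized W E1
  have : Module.Flat A (LinearMap.range u') :=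
    FlatCx.Ker.flat_of_exact (Z := LocalizedModule W G) ((LinearMap.range u').subtype.restrictScalars A)
      (v'.restrictScalars A) Subtype.val_injective (LocalizedModule.map_surjective _ v hv)
      (fun y => (x3 y).trans ⟨fun ⟨z, hz⟩ => ⟨⟨y, z, hz⟩, rfl⟩, fun ⟨z, hz⟩ => hz ▸ z.2⟩)
  exact FlatCx.Ker.flat_of_exact (f'.restrictScalars A) (u'.rangeRestrict.restrictScalars A)
    (LocalizedModule.map_injective _ f hf) u'.surjective_rangeRestrict (fun y => by
      refine Iff.trans ?_ (x2 y)
      exact Subtype.ext_iff)

end Groth.Agent.H68.FibDepth
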