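import Groth.Agent.H68.FlatDedekind

/-!
# Flatness over regular schemes of dimension at most one, without integrality
-/

set_option autoImplicit false
universe u

open CategoryTheory AlgebraicGeometry IsLocalRing
open Groth.Agent.Lib

namespace Groth.Agent.H68.FlatRegDimOne

variable {X Y : Scheme.{u}}

theorem flat_of_assPoints (f : X ⟶ Y) [IsLocallyNoetherian X]
    (hreg : ∀ y : Y, IsRegularLocalRing (Y.presheaf.stalk y))
    (hdim : ∀ y : Y, ringKrullDim (Y.presheaf.stalk y) ≤ 1)
    (hass : ∀ x : X, Curv2.IsAssPoint (Coh.structureModule X) x →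
      ringKrullDim (Y.presheaf.stalk (f x)) = 0) : Flat f := by
  rw [FlatDedekind.flat_iff_mem_nonZeroDivisors f hreg hdim]
  haveI := TensorMod.QCohInv.isQCoh_structureModule X
  intro x r hr
  by_contra hn
  have hn' : (f.stalkMap x).hom r ∈ ((nonZeroDivisors (X.presheaf.stalk x) : Set _))ᶜ := hn
  rw [← biUnion_associatedPrimes_eq_compl_nonZeroDivisors] at hn'
  obtain ⟨P, hP, hrP⟩ := Set.mem_iUnion₂.1 hn'
  let q : Spec (X.presheaf.stalk x) := (⟨P, hP.1⟩ : PrimeSpectrum _)
  have hP' : q.asIdeal ∈ associatedPrimes (X.presheaf.stalk x)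
      ((Coh.structureModule X).presheaf.stalk x) :=
    (AssPt.Basic.unitStalkEquiv x).isAssociatedPrime_iff.1 hP
  have h0 := hass _ ((StalkLoc.AssStalk.mem_associatedPrimes_stalk_iff x q).1 hP')
  haveI := hreg (f x)
  haveI := Regular.Quotient.isDomain (Y.presheaf.stalk (f x))
  let p : Spec (Y.presheaf.stalk (f x)) := Spec.map (f.stalkMap x) q
  have hp : Y.fromSpecStalk (f x) p = f (X.fromSpecStalk x q) := by
    rw [← Scheme.Hom.comp_apply, ← Scheme.Hom.comp_apply, Scheme.SpecMap_stalkMap_fromSpecStalk]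
  set y' := f (X.fromSpecStalk x q)
  let z : Spec (Y.presheaf.stalk (f x)) := (⟨⊥, Ideal.isPrime_bot⟩ : PrimeSpectrum _)
  have hz : z ⤳ p := (PrimeSpectrum.le_iff_specializes z p).1 bot_le
  have h1 : Y.fromSpecStalk (f x) z ⤳ y' := hp ▸ hz.map (Y.fromSpecStalk (f x)).continuous
  have hsub : Subsingleton (PrimeSpectrum (Y.presheaf.stalk y')) := by
    haveI : Ring.KrullDimLE 0 (Y.presheaf.stalk y') := Ring.krullDimLE_iff.2 (by rw [h0]; rfl)
    infer_instance
  obtain ⟨a, ha⟩ := (Set.ext_iff.1 (Y.range_fromSpecStalk (x := y')) _).2 h1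
  have h2 : Y.fromSpecStalk (f x) z = y' := by
    rw [← ha, show a = closedPoint (Y.presheaf.stalk y') from hsub.elim _ _]
    exact Y.fromSpecStalk_closedPoint
  have h3 : p = z := (Y.fromSpecStalk (f x)).isEmbedding.injective (hp.trans h2.symm)
  have h4 : r ∈ p.asIdeal := hrP
  rw [h3] at h4
  exact hr h4

end Groth.Agent.H68.FlatRegDimOne
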