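import Groth.Agent.Lib.Excellent.GRingStability
import Mathlib.RingTheory.RingHom.Surjective

/-!
# Formal fibres through the generic formal fibres of quotients
-/

set_option autoImplicit false
set_option linter.style.haveILetI false

universe u

open IsLocalRing
open scoped TensorProduct

namespace Groth.Agent.H68.FormalFibres

open Lib.Excellent

/-- Finite points read on a quotient. -/
theorem isFinPoint_of_surjective (R R' : Type u) [CommRing R] [CommRing R'] [Algebra R R']
    (hs : Function.Surjective (algebraMap R R')) (K : Type u) [Field K] [Algebra R K] [Algebra R' K]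
    [IsScalarTower R R' K] (hK : FormalFibre.IsFinPoint R K) : FormalFibre.IsFinPoint R' K := by
  obtain ⟨B, hB, hfr⟩ := hK
  let B' : Subalgebra R' K :=
    { B.toSubsemiring with
      algebraMap_mem' := fun x => by
        obtain ⟨r, rfl⟩ := hs x
        rw [← IsScalarTower.algebraMap_apply]
        exact B.algebraMap_mem r }
  haveI : IsFractionRing B' K := hfr
  refine ⟨B', ?_, inferInstance⟩
  obtain ⟨T, hT⟩ := (Module.Finite.iff_fg (N := B.toSubmodule)).mp hB
  refine (Module.Finite.iff_fg (N := B'.toSubmodule)).mpr ⟨T, le_antisymm (Submodule.span_le.mpr fun x hx => ?_) ?_⟩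
  · have : x ∈ B.toSubmodule := hT ▸ Submodule.subset_span hx
    exact this
  · intro x hx
    have hx' : x ∈ B.toSubmodule := hx
    rw [← hT] at hx'
    exact Submodule.span_le_restrictScalars R R' _ hx'

/-- Changing the completion along a surjection of local rings. -/
theorem exists_tensor_equiv (R R' : Type u) [CommRing R] [CommRing R'] [IsNoetherianRing R]
    [IsLocalRing R] [IsLocalRing R'] [Algebra R R'] (hs : Function.Surjective (algebraMap R R'))
    (K : Type u) [Field K] [Algebra R K] [Algebra R' K] [IsScalarTower R R' K] :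
    Nonempty ((K ⊗[R] EGA4.Cpl R) ≃+* (K ⊗[R'] EGA4.Cpl R')) := by
  haveI : Module.Finite R R' := Module.Finite.of_surjective (Algebra.linearMap R R') hs
  haveI : IsLocalHom (algebraMap R R') := IsLocalHom.of_surjective _ hs
  have hm : (maximalIdeal R).map (algebraMap R R') = maximalIdeal R' := by
    rw [← IsLocalRing.maximalIdeal_comap (algebraMap R R'), Ideal.map_comap_of_surjective _ hs]
  have e : R' ⊗[R] EGA4.Cpl R ≃ₐ[R'] EGA4.Cpl R' := by
    have e := CompletionFinite.completionEquiv (maximalIdeal R) R'
    rw [hm] at e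
    exact e
  exact ⟨((Algebra.TensorProduct.congr (AlgEquiv.refl : K ≃ₐ[R'] K) e.symm).toRingEquiv.trans
    (Algebra.TensorProduct.cancelBaseChange R R' K K (EGA4.Cpl R)).toRingEquiv).symm⟩

/-- A finite point factoring injectively through a quotient domain. -/
theorem regular_of_generic (R R' : Type u) [CommRing R] [CommRing R'] [IsNoetherianRing R]
    [IsLocalRing R] [IsLocalRing R'] [IsDomain R'] [Algebra R R']
    (hs : Function.Surjective (algebraMap R R'))
    (h : CAlg.IsGeometricallyRegular (⊥ : Ideal R').ResidueField (EGA4.formalFibre R' (⊥ : Ideal R')))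
    (K : Type u) [Field K] [Algebra R K] [Algebra R' K] [IsScalarTower R R' K]
    (hinj : Function.Injective (algebraMap R' K)) (hK : FormalFibre.IsFinPoint R K) :
    IsRegularRing (K ⊗[R] EGA4.Cpl R) := by
  letI : Algebra (⊥ : Ideal R').ResidueField K :=
    (Ideal.ResidueField.lift (⊥ : Ideal R') (algebraMap R' K)
      (fun x hx => by rw [Ideal.mem_bot] at hx; rw [RingHom.mem_ker, hx, map_zero])
      (fun x hx => Ne.isUnit fun h0 => hx (Ideal.mem_bot.mpr (hinj (h0.trans (map_zero _).symm))))).toAlgebra
  haveI : IsScalarTower R' (⊥ : Ideal R').ResidueField K := .of_algebraMap_eq fun a =>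
    (Ideal.ResidueField.lift_algebraMap (I := (⊥ : Ideal R')) (algebraMap R' K) _ _ a).symm
  have hK' := isFinPoint_of_surjective R R' hs K hK
  have h1 : IsRegularRing (K ⊗[R'] EGA4.Cpl R') :=
    Transport.isoInvariant_isRegularRing _ _
      (Algebra.TensorProduct.cancelBaseChange R' (⊥ : Ideal R').ResidueField K K (EGA4.Cpl R')).toRingEquiv
      (h K (FormalFibre.finite_of_isFinPoint hK' ⊥))
  obtain ⟨e⟩ := exists_tensor_equiv R R' hs K
  exact Transport.isoInvariant_isRegularRing _ _ e.symm h1

theorem localRingHom_surjective {R S : Type u} [CommRing R] [CommRing S] (f : R →+* S)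
    (hf : Function.Surjective f) (p : Ideal R) [p.IsPrime] (P : Ideal S) [P.IsPrime]
    (hP : p = P.comap f) : Function.Surjective (Localization.localRingHom p P f hP) := by
  subst hP
  exact RingHom.surjective_localRingHom_of_surjective f hf P

/-- All formal fibres from the generic formal fibres of the quotient domains. -/
theorem regular_finPoint_of_generic {R : Type u} [CommRing R] [IsNoetherianRing R]
    (h : ∀ (q : Ideal R) [q.IsPrime] (P : Ideal (R ⧸ q)) [P.IsPrime],
      CAlg.IsGeometricallyRegular (⊥ : Ideal (Localization.AtPrime P)).ResidueField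
        (EGA4.formalFibre (Localization.AtPrime P) (⊥ : Ideal (Localization.AtPrime P))))
    (p : Ideal R) [p.IsPrime] (K : Type u) [Field K] [Algebra (Localization.AtPrime p) K]
    (hK : FormalFibre.IsFinPoint (Localization.AtPrime p) K) :
    IsRegularRing (K ⊗[Localization.AtPrime p] EGA4.Cpl (Localization.AtPrime p)) := by
  let Rp := Localization.AtPrime p
  let f : R →+* K := (algebraMap Rp K).comp (algebraMap R Rp)
  let q : Ideal R := RingHom.ker f
  haveI : q.IsPrime := RingHom.ker_isPrime _
  have hunit : ∀ x, x ∉ p → IsUnit (f x) := fun x hx =>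
    (IsLocalization.map_units Rp (⟨x, hx⟩ : p.primeCompl)).map (algebraMap Rp K)
  have hqp : q ≤ p := fun x hx => by_contra fun hxp => (hunit x hxp).ne_zero hx
  let P : Ideal (R ⧸ q) := p.map (Ideal.Quotient.mk q)
  haveI : P.IsPrime := Ideal.map_isPrime_of_surjective Ideal.Quotient.mk_surjective (by rwa [Ideal.mk_ker])
  have hPc : p = P.comap (Ideal.Quotient.mk q) := by
    rw [Ideal.comap_map_of_surjective _ Ideal.Quotient.mk_surjective, ← RingHom.ker_eq_comap_bot,
      Ideal.mk_ker, sup_eq_left.mpr hqp]
  let g : Rp →+* (Localization.AtPrime P) := Localization.localRingHom p P (Ideal.Quotient.mk q) hPc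
  have hs : Function.Surjective g :=
    localRingHom_surjective (Ideal.Quotient.mk q) Ideal.Quotient.mk_surjective p P hPc
  letI : Algebra Rp (Localization.AtPrime P) := g.toAlgebra
  -- `K` over `(Localization.AtPrime P)`
  let f₁ : R ⧸ q →+* K := Ideal.Quotient.lift q f fun x hx => hx
  have hf₁ : Function.Injective f₁ := RingHom.kerLift_injective f
  let f₂ : (Localization.AtPrime P) →+* K := IsLocalization.lift (M := P.primeCompl) (g := f₁) fun y => by
    obtain ⟨x, hx⟩ := Ideal.Quotient.mk_surjective (y : R ⧸ q)
    rw [← hx]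
    refine hunit x fun hxp => y.2 ?_
    rw [← hx]
    exact Ideal.mem_map_of_mem _ hxp
  letI : Algebra (Localization.AtPrime P) K := f₂.toAlgebra
  haveI : IsScalarTower Rp (Localization.AtPrime P) K := IsScalarTower.of_algebraMap_eq' (by
    refine IsLocalization.ringHom_ext p.primeCompl (RingHom.ext fun x => ?_)
    show algebraMap Rp K (algebraMap R Rp x) = f₂ (g (algebraMap R Rp x))
    rw [show g (algebraMap R Rp x) = algebraMap (R ⧸ q) (Localization.AtPrime P) (Ideal.Quotient.mk q x) from
      Localization.localRingHom_to_map _ _ _ hPc x]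
    show f₁ (Ideal.Quotient.mk q x) = _
    exact (IsLocalization.lift_eq (g := f₁) _ (Ideal.Quotient.mk q x)).symm)
  have hf₂ : Function.Injective f₂ := by
    refine (IsLocalization.lift_injective_iff _).mpr fun x y => ⟨fun hxy => ?_, fun hxy => ?_⟩
    · exact congrArg f₁ (IsLocalization.injective (Localization.AtPrime P) P.primeCompl_le_nonZeroDivisors hxy)
    · exact congrArg _ (hf₁ hxy)
  haveI : IsDomain (Localization.AtPrime P) :=
    IsLocalization.isDomain_localization P.primeCompl_le_nonZeroDivisors
  exact regular_of_generic Rp (Localization.AtPrime P) hs (h q P) K hf₂ hK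

end Groth.Agent.H68.FormalFibres
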