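import Mathlib.NumberTheory.Padics.PadicVal.Basic
import Mathlib.NumberTheory.Multiplicity
import Mathlib.NumberTheory.LSeries.PrimesInAP
import Mathlib.RingTheory.ZMod.UnitsCyclic
import Mathlib.Algebra.BigOperators.Intervals
import Mathlib.Data.Nat.Factorization.Basic
import Mathlib.FieldTheory.Finite.Basic
import Mathlib.NumberTheory.Basic
import Mathlib.Tactic

/-!
# The gcd of `∏ (ℓ ^ (2 a) - 1)` over large primes
-/

set_option autoImplicit false

open Finset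

namespace Groth.Agent.H68.GLOrderGcd

theorem pp_pos {l : ℕ} (hl : 1 < l) (g : ℕ) : ∏ a ∈ Icc 1 g, (l ^ (2 * a) - 1) ≠ 0 := by
  refine Finset.prod_ne_zero_iff.2 fun a ha => ?_
  have : 1 < l ^ (2 * a) := Nat.one_lt_pow (by have := (mem_Icc.1 ha).1; omega) hl
  omega

theorem val_prod (p : ℕ) [Fact p.Prime] {ι : Type*} (s : Finset ι) (f : ι → ℕ)
    (h : ∀ i ∈ s, f i ≠ 0) : padicValNat p (∏ i ∈ s, f i) = ∑ i ∈ s, padicValNat p (f i) := by
  rw [← Nat.factorization_def _ Fact.out, Nat.factorization_prod h, Finsupp.finsetSum_apply]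
  simp only [Nat.factorization_def _ (Fact.out : p.Prime)]

theorem val_pp (p : ℕ) [Fact p.Prime] {l : ℕ} (hl : 1 < l) (g : ℕ) :
    padicValNat p (∏ a ∈ Icc 1 g, (l ^ (2 * a) - 1)) = ∑ a ∈ Icc 1 g, padicValNat p (l ^ (2 * a) - 1) :=
  val_prod p _ _ fun a ha => by
    have : 1 < l ^ (2 * a) := Nat.one_lt_pow (by have := (mem_Icc.1 ha).1; omega) hl
    omega

theorem sum_two (g : ℕ) :
    ∑ a ∈ Icc 1 g, (3 + padicValNat 2 a) = 3 * g + padicValNat 2 g.factorial := by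
  induction g with
  | zero => simp
  | succ g ih =>
    rw [Finset.sum_Icc_succ_top (by omega), ih, Nat.factorial_succ,
      padicValNat.mul (by omega) g.factorial_ne_zero]
    omega

theorem val_two_mul {a : ℕ} (ha : a ≠ 0) : padicValNat 2 (2 * a) = 1 + padicValNat 2 a := by
  rw [padicValNat.mul (by norm_num) ha, padicValNat.self (by norm_num)]

theorem two_le (g l : ℕ) (hl : 1 < l) (hodd : 0 < g → ¬ 2 ∣ l) :
    3 * g + padicValNat 2 g.factorial ≤ padicValNat 2 (∏ a ∈ Icc 1 g, (l ^ (2 * a) - 1)) := by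
  rw [val_pp 2 hl, ← sum_two]
  refine Finset.sum_le_sum fun a ha => ?_
  have h1 := (mem_Icc.1 ha).1
  have h2 := (mem_Icc.1 ha).2
  have := padicValNat.pow_two_sub_one_ge hl (hodd (by omega)) (by omega : 2 * a ≠ 0) (even_two_mul a)
  rw [val_two_mul (by omega)] at this
  omega

theorem val_two_pow_mul {k m : ℕ} (hm : ¬ 2 ∣ m) : padicValNat 2 (2 ^ k * m) = k := by
  rw [padicValNat.mul (by positivity) (by rintro rfl; simp at hm),
    padicValNat.prime_pow, padicValNat.eq_zero_of_not_dvd hm, add_zero]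

theorem two_eq (g B : ℕ) : ∃ l : ℕ, l.Prime ∧ B < l ∧
    padicValNat 2 (∏ a ∈ Icc 1 g, (l ^ (2 * a) - 1)) = 3 * g + padicValNat 2 g.factorial := by
  have h3 : IsUnit (3 : ZMod 8) := by decide +kernel
  obtain ⟨l, hlB, hl, heq⟩ := Nat.forall_exists_prime_gt_and_eq_mod h3 B
  have hmod : l % 8 = 3 := by
    have := congrArg ZMod.val heq
    rw [ZMod.val_natCast] at this
    exact this
  refine ⟨l, hl, hlB, ?_⟩
  rw [val_pp 2 hl.one_lt, ← sum_two]
  refine Finset.sum_congr rfl fun a ha => ?_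
  have h1 := (mem_Icc.1 ha).1
  have hl2 : ¬ 2 ∣ l := by omega
  have := padicValNat.pow_two_sub_one hl.one_lt hl2 (by omega : 2 * a ≠ 0) (even_two_mul a)
  obtain ⟨q, hq⟩ : ∃ q, l = 8 * q + 3 := ⟨l / 8, by omega⟩
  have ep : padicValNat 2 (l + 1) = 2 := by
    rw [hq, show 8 * q + 3 + 1 = 2 ^ 2 * (2 * q + 1) by ring, val_two_pow_mul (by omega)]
  have em : padicValNat 2 (l - 1) = 1 := by
    rw [show l - 1 = 2 ^ 1 * (4 * q + 1) by omega, val_two_pow_mul (by omega)]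
  rw [ep, em, val_two_mul (by omega)] at this
  omega

theorem val_term (p : ℕ) [Fact p.Prime] (hp2 : p ≠ 2) {l i : ℕ} (hl : 1 < l) (hpl : ¬ p ∣ l)
    (hi : i ≠ 0) :
    padicValNat p (l ^ ((p - 1) * i) - 1) = padicValNat p (l ^ (p - 1) - 1) + padicValNat p i ∧
      1 ≤ padicValNat p (l ^ (p - 1) - 1) := by
  have hp : p.Prime := Fact.out
  have hpos : 1 < l ^ (p - 1) := Nat.one_lt_pow (by have := hp.two_le; omega) hl
  have hl0 : (l : ZMod p) ≠ 0 := fun h => hpl ((CharP.cast_eq_zero_iff (ZMod p) p l).1 h)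
  have hdvd : p ∣ l ^ (p - 1) - 1 := by
    rw [← CharP.cast_eq_zero_iff (ZMod p) p, Nat.cast_sub hpos.le, Nat.cast_pow,
      ZMod.pow_card_sub_one_eq_one hl0, Nat.cast_one, sub_self]
  refine ⟨?_, one_le_padicValNat_of_dvd (by omega) hdvd⟩
  have := padicValNat.pow_sub_pow (p := p) (hp.odd_of_ne_two hp2) hpos hdvd
    (fun h => hpl (hp.dvd_of_dvd_pow h)) hi
  rwa [one_pow, ← pow_mul] at this

theorem sum_filter (p g : ℕ) (h : ℕ) (hh : 2 * h = p - 1) (hh0 : 0 < h) (f : ℕ → ℕ) :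
    ∑ a ∈ (Icc 1 g).filter (fun a => h ∣ a), f (a / h) = ∑ i ∈ Icc 1 ((2 * g) / (p - 1)), f i := by
  have hM : (2 * g) / (p - 1) = g / h := by rw [← hh, Nat.mul_div_mul_left _ _ (by norm_num)]
  rw [hM]
  refine Finset.sum_bij' (fun a _ => a / h) (fun i _ => h * i) ?_ ?_ ?_ ?_ (fun a _ => rfl)
  · intro a ha
    obtain ⟨ha1, hd⟩ := mem_filter.1 ha
    obtain ⟨k, rfl⟩ := hd
    rw [Nat.mul_div_cancel_left _ hh0]
    refine mem_Icc.2 ⟨?_, (Nat.le_div_iff_mul_le hh0).2 (by rw [mul_comm]; exact (mem_Icc.1 ha1).2)⟩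
    rcases Nat.eq_zero_or_pos k with rfl | hk
    · simp at ha1
    · exact hk
  · intro i hi
    refine mem_filter.2 ⟨mem_Icc.2 ⟨Nat.mul_pos hh0 (mem_Icc.1 hi).1, ?_⟩, dvd_mul_right _ _⟩
    rw [mul_comm]; exact (Nat.le_div_iff_mul_le hh0).1 (mem_Icc.1 hi).2
  · intro a ha
    exact Nat.mul_div_cancel' (mem_filter.1 ha).2
  · intro i _
    exact Nat.mul_div_cancel_left _ hh0

theorem odd_le (p g l : ℕ) [Fact p.Prime] (hp2 : p ≠ 2) (hl : 1 < l)
    (hpl : p ≤ 2 * g + 1 → ¬ p ∣ l) :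
    (2 * g) / (p - 1) + ∑ i ∈ Icc 1 ((2 * g) / (p - 1)), padicValNat p i ≤
      padicValNat p (∏ a ∈ Icc 1 g, (l ^ (2 * a) - 1)) := by
  have hp : p.Prime := Fact.out
  rcases Nat.lt_or_ge (2 * g + 1) p with hlt | hle
  · rw [Nat.div_eq_of_lt (by omega)]; simp
  obtain ⟨h, hh⟩ : ∃ h, 2 * h = p - 1 := ⟨p / 2, by have := hp.odd_of_ne_two hp2; rw [Nat.odd_iff] at this; omega⟩
  have hh0 : 0 < h := by have := hp.two_le; omega
  rw [val_pp p hl]
  refine le_trans ?_ (Finset.sum_le_sum_of_subset (Finset.filter_subset (fun a => h ∣ a) _))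
  refine le_trans (le_of_eq ?_) (Finset.sum_le_sum (f := fun a => 1 + padicValNat p (a / h)) fun a ha => ?_)
  · rw [sum_filter p g h hh hh0 (fun i => 1 + padicValNat p i), Finset.sum_add_distrib, Finset.sum_const,
      Nat.card_Icc]
    simp
  · obtain ⟨ha1, ⟨k, rfl⟩⟩ := mem_filter.1 ha
    have hk : k ≠ 0 := by rintro rfl; simp at ha1
    obtain ⟨e, he⟩ := val_term p hp2 hl (hpl hle) hk
    rw [Nat.mul_div_cancel_left _ hh0, show 2 * (h * k) = (p - 1) * k by rw [← hh]; ring, e]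
    omega

theorem odd_eq (p g B : ℕ) [Fact p.Prime] (hp2 : p ≠ 2) : ∃ l : ℕ, l.Prime ∧ B < l ∧
    padicValNat p (∏ a ∈ Icc 1 g, (l ^ (2 * a) - 1)) =
      (2 * g) / (p - 1) + ∑ i ∈ Icc 1 ((2 * g) / (p - 1)), padicValNat p i := by
  have hp : p.Prime := Fact.out
  haveI := ZMod.isCyclic_units_of_prime_pow p hp hp2 2
  haveI : NeZero (p ^ 2) := ⟨pow_ne_zero 2 hp.ne_zero⟩
  obtain ⟨u, hu⟩ := IsCyclic.exists_generator (α := (ZMod (p ^ 2))ˣ)
  have hord : orderOf u = p * (p - 1) := by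
    rw [orderOf_eq_card_of_forall_mem_zpowers hu, Nat.card_eq_fintype_card, ZMod.card_units_eq_totient,
      Nat.totient_prime_pow_succ hp, pow_one]
  obtain ⟨l, hlB, hl, heq⟩ := Nat.forall_exists_prime_gt_and_eq_mod u.isUnit B
  refine ⟨l, hl, hlB, ?_⟩
  have horder : ∀ n : ℕ, p ^ 2 ∣ l ^ n - 1 → p * (p - 1) ∣ n := by
    intro n hn
    rw [← hord]
    refine orderOf_dvd_of_pow_eq_one (Units.ext ?_)
    have h1 : 1 ≤ l ^ n := Nat.one_le_pow _ _ hl.pos
    rw [← CharP.cast_eq_zero_iff (ZMod (p ^ 2)) (p ^ 2), Nat.cast_sub h1, Nat.cast_pow, heq,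
      sub_eq_zero, Nat.cast_one] at hn
    rw [Units.val_pow_eq_pow_val, hn, Units.val_one]
  have hpl : ¬ p ∣ l := by
    intro h
    have h2 := u.isUnit
    rw [← heq, ZMod.isUnit_iff_coprime] at h2
    exact hp.ne_one (Nat.eq_one_of_dvd_coprimes h2 h (dvd_pow_self p two_ne_zero))
  have hzero : ∀ a ∈ Icc 1 g, ¬ (p - 1) ∣ 2 * a → padicValNat p (l ^ (2 * a) - 1) = 0 := by
    intro a _ hd
    refine padicValNat.eq_zero_of_not_dvd fun hdvd => hd ?_
    have h2 : p ^ 2 ∣ l ^ (2 * a * p) - 1 := by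
      have h1 : 1 ≤ l ^ (2 * a) := Nat.one_le_pow _ _ hl.pos
      have h3 : (p : ℤ) ∣ ((l ^ (2 * a) : ℕ) : ℤ) - 1 := by
        rw [← Nat.cast_one, ← Nat.cast_sub h1]; exact Int.natCast_dvd_natCast.2 hdvd
      have h4 := dvd_sub_pow_of_dvd_sub h3 1
      rw [pow_one, one_pow] at h4
      rw [← Int.natCast_dvd_natCast, Nat.cast_sub (Nat.one_le_pow _ _ hl.pos)]
      push_cast at h4 ⊢
      rw [pow_mul]
      exact h4
    have h5 := horder _ h2
    rw [mul_comm _ p] at h5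
    exact Nat.dvd_of_mul_dvd_mul_left hp.pos h5
  have hone : padicValNat p (l ^ (p - 1) - 1) = 1 := by
    obtain ⟨-, h1⟩ := val_term p hp2 hl.one_lt hpl one_ne_zero
    refine le_antisymm ?_ h1
    by_contra hcon
    have h2 : p ^ 2 ∣ l ^ (p - 1) - 1 :=
      (pow_dvd_pow p (by omega)).trans pow_padicValNat_dvd
    have h3 := Nat.le_of_dvd (by have := hp.two_le; omega) (horder _ h2)
    have h4 := hp.two_le
    have : 2 * (p - 1) ≤ p * (p - 1) := Nat.mul_le_mul_right _ h4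
    omega
  obtain ⟨h, hh⟩ : ∃ h, 2 * h = p - 1 := ⟨p / 2, by have := hp.odd_of_ne_two hp2; rw [Nat.odd_iff] at this; omega⟩
  have hh0 : 0 < h := by have := hp.two_le; omega
  rw [val_pp p hl.one_lt]
  calc ∑ a ∈ Icc 1 g, padicValNat p (l ^ (2 * a) - 1)
      = ∑ a ∈ (Icc 1 g).filter (fun a => h ∣ a), (1 + padicValNat p (a / h)) := by
        rw [Finset.sum_filter]
        refine Finset.sum_congr rfl fun a ha => ?_
        split_ifs with hd
        · obtain ⟨k, rfl⟩ := hd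
          have hk : k ≠ 0 := by rintro rfl; simp at ha
          rw [Nat.mul_div_cancel_left _ hh0, show 2 * (h * k) = (p - 1) * k by rw [← hh]; ring,
            (val_term p hp2 hl.one_lt hpl hk).1, hone]
        · refine hzero a ha fun h' => hd ?_
          rw [← hh] at h'
          exact Nat.dvd_of_mul_dvd_mul_left (by norm_num) h'
    _ = _ := by
        rw [sum_filter p g h hh hh0 (fun i => 1 + padicValNat p i), Finset.sum_add_distrib,
          Finset.sum_const, Nat.card_Icc]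
        simp

theorem gcd_iff (g B d : ℕ) (hB : 2 * g + 1 ≤ B) :
    (∀ ℓ : ℕ, ℓ.Prime → B < ℓ → d ∣ ∏ a ∈ Icc 1 g, (ℓ ^ (2 * a) - 1)) ↔
      d ∣ 2 ^ (3 * g + padicValNat 2 g.factorial) *
        ∏ p ∈ (Icc 3 (2 * g + 1)).filter Nat.Prime,
          p ^ ((2 * g) / (p - 1) + ∑ i ∈ Icc 1 ((2 * g) / (p - 1)), padicValNat p i) := by
  set e : ℕ → ℕ := fun p => (2 * g) / (p - 1) + ∑ i ∈ Icc 1 ((2 * g) / (p - 1)), padicValNat p i
  set S := (Icc 3 (2 * g + 1)).filter Nat.Prime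
  have hS0 : ∀ q ∈ S, q ^ e q ≠ 0 := fun q hq => pow_ne_zero _ (mem_filter.1 hq).2.ne_zero
  set N := 2 ^ (3 * g + padicValNat 2 g.factorial) * ∏ q ∈ S, q ^ e q
  have hN : N ≠ 0 := mul_ne_zero (by positivity) (Finset.prod_ne_zero_iff.2 hS0)
  have hvN : ∀ p : ℕ, p.Prime → padicValNat p N =
      if p = 2 then 3 * g + padicValNat 2 g.factorial else e p := by
    intro p hp
    haveI : Fact p.Prime := ⟨hp⟩
    rw [padicValNat.mul (by positivity) (Finset.prod_ne_zero_iff.2 hS0), val_prod p S _ hS0]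
    have e1 : ∀ q ∈ S, padicValNat p (q ^ e q) = if q = p then e p else 0 := by
      intro q hq
      split_ifs with h
      · subst h; rw [padicValNat.prime_pow]
      · exact padicValNat.eq_zero_of_not_dvd fun hd => h
          ((Nat.prime_dvd_prime_iff_eq hp (mem_filter.1 hq).2).1 (hp.dvd_of_dvd_pow hd)).symm
    rw [Finset.sum_congr rfl e1, Finset.sum_ite_eq']
    split_ifs with h1 h2 h3
    · simp [S, h2] at h1
    · rw [padicValNat.eq_zero_of_not_dvd fun hd => h2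
        ((Nat.prime_dvd_prime_iff_eq hp Nat.prime_two).1 (hp.dvd_of_dvd_pow hd)), zero_add]
    · subst h3; rw [padicValNat.prime_pow, add_zero]
    · rw [padicValNat.eq_zero_of_not_dvd fun hd => h3
        ((Nat.prime_dvd_prime_iff_eq hp Nat.prime_two).1 (hp.dvd_of_dvd_pow hd))]
      have hgt : 2 * g + 1 < p := by
        by_contra hc
        exact h1 (mem_filter.2 ⟨mem_Icc.2 ⟨by have := hp.two_le; omega, by omega⟩, hp⟩)
      simp [e, Nat.div_eq_of_lt (by omega : 2 * g < p - 1)]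
  constructor
  · intro H
    refine (Nat.dvd_iff_prime_pow_dvd_dvd _ _).2 fun p k hp hk => ?_
    haveI : Fact p.Prime := ⟨hp⟩
    obtain ⟨l, hl, hlB, heq⟩ : ∃ l : ℕ, l.Prime ∧ B < l ∧
        padicValNat p (∏ a ∈ Icc 1 g, (l ^ (2 * a) - 1)) = padicValNat p N := by
      rw [hvN p hp]
      split_ifs with h
      · subst h; exact two_eq g B
      · exact odd_eq p g B h
    have h1 := (padicValNat_dvd_iff_le (pp_pos hl.one_lt g)).1 (hk.trans (H l hl hlB))
    exact (padicValNat_dvd_iff_le hN).2 (h1.trans heq.le)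
  · intro H l hl hlB
    refine H.trans ((Nat.dvd_iff_prime_pow_dvd_dvd _ _).2 fun p k hp hk => ?_)
    haveI : Fact p.Prime := ⟨hp⟩
    rw [padicValNat_dvd_iff_le (pp_pos hl.one_lt g)]
    have h1 := (padicValNat_dvd_iff_le hN).1 hk
    rw [hvN p hp] at h1
    refine h1.trans ?_
    split_ifs with h
    · subst h
      refine two_le g l hl.one_lt fun hg h2 => ?_
      have := (Nat.prime_dvd_prime_iff_eq Nat.prime_two hl).1 h2
      omega
    · refine odd_le p g l h hl.one_lt fun hle h2 => ?_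
      have := (Nat.prime_dvd_prime_iff_eq hp hl).1 h2
      omega

end Groth.Agent.H68.GLOrderGcd
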