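import Groth.Prelude.Def_W4c5flasquetoriphsGLat
import Mathlib.Algebra.Group.Action.Sigma
import Mathlib.Algebra.Module.CharacterModule
import Mathlib.GroupTheory.GroupAction.Quotient
import Mathlib.LinearAlgebra.FreeModule.PID
import Mathlib.LinearAlgebra.StdBasis
import Mathlib.RingTheory.Noetherian.Basic
import Mathlib.Algebra.Module.LinearMap.End
import Mathlib.Tactic

/-!
# Flasque and coflasque resolutions
-/

set_option autoImplicit false

namespace Groth.Agent.H68.GLatRes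

open GLat

variable {G : Type} [Group G] [Finite G]

/-- The permutation representation on functions. -/
def perm (ι : Type) [MulAction G ι] : Representation ℤ G (ι → ℤ) where
  toFun g := LinearMap.funLeft ℤ ℤ (fun j => g⁻¹ • j)
  map_one' := by ext f j; simp [LinearMap.funLeft_apply]
  map_mul' g h := by ext f j; simp [LinearMap.funLeft_apply, mul_smul]

theorem perm_apply {ι : Type} [MulAction G ι] (g : G) (f : ι → ℤ) (j : ι) :
    perm ι g f j = f (g⁻¹ • j) := rfl

theorem perm_single {ι : Type} [MulAction G ι] [DecidableEq ι] (g : G) (i : ι) (c : ℤ) :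
    perm ι g (Pi.single i c) = Pi.single (g • i) c := by
  funext j
  rw [perm_apply]
  by_cases h : j = g • i
  · subst h; rw [inv_smul_smul, Pi.single_eq_same, Pi.single_eq_same]
  · rw [Pi.single_eq_of_ne h, Pi.single_eq_of_ne]
    exact fun h' => h (by rw [← h', smul_inv_smul])

theorem isPermutation_perm (ι : Type) [Fintype ι] [MulAction G ι] : IsPermutation (perm (G := G) ι) := by
  classical
  exact ⟨ι, Pi.basisFun ℤ ι, fun g i => ⟨g • i, by simp [Pi.basisFun_apply, perm_single]⟩⟩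

/-- Orbit representatives for a subgroup. -/
theorem exists_reps (ι : Type) [MulAction G ι] (K : Subgroup G) :
    ∃ (r : ι → ι) (c : ι → K), (∀ i, ((c i : G)) • r i = i) ∧
      ∀ (i : ι) (a : K), r ((a : G) • i) = r i := by
  let s := MulAction.orbitRel K ι
  let q : ι → Quotient s := Quotient.mk s
  let r : ι → ι := fun i => (q i).out
  have h : ∀ i, ∃ c : K, (c : G) • r i = i := by
    intro i
    obtain ⟨c, hc⟩ := MulAction.orbitRel_apply.1 (Setoid.symm (Quotient.mk_out (s := s) i))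
    exact ⟨c, hc⟩
  choose c hc using h
  refine ⟨r, c, hc, fun i a => congrArg Quotient.out (Quotient.sound ?_)⟩
  exact MulAction.orbitRel_apply.2 ⟨a, rfl⟩

theorem perm_coflasque (ι : Type) [MulAction G ι] : IsCoflasque (perm (G := G) ι) := by
  intro K f hf
  obtain ⟨r, c, hc, hr⟩ := exists_reps ι K
  have hf' : ∀ (a b : K) i, f (a * b) i = f a i + f b ((a : G)⁻¹ • i) := fun a b i => by
    rw [hf]; rfl
  -- stabilizers only contribute zero
  have hstab : ∀ (s : K) i, (s : G) • i = i → f s i = 0 := by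
    intro s i hs
    have hinv : (s : G)⁻¹ • i = i := inv_smul_eq_iff.2 hs.symm
    have hpow : ∀ k : ℕ, f (s ^ k) i = k * f s i := by
      intro k
      induction k with
      | zero =>
        have := hf' 1 1 i
        simp at this
        simp [this]
      | succ k ih =>
        rw [pow_succ', hf', hinv, ih]
        push_cast
        ring
    have h := hpow (orderOf s)
    rw [pow_orderOf_eq_one, show (1 : K) = s ^ 0 from (pow_zero s).symm, hpow 0, Nat.cast_zero,
      zero_mul, eq_comm, mul_eq_zero] at h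
    exact h.resolve_left (Nat.cast_ne_zero.2 (orderOf_pos s).ne')
  refine ⟨fun i => -f (c i) i, fun a => funext fun i => ?_⟩
  show f a i = -f (c ((a : G)⁻¹ • i)) ((a : G)⁻¹ • i) - -f (c i) i
  set j := (a : G)⁻¹ • i with hj
  have hrj : r j = r i := hr i a⁻¹
  set s : K := (c i)⁻¹ * (a * c j) with hs
  have hs1 : (s : G) • r i = r i := by
    show (((c i : G))⁻¹ * ((a : G) * (c j : G))) • r i = r i
    have h2 : (c j : G) • r i = j := by rw [← hrj]; exact hc j
    rw [mul_smul, mul_smul, h2, hj, smul_inv_smul, inv_smul_eq_iff, hc i]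
  have e := hf' (c i) s i
  rw [show (c i : G)⁻¹ • i = r i from inv_smul_eq_iff.2 (hc i).symm, hstab s (r i) hs1, add_zero,
    hs, mul_inv_cancel_left, hf', ← hj] at e
  linarith

theorem perm_flasque (ι : Type) [Fintype ι] [MulAction G ι] : IsFlasque (perm (G := G) ι) := by
  classical
  intro K m hm
  obtain ⟨r, c, hc, hr⟩ := exists_reps ι K
  haveI := Fintype.ofFinite K
  rw [finsum_eq_sum_of_fintype] at hm
  have key : ∑ i, m i • (Pi.single (r i) (1 : ℤ) : ι → ℤ) = 0 := by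
    funext x
    simp only [Finset.sum_apply, Pi.smul_apply, Pi.single_apply, smul_eq_mul, mul_ite, mul_one,
      mul_zero, Pi.zero_apply]
    rw [← Finset.sum_filter]
    rcases (Finset.univ.filter fun i => x = r i).eq_empty_or_nonempty with he | ⟨i₀, hi₀⟩
    · simp [he]
    have hx : x = r i₀ := (Finset.mem_filter.1 hi₀).2
    set S := (Finset.univ : Finset K).filter fun h : K => (h : G)⁻¹ • x = x with hS
    have h1 := congrFun hm x
    simp only [Finset.sum_apply, perm_apply, Pi.zero_apply] at h1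
    rw [← Finset.sum_fiberwise_of_maps_to (t := Finset.univ.filter fun i => x = r i)
      (g := fun h : K => (h : G)⁻¹ • x) (fun h _ => by
        refine Finset.mem_filter.2 ⟨Finset.mem_univ _, ?_⟩
        have h2 : r ((h : G)⁻¹ • x) = r x := hr x h⁻¹
        have h3 : r x = r i₀ := by
          conv_rhs => rw [← hc i₀, hr (r i₀) (c i₀)]
          rw [hx]
        rw [h2, h3, hx]) (fun h : K => m ((h : G)⁻¹ • x))] at h1
    have h2 : ∀ i ∈ Finset.univ.filter (fun i => x = r i),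
        ∑ h ∈ Finset.univ.filter (fun h : K => (h : G)⁻¹ • x = i), m ((h : G)⁻¹ • x) = S.card • m i := by
      intro i hi
      rw [Finset.sum_congr rfl fun h hh => by rw [(Finset.mem_filter.1 hh).2], Finset.sum_const]
      congr 1
      have hi' : (c i : G) • x = i := by rw [(Finset.mem_filter.1 hi).2, hc]
      refine Finset.card_bij' (fun h _ => h * c i) (fun h _ => h * (c i)⁻¹) ?_ ?_ ?_ ?_
      · intro h hh
        have hh' := (Finset.mem_filter.1 hh).2
        refine Finset.mem_filter.2 ⟨Finset.mem_univ _, ?_⟩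
        rw [Subgroup.coe_mul, mul_inv_rev, mul_smul, hh', inv_smul_eq_iff, hi']
      · intro h hh
        have hh' := (Finset.mem_filter.1 hh).2
        refine Finset.mem_filter.2 ⟨Finset.mem_univ _, ?_⟩
        rw [Subgroup.coe_mul, mul_inv_rev, mul_smul, hh', Subgroup.coe_inv, inv_inv, hi']
      · intro h _; simp
      · intro h _; simp
    rw [Finset.sum_congr rfl h2, ← Finset.smul_sum, smul_eq_zero] at h1
    refine h1.resolve_left ?_
    exact (Finset.card_pos.2 ⟨1, by simp [hS]⟩).ne'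
  have hdec : m = ∑ i, m i • ((Pi.single i (1 : ℤ) : ι → ℤ) - Pi.single (r i) 1) := by
    simp only [smul_sub, Finset.sum_sub_distrib, key, sub_zero]
    exact (Pi.basisFun ℤ ι).sum_repr m |>.symm.trans (by simp [Pi.basisFun_apply])
  rw [hdec]
  refine Submodule.sum_mem _ fun i _ => Submodule.smul_mem _ _ (Submodule.subset_span ?_)
  exact ⟨c i, Pi.single (r i) 1, by rw [perm_single, hc]⟩

theorem finite_free_sub {M : Type} [AddCommGroup M] [Module.Finite ℤ M] [Module.Free ℤ M]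
    (N : Submodule ℤ M) : Module.Finite ℤ N ∧ Module.Free ℤ N :=
  ⟨Module.Finite.iff_fg.2 (IsNoetherian.noetherian N), inferInstance⟩

/-- Restriction to a stable submodule. -/
def subRep {M : Type} [AddCommGroup M] (ρ : Representation ℤ G M) (N : Submodule ℤ M)
    (h : ∀ g, ∀ x ∈ N, ρ g x ∈ N) : Representation ℤ G N where
  toFun g := (ρ g).restrict (h g)
  map_one' := by ext x; simp [LinearMap.restrict_apply]
  map_mul' g k := by ext x; simp [LinearMap.restrict_apply]

theorem subRep_apply {M : Type} [AddCommGroup M] (ρ : Representation ℤ G M) (N : Submodule ℤ M)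
    (h : ∀ g, ∀ x ∈ N, ρ g x ∈ N) (g : G) (x : N) : (subRep ρ N h g x : M) = ρ g x := rfl

/-- The action on a quotient by a stable submodule. -/
def quotRep {M : Type} [AddCommGroup M] (ρ : Representation ℤ G M) (N : Submodule ℤ M)
    (h : ∀ g, ∀ x ∈ N, ρ g x ∈ N) : Representation ℤ G (M ⧸ N) where
  toFun g := N.mapQ N (ρ g) (h g)
  map_one' := by
    refine Submodule.linearMap_qext _ (LinearMap.ext fun x => ?_)
    simp
  map_mul' g k := by
    refine Submodule.linearMap_qext _ (LinearMap.ext fun x => ?_)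
    simp

theorem quotRep_mk {M : Type} [AddCommGroup M] (ρ : Representation ℤ G M) (N : Submodule ℤ M)
    (h : ∀ g, ∀ x ∈ N, ρ g x ∈ N) (g : G) (x : M) :
    quotRep ρ N h g (Submodule.Quotient.mk x) = Submodule.Quotient.mk (ρ g x) := rfl

theorem inv_apply {M : Type} [AddCommGroup M] (ρ : Representation ℤ G M) {K : Subgroup G} {m : M}
    (hm : ∀ a : K, ρ (a : G) m = m) {g g' : G} (h : g⁻¹ * g' ∈ K) : ρ g m = ρ g' m := by
  have e : g' = g * (g⁻¹ * g') := by group
  rw [e, map_mul, Module.End.mul_apply, hm ⟨_, h⟩]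

/-- A permutation cover surjective on all invariants. -/
theorem exists_cover (A : Type) [AddCommGroup A] [Module.Finite ℤ A] (ρ : Representation ℤ G A) :
    ∃ (ι : Type) (_ : Fintype ι) (_ : MulAction G ι) (π : (ι → ℤ) →ₗ[ℤ] A),
      IsEquivariant (perm ι) ρ π ∧ ∀ (K : Subgroup G) (a : A), (∀ h : K, ρ (h : G) a = a) →
        ∃ y : ι → ℤ, (∀ h : K, perm ι (h : G) y = y) ∧ π y = a := by
  classical
  haveI : ∀ K : Subgroup G, Fintype (G ⧸ K) := fun K => Fintype.ofFinite _
  haveI : Fintype (Subgroup G) := Fintype.ofFinite _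
  let inv : Subgroup G → Submodule ℤ A := fun K =>
    ⨅ h : K, LinearMap.ker (ρ (h : G) - LinearMap.id)
  have hinv : ∀ K a, a ∈ inv K ↔ ∀ h : K, ρ (h : G) a = a := fun K a => by
    simp [inv, sub_eq_zero]
  have hgen : ∀ K, ∃ (n : ℕ) (v : Fin n → A), Submodule.span ℤ (Set.range v) = inv K := fun K =>
    Submodule.fg_iff_exists_fin_generating_family.1 (IsNoetherian.noetherian (inv K))
  choose n v hv using hgen
  have hvi : ∀ (K : Subgroup G) k (h : K), ρ (h : G) (v K k) = v K k := fun K k =>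
    (hinv K _).1 (hv K ▸ Submodule.subset_span ⟨k, rfl⟩)
  let ι := Σ p : (Σ K : Subgroup G, Fin (n K)), G ⧸ p.1
  let w : ι → A := fun j => ρ j.2.out (v j.1.1 j.1.2)
  have hw : ∀ (p : Σ K : Subgroup G, Fin (n K)) (g : G),
      w ⟨p, (g : G ⧸ p.1)⟩ = ρ g (v p.1 p.2) := fun p g =>
    inv_apply ρ (hvi _ _) (QuotientGroup.eq.1 (Quotient.out_eq _))
  let π : (ι → ℤ) →ₗ[ℤ] A := Fintype.linearCombination ℤ w
  refine ⟨ι, inferInstance, inferInstance, π, fun g f => ?_, fun K a ha => ?_⟩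
  · simp only [π, Fintype.linearCombination_apply, map_sum, map_smul, perm_apply]
    refine (Fintype.sum_equiv (MulAction.toPerm g) _ _ fun ⟨p, q⟩ => ?_).symm
    obtain ⟨q, rfl⟩ := QuotientGroup.mk_surjective q
    rw [MulAction.toPerm_apply, inv_smul_smul]
    congr 1
    show ρ g (w ⟨p, (q : G ⧸ p.1)⟩) = w ⟨p, ((g * q : G) : G ⧸ p.1)⟩
    rw [hw, hw, map_mul, Module.End.mul_apply]
  · obtain ⟨d, hd⟩ := (Submodule.mem_span_range_iff_exists_fun ℤ).1 (hv K ▸ (hinv K a).2 ha :
      a ∈ Submodule.span ℤ (Set.range (v K)))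
    refine ⟨∑ k, d k • (Pi.single (⟨⟨K, k⟩, ((1 : G) : G ⧸ K)⟩ : ι) (1 : ℤ) : ι → ℤ), fun h => ?_, ?_⟩
    · simp only [map_sum, map_smul, perm_single]
      refine Finset.sum_congr rfl fun k _ => ?_
      congr 2
      show (⟨⟨K, k⟩, (((h : G) * 1 : G) : G ⧸ K)⟩ : ι) = _
      congr 1
      exact QuotientGroup.eq.2 (by simp)
    · rw [map_sum, ← hd]
      refine Finset.sum_congr rfl fun k _ => ?_
      rw [map_smul]
      simp [π, Fintype.linearCombination_apply_single, hw]

/-- An embedding in a permutation lattice with flasque cokernel condition. -/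
theorem exists_embedding (A : Type) [AddCommGroup A] [Module.Finite ℤ A] [Module.Free ℤ A]
    (ρ : Representation ℤ G A) :
    ∃ (ι : Type) (_ : Fintype ι) (_ : MulAction G ι) (i : A →ₗ[ℤ] (ι → ℤ)),
      IsEquivariant ρ (perm ι) i ∧ Function.Injective i ∧
        (∀ (r : ℤ) (a : A) (y : ι → ℤ), r • y = i a → ∃ a' : A, r • a' = a) ∧
        ∀ (K : Subgroup G) (a : A) (y : ι → ℤ), (∀ h : K, ρ (h : G) a = a) →
          (∑ᶠ h : K, perm ι (h : G) y) = i a → ∃ a' : A, (∑ᶠ h : K, ρ (h : G) a') = a := by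
  classical
  haveI : ∀ K : Subgroup G, Fintype (G ⧸ K) := fun K => Fintype.ofFinite _
  haveI : ∀ K : Subgroup G, Fintype K := fun K => Fintype.ofFinite _
  haveI : Fintype (Subgroup G) := Fintype.ofFinite _
  let inv : Subgroup G → Submodule ℤ (Module.Dual ℤ A) := fun K =>
    ⨅ h : K, LinearMap.ker (LinearMap.lcomp ℤ ℤ (ρ (h : G)) - LinearMap.id)
  have hinv : ∀ K φ, φ ∈ inv K ↔ ∀ (h : K) (x : A), φ (ρ (h : G) x) = φ x := fun K φ => by
    simp [inv, sub_eq_zero, LinearMap.ext_iff]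
  have hgen : ∀ K, ∃ (n : ℕ) (v : Fin n → Module.Dual ℤ A), Submodule.span ℤ (Set.range v) = inv K :=
    fun K => Submodule.fg_iff_exists_fin_generating_family.1 (IsNoetherian.noetherian (inv K))
  choose n v hv using hgen
  have hvi : ∀ (K : Subgroup G) k (h : K) x, v K k (ρ (h : G) x) = v K k x := fun K k =>
    (hinv K _).1 (hv K ▸ Submodule.subset_span ⟨k, rfl⟩)
  let ι := Σ p : (Σ K : Subgroup G, Fin (n K)), G ⧸ p.1
  let i : A →ₗ[ℤ] (ι → ℤ) := LinearMap.pi fun j => (v j.1.1 j.1.2).comp (ρ j.2.out⁻¹)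
  have hi : ∀ (p : Σ K : Subgroup G, Fin (n K)) (g : G) (a : A),
      i a ⟨p, (g : G ⧸ p.1)⟩ = v p.1 p.2 (ρ g⁻¹ a) := by
    intro p g a
    have h : ((g : G ⧸ p.1).out)⁻¹ * g ∈ p.1 := QuotientGroup.eq.1 (Quotient.out_eq _)
    have := hvi p.1 p.2 ⟨_, h⟩ (ρ g⁻¹ a)
    show v p.1 p.2 (ρ (g : G ⧸ p.1).out⁻¹ a) = _
    rw [← this, ← Module.End.mul_apply, ← map_mul, mul_assoc, mul_inv_cancel, mul_one]
  have hbot : ∀ φ : Module.Dual ℤ A, ∃ d : Fin (n ⊥) → ℤ, ∀ a,
      φ a = ∑ k, d k * i a ⟨⟨⊥, k⟩, ((1 : G) : G ⧸ (⊥ : Subgroup G))⟩ := by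
    intro φ
    have hφ : φ ∈ Submodule.span ℤ (Set.range (v ⊥)) := by
      rw [hv, hinv]
      intro h x
      rw [Subgroup.mem_bot.1 h.2, map_one]; rfl
    obtain ⟨d, rfl⟩ := (Submodule.mem_span_range_iff_exists_fun ℤ).1 hφ
    refine ⟨d, fun a => ?_⟩
    simp only [LinearMap.sum_apply, LinearMap.smul_apply, smul_eq_mul]
    refine Finset.sum_congr rfl fun k _ => ?_
    rw [hi, inv_one, map_one]
    rfl
  refine ⟨ι, inferInstance, inferInstance, i, fun g a => ?_, ?_, fun r a y hy => ?_,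
    fun K a y ha hy => ?_⟩
  · funext ⟨p, q⟩
    obtain ⟨q, rfl⟩ := QuotientGroup.mk_surjective q
    rw [perm_apply, hi]
    show _ = i a ⟨p, ((g⁻¹ * q : G) : G ⧸ p.1)⟩
    rw [hi, mul_inv_rev, inv_inv, map_mul, Module.End.mul_apply]
  · refine (injective_iff_map_eq_zero i).2 fun a ha => ?_
    rw [← Module.forall_dual_apply_eq_zero_iff ℤ a]
    intro φ
    obtain ⟨d, hd⟩ := hbot φ
    simp [hd, ha]
  · let b := Module.Free.chooseBasis ℤ A
    have hd : ∀ j, r ∣ b.coord j a := fun j => by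
      obtain ⟨d, hd⟩ := hbot (b.coord j)
      rw [hd, ← hy]
      exact Finset.dvd_sum fun k _ => by
        rw [Pi.smul_apply, smul_eq_mul]; exact (dvd_mul_right r _).mul_left _
    choose q hq using hd
    refine ⟨∑ j, q j • b j, ?_⟩
    conv_rhs => rw [← b.sum_repr a]
    rw [Finset.smul_sum]
    refine Finset.sum_congr rfl fun j _ => ?_
    rw [smul_smul, ← hq]; rfl
  · by_contra hcon
    simp only [not_exists, finsum_eq_sum_of_fintype] at hcon
    set c := Fintype.card K
    have hc : (c : ℤ) ≠ 0 := Nat.cast_ne_zero.2 Fintype.card_ne_zero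
    let Nm : A →ₗ[ℤ] A := ∑ h : K, ρ (h : G)
    have hNm : ∀ x, Nm x = ∑ h : K, ρ (h : G) x := fun x => LinearMap.sum_apply _ _ _
    let S : Submodule ℤ A := LinearMap.range Nm ⊔ LinearMap.range ((c : ℤ) • (LinearMap.id : A →ₗ[ℤ] A))
    have haS : a ∉ S := by
      intro h
      obtain ⟨_, ⟨b, rfl⟩, _, ⟨e, rfl⟩, hbe⟩ := Submodule.mem_sup.1 h
      simp only [LinearMap.smul_apply, LinearMap.id_apply] at hbe
      have hb : ∀ h : K, ρ (h : G) (Nm b) = Nm b := by
        intro h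
        simp only [hNm, map_sum, ← Module.End.mul_apply, ← map_mul]
        exact Fintype.sum_equiv (Equiv.mulLeft h) _ _ fun x => rfl
      have he : ∀ h : K, ρ (h : G) e = e := by
        intro h
        refine smul_right_injective A hc ?_
        have := ha h
        rw [← hbe, map_add, hb, map_smul, add_right_inj] at this
        exact this
      refine hcon (b + e) ?_
      rw [← hbe, hNm]
      simp only [map_add, Finset.sum_add_distrib, he, Finset.sum_const, Finset.card_univ, c,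
        natCast_zsmul]
    have hq : (Submodule.Quotient.mk a : A ⧸ S) ≠ 0 := fun h => haS ((Submodule.Quotient.mk_eq_zero S).1 h)
    obtain ⟨χ, hχ⟩ := CharacterModule.exists_character_apply_ne_zero_of_ne_zero hq
    let b := Module.Free.chooseBasis ℤ A
    have hk : ∀ j, ∃ k : ℤ, χ (Submodule.Quotient.mk (b j)) = (((k : ℚ) / c : ℚ) : AddCircle (1 : ℚ)) := by
      intro j
      obtain ⟨q, hq'⟩ := QuotientAddGroup.mk_surjective (χ (Submodule.Quotient.mk (b j)))
      have h0 : ((c • q : ℚ) : AddCircle (1 : ℚ)) = 0 := by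
        rw [AddCircle.coe_nsmul, show (q : AddCircle (1 : ℚ)) = χ _ from hq', ← map_nsmul,
          ← Submodule.Quotient.mk_smul, (Submodule.Quotient.mk_eq_zero S).2 ?_, map_zero]
        exact Submodule.mem_sup_right ⟨b j, by simp⟩
      obtain ⟨k, hk⟩ := AddCircle.coe_eq_zero_iff _ |>.1 h0
      refine ⟨k, ?_⟩
      rw [← hq']
      congr 1
      rw [eq_div_iff (by exact_mod_cast hc), mul_comm, ← nsmul_eq_mul, ← hk]
      simp
    choose k hk using hk
    let ψ : A →ₗ[ℤ] ℤ := b.constr ℤ k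
    have hψ : ∀ x, χ (Submodule.Quotient.mk x) = (((ψ x : ℚ) / c : ℚ) : AddCircle (1 : ℚ)) := by
      intro x
      let L₁ : A →+ AddCircle (1 : ℚ) := (χ : (A ⧸ S) →+ AddCircle (1 : ℚ)).comp S.mkQ.toAddMonoidHom
      let L₂ : A →+ AddCircle (1 : ℚ) :=
        { toFun := fun x => (((ψ x : ℚ) / c : ℚ) : AddCircle (1 : ℚ))
          map_zero' := by simp
          map_add' := fun x y => by rw [map_add]; push_cast; rw [add_div, AddCircle.coe_add] }
      have : L₁.toIntLinearMap = L₂.toIntLinearMap := b.ext fun j => by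
        show χ (Submodule.Quotient.mk (b j)) = (((ψ (b j) : ℚ) / c : ℚ) : AddCircle (1 : ℚ))
        rw [show ψ (b j) = k j from Module.Basis.constr_basis b ℤ k j, hk]
      exact LinearMap.congr_fun this x
    have hdiv : ∀ x, (c : ℤ) ∣ ψ (Nm x) := by
      intro x
      have h0 := hψ (Nm x)
      rw [(Submodule.Quotient.mk_eq_zero S).2 (Submodule.mem_sup_left ⟨x, rfl⟩), map_zero,
        eq_comm, AddCircle.coe_eq_zero_iff] at h0
      obtain ⟨z, hz⟩ := h0
      refine ⟨z, ?_⟩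
      rw [eq_div_iff (by exact_mod_cast hc)] at hz
      have : ((ψ (Nm x) : ℤ) : ℚ) = (((c : ℤ) * z : ℤ) : ℚ) := by
        rw [← hz]; push_cast; simp [mul_comm]
      exact_mod_cast this
    let φ : Module.Dual ℤ A :=
      { toFun := fun x => ψ (Nm x) / (c : ℤ)
        map_add' := fun x y => by rw [map_add, map_add, Int.add_ediv_of_dvd_left (hdiv x)]
        map_smul' := fun r x => by
          rw [map_smul, map_smul, smul_eq_mul, RingHom.id_apply, smul_eq_mul, Int.mul_ediv_assoc _ (hdiv x)] }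
    have hφ : φ ∈ Submodule.span ℤ (Set.range (v K)) := by
      rw [hv, hinv]
      intro h x
      show ψ (Nm _) / _ = ψ (Nm x) / _
      congr 2
      simp only [hNm, ← Module.End.mul_apply, ← map_mul]
      exact Fintype.sum_equiv (Equiv.mulRight h) _ _ fun x => rfl
    obtain ⟨d, hd⟩ := (Submodule.mem_span_range_iff_exists_fun ℤ).1 hφ
    have hvd : ∀ k, (c : ℤ) ∣ v K k a := by
      intro k
      refine ⟨y ⟨⟨K, k⟩, ((1 : G) : G ⧸ K)⟩, ?_⟩
      have h := congrFun hy ⟨⟨K, k⟩, ((1 : G) : G ⧸ K)⟩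
      rw [hi, inv_one, map_one, Module.End.one_apply, finsum_eq_sum_of_fintype, Finset.sum_apply] at h
      rw [← h]
      simp only [perm_apply]
      rw [Finset.sum_congr rfl fun (x : K) _ => congrArg y (show (x : G)⁻¹ • (⟨⟨K, k⟩, ((1 : G) : G ⧸ K)⟩ : ι) =
        ⟨⟨K, k⟩, ((1 : G) : G ⧸ K)⟩ from by
          show (⟨⟨K, k⟩, (((x : G)⁻¹ * 1 : G) : G ⧸ K)⟩ : ι) = _
          congr 1
          exact QuotientGroup.eq.2 (by simp)), Finset.sum_const, Finset.card_univ, nsmul_eq_mul]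
    have hφa : φ a = ψ a := by
      show ψ (Nm a) / _ = _
      rw [hNm, Finset.sum_congr rfl fun (h : K) _ => ha h, Finset.sum_const, Finset.card_univ,
        map_nsmul, nsmul_eq_mul, Int.mul_ediv_cancel_left _ hc]
    have : (c : ℤ) ∣ ψ a := by
      rw [← hφa, ← hd, LinearMap.sum_apply]
      exact Finset.dvd_sum fun k _ => by
        rw [LinearMap.smul_apply, smul_eq_mul]; exact (hvd k).mul_left _
    obtain ⟨z, hz⟩ := this
    refine hχ ?_
    rw [hψ, hz, AddCircle.coe_eq_zero_iff]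
    exact ⟨z, by have : (c : ℚ) ≠ 0 := by exact_mod_cast hc
                 push_cast; field_simp; simp [zsmul_eq_mul, mul_comm]⟩

theorem coflasque_res (A : Type) [AddCommGroup A] [Module.Finite ℤ A] (ρ : Representation ℤ G A) :
    ∃ (Q : Type) (_ : AddCommGroup Q) (P : Type) (_ : AddCommGroup P)
      (_ : Module.Finite ℤ Q) (_ : Module.Free ℤ Q) (_ : Module.Finite ℤ P) (_ : Module.Free ℤ P)
      (σ : Representation ℤ G Q) (τ : Representation ℤ G P) (i : Q →ₗ[ℤ] P) (π : P →ₗ[ℤ] A),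
      IsEquivariant σ τ i ∧ IsEquivariant τ ρ π ∧ Function.Injective i ∧ Function.Surjective π ∧
      LinearMap.range i = LinearMap.ker π ∧ IsPermutation τ ∧ IsCoflasque σ := by
  obtain ⟨ι, _, _, π, hπ, hcov⟩ := exists_cover A ρ
  have hst : ∀ g : G, ∀ x ∈ LinearMap.ker π, perm ι g x ∈ LinearMap.ker π := fun g x hx => by
    rw [LinearMap.mem_ker, hπ, LinearMap.mem_ker.1 hx, map_zero]
  obtain ⟨h1, h2⟩ := finite_free_sub (LinearMap.ker π)
  refine ⟨LinearMap.ker π, inferInstance, ι → ℤ, inferInstance, h1, h2, inferInstance, inferInstance,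
    subRep (perm ι) _ hst, perm ι, (LinearMap.ker π).subtype, π, fun g x => rfl, hπ,
    Subtype.val_injective, fun a => ?_, Submodule.range_subtype _, isPermutation_perm ι, ?_⟩
  · obtain ⟨y, -, hy⟩ := hcov ⊥ a fun h => by rw [Subgroup.mem_bot.1 h.2, map_one]; rfl
    exact ⟨y, hy⟩
  · intro K f hf
    obtain ⟨m, hm⟩ := perm_coflasque ι K (fun a => (f a : ι → ℤ)) fun a b => by
      simp [hf, subRep_apply]
    obtain ⟨y, hy, hyπ⟩ := hcov K (π m) fun h => by
      have : π ((f h : LinearMap.ker π) : ι → ℤ) = 0 := LinearMap.mem_ker.1 (f h).2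
      rw [hm h, map_sub, hπ, sub_eq_zero] at this
      exact this
    refine ⟨⟨m - y, by rw [LinearMap.mem_ker, map_sub, hyπ, sub_self]⟩, fun a => Subtype.ext ?_⟩
    simp only [AddSubgroupClass.coe_sub, subRep_apply, map_sub, hy, hm a]
    abel

theorem flasque_res (A : Type) [AddCommGroup A] [Module.Finite ℤ A] [Module.Free ℤ A]
    (ρ : Representation ℤ G A) :
    ∃ (P : Type) (_ : AddCommGroup P) (F : Type) (_ : AddCommGroup F)
      (_ : Module.Finite ℤ P) (_ : Module.Free ℤ P) (_ : Module.Finite ℤ F) (_ : Module.Free ℤ F)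
      (σ : Representation ℤ G P) (τ : Representation ℤ G F) (i : A →ₗ[ℤ] P) (π : P →ₗ[ℤ] F),
      IsEquivariant ρ σ i ∧ IsEquivariant σ τ π ∧ Function.Injective i ∧ Function.Surjective π ∧
      LinearMap.range i = LinearMap.ker π ∧ IsPermutation σ ∧ IsFlasque τ := by
  classical
  haveI : ∀ K : Subgroup G, Fintype K := fun K => Fintype.ofFinite _
  obtain ⟨ι, _, _, i, hi, hinj, hsat, hnorm⟩ := exists_embedding A ρ
  have hst : ∀ g : G, ∀ x ∈ LinearMap.range i, perm ι g x ∈ LinearMap.range i := by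
    rintro g _ ⟨a, rfl⟩; exact ⟨ρ g a, hi g a⟩
  -- the cokernel is torsion free
  haveI : Module.IsTorsionFree ℤ ((ι → ℤ) ⧸ LinearMap.range i) := by
    refine ⟨fun r hr => ?_⟩
    intro x₁ x₂ h
    obtain ⟨x₁, rfl⟩ := Submodule.Quotient.mk_surjective _ x₁
    obtain ⟨x₂, rfl⟩ := Submodule.Quotient.mk_surjective _ x₂
    obtain ⟨a, ha⟩ := (Submodule.Quotient.eq _).1 (show Submodule.Quotient.mk (r • x₁) =
      (Submodule.Quotient.mk (r • x₂) : (ι → ℤ) ⧸ LinearMap.range i) from h)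
    refine (Submodule.Quotient.eq _).2 ?_
    rw [← smul_sub] at ha
    obtain ⟨a', rfl⟩ := hsat r a _ ha.symm
    rw [map_smul] at ha
    exact ⟨a', smul_right_injective _ hr.ne_zero ha⟩
  refine ⟨ι → ℤ, inferInstance, (ι → ℤ) ⧸ LinearMap.range i, inferInstance, inferInstance,
    inferInstance, inferInstance, inferInstance, perm ι, quotRep (perm ι) _ hst, i,
    (LinearMap.range i).mkQ, hi, fun g x => rfl, hinj, Submodule.mkQ_surjective _,
    (Submodule.ker_mkQ _).symm, isPermutation_perm ι, fun K x hx => ?_⟩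
  obtain ⟨y, rfl⟩ := Submodule.Quotient.mk_surjective _ x
  rw [finsum_eq_sum_of_fintype, Finset.sum_congr rfl fun (h : K) _ => show quotRep (perm (G := G) ι) _ hst (h : G) (Submodule.Quotient.mk y) =
    (LinearMap.range i).mkQ (perm ι (h : G) y) from rfl, ← map_sum] at hx
  obtain ⟨a, ha⟩ := (Submodule.Quotient.mk_eq_zero _).1 hx
  have hinva : ∀ h : K, ρ (h : G) a = a := by
    intro h
    apply hinj
    rw [hi, ha]
    simp only [map_sum, ← Module.End.mul_apply, ← map_mul]
    exact Fintype.sum_equiv (Equiv.mulLeft h) _ _ fun x => rfl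
  obtain ⟨a', ha'⟩ := hnorm K a y hinva (by rw [finsum_eq_sum_of_fintype, ← ha])
  have hy : y - i a' ∈ Submodule.span ℤ {x | ∃ (h : K) (z : ι → ℤ), x = perm (G := G) ι (h : G) z - z} := by
    refine perm_flasque ι K _ ?_
    rw [finsum_eq_sum_of_fintype] at ha' ⊢
    have e : ∀ h : K, perm ι (h : G) (i a') = i (ρ (h : G) a') := fun h => (hi _ _).symm
    simp only [map_sub, Finset.sum_sub_distrib, e, ← map_sum, ha', ← ha, sub_self]
  have key := Submodule.mem_map_of_mem (f := (LinearMap.range i).mkQ) hy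
  rw [map_sub, show (LinearMap.range i).mkQ (i a') = 0 from
    (Submodule.Quotient.mk_eq_zero _).2 ⟨a', rfl⟩, sub_zero] at key
  refine (Submodule.map_span_le _ _ _).2 ?_ key
  rintro _ ⟨h, z, rfl⟩
  exact Submodule.subset_span ⟨h, Submodule.Quotient.mk z, by rw [map_sub]; rfl⟩

theorem coflasque_ext {M N L : Type} [AddCommGroup M] [AddCommGroup N] [AddCommGroup L]
    {α : Representation ℤ G M} {β : Representation ℤ G N} {γ : Representation ℤ G L}
    (i : M →ₗ[ℤ] N) (π : N →ₗ[ℤ] L) (hi : IsEquivariant α β i) (hπ : IsEquivariant β γ π)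
    (hinj : Function.Injective i) (hsurj : Function.Surjective π)
    (hex : LinearMap.range i = LinearMap.ker π) (h1 : IsCoflasque α) (h2 : IsCoflasque γ) :
    IsCoflasque β := by
  intro K f hf
  obtain ⟨l, hl⟩ := h2 K (fun a => π (f a)) fun a b => by rw [hf, map_add, hπ]
  obtain ⟨n, rfl⟩ := hsurj l
  have h : ∀ a : K, ∃ m : M, i m = f a - (β (a : G) n - n) := fun a => by
    rw [← LinearMap.mem_range, hex, LinearMap.mem_ker, map_sub, map_sub, hπ, hl a, sub_self]
  choose g hg using h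
  obtain ⟨m, hm⟩ := h1 K g fun a b => hinj (by
    rw [map_add, hi, hg, hg, hg, hf, Subgroup.coe_mul, map_mul, Module.End.mul_apply]
    simp only [map_sub]
    abel)
  refine ⟨n + i m, fun a => ?_⟩
  have := hg a
  rw [hm a, map_sub, hi] at this
  rw [map_add, sub_eq_iff_eq_add.1 this.symm]
  abel

theorem flasque_ext {M N L : Type} [AddCommGroup M] [AddCommGroup N] [AddCommGroup L]
    {α : Representation ℤ G M} {β : Representation ℤ G N} {γ : Representation ℤ G L}
    (i : M →ₗ[ℤ] N) (π : N →ₗ[ℤ] L) (hi : IsEquivariant α β i) (hπ : IsEquivariant β γ π)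
    (hinj : Function.Injective i) (hsurj : Function.Surjective π)
    (hex : LinearMap.range i = LinearMap.ker π) (h1 : IsFlasque α) (h2 : IsFlasque γ) :
    IsFlasque β := by
  classical
  intro K x hx
  haveI := Fintype.ofFinite K
  rw [finsum_eq_sum_of_fintype] at hx
  have hx2 : π x ∈ Submodule.span ℤ {y | ∃ (h : K) (z : L), y = γ (h : G) z - z} := by
    refine h2 K _ ?_
    rw [finsum_eq_sum_of_fintype]
    have e : ∀ h : K, γ (h : G) (π x) = π (β (h : G) x) := fun h => (hπ _ _).symm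
    rw [Finset.sum_congr rfl fun h _ => e h, ← map_sum, hx, map_zero]
  set S := Submodule.span ℤ {y | ∃ (h : K) (z : N), y = β (h : G) z - z}
  have hmap : Submodule.span ℤ {y | ∃ (h : K) (z : L), y = γ (h : G) z - z} ≤ S.map π := by
    refine Submodule.span_le.2 ?_
    rintro _ ⟨h, z, rfl⟩
    obtain ⟨n, rfl⟩ := hsurj z
    exact ⟨β (h : G) n - n, Submodule.subset_span ⟨h, n, rfl⟩, by rw [map_sub, hπ]⟩
  obtain ⟨s, hs, hsx⟩ := hmap hx2
  have hsum : ∀ y ∈ S, ∑ h : K, β (h : G) y = 0 := by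
    intro y hy
    have : S ≤ LinearMap.ker (∑ h : K, β (h : G)) := by
      refine Submodule.span_le.2 ?_
      rintro _ ⟨h, z, rfl⟩
      simp only [SetLike.mem_coe, LinearMap.mem_ker, LinearMap.sum_apply, map_sub,
        Finset.sum_sub_distrib, sub_eq_zero, ← Module.End.mul_apply, ← map_mul]
      exact Fintype.sum_equiv (Equiv.mulRight h) _ _ fun x => rfl
    simpa using LinearMap.mem_ker.1 (this hy)
  obtain ⟨m, hm⟩ : x - s ∈ LinearMap.range i := by
    rw [hex, LinearMap.mem_ker, map_sub, hsx, sub_self]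
  have hm0 : m ∈ Submodule.span ℤ {y | ∃ (h : K) (z : M), y = α (h : G) z - z} := by
    refine h1 K m ?_
    rw [finsum_eq_sum_of_fintype]
    apply hinj
    have e : ∀ h : K, i (α (h : G) m) = β (h : G) (i m) := fun h => hi _ _
    simp only [map_zero, map_sum, e, hm, map_sub, Finset.sum_sub_distrib, hx, hsum s hs, sub_self]
  have key : i m ∈ S := by
    refine (Submodule.map_span_le _ _ _).2 ?_ (Submodule.mem_map_of_mem hm0)
    rintro _ ⟨h, z, rfl⟩
    exact Submodule.subset_span ⟨h, i z, by rw [map_sub, hi]⟩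
  rw [hm] at key
  simpa using add_mem key hs

theorem isFlasque_of_isPermutation {P : Type} [AddCommGroup P] [Module.Finite ℤ P]
    {τ : Representation ℤ G P} (h : IsPermutation τ) : IsFlasque τ ∧ IsCoflasque τ := by
  classical
  obtain ⟨ι, b, hb⟩ := h
  haveI := Module.Finite.finite_basis b
  haveI := Fintype.ofFinite ι
  choose act hact using hb
  letI : MulAction G ι :=
    { smul := act
      one_smul := fun j => b.injective (by
        show b (act 1 j) = b j
        rw [← hact, map_one]; rfl)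
      mul_smul := fun g h j => b.injective (by
        show b (act (g * h) j) = b (act g (act h j))
        rw [← hact, ← hact, ← hact, map_mul]; rfl) }
  have he : ∀ g x, b.equivFun (τ g x) = perm ι g (b.equivFun x) := by
    intro g x
    refine LinearMap.congr_fun (f := b.equivFun.toLinearMap ∘ₗ τ g)
      (g := perm ι g ∘ₗ b.equivFun.toLinearMap) (b.ext fun j => ?_) x
    have e : ∀ j, b.equivFun (b j) = Pi.single j (1 : ℤ) := fun j => by
      funext k; simp [Pi.single_apply, Finsupp.single_apply, eq_comm]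
    simp only [LinearMap.comp_apply, LinearEquiv.coe_coe, hact, e, perm_single]
    rfl
  have he' : ∀ g y, τ g (b.equivFun.symm y) = b.equivFun.symm (perm ι g y) := fun g y =>
    b.equivFun.injective (by rw [he, LinearEquiv.apply_symm_apply, LinearEquiv.apply_symm_apply])
  refine ⟨fun K m hm => ?_, fun K f hf => ?_⟩
  · have h1 : b.equivFun m ∈ Submodule.span ℤ {x | ∃ (h : K) (z : ι → ℤ), x = perm (G := G) ι (h : G) z - z} := by
      refine perm_flasque ι K _ ?_
      haveI := Fintype.ofFinite K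
      rw [finsum_eq_sum_of_fintype] at hm ⊢
      simp only [← he, ← map_sum, hm, map_zero]
    have := Submodule.mem_map_of_mem (f := b.equivFun.symm.toLinearMap) h1
    rw [LinearEquiv.coe_coe, LinearEquiv.symm_apply_apply] at this
    refine (Submodule.map_span_le _ _ _).2 ?_ this
    rintro _ ⟨h, z, rfl⟩
    exact Submodule.subset_span ⟨h, b.equivFun.symm z, by
      rw [LinearEquiv.coe_coe, map_sub, he']⟩
  · obtain ⟨m, hm⟩ := perm_coflasque ι K (fun a => b.equivFun (f a)) fun a c => by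
      rw [hf, map_add, he]
    exact ⟨b.equivFun.symm m, fun a => b.equivFun.injective (by
      rw [hm, map_sub, he, LinearEquiv.apply_symm_apply])⟩

theorem flasque_cover (A : Type) [AddCommGroup A] [Module.Finite ℤ A] (ρ : Representation ℤ G A) :
    ∃ (P : Type) (_ : AddCommGroup P) (F : Type) (_ : AddCommGroup F)
      (_ : Module.Finite ℤ P) (_ : Module.Free ℤ P) (_ : Module.Finite ℤ F) (_ : Module.Free ℤ F)
      (σ : Representation ℤ G P) (τ : Representation ℤ G F) (i : P →ₗ[ℤ] F) (π : F →ₗ[ℤ] A),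
      IsEquivariant σ τ i ∧ IsEquivariant τ ρ π ∧ Function.Injective i ∧ Function.Surjective π ∧
      LinearMap.range i = LinearMap.ker π ∧ IsPermutation σ ∧ IsFlasque τ := by
  obtain ⟨Q, _, P₀, _, _, _, _, _, σQ, τ₀, i₀, π₀, hi₀, hπ₀, hinj₀, hsurj₀, hex₀, hP₀, -⟩ :=
    coflasque_res A ρ
  obtain ⟨P₁, _, F₁, _, _, _, _, _, σ₁, τ₁, i₁, π₁, hi₁, hπ₁, hinj₁, hsurj₁, hex₁, hP₁, hF₁⟩ :=
    flasque_res Q σQ
  -- the pushout
  let τP : Representation ℤ G (P₀ × P₁) :=
    { toFun := fun g => (τ₀ g).prodMap (σ₁ g)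
      map_one' := by ext x <;> simp
      map_mul' := fun g h => by ext x <;> simp }
  let j : Q →ₗ[ℤ] P₀ × P₁ := i₀.prod (-i₁)
  have hst : ∀ g : G, ∀ x ∈ LinearMap.range j, τP g x ∈ LinearMap.range j := by
    rintro g _ ⟨q, rfl⟩
    exact ⟨σQ g q, Prod.ext (hi₀ g q) (by
      show -i₁ (σQ g q) = σ₁ g (-i₁ q)
      rw [hi₁, map_neg])⟩
  let F := (P₀ × P₁) ⧸ LinearMap.range j
  let iP : P₁ →ₗ[ℤ] F := (LinearMap.range j).mkQ ∘ₗ LinearMap.inr ℤ P₀ P₁
  let i' : P₀ →ₗ[ℤ] F := (LinearMap.range j).mkQ ∘ₗ LinearMap.inl ℤ P₀ P₁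
  let π : F →ₗ[ℤ] A := (LinearMap.range j).liftQ (π₀ ∘ₗ LinearMap.fst ℤ P₀ P₁) (by
    rintro _ ⟨q, rfl⟩
    exact LinearMap.mem_ker.1 (hex₀ ▸ ⟨q, rfl⟩ : i₀ q ∈ LinearMap.ker π₀))
  let π' : F →ₗ[ℤ] F₁ := (LinearMap.range j).liftQ (π₁ ∘ₗ LinearMap.snd ℤ P₀ P₁) (by
    rintro _ ⟨q, rfl⟩
    show π₁ (-i₁ q) = 0
    rw [map_neg, LinearMap.mem_ker.1 (hex₁ ▸ ⟨q, rfl⟩ : i₁ q ∈ LinearMap.ker π₁), neg_zero])
  let τ : Representation ℤ G F := quotRep τP _ hst
  have hinjP : Function.Injective iP := by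
    refine (injective_iff_map_eq_zero iP).2 fun y hy => ?_
    obtain ⟨q, hq⟩ := (Submodule.Quotient.mk_eq_zero _).1 hy
    have h1 : i₀ q = 0 := congrArg Prod.fst hq
    have h2 : -i₁ q = y := congrArg Prod.snd hq
    rw [← h2, (injective_iff_map_eq_zero i₀).1 hinj₀ q h1, map_zero, neg_zero]
  have hinj' : Function.Injective i' := by
    refine (injective_iff_map_eq_zero i').2 fun y hy => ?_
    obtain ⟨q, hq⟩ := (Submodule.Quotient.mk_eq_zero _).1 hy
    have h1 : i₀ q = y := congrArg Prod.fst hq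
    have h2 : -i₁ q = 0 := congrArg Prod.snd hq
    rw [← h1, (injective_iff_map_eq_zero i₁).1 hinj₁ q (neg_eq_zero.1 h2), map_zero]
  have hex : LinearMap.range iP = LinearMap.ker π := by
    refine le_antisymm ?_ fun z hz => ?_
    · rintro _ ⟨y, rfl⟩; exact map_zero π₀
    · obtain ⟨⟨x, y⟩, rfl⟩ := Submodule.Quotient.mk_surjective _ z
      obtain ⟨q, hq⟩ : x ∈ LinearMap.range i₀ := hex₀ ▸ hz
      refine ⟨y + i₁ q, (Submodule.Quotient.eq _).2 ⟨-q, Prod.ext ?_ ?_⟩⟩
      · show i₀ (-q) = 0 - x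
        rw [map_neg, hq, zero_sub]
      · show -i₁ (-q) = y + i₁ q - y
        rw [map_neg, neg_neg, add_sub_cancel_left]
  have hex' : LinearMap.range i' = LinearMap.ker π' := by
    refine le_antisymm ?_ fun z hz => ?_
    · rintro _ ⟨y, rfl⟩; exact map_zero π₁
    · obtain ⟨⟨x, y⟩, rfl⟩ := Submodule.Quotient.mk_surjective _ z
      obtain ⟨q, hq⟩ : y ∈ LinearMap.range i₁ := hex₁ ▸ hz
      refine ⟨x + i₀ q, (Submodule.Quotient.eq _).2 ⟨q, Prod.ext ?_ ?_⟩⟩
      · show i₀ q = x + i₀ q - x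
        rw [add_sub_cancel_left]
      · show -i₁ q = 0 - y
        rw [hq, zero_sub]
  haveI : Module.IsTorsionFree ℤ F := by
    refine ⟨fun r hr => ?_⟩
    intro z₁ z₂ h
    rw [← sub_eq_zero]
    have h0 : r • (z₁ - z₂) = 0 := by rw [smul_sub, sub_eq_zero]; exact h
    have h1 : π' (z₁ - z₂) = 0 := by
      have := congrArg π' h0
      rw [map_smul, map_zero] at this
      exact (smul_eq_zero.1 this).resolve_left hr.ne_zero
    obtain ⟨x, hx⟩ : z₁ - z₂ ∈ LinearMap.range i' := hex' ▸ h1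
    rw [← hx, ← map_smul] at h0
    rw [← hx, (smul_eq_zero.1 ((injective_iff_map_eq_zero i').1 hinj' _ h0)).resolve_left hr.ne_zero,
      map_zero]
  refine ⟨P₁, inferInstance, F, inferInstance, inferInstance, inferInstance, inferInstance,
    inferInstance, σ₁, τ, iP, π, fun g y => ?_, ?_, hinjP, ?_, hex, hP₁, ?_⟩
  · show _ = Submodule.Quotient.mk _
    exact congrArg Submodule.Quotient.mk (Prod.ext (map_zero (τ₀ g)).symm rfl)
  · intro g z
    obtain ⟨⟨x, y⟩, rfl⟩ := Submodule.Quotient.mk_surjective _ z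
    exact hπ₀ g x
  · intro a
    obtain ⟨x, hx⟩ := hsurj₀ a
    exact ⟨Submodule.Quotient.mk (x, 0), hx⟩
  · refine flasque_ext i' π' (α := τ₀) (γ := τ₁) (fun g x => ?_) ?_ hinj' ?_ hex'
      (isFlasque_of_isPermutation hP₀).1 hF₁
    · exact congrArg Submodule.Quotient.mk (Prod.ext rfl (map_zero (σ₁ g)).symm)
    · intro g z
      obtain ⟨⟨x, y⟩, rfl⟩ := Submodule.Quotient.mk_surjective _ z
      exact hπ₁ g y
    · intro a
      obtain ⟨y, hy⟩ := hsurj₁ a
      exact ⟨Submodule.Quotient.mk (0, y), hy⟩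

theorem coflasque_emb (A : Type) [AddCommGroup A] [Module.Finite ℤ A] [Module.Free ℤ A]
    (ρ : Representation ℤ G A) :
    ∃ (Q : Type) (_ : AddCommGroup Q) (P : Type) (_ : AddCommGroup P)
      (_ : Module.Finite ℤ Q) (_ : Module.Free ℤ Q) (_ : Module.Finite ℤ P) (_ : Module.Free ℤ P)
      (σ : Representation ℤ G Q) (τ : Representation ℤ G P) (i : A →ₗ[ℤ] Q) (π : Q →ₗ[ℤ] P),
      IsEquivariant ρ σ i ∧ IsEquivariant σ τ π ∧ Function.Injective i ∧ Function.Surjective π ∧
      LinearMap.range i = LinearMap.ker π ∧ IsCoflasque σ ∧ IsPermutation τ := by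
  obtain ⟨P₀, _, F, _, _, _, _, _, σ₀, τF, i₀, π₀, hi₀, hπ₀, hinj₀, hsurj₀, hex₀, hP₀, -⟩ :=
    flasque_res A ρ
  obtain ⟨Q₁, _, P₁, _, _, _, _, _, σ₁, τ₁, i₁, π₁, hi₁, hπ₁, hinj₁, hsurj₁, hex₁, hP₁, hQ₁⟩ :=
    coflasque_res F τF
  -- the pullback
  let τP : Representation ℤ G (P₀ × P₁) :=
    { toFun := fun g => (σ₀ g).prodMap (τ₁ g)
      map_one' := by ext x <;> simp
      map_mul' := fun g h => by ext x <;> simp }
  let N := LinearMap.ker (π₀ ∘ₗ LinearMap.fst ℤ P₀ P₁ - π₁ ∘ₗ LinearMap.snd ℤ P₀ P₁)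
  have hN : ∀ x, x ∈ N ↔ π₀ x.1 = π₁ x.2 := fun x => by simp [N, sub_eq_zero]
  have hst : ∀ g : G, ∀ x ∈ N, τP g x ∈ N := by
    intro g x hx
    rw [hN] at hx ⊢
    show π₀ (σ₀ g x.1) = π₁ (τ₁ g x.2)
    rw [hπ₀, hπ₁, hx]
  obtain ⟨hf1, hf2⟩ := finite_free_sub N
  let i : A →ₗ[ℤ] N := LinearMap.codRestrict N (LinearMap.inl ℤ P₀ P₁ ∘ₗ i₀) fun a => by
    rw [hN]
    show π₀ (i₀ a) = π₁ 0
    rw [map_zero, ← LinearMap.mem_ker, ← hex₀]
    exact ⟨a, rfl⟩
  let i' : Q₁ →ₗ[ℤ] N := LinearMap.codRestrict N (LinearMap.inr ℤ P₀ P₁ ∘ₗ i₁) fun a => by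
    rw [hN]
    show π₀ 0 = π₁ (i₁ a)
    rw [map_zero, eq_comm, ← LinearMap.mem_ker, ← hex₁]
    exact ⟨a, rfl⟩
  let π : N →ₗ[ℤ] P₁ := LinearMap.snd ℤ P₀ P₁ ∘ₗ N.subtype
  let π' : N →ₗ[ℤ] P₀ := LinearMap.fst ℤ P₀ P₁ ∘ₗ N.subtype
  refine ⟨N, inferInstance, P₁, inferInstance, hf1, hf2, inferInstance, inferInstance,
    subRep τP N hst, τ₁, i, π, fun g a => Subtype.ext (Prod.ext (hi₀ g a) (map_zero (τ₁ g)).symm),
    fun g x => rfl, fun a b h => hinj₀ (congrArg (fun z : N => (z : P₀ × P₁).1) h), ?_, ?_, ?_, hP₁⟩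
  · intro y
    obtain ⟨x, hx⟩ := hsurj₀ (π₁ y)
    exact ⟨⟨(x, y), (hN _).2 hx⟩, rfl⟩
  · refine le_antisymm ?_ fun z hz => ?_
    · rintro _ ⟨a, rfl⟩; exact rfl
    · have hz' : (z : P₀ × P₁).2 = 0 := hz
      have h := (hN _).1 z.2
      rw [hz', map_zero] at h
      obtain ⟨a, ha⟩ : (z : P₀ × P₁).1 ∈ LinearMap.range i₀ := hex₀ ▸ h
      exact ⟨a, Subtype.ext (Prod.ext ha hz'.symm)⟩
  · refine coflasque_ext i' π' (α := σ₁) (γ := σ₀)
      (fun g a => Subtype.ext (Prod.ext (map_zero (σ₀ g)).symm (hi₁ g a))) (fun g x => rfl)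
      (fun a b h => hinj₁ (congrArg (fun z : N => (z : P₀ × P₁).2) h)) ?_ ?_ hQ₁
      (isFlasque_of_isPermutation hP₀).2
    · intro x
      obtain ⟨y, hy⟩ := hsurj₁ (π₀ x)
      exact ⟨⟨(x, y), (hN _).2 hy.symm⟩, rfl⟩
    · refine le_antisymm ?_ fun z hz => ?_
      · rintro _ ⟨a, rfl⟩; exact rfl
      · have hz' : (z : P₀ × P₁).1 = 0 := hz
        have h := (hN _).1 z.2
        rw [hz', map_zero] at h
        obtain ⟨a, ha⟩ : (z : P₀ × P₁).2 ∈ LinearMap.range i₁ := hex₁ ▸ h.symm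
        exact ⟨a, Subtype.ext (Prod.ext hz'.symm ha)⟩

end Groth.Agent.H68.GLatRes
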