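import Groth.Prelude.Def_CurvBase
import Mathlib

/-!
A tensor product with a finite Galois extension that is not a field contains a nontrivial subfield,
and base changes of integral schemes are connected when the generic fibre is a field.
-/

set_option autoImplicit false

universe u

open AlgebraicGeometry CategoryTheory Limits Polynomial
open scoped TensorProduct

namespace Groth.Agent.H68.GenDescend

/-- Trivial intersection with a finite Galois subextension forces linear disjointness. -/
theorem linearDisjoint_of_inf_eq_bot {k E L : Type u} [Field k] [Field E] [Algebra k E] [Field L]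
    [Algebra k L] [FiniteDimensional k L] [IsGalois k L] (A : IntermediateField k E) (fb : L →ₐ[k] E)
    (h : A ⊓ fb.fieldRange = ⊥) : A.LinearDisjoint fb.fieldRange := by
  classical
  set pb := Field.powerBasisOfFiniteOfSeparable k L
  set α := pb.gen
  have hαk : IsIntegral k α := Algebra.IsIntegral.isIntegral α
  have hαA : IsIntegral A (fb α) := (hαk.map fb).tower_top
  set g := minpoly A (fb α)
  set gE := g.map (algebraMap A E)
  set fE := (minpoly k α).map (algebraMap k E)
  have hgm : g.Monic := minpoly.monic hαA
  have hfL : ((minpoly k α).map (algebraMap k L)).Splits := Normal.splits inferInstance α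
  have hfE : fE = ((minpoly k α).map (algebraMap k L)).map fb.toRingHom := by
    rw [Polynomial.map_map]; exact congrArg (fun φ => Polynomial.map φ (minpoly k α)) fb.comp_algebraMap.symm
  have hfEs : fE.Splits := hfE ▸ hfL.map fb.toRingHom
  have hfEne : fE ≠ 0 := (Polynomial.map_ne_zero (minpoly.ne_zero hαk))
  have hdvd : gE ∣ fE := by
    have h1 : g ∣ (minpoly k α).map (algebraMap k A) := by
      refine minpoly.dvd A (fb α) ?_
      rw [Polynomial.aeval_map_algebraMap, Polynomial.aeval_algHom_apply, minpoly.aeval, map_zero]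
    have h2 := Polynomial.map_dvd (algebraMap A E) h1
    rwa [Polynomial.map_map, ← IsScalarTower.algebraMap_eq] at h2
  have hgs : gE.Splits := hfEs.of_dvd hfEne hdvd
  have hroots : ∀ r ∈ gE.roots, r ∈ fb.toRingHom.range := by
    intro r hr
    have hr' : r ∈ fE.roots := Multiset.mem_of_le (Polynomial.roots.le_of_dvd hfEne hdvd) hr
    rw [hfE, hfL.roots_map fb.toRingHom] at hr'
    obtain ⟨l, -, hl⟩ := Multiset.mem_map.mp hr'
    exact ⟨l, hl⟩
  have hlift : gE ∈ Polynomial.lifts fb.toRingHom := by
    rw [hgs.eq_prod_roots_of_monic (hgm.map _)]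
    refine Submonoid.multiset_prod_mem (Polynomial.lifts fb.toRingHom).toSubmonoid _ ?_
    intro q hq
    obtain ⟨r, hr, rfl⟩ := Multiset.mem_map.mp hq
    obtain ⟨l, rfl⟩ := hroots r hr
    exact ⟨X - C l, by simp⟩
  have hk : gE ∈ Polynomial.lifts (algebraMap k E) := by
    rw [Polynomial.lifts_iff_coeff_lifts]
    intro i
    have h1 : gE.coeff i ∈ A ⊓ fb.fieldRange := by
      refine ⟨?_, ?_⟩
      · rw [Polynomial.coeff_map]; exact (g.coeff i).2
      · obtain ⟨l, hl⟩ := (Polynomial.lifts_iff_coeff_lifts _).mp hlift i
        exact ⟨l, hl⟩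
    rw [h, IntermediateField.mem_bot] at h1
    exact h1
  obtain ⟨g₀, hg₀, hdeg, hg₀m⟩ := Polynomial.lifts_and_degree_eq_and_monic hk (hgm.map _)
  have hg₀α : Polynomial.aeval α g₀ = 0 := by
    apply fb.toRingHom.injective
    show fb (Polynomial.aeval α g₀) = fb 0
    rw [map_zero, ← Polynomial.aeval_algHom_apply, Polynomial.aeval_def, ← Polynomial.eval_map, hg₀,
      Polynomial.eval_map, ← Polynomial.aeval_def]
    exact minpoly.aeval A (fb α)
  have hle : pb.dim ≤ g.natDegree := by
    rw [← pb.natDegree_minpoly, show g.natDegree = g₀.natDegree by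
      rw [natDegree_eq_of_degree_eq hdeg, natDegree_map]]
    exact natDegree_le_of_dvd (minpoly.dvd k α hg₀α) hg₀m.ne_zero
  refine IntermediateField.LinearDisjoint.of_basis_right
    (pb.basis.map (AlgEquiv.ofInjectiveField fb).toLinearEquiv) ?_
  have hli : LinearIndependent A fun i : Fin pb.dim => fb α ^ (i : ℕ) :=
    (linearIndependent_pow (K := A) (fb α)).comp (Fin.castLE hle) (Fin.castLE_injective _)
  convert hli using 1
  funext i
  simp [pb.basis_eq_pow, α, AlgEquiv.ofInjectiveField]
  exact map_pow fb pb.gen i

/-- If `M ⊗ L` is not a field, then a nontrivial subextension of `L` maps to `M`. -/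
theorem exists_subfield {k M L : Type u} [Field k] [Field M] [Algebra k M] [Field L] [Algebra k L]
    [FiniteDimensional k L] [IsGalois k L] (h : ¬ IsField (M ⊗[k] L)) :
    ∃ F : IntermediateField k L, F ≠ ⊥ ∧ Nonempty (F →ₐ[k] M) := by
  classical
  by_contra hne
  refine h (IntermediateField.LinearDisjoint.isField_of_forall k M L fun E _ _ fa fb => ?_)
  refine linearDisjoint_of_inf_eq_bot fa.fieldRange fb ?_
  by_contra hbot
  refine hne ⟨fa.fieldRange.comap fb, fun hb => hbot (eq_bot_iff.mpr ?_), ⟨?_⟩⟩
  · rintro x ⟨hxa, l, rfl⟩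
    have : l ∈ fa.fieldRange.comap fb := hxa
    rw [hb, IntermediateField.mem_bot] at this
    obtain ⟨c, rfl⟩ := this
    exact IntermediateField.mem_bot.mpr ⟨c, (fb.commutes c).symm⟩
  · exact (AlgEquiv.ofInjectiveField fa).symm.toAlgHom.comp
      ((fb.comp (fa.fieldRange.comap fb).val).codRestrict fa.fieldRange.toSubalgebra fun x => x.2)

/-- If the generic fibre of the base change is a field, the base change is connected. -/
theorem irreducibleSpace_bc (k : Type u) [Field k] (X : Scheme.{u}) [X.Over (Spec (CommRingCat.of k))]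
    [IsIntegral X] (L : Type u) [Field L] [Algebra k L] [Algebra k X.functionField]
    (hφ : Spec.map (CommRingCat.ofHom (algebraMap k X.functionField)) =
      X.fromSpecStalk (genericPoint X) ≫ (X ↘ Spec (CommRingCat.of k)))
    (h : IsField (X.functionField ⊗[k] L)) : IrreducibleSpace ↥(Curv2.bc k X L) := by
  letI := h.toField
  set f := X ↘ Spec (CommRingCat.of k)
  set gL := Spec.map (CommRingCat.ofHom (algebraMap k L))
  set q := Curv2.bcFst k X L
  let j : pullback (X.fromSpecStalk (genericPoint X) ≫ f) gL ⟶ pullback f gL :=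
    pullback.map _ _ _ _ (X.fromSpecStalk (genericPoint X)) (𝟙 _) (𝟙 _) (by simp) (by simp)
  have hfib : ∀ p, q p = genericPoint X → p ∈ Set.range j := by
    intro p hp
    rw [Scheme.Pullback.range_map]
    refine ⟨?_, ?_⟩
    · rw [Set.mem_preimage, hp, Scheme.range_fromSpecStalk]
      exact specializes_rfl
    · rw [Set.mem_preimage]
      exact ⟨_, rfl⟩
  haveI : Subsingleton ↥(pullback (X.fromSpecStalk (genericPoint X) ≫ f) gL) := by
    rw [← hφ]
    haveI : Subsingleton ↥(Spec (CommRingCat.of (X.functionField ⊗[k] L))) :=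
      inferInstanceAs (Subsingleton (PrimeSpectrum (X.functionField ⊗[k] L)))
    exact (TopCat.homeoOfIso (Scheme.forgetToTop.mapIso (pullbackSpecIso k X.functionField L))).toEquiv.subsingleton
  haveI : Flat q := inferInstance
  haveI : Surjective q := inferInstance
  have huniq : ∀ p p', q p = genericPoint X → q p' = genericPoint X → p = p' := by
    intro p p' hp hp'
    obtain ⟨a, rfl⟩ := hfib p hp
    obtain ⟨b, rfl⟩ := hfib p' hp'
    rw [Subsingleton.elim a b]
  obtain ⟨z, hz⟩ := q.surjective (genericPoint X)
  have hdense : closure ({z} : Set ↥(Curv2.bc k X L)) = Set.univ := by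
    refine Set.eq_univ_of_forall fun p => ?_
    obtain ⟨p', hp', hq⟩ := Flat.generalizingMap q (genericPoint_specializes (q p))
    rw [huniq z p' hz hq]
    exact hp'.mem_closure
  exact
    { toNonempty := ⟨z⟩
      toPreirreducibleSpace := ⟨hdense ▸ isIrreducible_singleton.closure.2⟩ }

end Groth.Agent.H68.GenDescend
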