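import Groth.Agent.Lib.GeomConn.Geometric
import Mathlib

/-!
# Geometric connectedness is detected on finite separable extensions
-/

set_option linter.style.haveILetI false

universe u

open CategoryTheory CategoryTheory.Limits AlgebraicGeometry TensorProduct
open Groth.Agent.Lib.GeomConn.Components Groth.Agent.Lib.GeomConn.Geometric

namespace Groth.Agent.H68.GeomConnFinSep

variable (k : Type u) [Field k] (X : Scheme.{u}) [X.Over (Spec (CommRingCat.of k))]

section Chart

variable {A : Type u} [CommRing A] [Algebra k A] (j : Spec (CommRingCat.of A) ⟶ X)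
  [IsOpenImmersion j]
  (hj : j ≫ (X ↘ Spec (CommRingCat.of k)) = Spec.map (CommRingCat.ofHom (algebraMap k A)))

/-- The chart of the base change. -/
noncomputable def chart (L : Type u) [Field L] [Algebra k L] :
    Spec (CommRingCat.of (A ⊗[k] L)) ⟶ Curv2.bc k X L :=
  (pullbackSpecIso k A L).inv ≫ pullback.map _ _ _ _ j (𝟙 _) (𝟙 _)
    (by rw [Category.comp_id, hj]) (by rw [Category.comp_id, Category.id_comp])

theorem range_chart (L : Type u) [Field L] [Algebra k L] :
    Set.range (chart k X j hj L) = Curv2.bcFst k X L ⁻¹' Set.range j := by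
  rw [chart, Scheme.Hom.comp_base, TopCat.coe_comp, Set.range_comp,
    Set.range_eq_univ.mpr (pullbackSpecIso k A L).inv.surjective, Set.image_univ]
  refine (Scheme.Pullback.range_map _ _ _ _ _ _ _ _ _).trans ?_
  rw [Set.inter_eq_left]
  intro z _
  exact ⟨Curv2.bcSnd k X L z, rfl⟩

theorem chart_bcMap (L K : Type u) [Field L] [Field K] [Algebra k L] [Algebra k K] [Algebra L K]
    [IsScalarTower k L K] :
    chart k X j hj K ≫ bcMap k X L K =
      Spec.map (CommRingCat.ofHom
        (Algebra.TensorProduct.map (AlgHom.id k A) (IsScalarTower.toAlgHom k L K)).toRingHom) ≫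
      chart k X j hj L := by
  apply pullback.hom_ext
  · rw [Category.assoc, Category.assoc, bcMap_fst, chart, chart]
    simp only [Category.assoc, pullback.lift_fst, pullbackSpecIso_inv_fst_assoc]
    rw [← Spec.map_comp_assoc]
    congr 2
    ext a
    simp
  · rw [Category.assoc, Category.assoc, bcMap_snd, chart, chart]
    simp only [Category.assoc, pullback.lift_snd, pullback.lift_snd_assoc, Category.comp_id,
      Category.id_comp, pullbackSpecIso_inv_snd, pullbackSpecIso_inv_snd_assoc]
    rw [← Spec.map_comp, ← Spec.map_comp]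
    congr 1

end Chart

/-- An element of a tensor product comes from a finitely generated intermediate field. -/
theorem exists_finset_mem_range {A L : Type u} [CommRing A] [Algebra k A] [Field L] [Algebra k L]
    (x : A ⊗[k] L) :
    ∃ S : Finset L, ∀ K : IntermediateField k L, (S : Set L) ⊆ K →
      ∃ y : A ⊗[k] K, Algebra.TensorProduct.map (AlgHom.id k A) (IsScalarTower.toAlgHom k K L) y = x := by
  classical
  obtain ⟨T, rfl⟩ := TensorProduct.exists_finset x
  refine ⟨T.image Prod.snd, fun K hK => ⟨∑ p : T, p.1.1 ⊗ₜ[k]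
    (⟨p.1.2, hK (Finset.mem_coe.2 (Finset.mem_image_of_mem _ p.2))⟩ : K), ?_⟩⟩
  rw [map_sum, ← Finset.sum_coe_sort T]
  exact Finset.sum_congr rfl fun p _ => rfl

/-- A clopen subset over an algebraic extension is saturated over a finite subextension. -/
theorem exists_saturated [CompactSpace X] (L : Type u) [Field L] [Algebra k L]
    [Algebra.IsAlgebraic k L] (Z : Set (Curv2.bc k X L)) (hZ : IsClopen Z) :
    ∃ K : IntermediateField k L, FiniteDimensional k K ∧
      ∀ z z', bcMap k X K L z = bcMap k X K L z' → z ∈ Z → z' ∈ Z := by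
  classical
  obtain ⟨I, hI⟩ := isCompact_univ.elim_finite_subcover
    (fun i => (X.affineCover.f i).opensRange.1) (fun i => (X.affineCover.f i).opensRange.2)
    (fun x _ => by
      obtain ⟨i, hi⟩ := X.affineCover.exists_eq x
      exact Set.mem_iUnion.2 ⟨i, hi⟩)
  have hchart : ∀ i, ∃ S : Finset L, ∀ K : IntermediateField k L, (S : Set L) ⊆ K →
      ∀ z z', Curv2.bcFst k X L z ∈ Set.range (X.affineCover.f i) →
        bcMap k X K L z = bcMap k X K L z' → z ∈ Z → z' ∈ Z := by
    intro i
    have hfac : ∃ (A : Type u) (_ : CommRing A) (j : Spec (CommRingCat.of A) ⟶ X)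
        (_ : IsOpenImmersion j), Set.range j = Set.range (X.affineCover.f i) := by
      refine ⟨Γ(X.affineCover.X i, ⊤), inferInstance,
        (X.affineCover.X i).isoSpec.inv ≫ X.affineCover.f i, inferInstance, ?_⟩
      rw [Scheme.Hom.comp_base, TopCat.coe_comp, Set.range_comp,
        Set.range_eq_univ.mpr (X.affineCover.X i).isoSpec.inv.surjective, Set.image_univ]
    obtain ⟨A, _, j, _, hrange⟩ := hfac
    letI : Algebra k A := (Spec.preimage (j ≫ X ↘ Spec (CommRingCat.of k))).hom.toAlgebra
    have hj : j ≫ (X ↘ Spec (CommRingCat.of k)) =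
        Spec.map (CommRingCat.ofHom (algebraMap k A)) :=
      (Spec.map_preimage (j ≫ X ↘ Spec (CommRingCat.of k))).symm
    obtain ⟨e, he, hZe⟩ := PrimeSpectrum.exists_idempotent_basicOpen_eq_of_isClopen
      (hZ.preimage (chart k X j hj L).continuous)
    obtain ⟨S, hS⟩ := exists_finset_mem_range k e
    refine ⟨S, fun K hK z z' hz hzz' hzZ => ?_⟩
    obtain ⟨e', he'⟩ := hS K hK
    set φ := Algebra.TensorProduct.map (AlgHom.id k A) (IsScalarTower.toAlgHom k K L) with hφ
    rw [← hrange] at hz
    have hz' : Curv2.bcFst k X L z' ∈ Set.range j := by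
      rwa [← bcMap_fst_apply k X K L z', ← hzz', bcMap_fst_apply]
    have hw' : z' ∈ Set.range (chart k X j hj L) := by rw [range_chart]; exact hz'
    have hw : z ∈ Set.range (chart k X j hj L) := by rw [range_chart]; exact hz
    obtain ⟨w, rfl⟩ := hw
    obtain ⟨w', rfl⟩ := hw'
    rw [← Scheme.Hom.comp_apply, ← Scheme.Hom.comp_apply, chart_bcMap, Scheme.Hom.comp_apply,
      Scheme.Hom.comp_apply] at hzz'
    have hinj : Function.Injective (chart k X j hj K) := by
      haveI : IsOpenImmersion (chart k X j hj K) := by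
        rw [chart]; infer_instance
      exact (chart k X j hj K).isOpenEmbedding.injective
    have hcomap : PrimeSpectrum.comap φ.toRingHom w = PrimeSpectrum.comap φ.toRingHom w' := hinj hzz'
    have hmem : ∀ v : PrimeSpectrum (A ⊗[k] L),
        v ∈ chart k X j hj L ⁻¹' Z ↔ e' ∉ (PrimeSpectrum.comap φ.toRingHom v).asIdeal := fun v => by
      have h : v ∈ chart k X j hj L ⁻¹' Z ↔ e ∉ v.asIdeal :=
        Set.ext_iff.1 hZe v
      rw [h, ← he']
      rfl
    exact (hmem w').2 (hcomap ▸ (hmem w).1 hzZ)
  choose S hS using hchart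
  refine ⟨IntermediateField.adjoin k ((I.biUnion S : Finset L) : Set L), ?_, ?_⟩
  · exact IntermediateField.finiteDimensional_adjoin fun x _ => Algebra.IsIntegral.isIntegral x
  · intro z z' h hzZ
    obtain ⟨i, hi⟩ := Set.mem_iUnion₂.1 (hI (Set.mem_univ (Curv2.bcFst k X L z)))
    obtain ⟨hiI, hzi⟩ := hi
    refine hS i _ (fun x hx => IntermediateField.subset_adjoin k _ ?_) z z' hzi h hzZ
    exact Finset.mem_coe.2 (Finset.mem_biUnion.2 ⟨i, hiI, hx⟩)

theorem geometricallyConnected_iff [CompactSpace X] :
    GeometricallyConnected (X ↘ Spec (CommRingCat.of k)) ↔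
      ∀ (K : Type u) [Field K] [Algebra k K] [Module.Finite k K] [Algebra.IsSeparable k K],
        ConnectedSpace (Curv2.bc k X K) := by
  refine ⟨fun h K _ _ _ _ => (geometricallyConnected_iff_forall k X).1 h K, fun h => ?_⟩
  rw [geometricallyConnected_iff_sepClosure]
  set L := SeparableClosure k
  haveI : Nonempty (Curv2.bc k X L) := by
    haveI := h k
    obtain ⟨z⟩ := (inferInstance : Nonempty (Curv2.bc k X k))
    exact ⟨(bcMap_surjective k X k L z).choose⟩
  refine { toPreconnectedSpace := preconnectedSpace_iff_clopen.2 fun Z hZ => ?_,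
           toNonempty := inferInstance }
  obtain ⟨K, hK, hsat⟩ := exists_saturated k X L Z hZ
  haveI := hK
  haveI : Algebra.IsSeparable k K := Algebra.isSeparable_tower_bot_of_isSeparable k K L
  haveI := h K
  set π := bcMap k X K L
  have hopen : IsOpenMap π := bcMap_isOpenMap k X K L
  have hcompl : (π '' Z)ᶜ = π '' Zᶜ := by
    ext y
    obtain ⟨z, rfl⟩ := bcMap_surjective k X K L y
    constructor
    · exact fun hz => ⟨z, fun h' => hz ⟨z, h', rfl⟩, rfl⟩
    · rintro ⟨z', hz', hzz'⟩ ⟨z'', hz'', hzz''⟩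
      exact hz' (hsat z'' z' (hzz''.trans hzz'.symm) hz'')
  have hclo : IsClopen (π '' Z) :=
    ⟨isOpen_compl_iff.1 (hcompl ▸ hopen _ hZ.compl.isOpen), hopen _ hZ.isOpen⟩
  rcases isClopen_iff.1 hclo with h0 | h1
  · exact Or.inl (Set.image_eq_empty.1 h0)
  · refine Or.inr (Set.compl_empty_iff.1 ((Set.image_eq_empty (f := ⇑π)).1 ?_))
    rw [← hcompl, h1, Set.compl_univ]

end Groth.Agent.H68.GeomConnFinSep
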