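import Mathlib
import Groth.Agent.H42.Graded
import Groth.Agent.Lib.Normalization.FiniteField

/-!
# Normality of graded domains outside the irrelevant ideal

Homogeneous denominators for integral elements of a graded domain, homogeneity of prime colon ideals,
and the finite length criterion for the normality of the punctured spectrum.
-/

universe u

open DirectSum Polynomial

namespace Groth.Agent.H68.GrNormal

section Colon

variable {k : Type u} [CommRing k] {G : Type u} [CommRing G] [Algebra k G]
  (𝒢 : ℕ → Submodule k G) [GradedAlgebra 𝒢]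

/-- The top component of a prime colon ideal element of a homogeneous ideal lies in that prime. -/
theorem top_mem {I p : Ideal G} (hI : I.IsHomogeneous 𝒢) (hp : p.IsPrime) {b : G}
    (hcol : ∀ r, r ∈ p ↔ r * b ∈ I) {r : G} (hr : r ∈ p) {t : ℕ}
    (ht : ∀ n, t < n → (decompose 𝒢 r n : G) = 0) : (decompose 𝒢 r t : G) ∈ p := by
  classical
  have hkey : ∀ (F : Finset ℕ) (m : ℕ) (c : ℕ → G), (∀ i ∈ F, c i ∈ 𝒢 (i + m)) →
      r * ∑ i ∈ F, c i ∈ I → ∃ e : ℕ, (decompose 𝒢 r t : G) ^ e * ∑ i ∈ F, c i ∈ I := by
    intro F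
    induction F using Finset.induction_on_max with
    | empty => intro m c _ _; exact ⟨0, by simp⟩
    | insert a s hs ih =>
      intro m c hc hmem
      have hnot : a ∉ s := fun h => (hs a h).ne rfl
      have htop : (decompose 𝒢 r t : G) * c a ∈ I := by
        have h := hI (t + (a + m)) hmem
        rw [Finset.mul_sum, decompose_sum, DFinsupp.finsetSum_apply,
          AddSubmonoidClass.coe_finsetSum, Finset.sum_insert hnot,
          coe_decompose_mul_of_right_mem 𝒢 _ (hc a (Finset.mem_insert_self a s)),
          if_pos (by omega), show t + (a + m) - (a + m) = t by omega,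
          Finset.sum_eq_zero (fun i hi => ?_), add_zero] at h
        · exact h
        · rw [coe_decompose_mul_of_right_mem 𝒢 _ (hc i (Finset.mem_insert_of_mem hi))]
          split_ifs
          · rw [ht _ (by have := hs i hi; omega), zero_mul]
          · rfl
      rw [Finset.sum_insert hnot] at hmem ⊢
      have hmem' : r * ∑ i ∈ s, (decompose 𝒢 r t : G) * c i ∈ I := by
        have h1 : r * ∑ i ∈ s, (decompose 𝒢 r t : G) * c i =
            (decompose 𝒢 r t : G) * (r * (c a + ∑ i ∈ s, c i)) -
              r * ((decompose 𝒢 r t : G) * c a) := by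
          rw [← Finset.mul_sum]; ring
        rw [h1]
        exact sub_mem (I.mul_mem_left _ hmem) (I.mul_mem_left _ htop)
      obtain ⟨e, he⟩ := ih (m + t) (fun i => (decompose 𝒢 r t : G) * c i) (fun i hi => by
        have h := SetLike.mul_mem_graded (decompose 𝒢 r t).2 (hc i (Finset.mem_insert_of_mem hi))
        rwa [show t + (i + m) = i + (m + t) by omega] at h) hmem'
      refine ⟨e + 1, ?_⟩
      rw [← Finset.mul_sum] at he
      rw [mul_add, pow_succ, mul_assoc, mul_assoc]
      exact add_mem (I.mul_mem_left _ htop) he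
  obtain ⟨e, he⟩ := hkey (decompose 𝒢 b).support 0 (fun i => (decompose 𝒢 b i : G))
    (fun i _ => (decompose 𝒢 b i).2) (by rw [sum_support_decompose]; exact (hcol r).1 hr)
  rw [sum_support_decompose] at he
  exact hp.mem_of_pow_mem e ((hcol _).2 he)

/-- A prime colon ideal of a homogeneous ideal is homogeneous. -/
theorem isHomogeneous_colon {I p : Ideal G} (hI : I.IsHomogeneous 𝒢) (hp : p.IsPrime) {b : G}
    (hcol : ∀ r, r ∈ p ↔ r * b ∈ I) : p.IsHomogeneous 𝒢 := by
  classical
  suffices h : ∀ N, ∀ r ∈ p, (∀ n, N ≤ n → (decompose 𝒢 r n : G) = 0) →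
      ∀ n, (decompose 𝒢 r n : G) ∈ p by
    intro i r hr
    refine h ((decompose 𝒢 r).support.sup id + 1) r hr (fun n hn => ?_) i
    by_contra hne
    have hn' : n ∈ (decompose 𝒢 r).support := DFinsupp.mem_support_iff.2 (fun h0 => hne (by simp [h0]))
    have := Finset.le_sup (f := id) hn'
    simp only [id] at this
    omega
  intro N
  induction N with
  | zero => intro r _ hz n; rw [hz n (Nat.zero_le n)]; exact zero_mem p
  | succ N ih =>
    intro r hr hz n
    have htop : (decompose 𝒢 r N : G) ∈ p := top_mem 𝒢 hI hp hcol hr (fun m hm => hz m hm)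
    by_cases hn : n = N
    · subst hn; exact htop
    have hd : ∀ m, (decompose 𝒢 (r - (decompose 𝒢 r N : G)) m : G) =
        if N = m then 0 else (decompose 𝒢 r m : G) := by
      intro m
      rw [decompose_sub, DirectSum.sub_apply, AddSubgroupClass.coe_sub]
      split_ifs with h
      · subst h; rw [decompose_of_mem_same 𝒢 (decompose 𝒢 r N).2, sub_self]
      · rw [decompose_of_mem_ne 𝒢 (decompose 𝒢 r N).2 h, sub_zero]
    have h := ih (r - (decompose 𝒢 r N : G)) (sub_mem hr htop) (fun m hm => by
      rw [hd]; split_ifs with h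
      · rfl
      · exact hz m (by omega)) n
    rw [hd, if_neg (Ne.symm hn)] at h
    exact h

end Colon

variable {k : Type u} [Field k] {G : Type u} [CommRing G] [Algebra k G]
  (𝒢 : ℕ → Submodule k G) [GradedAlgebra 𝒢]

theorem isUnit_of_mem_zero (h0 : ∀ x ∈ 𝒢 0, x ∈ Set.range (algebraMap k G)) {x : G}
    (hx : x ∈ 𝒢 0) (hne : x ≠ 0) : IsUnit x := by
  obtain ⟨c, rfl⟩ := h0 x hx
  exact (Ne.isUnit fun hc : c = 0 => hne (by rw [hc, map_zero])).map _

theorem le_irrelevant (h0 : ∀ x ∈ 𝒢 0, x ∈ Set.range (algebraMap k G)) {p : Ideal G}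
    (hp : p.IsHomogeneous 𝒢) (hne : p ≠ ⊤) : p ≤ (HomogeneousIdeal.irrelevant 𝒢).toIdeal := by
  intro r hr
  refine (HomogeneousIdeal.mem_irrelevant_iff 𝒢 r).2 ?_
  rw [GradedRing.proj_apply]
  by_contra h
  exact hne (Ideal.eq_top_of_isUnit_mem _ (hp 0 hr) (isUnit_of_mem_zero 𝒢 h0 (decompose 𝒢 r 0).2 h))

theorem isMaximal_irrelevant [Nontrivial G] (h0 : ∀ x ∈ 𝒢 0, x ∈ Set.range (algebraMap k G)) :
    (HomogeneousIdeal.irrelevant 𝒢).toIdeal.IsMaximal := by
  refine Ideal.isMaximal_iff.2 ⟨fun h => ?_, fun J x hJ hx hxJ => ?_⟩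
  · have h' := (HomogeneousIdeal.mem_irrelevant_iff 𝒢 1).1 h
    rw [GradedRing.proj_apply, decompose_of_mem_same 𝒢 SetLike.GradedOne.one_mem] at h'
    exact one_ne_zero h'
  · have hne : (decompose 𝒢 x 0 : G) ≠ 0 := fun h => hx
      ((HomogeneousIdeal.mem_irrelevant_iff 𝒢 x).2 (by rwa [GradedRing.proj_apply]))
    have h1 : x - (decompose 𝒢 x 0 : G) ∈ J := hJ ((HomogeneousIdeal.mem_irrelevant_iff 𝒢 _).2 (by
      rw [GradedRing.proj_apply, decompose_sub, DirectSum.sub_apply, AddSubgroupClass.coe_sub,
        decompose_of_mem_same 𝒢 (decompose 𝒢 x 0).2, sub_self]))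
    have h2 : (decompose 𝒢 x 0 : G) ∈ J := by simpa using sub_mem hxJ h1
    exact (Ideal.eq_top_of_isUnit_mem _ h2
      (isUnit_of_mem_zero 𝒢 h0 (decompose 𝒢 x 0).2 hne)) ▸ Submodule.mem_top

theorem finiteType [IsNoetherianRing G] (h0 : ∀ x ∈ 𝒢 0, x ∈ Set.range (algebraMap k G)) :
    Algebra.FiniteType k G := by
  classical
  obtain ⟨N, x, e, he, hx, hgen⟩ := Groth.Agent.H42.Graded.exists_homog_generators 𝒢
    (IsNoetherian.noetherian (HomogeneousIdeal.irrelevant 𝒢).toIdeal)
  refine ⟨⟨Finset.univ.image x, ?_⟩⟩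
  rw [eq_top_iff]
  intro g _
  rw [← sum_support_decompose 𝒢 g]
  refine sum_mem fun i _ => ?_
  have h := Groth.Agent.H42.Graded.mem_closure_monomials 𝒢 x e he hx hgen.le i _ (decompose 𝒢 g i).2
  generalize (decompose 𝒢 g i : G) = w at h
  induction h using AddSubmonoid.closure_induction with
  | mem y hy =>
    obtain ⟨c, α, hc, _, rfl⟩ := hy
    obtain ⟨c', rfl⟩ := h0 c hc
    exact mul_mem (Subalgebra.algebraMap_mem _ c')
      (prod_mem fun j _ => pow_mem (Algebra.subset_adjoin (by simp)) _)
  | zero => exact zero_mem _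
  | add y z _ _ hy hz => exact add_mem hy hz

/-- The homomorphism `x ↦ ∑ x_i X ^ i`. -/
noncomputable def homogenize (L : Type u) [Field L] [Algebra G L] : G →+* L[X] :=
  (DirectSum.toSemiring (A := fun i => 𝒢 i)
    (fun i => (((monomial i).toAddMonoidHom).comp (algebraMap G L).toAddMonoidHom).comp
      (𝒢 i).subtype.toAddMonoidHom)
    (by simp [SetLike.coe_gOne])
    (fun {i j} a b => by simp [SetLike.coe_gMul, monomial_mul_monomial])).comp
    (decomposeRingEquiv 𝒢).toRingHom

theorem homogenize_of_mem (L : Type u) [Field L] [Algebra G L] {i : ℕ} {x : G} (hx : x ∈ 𝒢 i) :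
    homogenize 𝒢 L x = monomial i (algebraMap G L x) := by
  rw [homogenize, RingHom.comp_apply,
    show (decomposeRingEquiv 𝒢).toRingHom x = decompose 𝒢 x from rfl, decompose_of_mem 𝒢 hx,
    DirectSum.toSemiring_of]
  rfl

theorem coeff_homogenize (L : Type u) [Field L] [Algebra G L] (x : G) (n : ℕ) :
    (homogenize 𝒢 L x).coeff n = algebraMap G L (decompose 𝒢 x n : G) := by
  classical
  induction x using DirectSum.Decomposition.inductionOn 𝒢 with
  | zero => simp
  | @homogeneous i m =>
    rw [homogenize_of_mem 𝒢 L m.2, coeff_monomial]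
    split_ifs with h
    · subst h; rw [decompose_of_mem_same 𝒢 m.2]
    · rw [decompose_of_mem_ne 𝒢 m.2 h, map_zero]
  | add a b ha hb => rw [map_add, coeff_add, ha, hb, decompose_add, DirectSum.add_apply,
      Submodule.coe_add, map_add]

theorem eval_one_homogenize (L : Type u) [Field L] [Algebra G L] (x : G) :
    (homogenize 𝒢 L x).eval 1 = algebraMap G L x := by
  induction x using DirectSum.Decomposition.inductionOn 𝒢 with
  | zero => simp
  | @homogeneous i m => rw [homogenize_of_mem 𝒢 L m.2, eval_monomial, one_pow, mul_one]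
  | add a b ha hb => rw [map_add, eval_add, ha, hb, map_add]

/-- Integral elements have homogeneous denominators. -/
theorem exists_homogeneous_denom [IsDomain G] {L : Type u} [Field L] [Algebra G L]
    [IsFractionRing G L] {z : L} (hz : IsIntegral G z) :
    ∃ (i : ℕ) (a b : G), a ∈ 𝒢 i ∧ a ≠ 0 ∧ algebraMap G L a * z = algebraMap G L b := by
  classical
  have hinj : Function.Injective (homogenize 𝒢 L) := by
    refine (injective_iff_map_eq_zero _).2 fun x hx => ?_
    have h := eval_one_homogenize 𝒢 L x
    rw [hx, eval_zero] at h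
    exact IsFractionRing.injective G L (by rw [← h, map_zero])
  have hinj' : Function.Injective ((algebraMap L[X] (RatFunc L)).comp (homogenize 𝒢 L)) :=
    (IsFractionRing.injective L[X] (RatFunc L)).comp hinj
  set ψ : L →+* RatFunc L := IsFractionRing.lift hinj' with hψdef
  have hψ : ∀ g : G, ψ (algebraMap G L g) = algebraMap L[X] (RatFunc L) (homogenize 𝒢 L g) :=
    fun g => IsFractionRing.lift_algebraMap hinj' g
  have hint : IsIntegral L[X] (ψ z) := by
    obtain ⟨P, hP, hP0⟩ := hz
    refine ⟨P.map (homogenize 𝒢 L), hP.map _, ?_⟩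
    rw [eval₂_map]
    have h := congrArg ψ hP0
    rw [hom_eval₂, map_zero] at h
    rw [← h]
    congr 1
    exact RingHom.ext fun g => (hψ g).symm
  obtain ⟨q, hq⟩ := IsIntegrallyClosed.isIntegral_iff.1 hint
  obtain ⟨⟨b, a⟩, hab⟩ := IsLocalization.surj (nonZeroDivisors G) z
  simp only at hab
  have ha0 : (a : G) ≠ 0 := nonZeroDivisors.ne_zero a.2
  have hprod : homogenize 𝒢 L a * q = homogenize 𝒢 L b := by
    apply IsFractionRing.injective L[X] (RatFunc L)
    rw [map_mul, hq, ← hψ, ← hψ, ← hab, map_mul]
    exact mul_comm _ _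
  have hqz : q.eval 1 = z := by
    have h := congrArg (eval 1) hprod
    rw [eval_mul, eval_one_homogenize, eval_one_homogenize, ← hab] at h
    exact mul_left_cancel₀ (fun h' => ha0 (IsFractionRing.injective G L (by rw [h', map_zero])))
      (h.trans (mul_comm _ _))
  have hex : ∃ n, (decompose 𝒢 (a : G) n : G) ≠ 0 := by
    by_contra h
    push_neg at h
    exact ha0 (by rw [← sum_support_decompose 𝒢 (a : G)]; exact Finset.sum_eq_zero fun i _ => h i)
  set i₀ := Nat.find hex with hi₀
  set h : G := (decompose 𝒢 (a : G) i₀ : G) with hh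
  have hh0 : h ≠ 0 := Nat.find_spec hex
  have hlow : ∀ n < i₀, (decompose 𝒢 (a : G) n : G) = 0 := fun n hn => not_not.1 (Nat.find_min hex hn)
  have hcoef : ∀ j, algebraMap G L h ^ (j + 1) * q.coeff j ∈ (algebraMap G L).range := by
    intro j
    induction j using Nat.strong_induction_on with
    | _ j ih =>
      have hc : (homogenize 𝒢 L a * q).coeff (i₀ + j) = (homogenize 𝒢 L b).coeff (i₀ + j) :=
        congrArg (fun f : L[X] => f.coeff (i₀ + j)) hprod
      rw [coeff_mul, ← Finset.add_sum_erase _ _
        (show (i₀, j) ∈ Finset.HasAntidiagonal.antidiagonal (i₀ + j) by simp), coeff_homogenize,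
        coeff_homogenize, ← eq_sub_iff_add_eq] at hc
      dsimp only at hc
      rw [pow_succ, mul_assoc, hh, hc, ← hh, mul_sub]
      refine sub_mem ?_ ?_
      · exact mul_mem (pow_mem (RingHom.mem_range_self _ h) _) (RingHom.mem_range_self _ _)
      · rw [Finset.mul_sum]
        refine sum_mem fun p hp => ?_
        obtain ⟨hne, hp'⟩ := Finset.mem_erase.1 hp
        rw [Finset.HasAntidiagonal.mem_antidiagonal] at hp'
        rw [coeff_homogenize]
        rcases lt_or_ge p.1 i₀ with hlt | hge
        · rw [hlow _ hlt, map_zero, zero_mul, mul_zero]; exact zero_mem _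
        · have hlt : p.2 < j := by
            by_contra hcon
            push_neg at hcon
            exact hne (Prod.ext (by omega) (by omega))
          obtain ⟨d, hd⟩ := Nat.exists_eq_add_of_le (show p.2 + 1 ≤ j by omega)
          rw [hd, pow_add, show algebraMap G L h ^ (p.2 + 1) * algebraMap G L h ^ d *
              (algebraMap G L (decompose 𝒢 (a : G) p.1 : G) * q.coeff p.2) =
            (algebraMap G L h ^ d * algebraMap G L (decompose 𝒢 (a : G) p.1 : G)) *
              (algebraMap G L h ^ (p.2 + 1) * q.coeff p.2) by ring]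
          exact mul_mem (mul_mem (pow_mem (RingHom.mem_range_self _ h) _) (RingHom.mem_range_self _ _)) (ih _ hlt)
  have hmem : algebraMap G L h ^ (q.natDegree + 1) * z ∈ (algebraMap G L).range := by
    rw [← hqz, eval_eq_sum_range, Finset.mul_sum]
    refine sum_mem fun j hj => ?_
    rw [one_pow, mul_one]
    obtain ⟨d, hd⟩ := Nat.exists_eq_add_of_le
      (show j + 1 ≤ q.natDegree + 1 by have := Finset.mem_range.1 hj; omega)
    rw [hd, pow_add, mul_comm (algebraMap G L h ^ (j + 1)), mul_assoc]
    exact mul_mem (pow_mem (RingHom.mem_range_self _ h) _) (hcoef j)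
  obtain ⟨b', hb'⟩ := hmem
  exact ⟨(q.natDegree + 1) • i₀, h ^ (q.natDegree + 1), b',
    SetLike.pow_mem_graded _ (decompose 𝒢 (a : G) i₀).2, pow_ne_zero _ hh0, by rw [map_pow, hb']⟩

variable [IsDomain G] [IsNoetherianRing G] (L : Type u) [Field L] [Algebra G L] [IsFractionRing G L]

/-- The module `Ḡ / G`. -/
abbrev Quot (G L : Type u) [CommRing G] [Field L] [Algebra G L] : Type u :=
  ↥(integralClosure G L) ⧸ LinearMap.range (Algebra.linearMap G ↥(integralClosure G L))

omit [IsDomain G] [IsNoetherianRing G] [IsFractionRing G L] in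
theorem smul_mk_eq_zero_iff (y : ↥(integralClosure G L)) (r : G) :
    r • (Submodule.Quotient.mk y : Quot G L) = 0 ↔ ∃ g, algebraMap G L g = algebraMap G L r * y := by
  rw [← Submodule.Quotient.mk_smul, Submodule.Quotient.mk_eq_zero]
  constructor
  · rintro ⟨g, hg⟩
    refine ⟨g, ?_⟩
    have h := congrArg Subtype.val hg
    simp only [Algebra.linearMap_apply, Subalgebra.coe_algebraMap, Algebra.smul_def,
      MulMemClass.coe_mul] at h
    exact h
  · rintro ⟨g, hg⟩
    exact ⟨g, Subtype.ext (by simpa [Algebra.smul_def] using hg)⟩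

omit [IsNoetherianRing G] in
/-- A prime annihilator of an element of `Ḡ / G` is homogeneous. -/
theorem isHomogeneous_prime_ann (z : Quot G L) {p : Ideal G} (hp : p.IsPrime)
    (hann : ∀ r, r ∈ p ↔ r • z = 0) : p.IsHomogeneous 𝒢 := by
  obtain ⟨y, rfl⟩ := Submodule.Quotient.mk_surjective _ z
  obtain ⟨i, a, b, ha, ha0, hab⟩ := exists_homogeneous_denom 𝒢 (L := L) y.2
  refine isHomogeneous_colon 𝒢 (I := Ideal.span {a}) (b := b)
    (Ideal.homogeneous_span 𝒢 _ (by simpa using ⟨i, ha⟩)) hp fun r => ?_
  rw [hann r, smul_mk_eq_zero_iff, Ideal.mem_span_singleton']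
  constructor
  · rintro ⟨g, hg⟩
    refine ⟨g, IsFractionRing.injective G L ?_⟩
    rw [map_mul, map_mul, hg, ← hab]; ring
  · rintro ⟨g, hg⟩
    have hne : algebraMap G L a ≠ 0 := fun h =>
      ha0 (IsFractionRing.injective G L (h.trans (map_zero _).symm))
    refine ⟨g, mul_left_cancel₀ hne ?_⟩
    rw [← map_mul, mul_comm a, hg, map_mul, ← hab]; ring

/-- An integrally closed localisation kills `Ḡ / G`. -/
theorem exists_not_mem_smul_eq_zero (p : Ideal G) [p.IsPrime]
    [IsIntegrallyClosed (Localization.AtPrime p)] (z : Quot G L) : ∃ s ∉ p, s • z = 0 := by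
  obtain ⟨y, rfl⟩ := Submodule.Quotient.mk_surjective _ z
  letI : Algebra (Localization.AtPrime p) L :=
    IsLocalization.localizationAlgebraOfSubmonoidLe (Localization.AtPrime p) L p.primeCompl
      (nonZeroDivisors G) p.primeCompl_le_nonZeroDivisors
  haveI : IsScalarTower G (Localization.AtPrime p) L :=
    IsLocalization.localization_isScalarTower_of_submonoid_le _ _ _ _ _
  haveI : IsFractionRing (Localization.AtPrime p) L :=
    IsFractionRing.isFractionRing_of_isDomain_of_isLocalization p.primeCompl _ L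
  obtain ⟨w, hw⟩ := IsIntegrallyClosed.isIntegral_iff.1
    (IsIntegral.tower_top (R := G) (A := Localization.AtPrime p) y.2)
  obtain ⟨⟨g, s⟩, hgs⟩ := IsLocalization.surj p.primeCompl w
  refine ⟨s, s.2, (smul_mk_eq_zero_iff L y s).2 ⟨g, ?_⟩⟩
  have h := congrArg (algebraMap (Localization.AtPrime p) L) hgs
  rw [map_mul, hw, ← IsScalarTower.algebraMap_apply, ← IsScalarTower.algebraMap_apply] at h
  rw [← h, mul_comm]

omit [IsNoetherianRing G] in
/-- A localisation killing `Ḡ / G` is integrally closed. -/
theorem isIntegrallyClosed_atPrime (p : Ideal G) [p.IsPrime]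
    (hkill : ∀ z : Quot G L, ∃ s ∉ p, s • z = 0) : IsIntegrallyClosed (Localization.AtPrime p) := by
  letI : Algebra (Localization.AtPrime p) L :=
    IsLocalization.localizationAlgebraOfSubmonoidLe (Localization.AtPrime p) L p.primeCompl
      (nonZeroDivisors G) p.primeCompl_le_nonZeroDivisors
  haveI : IsScalarTower G (Localization.AtPrime p) L :=
    IsLocalization.localization_isScalarTower_of_submonoid_le _ _ _ _ _
  haveI : IsFractionRing (Localization.AtPrime p) L :=
    IsFractionRing.isFractionRing_of_isDomain_of_isLocalization p.primeCompl _ L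
  refine (isIntegrallyClosed_iff L).2 fun {x} hx => ?_
  obtain ⟨t, ht⟩ := IsIntegral.exists_multiple_integral_of_isLocalization p.primeCompl x hx
  obtain ⟨s, hs, hsz⟩ := hkill (Submodule.Quotient.mk ⟨t • x, ht⟩)
  obtain ⟨g, hg⟩ := (smul_mk_eq_zero_iff L _ s).1 hsz
  refine ⟨IsLocalization.mk' _ g (⟨s, hs⟩ * t : p.primeCompl), ?_⟩
  have hu : algebraMap G L ((⟨s, hs⟩ * t : p.primeCompl) : G) ≠ 0 := fun h =>
    (⟨s, hs⟩ * t : p.primeCompl).2 (by
      rw [IsFractionRing.injective G L (h.trans (map_zero _).symm)]; exact p.zero_mem)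
  refine mul_right_cancel₀ hu ?_
  rw [IsScalarTower.algebraMap_apply G (Localization.AtPrime p) L, ← map_mul,
    IsLocalization.mk'_spec, ← IsScalarTower.algebraMap_apply, hg,
    ← IsScalarTower.algebraMap_apply]
  simp only [Submonoid.coe_mul, map_mul, Submonoid.smul_def, Algebra.smul_def]
  ring

/-- The finite length criterion for normality of the punctured spectrum. -/
theorem normal_puncturedSpec_iff (h0 : ∀ x ∈ 𝒢 0, x ∈ Set.range (algebraMap k G)) :
    (∀ (p : Ideal G) [p.IsPrime], ¬ (HomogeneousIdeal.irrelevant 𝒢).toIdeal ≤ p →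
        IsIntegrallyClosed (Localization.AtPrime p)) ↔ IsFiniteLength G (Quot G L) := by
  classical
  haveI := finiteType 𝒢 h0
  haveI := isMaximal_irrelevant 𝒢 h0
  haveI : Module.Finite G (integralClosure G L) :=
    Groth.Agent.Lib.Normalization.FiniteField.finite_integralClosure k G L L
  haveI : Module.Finite G (Quot G L) :=
    Module.Finite.of_surjective (Submodule.mkQ _) (Submodule.mkQ_surjective _)
  constructor
  · intro hN
    have hprime : ∀ p : Ideal G, p.IsPrime → Module.annihilator G (Quot G L) ≤ p →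
        p = (HomogeneousIdeal.irrelevant 𝒢).toIdeal := by
      intro p hp hle
      by_contra hne
      haveI := hp
      have hnle : ¬ (HomogeneousIdeal.irrelevant 𝒢).toIdeal ≤ p := fun h =>
        hne (((isMaximal_irrelevant 𝒢 h0).eq_of_le hp.ne_top h).symm)
      haveI := hN p hnle
      obtain ⟨T, hT⟩ := Module.Finite.fg_top (R := G) (M := Quot G L)
      choose s hs hsz using fun z : Quot G L => exists_not_mem_smul_eq_zero L p z
      have hmem : ∏ z ∈ T, s z ∈ p := hle (Module.mem_annihilator.2 fun m => by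
        have hm : m ∈ Submodule.span G (T : Set (Quot G L)) := hT ▸ Submodule.mem_top
        induction hm using Submodule.span_induction with
        | mem z hz =>
          rw [← Finset.prod_erase_mul T s hz, mul_smul, hsz, smul_zero]
        | zero => rw [smul_zero]
        | add a b _ _ ha hb => rw [smul_add, ha, hb, add_zero]
        | smul c a _ ha => rw [smul_comm, ha, smul_zero])
      obtain ⟨z, _, hz⟩ := hp.prod_mem_iff.1 hmem
      exact hs z hz
    haveI : IsArtinianRing (G ⧸ Module.annihilator G (Quot G L)) := by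
      rw [isArtinianRing_iff_isNoetherianRing_krullDimLE_zero]
      refine ⟨inferInstance, Ring.krullDimLE_zero_iff.2 fun P hP => ?_⟩
      haveI := hP
      have heq := hprime (P.comap (Ideal.Quotient.mk _)) (Ideal.IsPrime.comap _) (by
        intro r hr; rw [Ideal.mem_comap, Ideal.Quotient.eq_zero_iff_mem.2 hr]; exact P.zero_mem)
      have hmax : (P.comap (Ideal.Quotient.mk (Module.annihilator G (Quot G L)))).IsMaximal :=
        heq ▸ isMaximal_irrelevant 𝒢 h0
      rw [← Ideal.map_comap_of_surjective _ Ideal.Quotient.mk_surjective P]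
      refine (Ideal.map_eq_top_or_isMaximal_of_surjective _ Ideal.Quotient.mk_surjective hmax).resolve_left ?_
      rw [Ideal.map_comap_of_surjective _ Ideal.Quotient.mk_surjective]
      exact hP.ne_top
    have htor : Module.IsTorsionBySet G (Quot G L) (Module.annihilator G (Quot G L) : Set G) :=
      fun m r => Module.mem_annihilator.1 r.2 m
    letI := htor.module
    haveI : IsScalarTower G (G ⧸ Module.annihilator G (Quot G L)) (Quot G L) := htor.isScalarTower
    haveI : Module.Finite (G ⧸ Module.annihilator G (Quot G L)) (Quot G L) :=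
      Module.Finite.of_restrictScalars_finite G _ _
    haveI : IsArtinian (G ⧸ Module.annihilator G (Quot G L)) (Quot G L) :=
      isArtinian_of_fg_of_artinian' (R := G ⧸ Module.annihilator G (Quot G L))
    exact isFiniteLength_iff_isNoetherian_isArtinian.2 ⟨inferInstance,
      isArtinian_of_surjective_algebraMap (Ideal.Quotient.mk_surjective
        (I := Module.annihilator G (Quot G L)))⟩
  · intro hfl p hp hnle
    obtain ⟨_, hart⟩ := isFiniteLength_iff_isNoetherian_isArtinian.1 hfl
    refine isIntegrallyClosed_atPrime L p fun z => ?_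
    by_contra hcon
    push_neg at hcon
    set A : Ideal G := (Submodule.span G {z}).annihilator with hA
    have hAp : A ≤ p := fun r hr => by
      rw [hA, Submodule.mem_annihilator_span_singleton] at hr
      by_contra h; exact hcon r h hr
    obtain ⟨P, hP, hPp⟩ := Ideal.exists_minimalPrimes_le hAp
    obtain ⟨hPprime, m, hm⟩ := (isAssociatedPrime_iff_exists_injective_linearMap P _).1
      (show IsAssociatedPrime P (Submodule.span G {z}) from
        Module.associatedPrimes.minimalPrimes_annihilator_subset_associatedPrimes (R := G)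
          (M := Submodule.span G {z}) hP)
    set f : G ⧸ P →ₗ[G] Quot G L := (Submodule.span G {z}).subtype.comp m
    have hf : Function.Injective f := Subtype.val_injective.comp hm
    haveI : IsArtinian G (G ⧸ P) := isArtinian_of_injective f hf
    haveI : IsArtinianRing (G ⧸ P) := isArtinian_of_tower G inferInstance
    have hPmax : P.IsMaximal := Ideal.Quotient.maximal_of_isField P
      (IsArtinianRing.isField_of_isDomain _)
    have hhom : P.IsHomogeneous 𝒢 := isHomogeneous_prime_ann 𝒢 L (f 1) hPprime fun r => by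
      rw [← map_smul, map_eq_zero_iff f hf, Algebra.smul_def, mul_one,
        Ideal.Quotient.algebraMap_eq, Ideal.Quotient.eq_zero_iff_mem]
    exact hnle ((hPmax.eq_of_le (Ideal.IsMaximal.ne_top (isMaximal_irrelevant 𝒢 h0))
      (le_irrelevant 𝒢 h0 hhom hPmax.ne_top)) ▸ hPp)

end Groth.Agent.H68.GrNormal
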