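import Groth.Agent.H2.ExtReesApps
import Groth.Agent.Lib.Graded.Finiteness
import Groth.Agent.Lib.Graded.CMVanish
import Groth.Agent.Lib.LocalCoh.Transfer
import Groth.Agent.Lib.LCFin.Cd
import Groth.Prelude.Def_Rees2
import Groth.Prelude.Def_GrSyz

/-!
# Local cohomology vanishing from the associated graded ring
-/

set_option autoImplicit false
set_option linter.unusedSectionVars false
set_option maxHeartbeats 800000

universe u

open Polynomial DirectSum CategoryTheory
open scoped LaurentPolynomial TensorProduct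

namespace Groth.Agent.H68.GrVanish

open Groth.Agent.Lib.Graded Groth.Agent.Lib.Graded.Basic Groth.Agent.Lib.Graded.StarInj
open Groth.Agent.Lib.LocalCoh

section Generic

variable {R : Type u} [CommRing R] [IsNoetherianRing R] {σ : Type u} [SetLike σ R] [AddSubgroupClass σ R]
variable {𝒜 : ℤ → σ} [GradedRing 𝒜] {a : HomogeneousIdeal 𝒜}

/-- A surjection of degree `-1` on cohomology which vanishes in high degrees forces vanishing. -/
theorem subsingleton_of_step {X G : GrLC.GMod.{u} 𝒜} {f : (shiftMod 𝒜 X.gr 1).carrier →ₗ[R] X.carrier}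
    {g : X.carrier →ₗ[R] G.carrier} (hses : Horseshoe.SES (shiftMod 𝒜 X.gr 1).gr X.gr G.gr f g)
    (q : ℕ) (hG : ∀ n, Van.V a G q n) (hX : ∃ r : ℤ, ∀ n, r ≤ n → Van.V a X q n) :
    Subsingleton (LocCoh.H a.toIdeal q X.carrier) := by
  obtain ⟨r, hr⟩ := hX
  have key : ∀ (j : ℕ) (n : ℤ), r ≤ n + j → Van.V a X q n := by
    intro j
    induction j with
    | zero => exact fun n hn => hr n (by simpa using hn)
    | succ j ih =>
      exact fun n hn => Van.V_mid hses ((Van.V_shift_iff 1).2 (ih (n + 1) (by push_cast at hn; omega))) (hG n)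
  obtain ⟨E⟩ := Res.nonempty_starInjRes 𝒜 X.gr
  haveI : Subsingleton (E.H a q) := by
    letI := Res.hgrDecomp E a q
    refine subsingleton_of_forall_eq 0 fun x => eq_zero_of_proj (E.Hgr a q) fun n => ?_
    have hmem := proj_mem (E.Hgr a q) n x
    exact (AddSubgroup.eq_bot_iff_forall _).1 (key (r - n).toNat n (by omega) E) _ hmem
  exact (LocCohCompare.equiv E a q).symm.toEquiv.subsingleton

/-- If `X/P` is torsion then high degree vanishing passes from `P` to `X` in positive index. -/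
theorem exists_V_of_quot_torsion (hpos : ∀ n : ℤ, n < 0 → ∀ r ∈ 𝒜 n, r = 0)
    (hQ : (FGInduction.posIdeal 𝒜).toIdeal ≤ a.toIdeal) (X : GrLC.GMod.{u} 𝒜) (P : Submodule R X.carrier)
    (hP : P.IsHomogeneous X.gr) (hfin : Module.Finite R P)
    (ht : ∀ n, ∀ x ∈ X.gr n, ∃ k : ℕ, ∀ r ∈ a.toIdeal ^ k, r • x ∈ P) (q : ℕ) (hq : 1 ≤ q) :
    ∃ r : ℤ, ∀ n, r ≤ n → Van.V a X q n := by
  have htors : GrLC.gam a.toIdeal (qMod 𝒜 X.gr P hP).carrier = ⊤ := by
    refine eq_top_iff.2 fun y _ => ?_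
    obtain ⟨x, rfl⟩ := P.mkQ_surjective y
    induction x using induction_hom X.gr with
    | zero => rw [map_zero]; exact zero_mem _
    | hom n x hx =>
      obtain ⟨k, hk⟩ := ht n x hx
      refine ⟨k, fun r hr => ?_⟩
      exact (Submodule.Quotient.mk_eq_zero P).2 (hk r hr)
    | add x y hx hy => rw [map_add]; exact add_mem (hx trivial) (hy trivial)
  obtain ⟨r, hr⟩ := Finiteness.exists_V_of_le (a := a) hpos hQ (subMod 𝒜 X.gr P hP) hfin
  exact ⟨r, fun n hn => Van.V_mid (Van.ses_quot X P hP) (hr q n hn) (Van.V_torsion htors hq)⟩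

/-- Apply a statement about surjections with given kernel to the quotient map. -/
theorem quot_instance {E : Type u} [CommRing E] [IsNoetherianRing E] (K J : Ideal E) (q : ℕ) {Q : Prop}
    (h : ∀ (G : Type u) [CommRing G] [IsNoetherianRing G] (φ : E →+* G), Function.Surjective φ →
      RingHom.ker φ = K → Subsingleton (LocCoh.H (J.map φ) q G) → Q)
    (hG : Subsingleton (LocCoh.H (J.map (Ideal.Quotient.mk K)) q (E ⧸ K))) : Q :=
  h (E ⧸ K) (Ideal.Quotient.mk K) Ideal.Quotient.mk_surjective Ideal.mk_ker hG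

/-- Independence of the base, in one direction. -/
theorem subsingleton_H_map {R R' : Type u} [CommRing R] [CommRing R'] [IsNoetherianRing R] [IsNoetherianRing R']
    [Algebra R R'] (I : Ideal R) (q : ℕ) (h : Subsingleton (LocCoh.H I q R')) :
    Subsingleton (LocCoh.H (I.map (algebraMap R R')) q R') := by
  obtain ⟨e⟩ := nonempty_lcRestrictIso R' I (ModuleCat.of R' R') q
  haveI h2 : Subsingleton ((localCohomology I q).obj (resObj R (ModuleCat.of R' R'))) :=
    haveI := h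
    ((localCohomology I q).mapIso (resObjIso (R := R) R' R')).toLinearEquiv.toEquiv.subsingleton
  exact e.toLinearEquiv.toEquiv.subsingleton

/-- Flat base change, in one direction. -/
theorem subsingleton_H_flat {R L : Type u} [CommRing R] [CommRing L] [IsNoetherianRing R] [IsNoetherianRing L] [Algebra R L]
    [Module.Flat R L] (I : Ideal R) (q : ℕ) (h : Subsingleton (LocCoh.H I q R)) :
    Subsingleton (LocCoh.H (I.map (algebraMap R L)) q L) := by
  obtain ⟨e⟩ := nonempty_lcBaseChangeIso L I (ModuleCat.of R R) q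
  haveI : Subsingleton ((localCohomology I q).obj (ModuleCat.of R R)) := h
  haveI : Subsingleton ((localCohomology (I.map (algebraMap R L)) q).obj (bcObj L (ModuleCat.of R R))) :=
    e.toLinearEquiv.symm.toEquiv.subsingleton
  exact (lcLinearEquiv _ q (Algebra.TensorProduct.rid R L L).toLinearEquiv).symm.toEquiv.subsingleton

/-- Faithfully flat descent of vanishing. -/
theorem subsingleton_H_of_faithfullyFlat {R L : Type u} [CommRing R] [CommRing L] [IsNoetherianRing R] [IsNoetherianRing L]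
    [Algebra R L] [Module.FaithfullyFlat R L] (I : Ideal R) (q : ℕ)
    (h : Subsingleton (LocCoh.H (I.map (algebraMap R L)) q L)) : Subsingleton (LocCoh.H I q R) := by
  obtain ⟨e⟩ := nonempty_lcBaseChangeIso L I (ModuleCat.of R R) q
  haveI : Subsingleton ((localCohomology (I.map (algebraMap R L)) q).obj (bcObj L (ModuleCat.of R R))) :=
    haveI := h
    (lcLinearEquiv _ q (Algebra.TensorProduct.rid R L L).toLinearEquiv).toEquiv.subsingleton
  haveI : Subsingleton (L ⊗[R] ((localCohomology I q).obj (ModuleCat.of R R))) :=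
    e.toLinearEquiv.toEquiv.subsingleton
  exact Module.FaithfullyFlat.lTensor_reflects_triviality R L _

end Generic

variable {A : Type u} [CommRing A] (𝓕 : FiltBl.IdealFiltration A)

local notation "Rs" => (FiltBl.IdealFiltration.rees 𝓕)
local notation "Ex" => (FiltBl.IdealFiltration.extRees 𝓕)

/-- The inclusion of the Rees algebra in the extended Rees algebra. -/
noncomputable def incl : Rs →+* Ex :=
  ((Polynomial.toLaurentAlg (R := A)).toRingHom.comp 𝓕.rees.val.toRingHom).codRestrict 𝓕.extRees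
    fun p => by
      rw [H2.ExtRees.extRees_eq]
      exact (le_sup_left : 𝓕.rees.map (Polynomial.toLaurentAlg (R := A)) ≤ _) ⟨p, p.2, rfl⟩

@[reducible] noncomputable instance algEx : Algebra Rs Ex := (incl 𝓕).toAlgebra

theorem coe_incl (p : Rs) : ((incl 𝓕 p : Ex) : A[T;T⁻¹]) = Polynomial.toLaurent (p : A[X]) := rfl

theorem coe_smul_Ex (p : Rs) (x : Ex) :
    ((p • x : Ex) : A[T;T⁻¹]) = Polynomial.toLaurent (p : A[X]) * (x : A[T;T⁻¹]) := rfl

/-- The pieces of the extended Rees algebra as additive subgroups. -/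
noncomputable def gr (n : ℤ) : AddSubgroup Ex := (Rees.ldeg 𝓕.extRees n).toAddSubgroup

theorem mem_gr {n : ℤ} {x : Ex} : x ∈ gr 𝓕 n ↔ x ∈ Rees.ldeg 𝓕.extRees n := Iff.rfl

noncomputable instance grDecomp : DirectSum.Decomposition (gr 𝓕) :=
  decompositionOfProj _ (fun g => (Submodule.subtype _ ∘ₗ Rees.lcomp 𝓕.extRees g).toAddMonoidHom)
    (fun g x hx => Subtype.ext (AddMonoidAlgebra.ext (Finsupp.ext fun m => by
      change (AddMonoidAlgebra.single g ((x : A[T;T⁻¹]).coeff g)).coeff m = _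
      rw [AddMonoidAlgebra.coeff_single, Finsupp.single_apply]
      split_ifs with h
      · rw [h]
      · exact ((Rees.mem_ldeg_iff' _ g x).1 hx m (Ne.symm h)).symm)))
    (fun g h hne x hx => Subtype.ext (by
      change AddMonoidAlgebra.single g ((x : A[T;T⁻¹]).coeff g) = 0
      rw [(Rees.mem_ldeg_iff' _ h x).1 hx g (Ne.symm hne)]
      simp))
    (fun x => by
      classical
      have hx : x = ∑ m ∈ (x : A[T;T⁻¹]).coeff.support, (Rees.lcomp 𝓕.extRees m x : Ex) := by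
        refine Subtype.ext ?_
        rw [AddSubmonoidClass.coe_finsetSum]
        simp only [Rees.coe_coe_lcomp]
        exact (AddMonoidAlgebra.sum_coeff_single (x : A[T;T⁻¹])).symm
      rw [hx]
      exact sum_mem fun m _ => mem_coe_range m (Rees.lcomp 𝓕.extRees m x).2)

theorem coeff_toLaurent_nat (f : A[X]) (k : ℕ) : (Polynomial.toLaurent f).coeff (k : ℤ) = f.coeff k := by
  rw [Polynomial.toLaurent_apply]
  exact Finsupp.mapDomain_apply Nat.cast_injective _ k

theorem coeff_toLaurent_neg (f : A[X]) (j : ℤ) (hj : j < 0) : (Polynomial.toLaurent f).coeff j = 0 := by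
  rw [Polynomial.toLaurent_apply]
  refine Finsupp.mapDomain_notin_range _ _ ?_
  rintro ⟨k, hk⟩
  change (k : ℤ) = j at hk
  omega

theorem incl_mem {n : ℤ} {p : Rs} (hp : p ∈ Rees.degZ 𝓕.rees n) : incl 𝓕 p ∈ gr 𝓕 n := by
  rw [mem_gr, Rees.mem_ldeg_iff']
  intro m hm
  rw [coe_incl]
  rcases m with k | k
  · change (Polynomial.toLaurent (p : A[X])).coeff (k : ℤ) = 0
    rw [coeff_toLaurent_nat]
    exact (Rees.mem_degZ_iff _ n p).1 hp k (by simpa using hm)
  · exact coeff_toLaurent_neg _ _ (Int.negSucc_lt_zero k)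

instance grSMul : SetLike.GradedSMul (Rees.degZ 𝓕.rees) (gr 𝓕) where
  smul_mem {i j r x} hr hx := by
    rw [mem_gr, vadd_eq_add]
    exact SetLike.GradedMul.mul_mem (A := Rees.ldeg 𝓕.extRees) (incl_mem 𝓕 hr) hx

/-- The extended Rees algebra as a graded module. -/
noncomputable def XE : GrLC.GMod.{u} (Rees.degZ 𝓕.rees) := GrLC.GMod.of (Rees.degZ 𝓕.rees) Ex (gr 𝓕)

theorem u_mem : (𝓕.u : Ex) ∈ Rees.ldeg 𝓕.extRees (-1) := by
  rw [Rees.mem_ldeg_iff']
  intro m hm
  change (LaurentPolynomial.T (-1) : A[T;T⁻¹]).coeff m = 0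
  rw [LaurentPolynomial.T_apply, if_neg (Ne.symm hm)]

/-- Multiplication by `u`. -/
noncomputable def mulU : Ex →ₗ[Rs] Ex where
  toFun x := 𝓕.u * x
  map_add' := mul_add _
  map_smul' r x := mul_smul_comm r _ x

theorem mulU_grHom : GrLC.IsGrHom (shiftGr (gr 𝓕) 1) (gr 𝓕) (mulU 𝓕) := by
  intro n x hx
  have h := SetLike.GradedMul.mul_mem (A := Rees.ldeg 𝓕.extRees) (u_mem 𝓕)
    (show (x : Ex) ∈ Rees.ldeg 𝓕.extRees (n + 1) from hx)
  rw [show (-1 : ℤ) + (n + 1) = n by ring] at h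
  exact h

/-- The image of the Rees algebra. -/
noncomputable def P : Submodule Rs Ex := LinearMap.range (Algebra.linearMap Rs Ex)

theorem isHomogeneous_P : (P 𝓕).IsHomogeneous (gr 𝓕) := by
  rintro g _ ⟨p, rfl⟩
  refine ⟨proj (Rees.degZ 𝓕.rees) g p, ?_⟩
  change _ = proj (gr 𝓕) g _
  exact (map_proj (ℳ := Rees.degZ 𝓕.rees) (𝒩 := gr 𝓕) (f := Algebra.linearMap Rs Ex)
    (fun n x hx => incl_mem 𝓕 hx) g p)

theorem finite_P : Module.Finite Rs (P 𝓕) := Module.Finite.range _

theorem coeff_eq_zero_of_mem_irrel_pow (k : ℕ) : ∀ r ∈ (GrSyz.irrel (Rees.degZ 𝓕.rees)).toIdeal ^ k,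
    ∀ m < k, (r : A[X]).coeff m = 0 := by
  induction k with
  | zero => intro r _ m hm; omega
  | succ k ih =>
    intro r hr
    rw [pow_succ] at hr
    refine Submodule.mul_induction_on hr (fun a ha b hb m hm => ?_) (fun a b ha hb m hm => ?_)
    · have hb0 : (b : A[X]).coeff 0 = 0 := by
        change b ∈ Ideal.span _ at hb
        induction hb using Submodule.span_induction with
        | mem c hc =>
          obtain ⟨n, hn, hc⟩ := hc
          exact (Rees.mem_degZ_iff _ n c).1 hc 0 (by omega)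
        | zero => simp
        | add a b _ _ ha hb => simp [ha, hb]
        | smul t a _ ha => simp [Polynomial.mul_coeff_zero, ha]
      rw [Subalgebra.coe_mul, Polynomial.coeff_mul]
      refine Finset.sum_eq_zero fun p hp => ?_
      replace hp : p.1 + p.2 = m := by simpa using hp
      rcases Nat.eq_zero_or_pos p.2 with h | h
      · rw [h, hb0, mul_zero]
      · rw [ih a ha p.1 (by omega), zero_mul]
    · rw [Subalgebra.coe_add, Polynomial.coeff_add, ha m hm, hb m hm, add_zero]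

theorem mem_P_of_coeff {x : Ex} (hx : ∀ m : ℤ, m < 0 → (x : A[T;T⁻¹]).coeff m = 0) : x ∈ P 𝓕 := by
  classical
  have hsum : x = ∑ m ∈ (x : A[T;T⁻¹]).coeff.support, (Rees.lcomp 𝓕.extRees m x : Ex) := by
    refine Subtype.ext ?_
    rw [AddSubmonoidClass.coe_finsetSum]
    simp only [Rees.coe_coe_lcomp]
    exact (AddMonoidAlgebra.sum_coeff_single (x : A[T;T⁻¹])).symm
  rw [hsum]
  refine sum_mem fun m hm => ?_
  obtain ⟨k, rfl⟩ : ∃ k : ℕ, m = (k : ℤ) :=
    Int.eq_ofNat_of_zero_le (not_lt.1 fun h => Finsupp.mem_support_iff.1 hm (hx m h))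
  refine ⟨⟨Polynomial.monomial k ((x : A[T;T⁻¹]).coeff (k : ℤ)), fun j => ?_⟩, Subtype.ext ?_⟩
  · rw [Polynomial.coeff_monomial]
    split_ifs with h
    · subst h; simpa using x.2 (k : ℤ)
    · exact Ideal.zero_mem _
  · rw [Algebra.linearMap_apply, Rees.coe_coe_lcomp]
    change Polynomial.toLaurent (Polynomial.monomial k _) = _
    rw [← Polynomial.C_mul_X_pow_eq_monomial, Polynomial.toLaurent_C_mul_X_pow,
      LaurentPolynomial.single_eq_C_mul_T]

theorem torsion_P : ∀ n, ∀ x ∈ gr 𝓕 n,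
    ∃ k : ℕ, ∀ r ∈ (GrSyz.irrel (Rees.degZ 𝓕.rees)).toIdeal ^ k, r • x ∈ P 𝓕 := by
  intro n x hx
  refine ⟨(-n).toNat, fun r hr => ?_⟩
  classical
  refine mem_P_of_coeff 𝓕 fun m hm => ?_
  rw [coe_smul_Ex]
  obtain ⟨a, hxa⟩ : ∃ a : A, (x : Ex).1 = LaurentPolynomial.C a * LaurentPolynomial.T n := by
    refine ⟨(x : Ex).1.coeff n, ?_⟩
    rw [← LaurentPolynomial.single_eq_C_mul_T]
    refine AddMonoidAlgebra.ext (Finsupp.ext fun j => ?_)
    rw [AddMonoidAlgebra.coeff_single, Finsupp.single_apply]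
    split_ifs with h
    · rw [h]
    · exact (Rees.mem_ldeg_iff' _ n (x : Ex)).1 hx j (Ne.symm h)
  rw [hxa, ← LaurentPolynomial.single_eq_C_mul_T, AddMonoidAlgebra.coeff_mul_single_eq_coeff_mul (m - n)
    (fun j _ => by omega)]
  rcases lt_or_ge (m - n) 0 with h | h
  · rw [coeff_toLaurent_neg _ _ h, zero_mul]
  · obtain ⟨j, hj⟩ := Int.eq_ofNat_of_zero_le h
    rw [hj, coeff_toLaurent_nat, coeff_eq_zero_of_mem_irrel_pow 𝓕 _ r hr j (by omega), zero_mul]

theorem map_irrel {B : Type u} [CommRing B] (φ : Ex →+* B) :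
    (GrSyz.irrel (Rees.degZ 𝓕.rees)).toIdeal.map (φ.comp (incl 𝓕)) =
      (Ideal.span {x : Ex | ∃ n : ℤ, 0 < n ∧ ∃ a : A,
        (x : A[T;T⁻¹]) = LaurentPolynomial.C a * LaurentPolynomial.T n}).map φ := by
  rw [← Ideal.map_map]
  congr 1
  refine le_antisymm ?_ (Ideal.span_le.2 ?_)
  · change (Ideal.span _).map _ ≤ _
    rw [Ideal.map_span, Ideal.span_le]
    rintro _ ⟨p, ⟨n, hn, hp⟩, rfl⟩
    refine Ideal.subset_span ⟨n, hn, (incl 𝓕 p : A[T;T⁻¹]).coeff n, ?_⟩
    rw [← LaurentPolynomial.single_eq_C_mul_T]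
    refine AddMonoidAlgebra.ext (Finsupp.ext fun j => ?_)
    rw [AddMonoidAlgebra.coeff_single, Finsupp.single_apply]
    split_ifs with h
    · rw [h]
    · exact (Rees.mem_ldeg_iff' _ n _).1 (incl_mem 𝓕 hp) j (Ne.symm h)
  · rintro z ⟨n, hn, a, hz⟩
    obtain ⟨k, rfl⟩ := Int.eq_ofNat_of_zero_le hn.le
    have ha : a ∈ 𝓕.F k := by
      have h := z.2 (k : ℤ)
      rw [hz, ← LaurentPolynomial.single_eq_C_mul_T, AddMonoidAlgebra.coeff_single, Finsupp.single_eq_same] at h
      simpa using h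
    let p : Rs := ⟨Polynomial.monomial k a, fun j => by
      rw [Polynomial.coeff_monomial]
      split_ifs with h
      · subst h; exact ha
      · exact Ideal.zero_mem _⟩
    have hp : p ∈ (GrSyz.irrel (Rees.degZ 𝓕.rees)).toIdeal :=
      Ideal.subset_span ⟨(k : ℤ), hn, (Rees.mem_degZ_iff _ _ p).2 fun m hm => by
        change (Polynomial.monomial k a).coeff m = 0
        rw [Polynomial.coeff_monomial, if_neg (by omega)]⟩
    have hpz : incl 𝓕 p = z := Subtype.ext (by
      rw [coe_incl, hz]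
      change Polynomial.toLaurent (Polynomial.monomial k a) = _
      rw [← Polynomial.C_mul_X_pow_eq_monomial, Polynomial.toLaurent_C_mul_X_pow])
    exact hpz ▸ Ideal.mem_map_of_mem _ hp

theorem map_span_laurent :
    (Ideal.span {x : Ex | ∃ n : ℤ, 0 < n ∧ ∃ a : A,
        (x : A[T;T⁻¹]) = LaurentPolynomial.C a * LaurentPolynomial.T n}).map (algebraMap Ex A[T;T⁻¹]) =
      (𝓕.F 1).map (algebraMap A A[T;T⁻¹]) := by
  refine le_antisymm ?_ (Ideal.map_le_iff_le_comap.2 fun a ha => ?_)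
  · rw [Ideal.map_span, Ideal.span_le]
    rintro _ ⟨x, ⟨n, hn, a, hx⟩, rfl⟩
    have ha : a ∈ 𝓕.F 1 := by
      have h := x.2 n
      rw [hx, ← LaurentPolynomial.single_eq_C_mul_T, AddMonoidAlgebra.coeff_single, Finsupp.single_eq_same] at h
      exact 𝓕.antitone (show 1 ≤ n.toNat by omega) h
    change (x : A[T;T⁻¹]) ∈ _
    rw [hx, LaurentPolynomial.C_eq_algebraMap]
    exact Ideal.mul_mem_right _ _ (Ideal.mem_map_of_mem _ ha)
  · rw [Ideal.mem_comap]
    have h1 : LaurentPolynomial.C a * LaurentPolynomial.T (1 : ℤ) ∈ 𝓕.extRees :=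
      H2.ExtRees.C_mul_T_mem 𝓕 (by simpa using ha)
    refine (Ideal.mul_unit_mem_iff_mem _ (LaurentPolynomial.isUnit_T (1 : ℤ))).1 ?_
    rw [← LaurentPolynomial.C_eq_algebraMap]
    have hmem : (⟨_, h1⟩ : Ex) ∈ {x : Ex | ∃ n : ℤ, 0 < n ∧ ∃ a : A,
        (x : A[T;T⁻¹]) = LaurentPolynomial.C a * LaurentPolynomial.T n} := ⟨1, one_pos, a, rfl⟩
    exact Ideal.mem_map_of_mem (algebraMap Ex A[T;T⁻¹]) (Ideal.subset_span hmem)

theorem subsingleton_H_extRees [IsNoetherianRing Rs] {G : Type u} [CommRing G] [IsNoetherianRing G]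
    (φ : Ex →+* G) (hφ : Function.Surjective φ) (hker : RingHom.ker φ = Ideal.span {(𝓕.u : Ex)})
    (q : ℕ) (hq : 1 ≤ q)
    (hG : Subsingleton (LocCoh.H ((Ideal.span {x : Ex | ∃ n : ℤ, 0 < n ∧ ∃ a : A,
        (x : A[T;T⁻¹]) = LaurentPolynomial.C a * LaurentPolynomial.T n}).map φ) q G)) :
    Subsingleton (LocCoh.H (GrSyz.irrel (Rees.degZ 𝓕.rees)).toIdeal q Ex) := by
  let I := (GrSyz.irrel (Rees.degZ 𝓕.rees)).toIdeal
  letI : Algebra Rs G := (φ.comp (incl 𝓕)).toAlgebra
  have hGR : Subsingleton (LocCoh.H I q G) := by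
    obtain ⟨e⟩ := nonempty_lcRestrictIso G I (ModuleCat.of G G) q
    haveI h1 : Subsingleton ((localCohomology (I.map (algebraMap Rs G)) q).obj (ModuleCat.of G G)) := by
      rw [show I.map (algebraMap Rs G) = _ from map_irrel 𝓕 φ]
      exact hG
    haveI : Subsingleton ((ModuleCat.restrictScalars (algebraMap Rs G)).obj
        ((localCohomology (I.map (algebraMap Rs G)) q).obj (ModuleCat.of G G))) := h1
    have h2 : Subsingleton ((localCohomology I q).obj (resObj Rs (ModuleCat.of G G))) :=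
      e.toLinearEquiv.symm.toEquiv.subsingleton
    exact ((localCohomology I q).mapIso (resObjIso (R := Rs) G G)).toLinearEquiv.symm.toEquiv.subsingleton
  letI := shiftDecomp (gr 𝓕) 1
  let Q : Submodule Rs Ex := LinearMap.range (mulU 𝓕)
  let ψ : Ex →ₗ[Rs] G :=
    { toFun := φ, map_add' := map_add φ, map_smul' := fun r x => map_mul φ (incl 𝓕 r) x }
  let eG : (Ex ⧸ Q) ≃ₗ[Rs] G :=
    (Submodule.quotEquivOfEq Q (LinearMap.ker ψ) (by
      ext x
      rw [LinearMap.mem_ker]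
      change x ∈ Q ↔ φ x = 0
      rw [← RingHom.mem_ker, hker, Ideal.mem_span_singleton']
      exact ⟨fun ⟨y, hy⟩ => ⟨y, (mul_comm _ _).trans hy⟩, fun ⟨y, hy⟩ => ⟨y, (mul_comm _ _).trans hy⟩⟩)).trans
      (ψ.quotKerEquivOfSurjective hφ)
  have hV : ∀ n, Van.V (GrSyz.irrel (Rees.degZ 𝓕.rees))
      (qMod (Rees.degZ 𝓕.rees) (gr 𝓕) Q (isHomogeneous_range (mulU_grHom 𝓕))) q n := fun n E =>
    CMVanish.Hgr_eq_bot_of_subsingleton E n
      (haveI := hGR; (lcLinearEquiv I q eG).toEquiv.subsingleton)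
  have hses : Horseshoe.SES (shiftMod (Rees.degZ 𝓕.rees) (gr 𝓕) 1).gr (gr 𝓕)
      (qMod (Rees.degZ 𝓕.rees) (gr 𝓕) Q (isHomogeneous_range (mulU_grHom 𝓕))).gr (mulU 𝓕) Q.mkQ :=
    { grHom_i := mulU_grHom 𝓕
      grHom_π := fun _ _ hx => mkQ_mem_qGr (gr 𝓕) Q hx
      injective := H2.ExtRees.regular_u 𝓕
      surjective := Q.mkQ_surjective
      exact := Q.ker_mkQ }
  exact subsingleton_of_step (X := XE 𝓕) hses q hV
    (exists_V_of_quot_torsion (fun n hn r hr => Subtype.ext (Polynomial.ext fun m =>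
      (Rees.mem_degZ_iff _ n r).1 hr m (by omega))) le_rfl (XE 𝓕) (P 𝓕) (isHomogeneous_P 𝓕) (finite_P 𝓕)
      (torsion_P 𝓕) q hq)

theorem descend [IsNoetherianRing A] [Nontrivial A] (hfg : Algebra.FiniteType A 𝓕.rees) (q : ℕ)
    (hX : Subsingleton (LocCoh.H (GrSyz.irrel (Rees.degZ 𝓕.rees)).toIdeal q Ex)) :
    Subsingleton (LocCoh.H (𝓕.F 1) q A) := by
  haveI := hfg
  haveI : IsNoetherianRing Rs := Algebra.FiniteType.isNoetherianRing A _
  haveI := H2.ExtRees.isNoetherianRing_extRees 𝓕 hfg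
  haveI := H2.ExtRees.isAway 𝓕
  haveI : IsNoetherianRing A[T;T⁻¹] :=
    IsLocalization.isNoetherianRing (Submonoid.powers (Polynomial.X : A[X])) _ inferInstance
  let I := (GrSyz.irrel (Rees.degZ 𝓕.rees)).toIdeal
  -- over the extended Rees algebra, then the Laurent polynomials, then the base
  haveI : Module.Flat Ex A[T;T⁻¹] := IsLocalization.flat A[T;T⁻¹] (Submonoid.powers (𝓕.u : Ex))
  haveI := H2.ExtRees.faithfullyFlat (A := A)
  refine subsingleton_H_of_faithfullyFlat (L := A[T;T⁻¹]) (𝓕.F 1) q ?_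
  have hid : (I.map (algebraMap Rs Ex)).map (algebraMap Ex A[T;T⁻¹]) =
      (𝓕.F 1).map (algebraMap A A[T;T⁻¹]) := by
    rw [Ideal.map_map, ← map_span_laurent 𝓕]
    exact map_irrel 𝓕 (algebraMap Ex A[T;T⁻¹])
  rw [← hid]
  exact subsingleton_H_flat (L := A[T;T⁻¹]) _ q (subsingleton_H_map (R' := Ex) I q hX)

theorem main_step [IsNoetherianRing A] (hfg : Algebra.FiniteType A 𝓕.rees) (q : ℕ) (hq : 1 ≤ q)
    (hG : Subsingleton (LocCoh.H
      ((Ideal.span {x : Ex | ∃ n : ℤ, 0 < n ∧ ∃ a : A,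
        (x : A[T;T⁻¹]) = LaurentPolynomial.C a * LaurentPolynomial.T n}).map
        (Ideal.Quotient.mk (Ideal.span {𝓕.u}))) q 𝓕.Gr)) :
    Subsingleton (LocCoh.H (GrSyz.irrel (Rees.degZ 𝓕.rees)).toIdeal q Ex) :=
  haveI := hfg
  haveI : IsNoetherianRing Rs := Algebra.FiniteType.isNoetherianRing A _
  haveI := H2.ExtRees.isNoetherianRing_extRees 𝓕 hfg
  quot_instance _ _ q (fun _ _ _ φ hs hk h => subsingleton_H_extRees 𝓕 φ hs hk q hq h) hG

theorem main [IsNoetherianRing A] [Nontrivial A] (hfg : Algebra.FiniteType A 𝓕.rees) (q : ℕ) (hq : 1 ≤ q)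
    (hG : Subsingleton (LocCoh.H
      ((Ideal.span {x : Ex | ∃ n : ℤ, 0 < n ∧ ∃ a : A,
        (x : A[T;T⁻¹]) = LaurentPolynomial.C a * LaurentPolynomial.T n}).map
        (Ideal.Quotient.mk (Ideal.span {𝓕.u}))) q 𝓕.Gr)) :
    Subsingleton (LocCoh.H (𝓕.F 1) q A) :=
  descend 𝓕 hfg q (main_step 𝓕 hfg q hq hG)

end Groth.Agent.H68.GrVanish
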