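import Groth.Prelude.Def_W4c2conddiscmodels
import Mathlib.RingTheory.Coprime.Lemmas
import Mathlib.Tactic.FieldSimp
import Mathlib.Tactic.Positivity
import Mathlib.Tactic.LinearCombination

/-!
Numerators of Hirzebruch–Jung continued fractions.
-/

namespace Groth.Agent.H68.HJ

open HJFrac in
theorem exists_seq (l : ℕ) (hl : 1 ≤ l) (b : ℕ → ℤ) (hb : ∀ i, 1 ≤ i → i ≤ l → 2 ≤ b i)
    (n r : ℕ) (hr : 0 < r) (hcop : Nat.Coprime r n)
    (hhj : (n : ℚ) / r = hjVal ((List.range l).map fun i => b (i + 1))) :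
    ∃ q : ℕ → ℤ, q 0 = n ∧ q 1 = r ∧ q (l + 1) = 0 ∧ q l = 1 ∧
      ∀ i, 1 ≤ i → i ≤ l → b i * q i = q (i - 1) + q (i + 1) := by
  -- `s j` is the numerator of the tail of length `j`
  let s : ℕ → ℤ × ℤ := fun j => Nat.rec ((1 : ℤ), (0 : ℤ))
    (fun j p => (b (l - j) * p.1 - p.2, p.1)) j
  have hs : ∀ j, j ≤ l → 0 ≤ (s j).2 ∧ (s j).2 < (s j).1 ∧ IsCoprime (s j).1 (s j).2 ∧
      hjVal ((List.range j).map fun i => b (l - j + i + 1)) = ((s j).1 : ℚ) / (s j).2 := by
    intro j
    induction j with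
    | zero => intro _; simp [s, hjVal, isCoprime_one_left]
    | succ j ih =>
      intro hj
      obtain ⟨h1, h2, h3, h4⟩ := ih (by omega)
      have hb2 := hb (l - j) (by omega) (by omega)
      have e1 : (s (j + 1)).1 = b (l - j) * (s j).1 - (s j).2 := rfl
      have e2 : (s (j + 1)).2 = (s j).1 := rfl
      refine ⟨by omega, ?_, ?_, ?_⟩
      · rw [e1, e2]; nlinarith
      · rw [e1, e2, sub_eq_add_neg]
        have := (h3.symm.neg_left.add_mul_right_left (b (l - j))).symm
        rw [add_comm] at this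
        exact this.symm
      · rw [List.range_succ_eq_map, List.map_cons, List.map_map, hjVal]
        have e : (fun i => b (l - (j + 1) + i + 1)) ∘ Nat.succ = fun i => b (l - j + i + 1) := by
          funext i; simp only [Function.comp]; congr 1; omega
        rw [e, h4, e1, e2, inv_div, show l - (j + 1) + 0 + 1 = l - j by omega]
        have hne : ((s j).1 : ℚ) ≠ 0 := by exact_mod_cast (by omega : (s j).1 ≠ 0)
        push_cast
        field_simp
  obtain ⟨h1, h2, h3, h4⟩ := hs l le_rfl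
  have h4' : (n : ℚ) / r = ((s l).1 : ℚ) / (s l).2 := by
    rw [hhj, ← h4]; congr 1; simp
  have hpos : 0 < (s l).2 := by
    obtain ⟨j, rfl⟩ : ∃ j, l = j + 1 := ⟨l - 1, by omega⟩
    obtain ⟨_, hh, _, _⟩ := hs j (by omega)
    have e2 : (s (j + 1)).2 = (s j).1 := rfl
    have := (hs j (by omega)).1
    omega
  have hcross : (n : ℤ) * (s l).2 = (s l).1 * r := by
    rw [div_eq_div_iff (by exact_mod_cast hr.ne') (by exact_mod_cast hpos.ne')] at h4'
    exact_mod_cast h4'
  have hnr : IsCoprime (n : ℤ) (r : ℤ) := Nat.isCoprime_iff_coprime.mpr hcop.symm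
  have d1 : (r : ℤ) ∣ (s l).2 := hnr.symm.dvd_of_dvd_mul_left ⟨(s l).1, by rw [hcross]; ring⟩
  have d2 : (s l).2 ∣ (r : ℤ) := h3.symm.dvd_of_dvd_mul_left ⟨n, by rw [← hcross]; ring⟩
  have er : (s l).2 = r := Int.dvd_antisymm hpos.le (by positivity) d2 d1
  have en : (s l).1 = n := by
    rw [er] at hcross
    exact (mul_right_cancel₀ (by exact_mod_cast hr.ne' : (r : ℤ) ≠ 0) hcross).symm
  refine ⟨fun i => if i = l + 1 then 0 else (s (l - i)).1, ?_, ?_, by simp, ?_, ?_⟩
  · simpa using en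
  · obtain ⟨j, rfl⟩ : ∃ j, l = j + 1 := ⟨l - 1, by omega⟩
    have e2 : (s (j + 1)).2 = (s j).1 := rfl
    simp; omega
  · simp [s]
  · intro i hi1 hil
    have e1 : (s (l - i + 1)).1 = b (l - (l - i)) * (s (l - i)).1 - (s (l - i)).2 := rfl
    rw [show l - (l - i) = i by omega] at e1
    simp only [if_neg (show i ≠ l + 1 by omega), if_neg (show i - 1 ≠ l + 1 by omega),
      show l - (i - 1) = l - i + 1 by omega, e1]
    by_cases h : i = l
    · subst h; simp [s]
    · obtain ⟨j, hj⟩ : ∃ j, l - i = j + 1 := ⟨l - i - 1, by omega⟩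
      rw [if_neg (by omega), hj, show l - (i + 1) = j by omega]
      have e2 : (s (j + 1)).2 = (s j).1 := rfl
      rw [e2]; ring

end Groth.Agent.H68.HJ
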