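import Groth.Prelude.Def_W4c5stacksedinertiaGpd
import Mathlib.GroupTheory.GroupAction.Quotient
import Mathlib.GroupTheory.GroupAction.ConjAct
import Mathlib.GroupTheory.SpecificGroups.Cyclic
import Mathlib.LinearAlgebra.Eigenspace.Basic
import Mathlib.Data.Nat.Choose.Sum
import Mathlib.Data.Fintype.BigOperators
import Mathlib.Algebra.BigOperators.Fin
import Mathlib.Data.ZMod.Basic
import Mathlib.Data.Fintype.CardEmbedding
import Mathlib.Tactic.Module
import Mathlib.Tactic.LinearCombination

/-!
The inertia operators on the rational vector space spanned by finite groups.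
-/

universe u v

namespace Groth.Agent.H68.Inertia

open W4c5stacksedinertia

section Basics
variable {G : Type u} {H : Type v} [Group G] [Group H] [Finite G] [Finite H]

/-- `G` is isomorphic to its presentation on `Fin n`. -/
noncomputable def finEquiv (G : Type u) [Group G] [Finite G] : G ≃* (FinGrp.of G).carrier where
  toEquiv := Nat.equivFinOfCardPos (α := G) Nat.card_pos.ne'
  map_mul' a b := by
    change (Nat.equivFinOfCardPos (α := G) Nat.card_pos.ne') (a * b) =
      (Nat.equivFinOfCardPos (α := G) Nat.card_pos.ne')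
        ((Nat.equivFinOfCardPos (α := G) Nat.card_pos.ne').symm
            ((Nat.equivFinOfCardPos (α := G) Nat.card_pos.ne') a) *
          (Nat.equivFinOfCardPos (α := G) Nat.card_pos.ne').symm
            ((Nat.equivFinOfCardPos (α := G) Nat.card_pos.ne') b))
    simp

theorem idx_congr (e : G ≃* H) : Idx.of G = Idx.of H :=
  Quotient.sound (s := FinGrp.setoid) ⟨((finEquiv G).symm.trans e).trans (finEquiv H)⟩

theorem cl_congr (e : G ≃* H) : cl G = cl H := by rw [cl, cl, idx_congr e]

theorem idx_rep (i : Idx) : Idx.of i.rep = i :=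
  (Quotient.sound (s := FinGrp.setoid) ⟨(finEquiv i.rep).symm⟩).trans (Quotient.out_eq (s := FinGrp.setoid) i)

theorem nonempty_rep_equiv (G : Type u) [Group G] [Finite G] :
    Nonempty ((Idx.of G).rep ≃* G) :=
  (Quotient.exact (Quotient.out_eq (s := FinGrp.setoid) (Idx.of G))).map
    fun e => e.trans (finEquiv G).symm

theorem card_of (G : Type u) [Group G] [Finite G] : (Idx.of G).card = Nat.card G :=
  Nat.card_congr (nonempty_rep_equiv G).some.toEquiv

theorem centerCard_of (G : Type u) [Group G] [Finite G] :
    (Idx.of G).centerCard = Nat.card (Subgroup.center G) :=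
  Nat.card_congr (Subgroup.centerCongr (nonempty_rep_equiv G).some).toEquiv

theorem cl_rep (i : Idx) : cl i.rep = Finsupp.single i 1 := by rw [cl, idx_rep]

end Basics

section Tuples
variable {G : Type u} [Group G]

/-- the common centralizer of a tuple -/
def C {r : ℕ} (s : CommTuple G r) : Subgroup G := Subgroup.centralizer (Set.range s.1)

theorem mem_C {r : ℕ} {s : CommTuple G r} {x : G} : x ∈ C s ↔ ∀ i, s.1 i * x = x * s.1 i := by
  simp [C, Subgroup.mem_centralizer_iff]

theorem center_le_C {r : ℕ} (s : CommTuple G r) : Subgroup.center G ≤ C s :=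
  Subgroup.center_le_centralizer _

theorem self_mem_C {r : ℕ} (s : CommTuple G r) (i : Fin r) : s.1 i ∈ C s :=
  mem_C.mpr fun j => s.2.2 j i

variable [Finite G]

noncomputable instance instFintypeCommTuple (r : ℕ) : Fintype (CommTuple G r) :=
  have : Finite (CommTuple G r) := Subtype.finite
  Fintype.ofFinite _

noncomputable instance instFintypeC {r : ℕ} (s : CommTuple G r) : Fintype (C s) := Fintype.ofFinite _

/-- weighted class of a centralizer -/
noncomputable def term {r : ℕ} (s : CommTuple G r) : K :=
  ((Nat.card (C s) : ℚ) / (Nat.card G : ℚ)) • cl (C s)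

/-- the averaged form of `inertiaROf` -/
noncomputable def avg (r : ℕ) (G : Type u) [Group G] [Finite G] : K := ∑ s : CommTuple G r, term s

theorem term_congr {r : ℕ} {s : CommTuple G r} {H : Type v} [Group H] [Finite H]
    {t : CommTuple H r} (e : C s ≃* C t) (h : Nat.card G = Nat.card H) : term s = term t := by
  rw [term, term, cl_congr e, Nat.card_congr e.toEquiv, h]

theorem inertiaROf_eq (r : ℕ) : inertiaROf r G = avg r G := by
  classical
  have : Finite (CommTuple.Orbit G r) := Quotient.finite _
  let : Fintype (CommTuple.Orbit G r) := Fintype.ofFinite _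
  let π : CommTuple G r → CommTuple.Orbit G r := Quotient.mk (CommTuple.setoid G r)
  rw [inertiaROf, avg, finsum_eq_sum_of_fintype, ← Finset.sum_fiberwise Finset.univ π]
  refine Finset.sum_congr rfl fun O _ => ?_
  set s₀ := Quotient.out (s := CommTuple.setoid G r) O with hs₀
  have key : ∀ s, π s = O → ∀ g : G, (∀ i, g * s₀.1 i * g⁻¹ = s.1 i) → Nonempty (C s₀ ≃* C s) := by
    intro s _ g hg
    refine ⟨{ toFun := fun x => ⟨g * x.1 * g⁻¹, mem_C.mpr fun i => ?_⟩,
              invFun := fun x => ⟨g⁻¹ * x.1 * g, mem_C.mpr fun i => ?_⟩,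
              left_inv := fun x => by ext; simp [mul_assoc],
              right_inv := fun x => by ext; simp [mul_assoc],
              map_mul' := fun x y => by ext; simp [mul_assoc] }⟩
    · have h := mem_C.mp x.2 i
      rw [← hg i]
      simp only [mul_assoc, inv_mul_cancel_left]
      rw [← mul_assoc (s₀.1 i), h, mul_assoc]
    · have h := mem_C.mp x.2 i
      rw [← hg i] at h
      have := congrArg (fun y => g⁻¹ * y * g) h
      simpa [mul_assoc] using this
  have hrel : ∀ s, π s = O ↔ ∃ g : G, ∀ i, g * s₀.1 i * g⁻¹ = s.1 i := by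
    intro s
    constructor
    · intro h
      exact Quotient.exact ((Quotient.out_eq O).trans h.symm)
    · intro h
      exact (Quotient.sound (s := CommTuple.setoid G r) h).symm.trans (Quotient.out_eq O)
  have hterm : ∀ s ∈ Finset.univ.filter (fun s => π s = O),
      term s = ((Nat.card (C s₀) : ℚ) / (Nat.card G : ℚ)) • cl (C s₀) := by
    intro s hs
    simp at hs
    obtain ⟨g, hg⟩ := (hrel s).mp hs
    exact (term_congr (key s hs g hg).some rfl).symm
  rw [Finset.sum_congr rfl hterm, Finset.sum_const, ← Nat.cast_smul_eq_nsmul ℚ, smul_smul]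
  have hcard : (Finset.univ.filter (fun s => π s = O)).card * Nat.card (C s₀) = Nat.card G := by
    let act : ConjAct G → (Fin r → G) := fun g i => g • s₀.1 i
    have he : (Finset.univ.filter (fun s => π s = O)).card =
        Nat.card (MulAction.orbit (ConjAct G) (s₀.1 : Fin r → G)) := by
      rw [← Nat.card_eq_finsetCard]
      refine Nat.card_congr
        { toFun := fun s => ⟨s.1.1, ?_⟩
          invFun := fun f => ⟨⟨f.1, ?_⟩, ?_⟩
          left_inv := fun s => by ext; rfl
          right_inv := fun f => by ext; rfl }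
      · have hs := (Finset.mem_filter.mp s.2).2
        obtain ⟨g, hg⟩ := (hrel _).mp hs
        exact ⟨ConjAct.toConjAct g, funext fun i => by simp [ConjAct.smul_def, hg i]⟩
      · obtain ⟨g, hg⟩ := f.2
        have e : f.1 = fun i => g • s₀.1 i := hg.symm
        rw [e]
        exact ⟨(MulAction.injective g).comp s₀.2.1, fun i j =>
          (s₀.2.2 i j).map (MulDistribMulAction.toMonoidEnd (ConjAct G) G g)⟩
      · obtain ⟨g, hg⟩ := f.2
        refine Finset.mem_filter.mpr ⟨Finset.mem_univ _, ?_⟩
        refine (hrel _).mpr ⟨ConjAct.ofConjAct g, fun i => ?_⟩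
        exact (ConjAct.smul_def g (s₀.1 i)).symm.trans (congrFun hg i)
    have hst : Nat.card (C s₀) = Nat.card (MulAction.stabilizer (ConjAct G) (s₀.1 : Fin r → G)) :=
      Nat.card_congr <| ConjAct.toConjAct.toEquiv.subtypeEquiv fun x => by
        simp [mem_C, funext_iff, ConjAct.smul_def, mul_inv_eq_iff_eq_mul]
        exact forall_congr' fun i => eq_comm
    rw [he, hst, ← Nat.card_prod, Nat.card_congr (MulAction.orbitProdStabilizerEquivGroup _ _)]
    exact Nat.card_congr ConjAct.ofConjAct.toEquiv
  have hne : (Nat.card G : ℚ) ≠ 0 := by exact_mod_cast Nat.card_pos.ne'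
  rw [show ((Finset.univ.filter (fun s => π s = O)).card : ℚ) * ((Nat.card (C s₀) : ℚ) / (Nat.card G : ℚ)) = 1 by
    rw [← mul_div_assoc, ← Nat.cast_mul, hcard, div_self hne], one_smul]
  rfl

theorem avg_congr (r : ℕ) {H : Type v} [Group H] [Finite H] (e : G ≃* H) : avg r G = avg r H := by
  let f : CommTuple G r ≃ CommTuple H r :=
    { toFun := fun s => ⟨fun i => e (s.1 i), e.injective.comp s.2.1, fun i j => (s.2.2 i j).map e⟩
      invFun := fun s =>
        ⟨fun i => e.symm (s.1 i), e.symm.injective.comp s.2.1, fun i j => (s.2.2 i j).map e.symm⟩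
      left_inv := fun s => Subtype.ext (funext fun i => e.symm_apply_apply _)
      right_inv := fun s => Subtype.ext (funext fun i => e.apply_symm_apply _) }
  refine Fintype.sum_equiv f _ _ fun s => term_congr ?_ (Nat.card_congr e.toEquiv)
  exact
    { e.toEquiv.subtypeEquiv (p := fun x => x ∈ C s) (q := fun y => y ∈ C (f s)) (fun x => by
        simp only [mem_C]
        refine forall_congr' fun i => ?_
        change _ ↔ e (s.1 i) * e x = e x * e (s.1 i)
        rw [← map_mul, ← map_mul, e.injective.eq_iff]) with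
      map_mul' := fun x y => Subtype.ext (map_mul e _ _) }

theorem inertiaR_cl (r : ℕ) : inertiaR r (cl G) = avg r G := by
  rw [cl, inertiaR, Finsupp.linearCombination_single, one_smul, inertiaROf_eq]
  exact avg_congr r (nonempty_rep_equiv G).some

end Tuples

section Compose
variable {G : Type u} [Group G] [Finite G]

theorem inertiaR_zero (v : K) : inertiaR 0 v = v := by
  suffices inertiaR 0 = LinearMap.id by rw [this]; rfl
  refine Finsupp.lhom_ext' fun i => LinearMap.ext_ring ?_
  change inertiaR 0 (Finsupp.single i 1) = Finsupp.single i 1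
  rw [← cl_rep, inertiaR_cl, avg]
  let s₀ : CommTuple i.rep 0 := ⟨Fin.elim0, fun a => a.elim0, fun a => a.elim0⟩
  rw [Fintype.sum_eq_single s₀ (fun s hs => absurd (Subtype.ext (funext fun a => a.elim0)) hs), term]
  have hC : C s₀ = ⊤ := eq_top_iff.mpr fun x _ => mem_C.mpr fun a => a.elim0
  rw [cl_congr (G := C s₀) (H := i.rep) ((MulEquiv.subgroupCongr hC).trans Subgroup.topEquiv),
    Nat.card_congr ((MulEquiv.subgroupCongr hC).trans Subgroup.topEquiv).toEquiv,
    div_self (by exact_mod_cast Nat.card_pos.ne'), one_smul]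

omit [Finite G] in
theorem sigma_ext {r : ℕ} (p q : Σ s : CommTuple G r, C s) (h1 : p.1.1 = q.1.1)
    (h2 : (p.2 : G) = (q.2 : G)) : p = q := by
  obtain ⟨⟨a, ha⟩, ⟨x, hx⟩⟩ := p
  obtain ⟨⟨b, hb⟩, ⟨y, hy⟩⟩ := q
  simp only at h1 h2
  subst h1
  subst h2
  rfl

theorem inertia_avg (r : ℕ) :
    inertia (avg r G) = avg (r + 1) G + (r : ℚ) • avg r G := by
  classical
  rw [avg, map_sum]
  have hstep : ∀ s : CommTuple G r, inertia (term s) =
      ∑ t : C s, ((Nat.card (Subgroup.centralizer (Set.range (Fin.snoc s.1 (t : G)))) : ℚ) /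
        (Nat.card G : ℚ)) • cl (Subgroup.centralizer (Set.range (Fin.snoc s.1 (t : G)))) := by
    intro s
    rw [term, map_smul, inertia, inertiaR_cl, avg, Finset.smul_sum]
    let f : CommTuple (C s) 1 ≃ C s :=
      { toFun := fun u => u.1 0
        invFun := fun t => ⟨fun _ => t, Function.injective_of_subsingleton _, fun _ _ => Commute.refl _⟩
        left_inv := fun u => Subtype.ext (funext fun i => congrArg u.1 (Subsingleton.elim 0 i))
        right_inv := fun t => rfl }
    refine Fintype.sum_equiv f _ _ fun u => ?_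
    have e : C u ≃* Subgroup.centralizer (Set.range (Fin.snoc s.1 ((f u : C s) : G))) :=
      { toFun := fun x => ⟨x.1.1, Subgroup.mem_centralizer_iff.mpr (by
          rintro _ ⟨i, rfl⟩
          refine Fin.lastCases ?_ (fun j => ?_) i
          · rw [Fin.snoc_last]; exact congrArg Subtype.val (mem_C.mp x.2 0)
          · rw [Fin.snoc_castSucc]; exact mem_C.mp x.1.2 j)⟩
        invFun := fun x => ⟨⟨x.1, mem_C.mpr fun j => by
            simpa using Subgroup.mem_centralizer_iff.mp x.2 _ ⟨j.castSucc, rfl⟩⟩,
          mem_C.mpr fun i => Subtype.ext (by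
            have := Subgroup.mem_centralizer_iff.mp x.2 _ ⟨Fin.last r, rfl⟩
            rw [Fin.snoc_last] at this
            rw [Subsingleton.elim i 0]; exact this)⟩
        left_inv := fun x => rfl
        right_inv := fun x => rfl
        map_mul' := fun x y => rfl }
    have hne : (Nat.card (C s) : ℚ) ≠ 0 := by exact_mod_cast Nat.card_pos.ne'
    rw [term, smul_smul, cl_congr e, Nat.card_congr e.toEquiv]
    congr 1
    field_simp
  rw [Finset.sum_congr rfl fun s _ => hstep s]
  have hsplit : ∀ s : CommTuple G r, (∑ t : C s,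
      ((Nat.card (Subgroup.centralizer (Set.range (Fin.snoc s.1 (t : G)))) : ℚ) /
        (Nat.card G : ℚ)) • cl (Subgroup.centralizer (Set.range (Fin.snoc s.1 (t : G))))) =
      (∑ t ∈ Finset.univ.filter (fun t : C s => (t : G) ∉ Set.range s.1),
      ((Nat.card (Subgroup.centralizer (Set.range (Fin.snoc s.1 (t : G)))) : ℚ) /
        (Nat.card G : ℚ)) • cl (Subgroup.centralizer (Set.range (Fin.snoc s.1 (t : G))))) +
      (r : ℚ) • term s := by
    intro s
    rw [← Finset.sum_filter_not_add_sum_filter Finset.univ (fun t : C s => (t : G) ∈ Set.range s.1)]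
    congr 1
    have hc : ∀ t ∈ Finset.univ.filter (fun t : C s => (t : G) ∈ Set.range s.1),
        ((Nat.card (Subgroup.centralizer (Set.range (Fin.snoc s.1 (t : G)))) : ℚ) /
          (Nat.card G : ℚ)) • cl (Subgroup.centralizer (Set.range (Fin.snoc s.1 (t : G)))) = term s := by
      intro t ht
      simp only [Finset.mem_filter, Finset.mem_univ, true_and] at ht
      have : Subgroup.centralizer (Set.range (Fin.snoc s.1 (t : G))) = C s := by
        change _ = Subgroup.centralizer (Set.range s.1)
        rw [Fin.range_snoc, Set.insert_eq_of_mem ht]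
      rw [term, cl_congr (MulEquiv.subgroupCongr this), this]
    rw [Finset.sum_congr rfl hc, Finset.sum_const, ← Nat.cast_smul_eq_nsmul ℚ]
    congr 2
    have : (Finset.univ.filter fun t : C s => (t : G) ∈ Set.range s.1) =
        Finset.univ.image (fun i => (⟨s.1 i, self_mem_C s i⟩ : C s)) := by
      ext t
      simp [Subtype.ext_iff]
    rw [this, Finset.card_image_of_injective _ (fun a b h => s.2.1 (congrArg Subtype.val h))]
    simp
  rw [Finset.sum_congr rfl fun s _ => hsplit s, Finset.sum_add_distrib, ← Finset.smul_sum]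
  congr 1
  rw [Finset.sum_sigma']
  refine Finset.sum_bij'
    (fun p hp => (⟨Fin.snoc p.1.1 (p.2 : G), ?_, ?_⟩ : CommTuple G (r + 1)))
    (fun u _ => ⟨⟨fun i => u.1 i.castSucc, u.2.1.comp (Fin.castSucc_injective r),
        fun i j => u.2.2 _ _⟩, ⟨u.1 (Fin.last r), mem_C.mpr fun i => u.2.2 _ _⟩⟩) ?_ ?_ ?_ ?_ ?_
  · simp at hp
    exact Fin.snoc_injective_iff.mpr ⟨p.1.2.1, by simpa using hp⟩
  · intro i j
    refine Fin.lastCases (Fin.lastCases ?_ (fun j => ?_) j) (fun i => Fin.lastCases ?_ (fun j => ?_) j) i
    · simp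
    · rw [Fin.snoc_last, Fin.snoc_castSucc]; exact (mem_C.mp p.2.2 j).symm
    · rw [Fin.snoc_last, Fin.snoc_castSucc]; exact mem_C.mp p.2.2 i
    · rw [Fin.snoc_castSucc, Fin.snoc_castSucc]; exact p.1.2.2 i j
  · intro p _; exact Finset.mem_univ _
  · intro u _
    simp
    exact fun i h => Fin.castSucc_ne_last i (u.2.1 h)
  · rintro ⟨⟨s, hs⟩, ⟨t, ht⟩⟩ _
    exact sigma_ext _ _ (funext fun i => Fin.snoc_castSucc (α := fun _ => G) t s i)
      (Fin.snoc_last (α := fun _ => G) t s)
  · intro u _
    exact Subtype.ext (Fin.snoc_init_self u.1)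
  · intro p _; rfl

/-- `I ∘ I_r = I_{r+1} + r I_r`. -/
theorem inertia_comp (r : ℕ) (v : K) :
    inertia (inertiaR r v) = inertiaR (r + 1) v + (r : ℚ) • inertiaR r v := by
  suffices inertia ∘ₗ inertiaR r = inertiaR (r + 1) + (r : ℚ) • inertiaR r from LinearMap.congr_fun this v
  refine Finsupp.lhom_ext' fun i => LinearMap.ext_ring ?_
  change inertia (inertiaR r (Finsupp.single i 1)) =
    inertiaR (r + 1) (Finsupp.single i 1) + (r : ℚ) • inertiaR r (Finsupp.single i 1)
  rw [← cl_rep, inertiaR_cl, inertiaR_cl, inertia_avg]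

theorem card_C_le {r : ℕ} (s : CommTuple G r) : Nat.card (C s) ≤ Nat.card G :=
  Nat.card_le_card_of_injective _ Subtype.val_injective

/-- The center of the centralizer contains the center. -/
theorem center_card_le {r : ℕ} (s : CommTuple G r) :
    Nat.card (Subgroup.center G) ≤ Nat.card (Subgroup.center (C s)) :=
  Nat.card_le_card_of_injective
    (fun z => (⟨⟨z.1, center_le_C s z.2⟩, Subgroup.mem_center_iff.mpr fun g =>
      Subtype.ext (Subgroup.mem_center_iff.mp z.2 g.1)⟩ : Subgroup.center (C s)))
    (fun a b h => Subtype.ext (congrArg (fun w : Subgroup.center (C s) => (w : G)) h))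

theorem center_card_lt {r : ℕ} (s : CommTuple G r) (i : Fin r) (hi : s.1 i ∉ Subgroup.center G) :
    Nat.card (Subgroup.center G) < Nat.card (Subgroup.center (C s)) ∧ Nat.card (C s) < Nat.card G := by
  classical
  have := Fintype.ofFinite G
  constructor
  · simp only [Nat.card_eq_fintype_card]
    refine Fintype.card_lt_of_injective_of_notMem
      (fun z => (⟨⟨z.1, center_le_C s z.2⟩, Subgroup.mem_center_iff.mpr fun g =>
        Subtype.ext (Subgroup.mem_center_iff.mp z.2 g.1)⟩ : Subgroup.center (C s)))
      (fun a b h => Subtype.ext (congrArg (fun w : Subgroup.center (C s) => (w : G)) h))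
      (b := ⟨⟨s.1 i, self_mem_C s i⟩, Subgroup.mem_center_iff.mpr fun g =>
        Subtype.ext (mem_C.mp g.2 i).symm⟩) ?_
    rintro ⟨⟨z, hz'⟩, hz⟩
    have e : z = s.1 i := congrArg (fun w : Subgroup.center (C s) => (w : G)) hz
    exact hi (e ▸ hz')
  · simp only [Nat.card_eq_fintype_card]
    have hx : ∃ x, x ∉ C s := by
      by_contra h
      push Not at h
      exact hi (Subgroup.mem_center_iff.mpr fun g => (mem_C.mp (h g) i).symm)
    obtain ⟨x, hx⟩ := hx
    exact Fintype.card_subtype_lt hx

theorem term_of_central {r : ℕ} (s : CommTuple G r) (h : ∀ i, s.1 i ∈ Subgroup.center G) :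
    term s = cl G := by
  have hC : C s = ⊤ := eq_top_iff.mpr fun x _ => mem_C.mpr fun i =>
    (Subgroup.mem_center_iff.mp (h i) x).symm
  rw [term, cl_congr (G := C s) (H := G) ((MulEquiv.subgroupCongr hC).trans Subgroup.topEquiv),
    Nat.card_congr ((MulEquiv.subgroupCongr hC).trans Subgroup.topEquiv).toEquiv,
    div_self (by exact_mod_cast Nat.card_pos.ne'), one_smul]

theorem card_central (r : ℕ) [DecidablePred fun s : CommTuple G r => ∀ i, s.1 i ∈ Subgroup.center G] :
    (Finset.univ.filter fun s : CommTuple G r => ∀ i, s.1 i ∈ Subgroup.center G).card =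
      (Nat.card (Subgroup.center G)).descFactorial r := by
  classical
  have := Fintype.ofFinite G
  rw [Nat.card_eq_fintype_card]
  have h := Fintype.card_embedding_eq (α := Fin r) (β := Subgroup.center G)
  rw [Fintype.card_fin] at h
  rw [← h, ← Fintype.card_subtype]
  exact Fintype.card_congr
    { toFun := fun s => ⟨fun i => ⟨s.1.1 i, s.2 i⟩, fun a b e => s.1.2.1 (congrArg Subtype.val e)⟩
      invFun := fun f => ⟨⟨fun i => (f i).1, fun a b e => f.injective (Subtype.ext e),
        fun i j => (Subgroup.mem_center_iff.mp (f i).2 _).symm⟩, fun i => (f i).2⟩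
      left_inv := fun s => rfl
      right_inv := fun f => rfl }

theorem inertiaR_single_sub (r : ℕ) (i : Idx) :
    inertiaR r (Finsupp.single i 1) - (i.centerCard.descFactorial r : ℚ) • Finsupp.single i 1 ∈
      Finsupp.supported ℚ ℚ {j : Idx | i.centerCard < j.centerCard ∧ j.card < i.card} := by
  classical
  rw [← cl_rep, inertiaR_cl, avg,
    ← Finset.sum_filter_add_sum_filter_not Finset.univ
      (fun s : CommTuple i.rep r => ∀ a, s.1 a ∈ Subgroup.center i.rep)]
  rw [Finset.sum_congr rfl (fun s hs => term_of_central s (Finset.mem_filter.mp hs).2), Finset.sum_const,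
    card_central, ← Nat.cast_smul_eq_nsmul ℚ]
  change (i.centerCard.descFactorial r : ℚ) • cl i.rep + _ - _ ∈ _
  rw [add_sub_cancel_left]
  refine Submodule.sum_mem _ fun s hs => Submodule.smul_mem _ _ (Finsupp.single_mem_supported ℚ _ ?_)
  simp only [Finset.mem_filter, Finset.mem_univ, true_and, not_forall] at hs
  obtain ⟨a, ha⟩ := hs
  rw [Set.mem_ofPred_eq, centerCard_of, card_of]
  exact center_card_lt s a ha

end Compose

section Linear

open Module.End

/-- descending factorial acts on eigenvectors -/
theorem inertiaR_eigen {k : ℕ} {v : K} (hv : v ∈ eigenspace inertia (k : ℚ)) (r : ℕ) :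
    inertiaR r v = (k.descFactorial r : ℚ) • v := by
  rw [mem_eigenspace_iff] at hv
  induction r with
  | zero => simp [inertiaR_zero]
  | succ r ih =>
    have h := inertia_comp r v
    rw [ih, map_smul, hv, smul_smul, smul_smul] at h
    have e : inertiaR (r + 1) v =
        ((k.descFactorial r : ℚ) * k - r * (k.descFactorial r : ℚ)) • v := by
      rw [sub_smul]; exact (eq_sub_of_add_eq h.symm)
    rw [e, Nat.descFactorial_succ]
    congr 1
    rcases Nat.lt_or_ge k r with h' | h'
    · rw [Nat.descFactorial_eq_zero_iff_lt.mpr h']; simp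
    · push_cast [h']; ring

/-- sums of eigenspaces above a bound -/
noncomputable def above (z : ℕ) : Submodule ℚ K := ⨆ m ∈ Set.Ici z, eigenspace inertia ((m : ℕ) : ℚ)

theorem above_anti {z z' : ℕ} (h : z ≤ z') : above z' ≤ above z :=
  biSup_mono fun _ hm => h.trans hm

theorem exists_eigen (i : Idx) : ∃ u, u ∈ above (i.centerCard + 1) ∧
    Finsupp.single i 1 + u ∈ eigenspace inertia ((i.centerCard : ℕ) : ℚ) ∧
    u ∈ Finsupp.supported ℚ ℚ {j : Idx | i.centerCard < j.centerCard} := by
  induction hn : i.card using Nat.strong_induction_on generalizing i with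
  | _ n ih =>
    set z := i.centerCard
    let S : Submodule ℚ K := above (z + 1) ⊓ Finsupp.supported ℚ ℚ {j : Idx | z < j.centerCard}
    -- `w` lies in `S`
    have hw := inertiaR_single_sub 1 i
    rw [Nat.descFactorial_one] at hw
    have hsub : Finsupp.supported ℚ ℚ {j : Idx | z < j.centerCard ∧ j.card < i.card} ≤ S := by
      rw [Finsupp.supported_eq_span_single, Submodule.span_le]
      rintro _ ⟨j, ⟨hj1, hj2⟩, rfl⟩
      obtain ⟨u, hu1, hu2, hu3⟩ := ih j.card (hn ▸ hj2) j rfl
      refine ⟨?_, Finsupp.single_mem_supported ℚ _ hj1⟩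
      change Finsupp.single j 1 ∈ above (z + 1)
      have : Finsupp.single j (1 : ℚ) = (Finsupp.single j 1 + u) - u := by rw [add_sub_cancel_right]
      rw [this]
      exact sub_mem (Submodule.mem_iSup_of_mem j.centerCard (Submodule.mem_iSup_of_mem
        (show z + 1 ≤ j.centerCard by omega) hu2)) (above_anti (by omega) hu1)
    have hwS := hsub hw
    -- invert `inertia - z` on `above (z + 1)`
    have hinv : ∀ x ∈ above (z + 1), ∃ y ∈ above (z + 1), inertia y - (z : ℚ) • y = x ∧
        (x ∈ Finsupp.supported ℚ ℚ {j : Idx | z < j.centerCard} → True) := by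
      intro x hx
      have : above (z + 1) ≤ (above (z + 1)).map (inertia - (z : ℚ) • LinearMap.id) := by
        refine iSup₂_le fun m hm v hv => ?_
        have hm' : ((m : ℚ) - z) ≠ 0 := by
          rw [Set.mem_Ici] at hm
          exact sub_ne_zero.mpr (by exact_mod_cast (by omega : m ≠ z))
        refine ⟨((m : ℚ) - z)⁻¹ • v, Submodule.smul_mem _ _ (Submodule.mem_iSup_of_mem m
          (Submodule.mem_iSup_of_mem hm hv)), ?_⟩
        rw [mem_eigenspace_iff] at hv
        simp only [LinearMap.sub_apply, LinearMap.smul_apply, LinearMap.id_apply, map_smul, hv,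
          ← sub_smul, smul_smul]
        rw [inv_mul_cancel₀ hm', one_smul]
      obtain ⟨y, hy, hy'⟩ := this hx
      exact ⟨y, hy, hy', fun _ => trivial⟩
    obtain ⟨y, hy, hy', -⟩ := hinv _ hwS.1
    refine ⟨-y, neg_mem hy, ?_, ?_⟩
    · rw [mem_eigenspace_iff, map_add, map_neg, smul_add, smul_neg]
      linear_combination (norm := module) -hy'
    · refine neg_mem ?_
      -- everything above lies in the support condition
      have hle : above (z + 1) ≤ Finsupp.supported ℚ ℚ {j : Idx | z < j.centerCard} := by
        refine iSup₂_le fun m hm v hv j hj => ?_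
        by_contra hjz
        simp only [Set.mem_ofPred_eq, not_lt] at hjz
        simp only [SetLike.mem_coe, Finsupp.mem_support_iff] at hj
        -- choose a coordinate of minimal centre
        classical
        obtain ⟨j₀, hj₀, hmin⟩ := v.support.exists_min_image Idx.centerCard
          ⟨j, Finsupp.mem_support_iff.mpr hj⟩
        rw [mem_eigenspace_iff] at hv
        have hcoord := congrArg (fun x : K => x j₀) hv
        have hexp : inertia v = ∑ l ∈ v.support, v l • inertia (Finsupp.single l 1) := by
          conv_lhs => rw [← Finsupp.sum_single v, Finsupp.sum, map_sum]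
          exact Finset.sum_congr rfl fun l _ => by rw [← map_smul, Finsupp.smul_single', mul_one]
        simp only [hexp, Finsupp.finsetSum_apply, Finsupp.smul_apply, smul_eq_mul] at hcoord
        rw [Finset.sum_eq_single j₀] at hcoord
        · have h1 := inertiaR_single_sub 1 j₀
          rw [Finsupp.mem_supported'] at h1
          have h2 := h1 j₀ (by simp)
          simp only [Finsupp.sub_apply, Finsupp.smul_apply, Finsupp.single_eq_same,
            Nat.descFactorial_one, smul_eq_mul, mul_one, sub_eq_zero] at h2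
          rw [h2, mul_comm] at hcoord
          have hne := Finsupp.mem_support_iff.mp hj₀
          have : j₀.centerCard = m := by exact_mod_cast mul_right_cancel₀ hne hcoord
          have := hmin j (Finsupp.mem_support_iff.mpr hj)
          rw [Set.mem_Ici] at hm
          omega
        · intro l hl hne
          have h1 := inertiaR_single_sub 1 l
          rw [Finsupp.mem_supported'] at h1
          have h2 := h1 j₀ (fun h => by have := h.1; have := hmin l hl; omega)
          simp only [Finsupp.sub_apply, Finsupp.smul_apply, Finsupp.single_eq_of_ne hne.symm,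
            smul_eq_mul, mul_zero, sub_zero] at h2
          rw [h2, mul_zero]
        · intro h; exact absurd hj₀ h
      exact hle hy

theorem iSup_eq_top : (⨆ m : ℕ, eigenspace inertia (m : ℚ)) = ⊤ := by
  rw [eq_top_iff, ← Finsupp.supported_univ, Finsupp.supported_eq_span_single, Submodule.span_le]
  rintro _ ⟨i, -, rfl⟩
  obtain ⟨u, hu1, hu2, -⟩ := exists_eigen i
  change Finsupp.single i 1 ∈ _
  have : Finsupp.single i (1 : ℚ) = (Finsupp.single i 1 + u) - u := by rw [add_sub_cancel_right]
  rw [this]
  refine sub_mem (Submodule.mem_iSup_of_mem _ hu2) ?_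
  exact (iSup₂_le fun m _ => le_iSup (fun m : ℕ => eigenspace inertia (m : ℚ)) m) hu1

theorem centerCard_pos (i : Idx) : 0 < i.centerCard := Nat.card_pos

theorem eigenspace_zero : eigenspace inertia (0 : ℚ) = ⊥ := by
  have htop : (⨆ μ ≠ (0 : ℚ), eigenspace inertia μ) = ⊤ := by
    rw [eq_top_iff, ← Finsupp.supported_univ, Finsupp.supported_eq_span_single, Submodule.span_le]
    rintro _ ⟨i, -, rfl⟩
    obtain ⟨u, hu1, hu2, -⟩ := exists_eigen i
    change Finsupp.single i 1 ∈ _
    have : Finsupp.single i (1 : ℚ) = (Finsupp.single i 1 + u) - u := by rw [add_sub_cancel_right]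
    rw [this]
    refine sub_mem (Submodule.mem_iSup_of_mem (i.centerCard : ℚ) (Submodule.mem_iSup_of_mem
      (Nat.cast_ne_zero.mpr (centerCard_pos i).ne') hu2)) ?_
    refine (iSup₂_le fun m hm => ?_ : above (i.centerCard + 1) ≤ _) hu1
    rw [Set.mem_Ici] at hm
    exact le_iSup₂ (f := fun μ (_ : μ ≠ (0 : ℚ)) => eigenspace inertia μ) (m : ℚ)
      (Nat.cast_ne_zero.mpr (by omega))
  have h := (eigenspaces_iSupIndep (inertia : Module.End ℚ K)) (0 : ℚ)
  rw [htop, disjoint_top] at h
  exact h

theorem hasEigenvalue_iff (μ : ℚ) :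
    HasEigenvalue (inertia : Module.End ℚ K) μ ↔ ∃ n : ℕ, 0 < n ∧ μ = (n : ℚ) := by
  constructor
  · intro h
    by_contra hc
    push Not at hc
    have hle : ∀ m : ℕ, eigenspace inertia (m : ℚ) ≤ ⨆ ν ≠ μ, eigenspace inertia ν := by
      intro m
      rcases Nat.eq_zero_or_pos m with rfl | hm
      · rw [Nat.cast_zero, eigenspace_zero]; exact bot_le
      · exact le_iSup₂ (f := fun ν (_ : ν ≠ μ) => eigenspace inertia ν) (m : ℚ) (fun e => hc m hm e.symm)
    have hd := eigenspaces_iSupIndep (inertia : Module.End ℚ K) μ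
    rw [show (⨆ ν ≠ μ, eigenspace inertia ν) = ⊤ from
      eq_top_iff.mpr (iSup_eq_top ▸ iSup_le hle), disjoint_top] at hd
    exact h hd
  · rintro ⟨n, hn, rfl⟩ hbot
    have : NeZero n := ⟨hn.ne'⟩
    let i := Idx.of (Multiplicative (ZMod n))
    have hi : i.centerCard = n := by
      rw [centerCard_of]
      have h : Subgroup.center (Multiplicative (ZMod n)) = ⊤ :=
        eq_top_iff.mpr fun x _ => Subgroup.mem_center_iff.mpr fun g => mul_comm g x
      rw [Nat.card_congr ((MulEquiv.subgroupCongr h).trans Subgroup.topEquiv).toEquiv,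
        Nat.card_congr Multiplicative.toAdd, Nat.card_zmod]
    obtain ⟨u, -, hu2, hu3⟩ := exists_eigen i
    rw [hi] at hu2
    have hbot' : eigenspace inertia (n : ℚ) = ⊥ := hbot
    rw [hbot', Submodule.mem_bot] at hu2
    have := congrArg (fun x : K => x i) hu2
    rw [Finsupp.mem_supported'] at hu3
    simp [hu3 i (by simp)] at this

/-- the `k`-th projector -/
noncomputable def P (k : ℕ) (v : K) : K :=
  ∑ᶠ r : ℕ, (((-1 : ℚ) ^ (r + k)) / (Nat.factorial r : ℚ) * (Nat.choose r k : ℚ)) • inertiaR r v

theorem exists_bound (v : K) : ∃ R, ∀ r, R ≤ r → inertiaR r v = 0 := by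
  have : v ∈ (⨆ m : ℕ, eigenspace inertia (m : ℚ)) := by rw [iSup_eq_top]; trivial
  induction this using Submodule.iSup_induction' with
  | mem m w hw => exact ⟨m + 1, fun r hr => by
      rw [inertiaR_eigen hw, Nat.descFactorial_eq_zero_iff_lt.mpr (by omega)]; simp⟩
  | zero => exact ⟨0, fun r _ => map_zero _⟩
  | add x y _ _ hx hy =>
    obtain ⟨R, hR⟩ := hx
    obtain ⟨R', hR'⟩ := hy
    exact ⟨max R R', fun r hr => by
      rw [map_add, hR r (le_of_max_le_left hr), hR' r (le_of_max_le_right hr), add_zero]⟩

theorem finite_support (k : ℕ) (v : K) : (Function.support fun r : ℕ =>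
    (((-1 : ℚ) ^ (r + k)) / (Nat.factorial r : ℚ) * (Nat.choose r k : ℚ)) • inertiaR r v).Finite := by
  obtain ⟨R, hR⟩ := exists_bound v
  refine Set.Finite.subset (Set.finite_lt_nat R) fun r hr => ?_
  by_contra h
  exact hr (by simp [hR r (by simpa using h)])

theorem P_add (k : ℕ) (v w : K) : P k (v + w) = P k v + P k w := by
  rw [P, P, P, ← finsum_add_distrib (finite_support k v) (finite_support k w)]
  exact finsum_congr fun r => by rw [map_add, smul_add]

theorem P_eigen (k m : ℕ) {v : K} (hv : v ∈ eigenspace inertia (m : ℚ)) :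
    P k v = if m = k then v else 0 := by
  rw [P, finsum_eq_sum_of_support_subset _ (s := Finset.range (m + 1))]
  · simp only [inertiaR_eigen hv, smul_smul, ← Finset.sum_smul]
    have key : ∀ r : ℕ, (-1 : ℚ) ^ (r + k) / (r.factorial : ℚ) * (r.choose k : ℚ) * (m.descFactorial r : ℚ) =
        (((-1 : ℤ) ^ (r + k) * ((m.choose r * r.choose k : ℕ) : ℤ) : ℤ) : ℚ) := by
      intro r
      rw [Nat.descFactorial_eq_factorial_mul_choose]
      have := Nat.factorial_ne_zero r
      push_cast
      field_simp
    simp only [key, ← Int.cast_sum]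
    have hsum : ∑ r ∈ Finset.range (m + 1), (-1 : ℤ) ^ (r + k) * ((m.choose r * r.choose k : ℕ) : ℤ) =
        if m = k then 1 else 0 := by
      rcases Nat.lt_or_ge m k with h | h
      · rw [if_neg h.ne, Finset.sum_eq_zero]
        intro r hr
        simp only [Finset.mem_range] at hr
        rw [Nat.choose_eq_zero_of_lt (show r < k by omega)]; simp
      · obtain ⟨n, rfl⟩ : ∃ n, m = k + n := ⟨m - k, by omega⟩
        rw [show k + n + 1 = k + (n + 1) by ring, Finset.sum_range_add, Finset.sum_eq_zero, zero_add]
        · have : ∀ j ∈ Finset.range (n + 1),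
              (-1 : ℤ) ^ (k + j + k) * (((k + n).choose (k + j) * (k + j).choose k : ℕ) : ℤ) =
              ((k + n).choose k : ℤ) * ((-1) ^ j * (n.choose j : ℤ)) := by
            intro j _
            rw [Nat.choose_mul (by omega), Nat.add_sub_cancel_left, Nat.add_sub_cancel_left,
              show k + j + k = j + 2 * k by ring, pow_add, pow_mul]
            simp; ring
          rw [Finset.sum_congr rfl this, ← Finset.mul_sum, Int.alternating_sum_range_choose]
          by_cases hn : n = 0
          · subst hn; simp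
          · simp [hn]
        · intro r hr
          simp only [Finset.mem_range] at hr
          rw [Nat.choose_eq_zero_of_lt hr]; simp
    rw [hsum]
    split_ifs <;> simp
  · intro r hr
    simp only [Finset.coe_range, Set.mem_Iio]
    by_contra h
    exact hr (by simp [inertiaR_eigen hv, Nat.descFactorial_eq_zero_iff_lt.mpr (show m < r by omega)])

theorem proj (v : K) :
    (∀ k : ℕ, P k v ∈ eigenspace inertia (k : ℚ)) ∧ (Function.support fun k => P k v).Finite ∧
      ∑ᶠ k, P k v = v := by
  have : v ∈ (⨆ m : ℕ, eigenspace inertia (m : ℚ)) := by rw [iSup_eq_top]; trivial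
  induction this using Submodule.iSup_induction' with
  | mem m w hw =>
    refine ⟨fun k => ?_, Set.Finite.subset (Set.finite_singleton m) fun k hk => ?_, ?_⟩
    · rw [P_eigen k m hw]; split_ifs with h
      · exact h ▸ hw
      · exact zero_mem _
    · by_contra h
      exact hk (by simp [P_eigen k m hw, Ne.symm (show k ≠ m by simpa using h)])
    · rw [finsum_eq_single _ m (fun k hk => by simp [P_eigen k m hw, hk.symm]), P_eigen m m hw, if_pos rfl]
  | zero =>
    have : ∀ k, P k 0 = 0 := fun k => by simp [P]
    simp [this]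
  | add x y _ _ hx hy =>
    have e : (fun k => P k (x + y)) = (fun k => P k x) + fun k => P k y := funext fun k => P_add k x y
    refine ⟨fun k => by rw [P_add]; exact add_mem (hx.1 k) (hy.1 k), ?_, ?_⟩
    · rw [e]; exact (hx.2.1.union hy.2.1).subset (Function.support_add _ _)
    · rw [finsum_congr (fun k => P_add k x y), finsum_add_distrib hx.2.1 hy.2.1, hx.2.2, hy.2.2]

theorem ker_inertiaR (r : ℕ) :
    LinearMap.ker (inertiaR r) = ⨆ k ∈ Finset.range r, eigenspace inertia (k : ℚ) := by
  refine le_antisymm (fun v hv => ?_) (iSup₂_le fun k hk v hv => ?_)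
  · rw [LinearMap.mem_ker] at hv
    have hvan : ∀ s, r ≤ s → inertiaR s v = 0 := by
      intro s hs
      induction s, hs using Nat.le_induction with
      | base => exact hv
      | succ s _ ih =>
        have h := inertia_comp s v
        rw [ih, map_zero, smul_zero, add_zero] at h
        exact h.symm
    have hz : ∀ k, r ≤ k → P k v = 0 := by
      intro k hk
      rw [P, finsum_eq_zero_of_forall_eq_zero]
      intro s
      rcases Nat.lt_or_ge s k with h | h
      · simp [Nat.choose_eq_zero_of_lt h]
      · simp [hvan s (hk.trans h)]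
    rw [← (proj v).2.2]
    refine finsum_induction _ (zero_mem _) (fun _ _ => add_mem) fun k => ?_
    rcases Nat.lt_or_ge k r with h | h
    · exact Submodule.mem_iSup_of_mem k (Submodule.mem_iSup_of_mem (Finset.mem_range.mpr h) ((proj v).1 k))
    · rw [hz k h]; exact zero_mem _
  · rw [LinearMap.mem_ker, inertiaR_eigen hv,
      Nat.descFactorial_eq_zero_iff_lt.mpr (Finset.mem_range.mp hk)]
    simp

theorem inertiaR_mem_Kle (r n : ℕ) (v : K) (hv : v ∈ Kle n) : inertiaR r v ∈ Kle n := by
  rw [Kle, Finsupp.supported_eq_span_single] at hv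
  induction hv using Submodule.span_induction with
  | mem x hx =>
    obtain ⟨i, hi, rfl⟩ := hx
    change inertiaR r (Finsupp.single i 1) ∈ Kle n
    rw [← cl_rep, inertiaR_cl, avg]
    refine Submodule.sum_mem _ fun s _ => Submodule.smul_mem _ _ (Finsupp.single_mem_supported ℚ _ ?_)
    rw [Set.mem_ofPred_eq, card_of]
    exact (card_C_le s).trans hi
  | zero => simp
  | add x y _ _ hx hy => rw [map_add]; exact add_mem hx hy
  | smul c x _ hx => rw [map_smul]; exact Submodule.smul_mem _ c hx

theorem inertiaR_sub_mem_Kge (r k : ℕ) (v : K) (hv : v ∈ Kge k) :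
    inertiaR r v - (k.descFactorial r : ℚ) • v ∈ Kge (k + 1) := by
  rw [Kge, Finsupp.supported_eq_span_single] at hv
  induction hv using Submodule.span_induction with
  | mem x hx =>
    obtain ⟨i, hi, rfl⟩ := hx
    simp only [Set.mem_ofPred_eq] at hi
    have h1 : inertiaR r (Finsupp.single i 1) - (i.centerCard.descFactorial r : ℚ) • Finsupp.single i 1
        ∈ Kge (k + 1) :=
      Finsupp.supported_mono (fun j hj => by simp only [Set.mem_ofPred_eq] at hj ⊢; omega)
        (inertiaR_single_sub r i)
    rcases Nat.eq_or_lt_of_le hi with h | h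
    · rwa [← h] at h1
    · have h2 : ((i.centerCard.descFactorial r : ℚ) - (k.descFactorial r : ℚ)) • Finsupp.single i (1 : ℚ)
          ∈ Kge (k + 1) :=
        Submodule.smul_mem _ _ (Finsupp.single_mem_supported ℚ _ (show k + 1 ≤ i.centerCard by omega))
      convert add_mem h1 h2 using 1
      module
  | zero => simp
  | add x y _ _ hx hy =>
    convert add_mem hx hy using 1
    rw [map_add, smul_add]; abel
  | smul c x _ hx =>
    convert Submodule.smul_mem _ c hx using 1
    rw [map_smul]; module

end Linear

end Groth.Agent.H68.Inertia
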