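import Groth.Agent.H68.KoszulSpread
import Groth.Agent.Lib.Synt92.KoszulFlat
import Groth.Agent.Lib.Synt92.KRDescent
import Groth.Agent.Lib.Synt92.KRIdeal
import Groth.Agent.Lib.Synt92.BaseChangeSeq
import Mathlib.RingTheory.Localization.BaseChange
import Mathlib.RingTheory.TensorProduct.Quotient
import Mathlib.RingTheory.Flat.Stability

/-!
# Koszul-regular ideals with flat quotient and base change

For a flat finitely presented algebra `A` over any ring `R` and a finitely generated ideal `I` with `R`-flat
quotient, being generated near a prime by a Koszul-regular sequence can be tested after any base change.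
-/

set_option autoImplicit false
set_option linter.style.haveILetI false

universe u

open RingTheory.Sequence Groth.Agent.Lib Groth.Agent.Lib.Synt92 Groth.Agent.Lib.Synt92.KRLoc Groth.Agent.Lib.Wiebe.Link Groth.Agent.H26
open scoped TensorProduct

namespace Groth.Agent.H68.KoszulBC

/-- An element of a product with a finitely generated ideal is a combination with coefficients in the other factor. -/
theorem exists_coeff {A : Type u} [CommRing A] {r : ℕ} (J : Ideal A) (g : Fin r → A) {y : A}
    (hy : y ∈ J * Ideal.span (Set.range g)) : ∃ d : Fin r → A, (∀ i, d i ∈ J) ∧ ∑ i, d i * g i = y := by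
  refine Submodule.mul_induction_on hy (fun p hp x hx => ?_) ?_
  · obtain ⟨c, rfl⟩ := Ideal.mem_span_range_iff_exists_fun.1 hx
    exact ⟨fun i => p * c i, fun i => Ideal.mul_mem_right _ _ hp, by
      rw [Finset.mul_sum]; exact Finset.sum_congr rfl fun i _ => mul_assoc _ _ _⟩
  · rintro _ _ ⟨c, hc, rfl⟩ ⟨c', hc', rfl⟩
    exact ⟨c + c', fun i => add_mem (hc i) (hc' i), by simp [add_mul, Finset.sum_add_distrib]⟩

/-- Minimality of generators passes to flat extensions. -/
theorem min_of_flat {L M : Type u} [CommRing L] [CommRing M] [Algebra L M] [Module.Flat L M] {r : ℕ}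
    (g : Fin r → L) (P : Ideal L) (m : Ideal M) (hPm : ∀ x ∈ P, algebraMap L M x ∈ m)
    (hrel : ∀ c : Fin r → L, ∑ i, c i * g i = 0 → ∀ i, c i ∈ P)
    (c : Fin r → M) (hc : ∑ i, c i * algebraMap L M (g i) = 0) (i : Fin r) : c i ∈ m := by
  obtain ⟨k, a, y, hy, ha⟩ := Module.Flat.isTrivialRelation_of_sum_smul_eq_zero (R := L) (M := M)
    (f := g) (x := c) (by
      rw [← hc]
      refine Finset.sum_congr rfl fun i _ => ?_
      rw [Algebra.smul_def, mul_comm])
  rw [hy i]
  refine Submodule.sum_mem _ fun j _ => ?_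
  rw [Algebra.smul_def]
  exact Ideal.mul_mem_right _ _ (hPm _
    (hrel (fun i => a i j) (by rw [← ha j]; exact Finset.sum_congr rfl fun i _ => mul_comm _ _) i))

/-- Minimal generators of an ideal generated by an acyclic sequence are acyclic. -/
theorem acyc_min {L : Type u} [CommRing L] [IsLocalRing L] {r s : ℕ} (g : Fin r → L) (h : Fin s → L)
    (hh : Acyc h) (e : Ideal.span (Set.range g) = Ideal.span (Set.range h))
    (hne : Ideal.span (Set.range g) ≠ ⊤)
    (hmin : ∀ c : Fin r → L, ∑ i, c i * g i = 0 → ∀ i, c i ∈ IsLocalRing.maximalIdeal L) : Acyc g := by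
  have h1 := KRDescent.le_card g h e hmin
  have h2 : s ≤ r := by
    simpa using KRRank.le_length h hne hh e.symm (List.ofFn g) (KRLoc.span_range_eq_ofList g).symm
  obtain rfl := le_antisymm h1 h2
  exact KRRank.acyc_of_card_eq h g hh e

section

variable {R A : Type u} [CommRing R] [CommRing A] [Algebra R A]

/-- The fibre local ring at a prime. -/
abbrev LF (P : Ideal A) [P.IsPrime] : Type u :=
  Localization.AtPrime P ⧸ (P.under R).map (algebraMap R (Localization.AtPrime P))

/-- The generators are regular in the fibre. -/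
def Fib (P : Ideal A) [P.IsPrime] {r : ℕ} (g : Fin r → A) : Prop :=
  IsWeaklyRegular (LF (R := R) P) (List.ofFn fun i => Ideal.Quotient.mk
    ((P.under R).map (algebraMap R (Localization.AtPrime P))) (algebraMap A (Localization.AtPrime P) (g i)))

variable [Algebra.FinitePresentation R A]

theorem isNoetherianRing_LF (P : Ideal A) [P.IsPrime] : IsNoetherianRing (LF (R := R) P) := by
  let Q := H20.FibreDimBC.fibrePoint R A P
  haveI : IsNoetherianRing ((P.under R).Fiber A) :=
    Algebra.FiniteType.isNoetherianRing (P.under R).ResidueField _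
  obtain ⟨e⟩ := JacCrit.FlatRegular.nonempty_ringEquiv (P.under R) P Q.asIdeal
    (H20.FibreDimBC.comap_fibrePoint P)
  exact isNoetherianRing_of_ringEquiv (Localization.AtPrime Q.asIdeal) e

theorem map_le_maximal (P : Ideal A) [P.IsPrime] :
    (P.under R).map (algebraMap R (Localization.AtPrime P)) ≤
      IsLocalRing.maximalIdeal (Localization.AtPrime P) := by
  rw [← Localization.AtPrime.map_eq_maximalIdeal, Ideal.map_le_iff_le_comap]
  intro a ha
  rw [Ideal.mem_comap, IsScalarTower.algebraMap_apply R A (Localization.AtPrime P)]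
  exact Ideal.mem_map_of_mem _ ha

/-- Trivial relations in the fibre give regularity. -/
theorem fib_of_triv (P : Ideal A) [P.IsPrime] {r : ℕ} (g : Fin r → A) (hgP : ∀ i, g i ∈ P)
    (h : ∀ z : Fin r → LF (R := R) P,
      ∑ i, Ideal.Quotient.mk ((P.under R).map (algebraMap R (Localization.AtPrime P)))
        (algebraMap A (Localization.AtPrime P) (g i)) • z i = 0 →
      Triv.IsTriv (fun i => Ideal.Quotient.mk ((P.under R).map (algebraMap R (Localization.AtPrime P)))
        (algebraMap A (Localization.AtPrime P) (g i))) z) :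
    Fib (R := R) P g := by
  set μ := Ideal.Quotient.mk ((P.under R).map (algebraMap R (Localization.AtPrime P)))
  haveI := isNoetherianRing_LF (R := R) P
  haveI : Nontrivial (LF (R := R) P) := Ideal.Quotient.nontrivial_iff.2 fun h =>
    (IsLocalRing.maximalIdeal.isMaximal _).ne_top (top_le_iff.1 (h ▸ map_le_maximal P))
  haveI : IsLocalRing (LF (R := R) P) := IsLocalRing.of_surjective' μ Ideal.Quotient.mk_surjective
  let fb : Fin r → LF (R := R) P := fun i => μ (algebraMap A (Localization.AtPrime P) (g i))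
  have hne : Ideal.span (Set.range fb) ≠ ⊤ := by
    refine fun ht => (IsLocalRing.maximalIdeal.isMaximal (LF (R := R) P)).ne_top (top_le_iff.1 (ht.ge.trans ?_))
    refine Ideal.span_le.2 ?_
    rintro _ ⟨i, rfl⟩
    rw [SetLike.mem_coe, IsLocalRing.mem_maximalIdeal, mem_nonunits_iff]
    intro hu
    haveI : IsLocalHom μ := IsLocalHom.of_surjective _ Ideal.Quotient.mk_surjective
    have hu' := isUnit_of_map_unit μ _ hu
    rw [IsLocalization.AtPrime.isUnit_to_map_iff _ P] at hu'
    exact hu' (hgP i)
  exact Triv.regular_of_triv (Ideal.span (Set.range fb))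
    (fun N N' => IsHausdorff.of_isLocalRing _ _ hne) r fb (fun i => Ideal.subset_span ⟨i, rfl⟩) h

/-- Koszul-regular generation with flat quotient gives regularity in the fibre. -/
theorem fib_of_genLoc (I : Ideal A) [Module.Flat R (A ⧸ I)] (P : Ideal A) [P.IsPrime] (hIP : I ≤ P)
    {r : ℕ} (g : Fin r → A) (f : A) (hf : f ∉ P) (hg : ∀ i, g i ∈ I)
    (hgen : ∀ x ∈ I, f * x ∈ Ideal.span (Set.range g))
    (hrel : ∀ a : Fin r → A, ∑ i, a i * g i = 0 → ∀ i, a i ∈ P) {s : ℕ} (hs : GenLoc s I P) :
    Fib (R := R) P g := by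
  let L := Localization.AtPrime P
  haveI : Module.Flat A L := IsLocalization.flat L P.primeCompl
  let gL : Fin r → L := algebraMap A L ∘ g
  obtain ⟨g₀, hg₀, hgen₀⟩ := hs
  obtain ⟨h, hh, e⟩ := KRLoc.gen_of_isUnit g₀ (Localization.Away g₀) hgen₀ L
    (IsLocalization.map_units L (⟨g₀, hg₀⟩ : P.primeCompl))
  have eI := KRDescent.map_span_eq_map g hg hgen (algebraMap A L)
    (IsLocalization.map_units L (⟨f, hf⟩ : P.primeCompl))
  have hne : Ideal.span (Set.range gL) ≠ ⊤ := fun ht => by
    have h1 : I.map (algebraMap A L) ≤ IsLocalRing.maximalIdeal L := by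
      rw [← Localization.AtPrime.map_eq_maximalIdeal]
      exact Ideal.map_mono hIP
    rw [eI, ht] at h1
    exact (IsLocalRing.maximalIdeal.isMaximal L).ne_top (top_le_iff.1 h1)
  have hgL : Acyc gL := acyc_min gL h hh (eI.symm.trans e) hne
    (min_of_flat g P _ (fun x hx => by
      rw [← Localization.AtPrime.map_eq_maximalIdeal]
      exact Ideal.mem_map_of_mem _ hx) hrel)
  refine fib_of_triv P g (fun i => hIP (hg i)) ?_
  haveI : Module.Flat R (L ⧸ I.map (algebraMap A L)) := by
    have h1 := ((RingHom.flat_algebraMap_iff (R := R) (S := A ⧸ I)).2 inferInstance).comp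
      (Flat55.Presented.quotient_flat (algebraMap A L) (RingHom.flat_algebraMap_iff.2 inferInstance) I)
    have h2 : (algebraMap R (L ⧸ I.map (algebraMap A L))).Flat := by
      convert! h1 using 1
    exact RingHom.flat_algebraMap_iff.1 h2
  haveI : Module.Flat R (Localization.AtPrime P ⧸
      Ideal.span (Set.range fun i => algebraMap A (Localization.AtPrime P) (g i))) :=
    Module.Flat.of_linearEquiv (Ideal.quotientEquivAlgOfEq R eI).toLinearEquiv.symm
  exact KoszulH1.isTriv_quotient (Ideal.Quotient.mk _) Ideal.Quotient.mk_surjective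
    (KoszulH1.isTriv_of_acyc hgL) fun y hy hy' => by
      rw [Ideal.mk_ker] at hy' ⊢
      exact CritLocal.mem_mul_of_flat _ (P.under R) hy hy'

variable [Module.Flat R A]

/-- A sequence regular in the fibre gives Koszul-regular generators, also after base change. -/
theorem genLoc_baseChange_of_fib (I : Ideal A) (P : Ideal A) [P.IsPrime] (hIP : I ≤ P)
    {r : ℕ} (g : Fin r → A) (f : A) (hf : f ∉ P) (hg : ∀ i, g i ∈ I)
    (hgen : ∀ x ∈ I, f * x ∈ Ideal.span (Set.range g)) (hfib : Fib (R := R) P g) :
    GenLoc r I P ∧ ∀ {R' A' : Type u} [CommRing R'] [CommRing A'] [Algebra R R'] [Algebra R A'] [Algebra R' A']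
      [Algebra A A'] [IsScalarTower R R' A'] [IsScalarTower R A A'] [Algebra.IsPushout R R' A A']
      (P' : Ideal A') [P'.IsPrime], P'.comap (algebraMap A A') = P →
      GenLoc r (I.map (algebraMap A A')) P' := by
  obtain ⟨a, ha, hS⟩ := KoszulSpread.spread P (P.under R) rfl (List.ofFn g)
    (fun x hx => by obtain ⟨i, rfl⟩ := List.mem_ofFn.1 hx; exact hIP (hg i))
    ((isWeaklyRegular_map_algebraMap_iff _ _ _).1 (by
      rw [List.map_map, List.map_ofFn]
      exact hfib))
  have haf : a * f ∉ P := fun h => (Ideal.IsPrime.mem_or_mem ‹_› h).elim ha hf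
  let S := Localization.Away (a * f)
  haveI : Module.Flat A S := IsLocalization.flat S (Submonoid.powers (a * f))
  have hu := IsLocalization.Away.algebraMap_isUnit (S := S) (a * f)
  rw [map_mul, IsUnit.mul_iff] at hu
  obtain ⟨hreg, hfl⟩ := hS S hu.1
  have eI := KRDescent.map_span_eq_map g hg hgen (algebraMap A S) hu.2
  refine ⟨⟨a * f, haf, algebraMap A S ∘ g,
    CubeBase.acyc_of_isWeaklyRegular _ (by rwa [← List.map_ofFn]), eI⟩, ?_⟩
  intro R' A' _ _ _ _ _ _ _ _ _ P' _ hP'
  let T := Localization.Away (algebraMap A A' (a * f))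
  let φ : S →+* T := IsLocalization.Away.lift (S := S) (a * f) (g := algebraMap A T) (by
    rw [IsScalarTower.algebraMap_apply A A' T]
    exact IsLocalization.Away.algebraMap_isUnit _)
  letI := φ.toAlgebra
  haveI : IsScalarTower A S T := .of_algebraMap_eq fun x => (IsLocalization.Away.lift_eq (a * f) _ x).symm
  haveI : IsScalarTower R A' T := inferInstance
  haveI : IsScalarTower R A T := .of_algebraMap_eq fun x => by
    rw [IsScalarTower.algebraMap_apply A A' T, ← IsScalarTower.algebraMap_apply R A A',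
      ← IsScalarTower.algebraMap_apply]
  haveI : IsScalarTower R S T := .of_algebraMap_eq fun x => by
    rw [IsScalarTower.algebraMap_apply R A S, ← IsScalarTower.algebraMap_apply A S T,
      ← IsScalarTower.algebraMap_apply R A T]
  haveI : IsLocalization (Algebra.algebraMapSubmonoid A' (Submonoid.powers (a * f))) T := by
    rw [show Algebra.algebraMapSubmonoid A' (Submonoid.powers (a * f)) =
      Submonoid.powers (algebraMap A A' (a * f)) from Submonoid.map_powers _ _]
    infer_instance
  haveI hloc : Algebra.IsPushout A A' S T := Algebra.isPushout_of_isLocalization (Submonoid.powers (a * f)) S A' T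
  haveI : Algebra.IsPushout R A R' A' := Algebra.IsPushout.symm inferInstance
  haveI : Algebra.IsPushout R S R' T :=
    (Algebra.IsPushout.comp_iff (R := R) (S := A) (R' := R') (S' := A') (T := S) (T' := T)).2 hloc.symm
  have hT := (BaseChangeSeq.of_isPushout (A := R) (A' := R') (T := T) _ hreg hfl).1
  rw [List.map_map, ← RingHom.coe_comp, ← IsScalarTower.algebraMap_eq A S T] at hT
  refine KRLoc.genLoc_mk (algebraMap A A' (a * f)) (fun h => haf (hP' ▸ h)) T
    ⟨algebraMap A T ∘ g, CubeBase.acyc_of_isWeaklyRegular _ (by rwa [← List.map_ofFn]), ?_⟩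
  rw [Ideal.map_map, ← IsScalarTower.algebraMap_eq]
  refine KRDescent.map_span_eq_map g hg hgen (algebraMap A T) ?_
  rw [IsScalarTower.algebraMap_apply A S T]
  exact hu.2.map _

/-- Koszul-regular generation with flat quotient survives base change. -/
theorem genLoc_baseChange (I : Ideal A) (hI : I.FG) [Module.Flat R (A ⧸ I)] (P : Ideal A) [P.IsPrime]
    (hIP : I ≤ P) {s : ℕ} (hs : GenLoc s I P) {R' A' : Type u} [CommRing R'] [CommRing A'] [Algebra R R']
    [Algebra R A'] [Algebra R' A'] [Algebra A A'] [IsScalarTower R R' A'] [IsScalarTower R A A']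
    [Algebra.IsPushout R R' A A'] (P' : Ideal A') [P'.IsPrime] (hP' : P'.comap (algebraMap A A') = P) :
    ∃ r, GenLoc r (I.map (algebraMap A A')) P' := by
  obtain ⟨r, g, f, hf, hg, hgen, hrel⟩ := KRDescent.exists_min_gens I hI P
  exact ⟨r, (genLoc_baseChange_of_fib I P hIP g f hf hg hgen
    (fib_of_genLoc (R := R) I P hIP g f hf hg hgen hrel hs)).2 (R' := R') P' hP'⟩

omit [Algebra.FinitePresentation R A] [Module.Flat R A] in
/-- Flat quotients stay flat under base change. -/
theorem flat_quotient_baseChange (I : Ideal A) [Module.Flat R (A ⧸ I)] {R' A' : Type u} [CommRing R'] [CommRing A']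
    [Algebra R R'] [Algebra R A'] [Algebra R' A'] [Algebra A A'] [IsScalarTower R R' A'] [IsScalarTower R A A']
    [Algebra.IsPushout R R' A A'] : Module.Flat R' (A' ⧸ I.map (algebraMap A A')) := by
  let f : R' ⊗[R] A ≃ₐ[R'] A' := Algebra.IsPushout.equiv R R' A A'
  refine Module.Flat.of_linearEquiv
    ((Algebra.TensorProduct.tensorQuotientEquiv (R := R) R' A R' I).toLinearEquiv ≪≫ₗ
      (Ideal.quotientEquivAlg _ (I.map (algebraMap A A')) f ?_).toLinearEquiv).symm
  change _ = Ideal.map f.toRingHom (Ideal.map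
    (Algebra.TensorProduct.includeRight (R := R) (A := R') (B := A)).toRingHom I)
  rw [Ideal.map_map]
  congr 1
  ext x
  simp [f, Algebra.IsPushout.equiv_tmul]

omit [Algebra.FinitePresentation R A] [Module.Flat R A] in
/-- The quotient by an ideal of the base is a pushout. -/
theorem isPushout_quotient (p : Ideal R) :
    Algebra.IsPushout R (R ⧸ p) A (A ⧸ p.map (algebraMap R A)) := by
  refine Algebra.IsPushout.symm ⟨IsBaseChange.of_equiv
    (Algebra.TensorProduct.quotIdealMapEquivTensorQuot A p).symm.toLinearEquiv fun x => ?_⟩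
  obtain ⟨x, rfl⟩ := Ideal.Quotient.mk_surjective x
  change (Algebra.TensorProduct.quotIdealMapEquivTensorQuot A p).symm (1 ⊗ₜ Ideal.Quotient.mk p x) =
    Ideal.Quotient.mk _ (algebraMap R A x)
  rw [AlgEquiv.symm_apply_eq]
  rw [show (Ideal.Quotient.mk p x) = x • (1 : R ⧸ p) by
    rw [Algebra.smul_def, Ideal.Quotient.algebraMap_eq, mul_one], TensorProduct.tmul_smul]
  rw [← Ideal.Quotient.algebraMap_eq, AlgEquiv.commutes, Algebra.TensorProduct.algebraMap_apply,
    Algebra.algebraMap_self_apply, TensorProduct.smul_tmul', Algebra.smul_def, mul_one]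

omit [Module.Flat R A] in
/-- Koszul-regular generation over a point with values in a field gives regularity in the fibre. -/
theorem fib_of_point (I : Ideal A) [Module.Flat R (A ⧸ I)] (P : Ideal A) [P.IsPrime] (hIP : I ≤ P)
    {r : ℕ} (g : Fin r → A) (f : A) (hf : f ∉ P) (hg : ∀ i, g i ∈ I)
    (hgen : ∀ x ∈ I, f * x ∈ Ideal.span (Set.range g))
    (hrel : ∀ a : Fin r → A, ∑ i, a i * g i = 0 → ∀ i, a i ∈ P)
    (K : Type u) [Field K] [Algebra R K] {B : Type u} [CommRing B] [Algebra R B] [Algebra K B] [Algebra A B]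
    [IsScalarTower R K B] [IsScalarTower R A B] [Algebra.IsPushout R K A B] (Q : Ideal B) [Q.IsPrime]
    (hQ : Q.comap (algebraMap A B) = P) {s : ℕ} (hs : GenLoc s (I.map (algebraMap A B)) Q) :
    Fib (R := R) P g := by
  set p := P.under R with hpdef
  haveI : p.IsPrime := inferInstance
  have hker : ∀ x ∈ p, algebraMap R K x = 0 := fun x hx => by
    by_contra hne
    apply (inferInstance : Q.IsPrime).ne_top
    refine Ideal.eq_top_of_isUnit_mem _ (x := algebraMap R B x) ?_ ?_
    · rw [IsScalarTower.algebraMap_apply R A B, ← Ideal.mem_comap, hQ]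
      exact hx
    · rw [IsScalarTower.algebraMap_apply R K B]
      exact (Ne.isUnit hne).map _
  have hker' : ∀ x, algebraMap R K x = 0 → x ∈ p := fun x hx => by
    change algebraMap R A x ∈ P
    rw [← hQ, Ideal.mem_comap, ← IsScalarTower.algebraMap_apply, IsScalarTower.algebraMap_apply R K B, hx, map_zero]
    exact zero_mem _
  set pA := p.map (algebraMap R A) with hpA
  letI : Algebra (R ⧸ p) K := (Ideal.Quotient.lift p (algebraMap R K) hker).toAlgebra
  haveI : IsScalarTower R (R ⧸ p) K := .of_algebraMap_eq fun _ => rfl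
  have hkB : ∀ a ∈ pA, algebraMap A B a = 0 := fun a ha => by
    have h1 : pA ≤ RingHom.ker (algebraMap A B) := Ideal.map_le_iff_le_comap.2 fun x hx => by
      rw [Ideal.mem_comap, RingHom.mem_ker, ← IsScalarTower.algebraMap_apply,
        IsScalarTower.algebraMap_apply R K B, hker x hx, map_zero]
    exact h1 ha
  letI : Algebra (A ⧸ pA) B := (Ideal.Quotient.lift pA (algebraMap A B) hkB).toAlgebra
  haveI : IsScalarTower A (A ⧸ pA) B := .of_algebraMap_eq fun _ => rfl
  haveI : IsScalarTower R (A ⧸ pA) B := .of_algebraMap_eq fun x => by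
    rw [IsScalarTower.algebraMap_apply R A B]; rfl
  letI : Algebra (R ⧸ p) B := ((algebraMap K B).comp (algebraMap (R ⧸ p) K)).toAlgebra
  haveI : IsScalarTower (R ⧸ p) K B := .of_algebraMap_eq fun _ => rfl
  haveI : IsScalarTower (R ⧸ p) (A ⧸ pA) B := .of_algebraMap_eq fun x => by
    obtain ⟨x, rfl⟩ := Ideal.Quotient.mk_surjective x
    change algebraMap K B (algebraMap R K x) = algebraMap A B (algebraMap R A x)
    rw [← IsScalarTower.algebraMap_apply, ← IsScalarTower.algebraMap_apply]
  -- the fibre point is flat over the quotient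
  haveI hq := isPushout_quotient (A := A) p
  haveI hb : Algebra.IsPushout (R ⧸ p) K (A ⧸ pA) B :=
    (Algebra.IsPushout.comp_iff (R := R) (S := R ⧸ p) (R' := A) (S' := A ⧸ pA) (T := K) (T' := B)).1 inferInstance
  haveI : Module.Flat (R ⧸ p) K := by
    haveI : IsDomain (R ⧸ p) := Ideal.Quotient.isDomain p
    have hinj : Function.Injective (algebraMap (R ⧸ p) K) := by
      rw [injective_iff_map_eq_zero]
      intro x hx
      obtain ⟨x, rfl⟩ := Ideal.Quotient.mk_surjective x
      exact Ideal.Quotient.eq_zero_iff_mem.2 (hker' x hx)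
    haveI : FaithfulSMul (R ⧸ p) K := (faithfulSMul_iff_algebraMap_injective _ _).2 hinj
    letI := FractionRing.liftAlgebra (R ⧸ p) K
    haveI : Module.Flat (R ⧸ p) (FractionRing (R ⧸ p)) := IsLocalization.flat _ (nonZeroDivisors (R ⧸ p))
    exact Module.Flat.trans (R ⧸ p) (FractionRing (R ⧸ p)) K
  haveI hflatB : Module.Flat (A ⧸ pA) B :=
    Module.Flat.isBaseChange (R := R ⧸ p) (S := A ⧸ pA) (M := K) B hb.symm.out
  -- the generators upstairs
  let P₀ := Q.comap (algebraMap (A ⧸ pA) B)
  have hP₀ : ∀ x, Ideal.Quotient.mk pA x ∈ P₀ ↔ x ∈ P := fun x => by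
    conv_rhs => rw [← hQ]
    exact Iff.rfl
  let M := Localization.AtPrime Q
  haveI : Module.Flat B M := IsLocalization.flat M Q.primeCompl
  haveI : Module.Flat (A ⧸ pA) M := Module.Flat.trans (A ⧸ pA) B M
  let gb : Fin r → A ⧸ pA := fun i => Ideal.Quotient.mk pA (g i)
  have hrelb : ∀ c : Fin r → A ⧸ pA, ∑ i, c i * gb i = 0 → ∀ i, c i ∈ P₀ := by
    intro c hc i
    choose c' hc' using fun i => Ideal.Quotient.mk_surjective (c i)
    have hy : ∑ i, c' i * g i ∈ pA := by
      rw [← Ideal.Quotient.eq_zero_iff_mem, map_sum, ← hc]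
      exact Finset.sum_congr rfl fun i _ => by rw [map_mul, hc']
    have hyI : ∑ i, c' i * g i ∈ I := Ideal.sum_mem _ fun i _ => Ideal.mul_mem_left _ _ (hg i)
    have h1 : f * (∑ i, c' i * g i) ∈ pA * Ideal.span (Set.range g) := by
      refine Submodule.mul_induction_on (CritLocal.mem_mul_of_flat I p hyI hy) (fun a ha x hx => ?_) ?_
      · rw [mul_left_comm]
        exact Ideal.mul_mem_mul ha (hgen x hx)
      · intro x y hx hy
        rw [mul_add]
        exact add_mem hx hy
    obtain ⟨d, hd, hds⟩ := exists_coeff pA g h1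
    have h2 := hrel (fun i => f * c' i - d i)
      (by simp [sub_mul, Finset.sum_sub_distrib, hds, Finset.mul_sum, mul_assoc]) i
    rw [← hc' i, hP₀]
    have h3 : d i ∈ P := (Ideal.map_le_iff_le_comap.2 le_rfl : pA ≤ P) (hd i)
    have h4 : f * c' i ∈ P := by simpa using add_mem h2 h3
    exact (Ideal.IsPrime.mem_or_mem ‹_› h4).resolve_left hf
  obtain ⟨g₀, hg₀, hgen₀⟩ := hs
  obtain ⟨h, hh, e⟩ := KRLoc.gen_of_isUnit g₀ (Localization.Away g₀) hgen₀ M
    (IsLocalization.map_units M (⟨g₀, hg₀⟩ : Q.primeCompl))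
  let G : Fin r → M := algebraMap B M ∘ algebraMap (A ⧸ pA) B ∘ gb
  have hfQ : algebraMap A B f ∉ Q := fun h => hf (hQ ▸ h)
  have eI : (I.map (algebraMap A B)).map (algebraMap B M) = Ideal.span (Set.range G) := by
    rw [Ideal.map_map]
    exact KRDescent.map_span_eq_map g hg hgen ((algebraMap B M).comp (algebraMap A B))
      (IsLocalization.map_units M (⟨_, hfQ⟩ : Q.primeCompl))
  have hne : Ideal.span (Set.range G) ≠ ⊤ := fun ht => by
    have h1 : (I.map (algebraMap A B)).map (algebraMap B M) ≤ IsLocalRing.maximalIdeal M := by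
      rw [← Localization.AtPrime.map_eq_maximalIdeal]
      exact Ideal.map_mono (Ideal.map_le_iff_le_comap.2 (hQ ▸ hIP))
    rw [eI, ht] at h1
    exact (IsLocalRing.maximalIdeal.isMaximal M).ne_top (top_le_iff.1 h1)
  have hG : Acyc G := acyc_min G h hh (eI.symm.trans e) hne fun c hc i =>
    min_of_flat gb P₀ _ (fun x hx => by
      rw [IsScalarTower.algebraMap_apply (A ⧸ pA) B M]
      exact (IsLocalization.AtPrime.to_map_mem_maximal_iff M Q _).2 hx) hrelb c (by
        rw [← hc]
        refine Finset.sum_congr rfl fun i _ => ?_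
        rw [IsScalarTower.algebraMap_apply (A ⧸ pA) B M]
        rfl) i
  have hG₀ := (KRDescent.acyc_localization_iff gb Q).1 hG
  -- the fibre local ring is the localisation of the quotient
  let L := Localization.AtPrime P
  let J := pA.map (algebraMap A L)
  have hM : Algebra.algebraMapSubmonoid (A ⧸ pA) P.primeCompl = P₀.primeCompl := by
    ext z
    constructor
    · rintro ⟨c, hc, rfl⟩
      exact fun hz => hc ((hP₀ c).mp hz)
    · intro hz
      obtain ⟨c, rfl⟩ := Ideal.Quotient.mk_surjective z
      exact ⟨c, fun hc => hz ((hP₀ c).mpr hc), rfl⟩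
  haveI : IsLocalization.AtPrime (L ⧸ J) P₀ := by
    have : IsLocalization (Algebra.algebraMapSubmonoid (A ⧸ pA) P.primeCompl) (L ⧸ J) := inferInstance
    rwa [hM] at this
  let ε := IsLocalization.algEquiv P₀.primeCompl (Localization.AtPrime P₀) (L ⧸ J)
  have hJ : J = p.map (algebraMap R L) := by
    rw [hpA] at *
    exact (Ideal.map_map _ _).trans (congrArg (Ideal.map · p) (IsScalarTower.algebraMap_eq R A L).symm)
  let ρ : Localization.AtPrime P₀ →+* LF (R := R) P :=
    (Ideal.quotEquivOfEq hJ).toRingHom.comp ε.toRingEquiv.toRingHom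
  have hρ := CubeBase.acyc_flat_ringHom ρ
    (RingHom.Flat.of_bijective ((Ideal.quotEquivOfEq hJ).bijective.comp ε.toRingEquiv.bijective)) _ hG₀
  have hfun : ρ ∘ (algebraMap (A ⧸ pA) (Localization.AtPrime P₀) ∘ gb) =
      fun i => Ideal.Quotient.mk (p.map (algebraMap R L)) (algebraMap A L (g i)) := funext fun i => by
    change Ideal.quotEquivOfEq hJ (ε (algebraMap _ _ (Ideal.Quotient.mk pA (g i)))) = _
    rw [AlgEquiv.commutes]
    rfl
  exact fib_of_triv P g (fun i => hIP (hg i)) (KoszulH1.isTriv_of_acyc (hfun ▸ hρ))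

omit [Module.Flat R A] [Algebra.FinitePresentation R A] in
/-- A prime in the fibre over a prime. -/
theorem exists_fibre_point (P : Ideal A) [P.IsPrime] :
    ∃ Q : PrimeSpectrum ((P.under R).Fiber A),
      Q.asIdeal.comap (Algebra.TensorProduct.includeRight (R := R) (A := (P.under R).ResidueField)
        (B := A)).toRingHom = P :=
  ⟨_, H20.FibreDimBC.comap_fibrePoint P⟩

/-- **Koszul-regular generation with flat quotient can be tested after any base change.** -/
theorem genLoc_iff (I : Ideal A) (hI : I.FG) [Module.Flat R (A ⧸ I)] (P : Ideal A) [P.IsPrime]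
    (hIP : I ≤ P) {R' A' : Type u} [CommRing R'] [CommRing A'] [Algebra R R'] [Algebra R A'] [Algebra R' A']
    [Algebra A A'] [IsScalarTower R R' A'] [IsScalarTower R A A'] [Algebra.IsPushout R R' A A']
    (P' : Ideal A') [P'.IsPrime] (hP' : P'.comap (algebraMap A A') = P) :
    (∃ r, GenLoc r (I.map (algebraMap A A')) P') ↔ ∃ r, GenLoc r I P := by
  refine ⟨fun ⟨s, hs⟩ => ?_, fun ⟨s, hs⟩ => genLoc_baseChange (R := R) (R' := R') I hI P hIP hs P' hP'⟩
  haveI : Module.Flat R' A' := Module.Flat.isBaseChange (R := R) (S := R') (M := A) A'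
    (Algebra.IsPushout.out (R := R) (S := R') (R' := A) (S' := A'))
  haveI : Algebra.FinitePresentation R' A' :=
    Algebra.FinitePresentation.equiv (Algebra.IsPushout.equiv R R' A A')
  haveI := flat_quotient_baseChange (R := R) I (R' := R') (A' := A')
  obtain ⟨Q, hQ⟩ := exists_fibre_point (R := R') P'
  let K := (P'.under R').ResidueField
  let B := (P'.under R').Fiber A'
  letI : Algebra A' B := (Algebra.TensorProduct.includeRight (R := R') (A := K) (B := A')).toRingHom.toAlgebra
  haveI : IsScalarTower R' A' B := .of_algebraMap_eq fun x =>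
    ((Algebra.TensorProduct.includeRight (R := R') (A := K) (B := A')).commutes x).symm
  haveI : Algebra.IsPushout R' K A' B := by infer_instance
  obtain ⟨t, ht⟩ := genLoc_baseChange (R := R') (R' := K) (A' := B) (I.map (algebraMap A A'))
    (hI.map _) P' (Ideal.map_le_iff_le_comap.2 (hP' ▸ hIP)) hs Q.asIdeal hQ
  haveI : IsScalarTower R R' K := inferInstance
  letI : Algebra A B := ((algebraMap A' B).comp (algebraMap A A')).toAlgebra
  haveI : IsScalarTower A A' B := .of_algebraMap_eq fun _ => rfl
  haveI : IsScalarTower R K B := inferInstance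
  haveI : IsScalarTower R R' B := .of_algebraMap_eq fun x => by
    rw [IsScalarTower.algebraMap_apply R K B, IsScalarTower.algebraMap_apply R R' K,
      ← IsScalarTower.algebraMap_apply R' K B]
  haveI : IsScalarTower R A' B := .of_algebraMap_eq fun x => by
    rw [IsScalarTower.algebraMap_apply R R' B, IsScalarTower.algebraMap_apply R R' A',
      ← IsScalarTower.algebraMap_apply R' A' B]
  haveI : IsScalarTower R A B := .of_algebraMap_eq fun x => by
    rw [IsScalarTower.algebraMap_apply R A' B, IsScalarTower.algebraMap_apply R A A',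
      ← IsScalarTower.algebraMap_apply A A' B]
  haveI : Algebra.IsPushout R K A B :=
    (Algebra.IsPushout.comp_iff (R := R) (S := R') (R' := A) (S' := A') (T := K) (T' := B)).2 inferInstance
  obtain ⟨r, g, f, hf, hg, hgen, hrel⟩ := KRDescent.exists_min_gens I hI P
  have hQP : Q.asIdeal.comap (algebraMap A B) = P := by
    rw [IsScalarTower.algebraMap_eq A A' B, ← Ideal.comap_comap]
    exact (congrArg (Ideal.comap (algebraMap A A')) hQ).trans hP'
  rw [Ideal.map_map, ← IsScalarTower.algebraMap_eq] at ht
  exact ⟨r, (genLoc_baseChange_of_fib I P hIP g f hf hg hgen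
    (fib_of_point (R := R) I P hIP g f hf hg hgen hrel K Q.asIdeal hQP ht)).1⟩

end

end Groth.Agent.H68.KoszulBC
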