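import Groth.Agent.H68.KoszulBC
import Groth.Agent.H68.LCIBridge
import Groth.Agent.Lib.Synt92.LciScheme
import Mathlib.AlgebraicGeometry.Morphisms.Flat
import Mathlib.AlgebraicGeometry.PullbackCarrier

/-!
# The Koszul locus of a morphism of flat schemes and base change
-/

set_option autoImplicit false
set_option linter.style.haveILetI false

universe u

open CategoryTheory CategoryTheory.Limits AlgebraicGeometry
open Groth.Agent.Lib Groth.Agent.Lib.Synt92
open scoped TensorProduct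

namespace Groth.Agent.H68.KoszulBCScheme

/-- Koszul at a point, read on an affine chart through a smooth algebra. -/
theorem isKoszulAt_iff {X Y : Scheme.{u}} (f : X ⟶ Y) [LocallyOfFiniteType f] {B A C : CommRingCat.{u}}
    (β : B ⟶ A) (hβ : β.hom.Smooth) (φ : A ⟶ C) (hφ : Function.Surjective φ.hom)
    (o : Spec C ⟶ X) [IsOpenImmersion o] (v : Spec B ⟶ Y) [IsOpenImmersion v]
    (w : o ≫ f = Spec.map (β ≫ φ) ≫ v) (q : Spec C) :
    Synt.IsKoszulAt f (o q) ↔ ∃ n, KRLoc.GenLoc n (RingHom.ker φ.hom) (q.asIdeal.comap φ.hom) := by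
  haveI : IsClosedImmersion (Spec.map φ) := IsClosedImmersion.spec_of_surjective φ hφ
  haveI : Smooth (Spec.map β) := by
    rw [HasRingHomProperty.Spec_iff (P := @Smooth)]
    exact hβ
  let π : Spec A ⟶ Y := Spec.map β ≫ v
  haveI : Smooth π := inferInstance
  have hfac : Spec.map φ ≫ π = o ≫ f := by
    rw [w, Spec.map_comp, Category.assoc]
  constructor
  · intro h
    obtain ⟨m, hm⟩ := KRMor.exists_atN_of_koszulAt' f o π (Spec.map φ) hfac q h
    exact ⟨m, (KRSpec.atN_specMap_iff φ hφ q m).1 hm⟩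
  · rintro ⟨n, hn⟩
    obtain ⟨U, hU, hcl, rs, hlen, hrs, hker⟩ := (KRSpec.atN_specMap_iff φ hφ q n).2 hn
    let W : (Spec C).Opens := (Spec.map φ) ⁻¹ᵁ U.1
    let k : (W : Scheme.{u}) ⟶ X := W.ι ≫ o
    let w₀ : (W : Scheme.{u}) := ⟨q, hU⟩
    haveI : LocallyOfFiniteType (k ≫ f) := inferInstance
    refine LciScheme.isKoszulAt_of_openImmersion k f w₀ ?_
    let e : ((⊤ : (W : Scheme.{u}).Opens) : Scheme.{u}) ⟶ Spec C :=
      (⊤ : (W : Scheme.{u}).Opens).ι ≫ W.ι
    haveI : IsOpenImmersion e := inferInstance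
    refine ⟨⊤, Spec A, e ≫ Spec.map φ, π, trivial, inferInstance,
      (KRImm.isRegularImmersion_iff _).2 ⟨inferInstance, fun z => ⟨n, ?_⟩⟩, inferInstance, ?_⟩
    · exact (KRMor.atN_openImmersion_iff (Spec.map φ) e z n).2
        ⟨U, z.1.2, hcl, rs, hlen, hrs, hker⟩
    · simp only [e, k, Category.assoc, hfac]

/-- The affine chart of a base change. -/
theorem exists_lift_chart {X S X' S' : Scheme.{u}} (p : X ⟶ S) (h : S' ⟶ S) (gX : X' ⟶ X) (p' : X' ⟶ S')
    (hX : IsPullback gX p' p h) (R R' C : Type u) [CommRing R] [CommRing R'] [CommRing C] [Algebra R R'] [Algebra R C]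
    (o : Spec (CommRingCat.of C) ⟶ X) [IsOpenImmersion o] (e : Spec (CommRingCat.of R) ⟶ S) [IsOpenImmersion e]
    (e' : Spec (CommRingCat.of R') ⟶ S') [IsOpenImmersion e']
    (he : Spec.map (CommRingCat.ofHom (algebraMap R R')) ≫ e = e' ≫ h)
    (ho : Spec.map (CommRingCat.ofHom (algebraMap R C)) ≫ e = o ≫ p) :
    ∃ o' : Spec (CommRingCat.of (R' ⊗[R] C)) ⟶ X', IsOpenImmersion o' ∧
      o' ≫ gX = Spec.map (CommRingCat.ofHom
        (Algebra.TensorProduct.includeRight (R := R) (A := R') (B := C)).toRingHom) ≫ o ∧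
      o' ≫ p' = Spec.map (CommRingCat.ofHom (algebraMap R' (R' ⊗[R] C))) ≫ e' ∧
      ∀ x' : X', gX x' ∈ Set.range o → p' x' ∈ Set.range e' → x' ∈ Set.range o' := by
  let m := pullback.map _ _ h p e' o e he ho
  let o' := (pullbackSpecIso R R' C).inv ≫ m ≫ hX.flip.isoPullback.inv
  refine ⟨o', inferInstance, ?_, ?_, fun x' hx hp => ?_⟩
  · simp only [o', Category.assoc, IsPullback.isoPullback_inv_snd, m, pullback.lift_snd]
    rw [← Category.assoc, pullbackSpecIso_inv_snd]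
    rfl
  · simp only [o', Category.assoc, IsPullback.isoPullback_inv_fst, m, pullback.lift_fst]
    rw [← Category.assoc, pullbackSpecIso_inv_fst']
  · have h1 : hX.flip.isoPullback.hom x' ∈ Set.range m := by
      rw [Scheme.Pullback.range_map]
      refine ⟨?_, ?_⟩
      · rw [Set.mem_preimage, ← Scheme.Hom.comp_apply, IsPullback.isoPullback_hom_fst]
        exact hp
      · rw [Set.mem_preimage, ← Scheme.Hom.comp_apply, IsPullback.isoPullback_hom_snd]
        exact hx
    obtain ⟨t, ht⟩ := h1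
    refine ⟨(pullbackSpecIso R R' C).hom t, ?_⟩
    change ((pullbackSpecIso R R' C).hom ≫ o') t = x'
    rw [show (pullbackSpecIso R R' C).hom ≫ o' = m ≫ hX.flip.isoPullback.inv by simp [o'],
      Scheme.Hom.comp_apply, ht, ← Scheme.Hom.comp_apply, Iso.hom_inv_id]
    rfl

/-- The base change of a smooth algebra map. -/
theorem smooth_map {R R' B A : Type u} [CommRing R] [CommRing R'] [CommRing B] [CommRing A] [Algebra R R']
    [Algebra R B] [Algebra R A] [Algebra B A] [IsScalarTower R B A] [Algebra.Smooth B A] :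
    (Algebra.TensorProduct.map (AlgHom.id R' R') (IsScalarTower.toAlgHom R B A)).toRingHom.Smooth := by
  set β := Algebra.TensorProduct.map (AlgHom.id R' R') (IsScalarTower.toAlgHom R B A)
  letI : Algebra B (R' ⊗[R] B) := Algebra.TensorProduct.rightAlgebra
  letI : Algebra (R' ⊗[R] B) (R' ⊗[R] A) := β.toRingHom.toAlgebra
  letI : Algebra B (R' ⊗[R] A) := (β.toRingHom.comp (algebraMap B (R' ⊗[R] B))).toAlgebra
  letI : Algebra A (R' ⊗[R] A) := Algebra.TensorProduct.rightAlgebra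
  haveI : IsScalarTower B (R' ⊗[R] B) (R' ⊗[R] A) := .of_algebraMap_eq fun _ => rfl
  haveI : IsScalarTower B A (R' ⊗[R] A) := .of_algebraMap_eq fun b => by
    change β ((1 : R') ⊗ₜ b) = (1 : R') ⊗ₜ algebraMap B A b
    simp [β]
  haveI : IsScalarTower R' (R' ⊗[R] B) (R' ⊗[R] A) := .of_algebraMap_eq fun r => (β.commutes r).symm
  haveI : IsScalarTower R (R' ⊗[R] B) (R' ⊗[R] A) := .of_algebraMap_eq fun r => by
    rw [IsScalarTower.algebraMap_apply R R' (R' ⊗[R] A), IsScalarTower.algebraMap_apply R R' (R' ⊗[R] B),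
      ← IsScalarTower.algebraMap_apply R' (R' ⊗[R] B) (R' ⊗[R] A)]
  haveI : IsScalarTower R B (R' ⊗[R] B) := .of_algebraMap_eq fun r =>
    ((Algebra.TensorProduct.includeRight (R := R) (A := R') (B := B)).commutes r).symm
  haveI : IsScalarTower R A (R' ⊗[R] A) := .of_algebraMap_eq fun r =>
    ((Algebra.TensorProduct.includeRight (R := R) (A := R') (B := A)).commutes r).symm
  haveI : Algebra.IsPushout R B R' (R' ⊗[R] B) := TensorProduct.isPushout'
  haveI hA : Algebra.IsPushout R A R' (R' ⊗[R] A) := TensorProduct.isPushout'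
  haveI : Algebra.IsPushout B A (R' ⊗[R] B) (R' ⊗[R] A) :=
    (Algebra.IsPushout.comp_iff (R := R) (S := B) (R' := R') (S' := R' ⊗[R] B) (T := A) (T' := R' ⊗[R] A)).1 hA
  haveI : Algebra.IsPushout B (R' ⊗[R] B) A (R' ⊗[R] A) := Algebra.IsPushout.symm inferInstance
  haveI : Algebra.Smooth (R' ⊗[R] B) (R' ⊗[R] A) :=
    Algebra.Smooth.of_equiv (Algebra.IsPushout.equiv B (R' ⊗[R] B) A (R' ⊗[R] A))
  exact RingHom.smooth_algebraMap.2 ‹_›

variable {X Y S : Scheme.{u}} (f : X ⟶ Y) (g : Y ⟶ S)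
  [Flat (f ≫ g)] [LocallyOfFinitePresentation (f ≫ g)] [Flat g] [LocallyOfFinitePresentation g]

include g in
/-- The Koszul condition at a point can be tested after any base change. -/
theorem isKoszulAt_baseChange_iff {X' Y' S' : Scheme.{u}} (h : S' ⟶ S) (gY : Y' ⟶ Y) (g' : Y' ⟶ S')
    (hY : IsPullback gY g' g h) (gX : X' ⟶ X) (f' : X' ⟶ Y') (hX : IsPullback gX (f' ≫ g') (f ≫ g) h)
    (w : gX ≫ f = f' ≫ gY) [LocallyOfFiniteType f] [LocallyOfFiniteType f'] (x' : X') :
    Synt.IsKoszulAt f' x' ↔ Synt.IsKoszulAt f (gX x') := by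
  have hsx : g (f (gX x')) = h ((f' ≫ g') x') := by
    rw [← Scheme.Hom.comp_apply f g, ← Scheme.Hom.comp_apply, hX.w, Scheme.Hom.comp_apply]
  -- affine charts
  obtain ⟨W, hW, hsW, -⟩ := exists_isAffineOpen_mem_and_subset (X := S) (x := g (f (gX x'))) (U := ⊤) trivial
  obtain ⟨W', hW', hs'W, hWW'⟩ := exists_isAffineOpen_mem_and_subset (x := (f' ≫ g') x') (U := h ⁻¹ᵁ W)
    (hsx ▸ hsW : h ((f' ≫ g') x') ∈ W)
  obtain ⟨V, hV, hyV, hVW⟩ := exists_isAffineOpen_mem_and_subset (x := f (gX x')) (U := g ⁻¹ᵁ W) hsW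
  obtain ⟨U, hU, hxU, hUV⟩ := exists_isAffineOpen_mem_and_subset (x := gX x') (U := f ⁻¹ᵁ V) hyV
  replace hWW' : W' ≤ h ⁻¹ᵁ W := hWW'
  replace hVW : V ≤ g ⁻¹ᵁ W := hVW
  replace hUV : U ≤ f ⁻¹ᵁ V := hUV
  have hUW : U ≤ (f ≫ g) ⁻¹ᵁ W := fun z hz => hVW (hUV hz)
  let R := Γ(S, W); let R' := Γ(S', W'); let B := Γ(Y, V); let C := Γ(X, U)
  letI : Algebra R R' := (h.appLE W W' hWW').hom.toAlgebra
  letI : Algebra R B := (g.appLE W V hVW).hom.toAlgebra
  letI : Algebra R C := ((f ≫ g).appLE W U hUW).hom.toAlgebra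
  letI : Algebra B C := (f.appLE V U hUV).hom.toAlgebra
  haveI : IsScalarTower R B C := .of_algebraMap_eq fun r => by
    exact (congr($(Scheme.Hom.appLE_comp_appLE f g W V U hVW hUV) r)).symm
  haveI : Module.Flat R B := HasRingHomProperty.appLE @Flat g inferInstance ⟨W, hW⟩ ⟨V, hV⟩ hVW
  haveI : Module.Flat R C := HasRingHomProperty.appLE @Flat (f ≫ g) inferInstance ⟨W, hW⟩ ⟨U, hU⟩ hUW
  haveI : Algebra.FinitePresentation R B :=
    HasRingHomProperty.appLE @LocallyOfFinitePresentation g inferInstance ⟨W, hW⟩ ⟨V, hV⟩ hVW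
  haveI : Algebra.FinitePresentation R C :=
    HasRingHomProperty.appLE @LocallyOfFinitePresentation (f ≫ g) inferInstance ⟨W, hW⟩ ⟨U, hU⟩ hUW
  haveI : Algebra.FiniteType B C := Algebra.FiniteType.of_restrictScalars_finiteType R B C
  obtain ⟨n, φ, hφ⟩ := Algebra.FiniteType.iff_quotient_mvPolynomial''.1 (inferInstance : Algebra.FiniteType B C)
  let A := MvPolynomial (Fin n) B
  haveI : Algebra.Smooth B A := ⟨inferInstance, inferInstance⟩
  haveI : Algebra.FinitePresentation R A := Algebra.FinitePresentation.trans R B A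
  haveI : Module.Flat R A := Module.Flat.trans R B A
  let φR : A →ₐ[R] C := φ.restrictScalars R
  have hI : (RingHom.ker φR).FG := Algebra.FinitePresentation.ker_fG_of_surjective φR hφ
  haveI : Module.Flat R (A ⧸ RingHom.ker φR) :=
    Module.Flat.of_linearEquiv (Ideal.quotientKerAlgEquivOfSurjective (f := φR) hφ).toLinearEquiv
  let βR : B →ₐ[R] A := IsScalarTower.toAlgHom R B A
  let βR' := Algebra.TensorProduct.map (AlgHom.id R' R') βR
  let φR' := Algebra.TensorProduct.map (AlgHom.id R' R') φR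
  -- the charts upstairs
  have he : Spec.map (CommRingCat.ofHom (algebraMap R R')) ≫ hW.fromSpec = hW'.fromSpec ≫ h :=
    hW.SpecMap_appLE_fromSpec h hW' hWW'
  have hoX : Spec.map (CommRingCat.ofHom (algebraMap R C)) ≫ hW.fromSpec = hU.fromSpec ≫ f ≫ g :=
    hW.SpecMap_appLE_fromSpec (f ≫ g) hU hUW
  have hoY : Spec.map (CommRingCat.ofHom (algebraMap R B)) ≫ hW.fromSpec = hV.fromSpec ≫ g :=
    hW.SpecMap_appLE_fromSpec g hV hVW
  obtain ⟨oX, hoXi, hoX1, hoX2, hoX3⟩ := exists_lift_chart (f ≫ g) h gX (f' ≫ g') hX R R' C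
    hU.fromSpec hW.fromSpec hW'.fromSpec he hoX
  obtain ⟨oY, hoYi, hoY1, hoY2, -⟩ := exists_lift_chart g h gY g' hY R R' B
    hV.fromSpec hW.fromSpec hW'.fromSpec he hoY
  let βc : CommRingCat.of B ⟶ CommRingCat.of A := CommRingCat.ofHom (algebraMap B A)
  let φc : CommRingCat.of A ⟶ CommRingCat.of C := CommRingCat.ofHom φ.toRingHom
  let βc' : CommRingCat.of (R' ⊗[R] B) ⟶ CommRingCat.of (R' ⊗[R] A) := CommRingCat.ofHom βR'.toRingHom
  let φc' : CommRingCat.of (R' ⊗[R] A) ⟶ CommRingCat.of (R' ⊗[R] C) := CommRingCat.ofHom φR'.toRingHom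
  have hw : hU.fromSpec ≫ f = Spec.map (βc ≫ φc) ≫ hV.fromSpec := by
    rw [← hV.SpecMap_appLE_fromSpec f hU hUV]
    congr 2
    exact CommRingCat.hom_ext (RingHom.ext fun b => (φ.commutes b).symm)
  have hw' : oX ≫ f' = Spec.map (βc' ≫ φc') ≫ oY := by
    refine hY.hom_ext ?_ ?_
    · rw [Category.assoc, ← w, reassoc_of% hoX1, hw, Category.assoc, hoY1, ← Spec.map_comp_assoc,
        ← Spec.map_comp_assoc]
      congr 2
    · rw [Category.assoc, hoX2, Category.assoc, hoY2, ← Spec.map_comp_assoc]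
      congr 2
      refine CommRingCat.hom_ext (RingHom.ext fun r => ?_)
      change algebraMap R' (R' ⊗[R] C) r = φR' (βR' (algebraMap R' _ r))
      rw [AlgHom.commutes, AlgHom.commutes]
  obtain ⟨q', hq'⟩ : x' ∈ Set.range oX := hoX3 x' (by rw [IsAffineOpen.range_fromSpec]; exact hxU)
    (by rw [IsAffineOpen.range_fromSpec]; exact hs'W)
  let q : Spec (CommRingCat.of C) := Spec.map (CommRingCat.ofHom
    (Algebra.TensorProduct.includeRight (R := R) (A := R') (B := C)).toRingHom) q'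
  have hq : hU.fromSpec q = gX x' := by
    rw [← hq', ← Scheme.Hom.comp_apply oX gX, hoX1, Scheme.Hom.comp_apply]
  haveI := hoXi
  haveI := hoYi
  rw [← hq, ← hq', isKoszulAt_iff f' βc' smooth_map φc'
    (Algebra.TensorProduct.map_surjective _ _ Function.surjective_id hφ) oX oY hw' q',
    isKoszulAt_iff f βc (RingHom.smooth_algebraMap.2 ‹_›) φc hφ hU.fromSpec hV.fromSpec hw q]
  letI : Algebra A (R' ⊗[R] A) := Algebra.TensorProduct.rightAlgebra
  haveI : IsScalarTower R A (R' ⊗[R] A) := .of_algebraMap_eq fun r =>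
    ((Algebra.TensorProduct.includeRight (R := R) (A := R') (B := A)).commutes r).symm
  haveI : Algebra.IsPushout R R' A (R' ⊗[R] A) := TensorProduct.isPushout
  have hk : RingHom.ker φc'.hom = (RingHom.ker φc.hom).map (algebraMap A (R' ⊗[R] A)) :=
    Algebra.TensorProduct.lTensor_ker (A := R') φR hφ
  rw [hk]
  refine KoszulBC.genLoc_iff (R := R) (R' := R') (RingHom.ker φR) hI (q.asIdeal.comap φc.hom)
    (fun a (ha : φ a = 0) => by
      change φ a ∈ q.asIdeal
      rw [ha]; exact zero_mem _)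
    (q'.asIdeal.comap φc'.hom) ?_
  refine Ideal.ext fun a => ?_
  change φR' ((1 : R') ⊗ₜ a) ∈ q'.asIdeal ↔ (1 : R') ⊗ₜ[R] φ a ∈ q'.asIdeal
  simp [φR', φR]

end Groth.Agent.H68.KoszulBCScheme
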