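import Groth.Agent.Lib.Flat55.Slicing
import Mathlib.RingTheory.Regular.RegularSequence
import Mathlib.RingTheory.Localization.Ideal
import Mathlib.RingTheory.Regular.Flat

/-!
# Spreading out a regular sequence of a fibre with flat quotients, without Noetherian hypotheses
-/

set_option autoImplicit false

universe u

open RingTheory.Sequence Pointwise

namespace Groth.Agent.H68.KoszulSpread

/-- An element regular in the fibre is regular with flat cokernel nearby. -/
theorem stepNhd {R C : Type u} [CommRing R] [CommRing C] [Algebra R C] [Algebra.FinitePresentation R C]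
    (P : Ideal C) [P.IsPrime] (p : Ideal R) (hp : P.comap (algebraMap R C) = p)
    (C' : Type u) [CommRing C'] [Algebra C C'] [Algebra R C'] [IsScalarTower R C C']
    [IsLocalization.AtPrime C' P] [Module.Flat R C'] (h : C) (hP : h ∈ P)
    (hreg : IsSMulRegular (C' ⧸ p.map (algebraMap R C')) (algebraMap C C' h)) :
    ∃ a ∉ P, ∀ (S : Type u) [CommRing S] [Algebra C S] [Algebra R S] [IsScalarTower R C S] [Module.Flat C S],
      IsUnit (algebraMap C S a) → IsSMulRegular S (algebraMap C S h) ∧
        Module.Flat R (S ⧸ Ideal.span {algebraMap C S h}) := by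
  subst hp
  set p := P.comap (algebraMap R C)
  let R' := Localization.AtPrime p
  have hu : ∀ s : p.primeCompl, IsUnit (algebraMap R C' s.1) := fun s => by
    rw [IsScalarTower.algebraMap_apply R C C']
    exact IsLocalization.map_units C' (⟨algebraMap R C s.1, s.2⟩ : P.primeCompl)
  let φ : R' →+* C' := IsLocalization.lift hu
  have hφ : ∀ r, φ (algebraMap R R' r) = algebraMap R C' r := IsLocalization.lift_eq hu
  letI := φ.toAlgebra
  haveI : IsScalarTower R R' C' := .of_algebraMap_eq fun r => (hφ r).symm
  have := IsLocalization.AtPrime.isLocalRing C' P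
  haveI : IsLocalHom (algebraMap R' C') := by
    refine ⟨fun x hx => ?_⟩
    obtain ⟨r, s, rfl⟩ := IsLocalization.exists_mk'_eq p.primeCompl x
    rw [IsLocalization.AtPrime.isUnit_mk'_iff R' p]
    intro hr
    have h1 : IsUnit (algebraMap C C' (algebraMap R C r)) := by
      have h2 : φ (IsLocalization.mk' R' r s) * algebraMap R C' s.1 = algebraMap R C' r := by
        rw [← hφ, ← map_mul, IsLocalization.mk'_spec, hφ]
      rw [← IsScalarTower.algebraMap_apply, ← h2]
      exact hx.mul (hu s)
    exact (IsLocalization.AtPrime.isUnit_to_map_iff C' P (algebraMap R C r)).mp h1 hr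
  haveI : Module.Flat R' C' :=
    (Module.flat_iff_of_isLocalization R' p.primeCompl C').mpr inferInstance
  have hm : (IsLocalRing.maximalIdeal R').map (algebraMap R' C') = p.map (algebraMap R C') := by
    rw [← Localization.AtPrime.map_eq_maximalIdeal, Ideal.map_map, ← IsScalarTower.algebraMap_eq]
  obtain ⟨a, ha, hslice⟩ := Lib.Flat55.Slicing.exists_slice (R := R) (C := C) (R' := R') (C' := C')
    p P (fun r => by
      rw [← IsScalarTower.algebraMap_apply, ← IsScalarTower.algebraMap_apply]) h hP (by
      rw [mem_nonZeroDivisors_iff_right]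
      intro z hz
      obtain ⟨z, rfl⟩ := Ideal.Quotient.mk_surjective z
      rw [← map_mul, Ideal.Quotient.eq_zero_iff_mem, hm] at hz
      have h0 : algebraMap C C' h • (Ideal.Quotient.mk (p.map (algebraMap R C')) z) = 0 := by
        rw [Algebra.smul_def, Ideal.Quotient.algebraMap_eq, ← map_mul,
          Ideal.Quotient.eq_zero_iff_mem, mul_comm]
        exact hz
      rw [Ideal.Quotient.eq_zero_iff_mem, hm]
      exact Ideal.Quotient.eq_zero_iff_mem.mp (hreg.right_eq_zero_of_smul h0))
  refine ⟨a, ha, fun S _ _ _ _ _ hua => ?_⟩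
  let Ca := Localization.Away a
  obtain ⟨hnzd, hflat⟩ := hslice Ca
  let ψ : Ca →+* S := IsLocalization.Away.lift a hua
  have hψ : ∀ c, ψ (algebraMap C Ca c) = algebraMap C S c := IsLocalization.Away.lift_eq a hua
  letI := ψ.toAlgebra
  haveI : IsScalarTower C Ca S := .of_algebraMap_eq fun c => (hψ c).symm
  haveI : Module.Flat Ca S :=
    (Module.flat_iff_of_isLocalization Ca (Submonoid.powers a) S).mpr inferInstance
  constructor
  · have hr := Module.Flat.isSMulRegular_of_isRegular (M := S)
      (isRegular_iff_mem_nonZeroDivisors.mpr hnzd)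
    refine IsSMulRegular.of_right_eq_zero_of_smul fun z hz => hr.right_eq_zero_of_smul ?_
    rw [← hz, Algebra.smul_def, smul_eq_mul, RingHom.algebraMap_toAlgebra, hψ]
  · have h2 := Lib.Flat55.Presented.quotient_flat ψ (RingHom.flat_algebraMap_iff.2 ‹_›)
      (Ideal.span {algebraMap C Ca h})
    have h3 := hflat.comp h2
    have hK : (Ideal.span {algebraMap C Ca h}).map ψ = Ideal.span {algebraMap C S h} := by
      rw [Ideal.map_span, Set.image_singleton, hψ]
    have h4 : ((Ideal.Quotient.mk (Ideal.span {algebraMap C S h})).comp (algebraMap R S)).Flat := by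
      have h5 := h3.comp (RingHom.Flat.of_bijective
        (f := (Ideal.quotEquivOfEq hK).toRingHom) (Ideal.quotEquivOfEq hK).bijective)
      convert! h5 using 1
      refine RingHom.ext fun r => ?_
      change Ideal.Quotient.mk (Ideal.span {algebraMap C S h}) (algebraMap R S r) =
        Ideal.Quotient.mk (Ideal.span {algebraMap C S h}) (ψ (algebraMap C Ca (algebraMap R C r)))
      rw [hψ, ← IsScalarTower.algebraMap_apply]
    rw [show (Ideal.Quotient.mk (Ideal.span {algebraMap C S h})).comp (algebraMap R S) =
      algebraMap R (S ⧸ Ideal.span {algebraMap C S h}) from rfl, RingHom.flat_algebraMap_iff] at h4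
    exact h4

/-- A sequence regular in the fibre is regular, with flat quotients, on a basic open. -/
theorem spread {R C : Type u} [CommRing R] [CommRing C] [Algebra R C]
    [Algebra.FinitePresentation R C] [Module.Flat R C]
    (P : Ideal C) [P.IsPrime] (p : Ideal R) (hp : P.comap (algebraMap R C) = p) :
    ∀ fs : List C, (∀ f ∈ fs, f ∈ P) →
    IsWeaklyRegular (Localization.AtPrime P ⧸ p.map (algebraMap R (Localization.AtPrime P)))
      (fs.map (algebraMap C (Localization.AtPrime P))) →
    ∃ a ∉ P, ∀ (S : Type u) [CommRing S] [Algebra C S] [Algebra R S] [IsScalarTower R C S] [Module.Flat C S],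
      IsUnit (algebraMap C S a) → IsWeaklyRegular S (fs.map (algebraMap C S)) ∧
        ∀ i, Module.Flat R (S ⧸ Ideal.ofList ((fs.map (algebraMap C S)).take i)) := by
  intro fs
  induction fs using List.reverseRecOn with
  | nil =>
    intro _ _
    refine ⟨1, fun h => Ideal.IsPrime.ne_top ‹P.IsPrime› ((Ideal.eq_top_iff_one _).2 h),
      fun S _ _ _ _ _ _ => ⟨IsWeaklyRegular.nil S S, fun i => ?_⟩⟩
    haveI : Module.Flat R S := Module.Flat.trans R C S
    exact Module.Flat.of_linearEquiv
      ((Submodule.quotEquivOfEqBot (Ideal.ofList ((([] : List C).map (algebraMap C S)).take i))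
        (by simp)).restrictScalars R)
  | append_singleton gs h ih =>
    intro hmem hfib
    rw [List.map_append, List.map_singleton, isWeaklyRegular_append_iff,
      isWeaklyRegular_singleton_iff] at hfib
    obtain ⟨a₀, ha₀, hS₀⟩ := ih (fun f hf => hmem f (List.mem_append_left _ hf)) hfib.1
    set C' := Localization.AtPrime P with hC'
    haveI : Module.Flat C C' := IsLocalization.flat C' P.primeCompl
    obtain ⟨-, hgflat'⟩ := hS₀ C' (IsLocalization.map_units C' (⟨a₀, ha₀⟩ : P.primeCompl))
    have hgflat : Module.Flat R (C' ⧸ Ideal.ofList (gs.map (algebraMap C C'))) := by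
      have := hgflat' gs.length
      rwa [List.take_of_length_le (by simp)] at this
    let I : Ideal C := Ideal.ofList gs
    have hIP : I ≤ P := Ideal.span_le.mpr fun f hf => hmem f (List.mem_append_left _ hf)
    let mk := Ideal.Quotient.mk I
    haveI : (P.map mk).IsPrime := Ideal.isPrime_map_quotientMk_of_isPrime hIP
    have hmemP : ∀ c, mk c ∈ P.map mk ↔ c ∈ P := fun c =>
      ⟨fun hc => by
        obtain ⟨t, ht, he⟩ := (Ideal.mem_map_iff_of_surjective _ Ideal.Quotient.mk_surjective).mp hc
        simpa using sub_mem ht (hIP (Ideal.Quotient.eq.mp he)),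
      Ideal.mem_map_of_mem _⟩
    let C₁ := C' ⧸ I.map (algebraMap C C')
    have hM : Algebra.algebraMapSubmonoid (C ⧸ I) P.primeCompl = (P.map mk).primeCompl := by
      ext z
      constructor
      · rintro ⟨c, hc, rfl⟩
        exact fun hz => hc ((hmemP c).mp hz)
      · intro hz
        obtain ⟨c, rfl⟩ := Ideal.Quotient.mk_surjective z
        exact ⟨c, fun hc => hz ((hmemP c).mpr hc), rfl⟩
    haveI : IsLocalization.AtPrime C₁ (P.map mk) := by
      have : IsLocalization (Algebra.algebraMapSubmonoid (C ⧸ I) P.primeCompl) C₁ := inferInstance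
      rwa [hM] at this
    haveI : Algebra.FinitePresentation R (C ⧸ I) :=
      Algebra.FinitePresentation.quotient (Submodule.fg_def.mpr
        ⟨{r | r ∈ gs}, gs.finite_toSet, rfl⟩)
    have hIm : I.map (algebraMap C C') = Ideal.ofList (gs.map (algebraMap C C')) :=
      Ideal.map_ofList _ _
    haveI : IsScalarTower R (C ⧸ I) C₁ := .of_algebraMap_eq fun r => by
      show Ideal.Quotient.mk _ (algebraMap R C' r) =
        Ideal.Quotient.mk (I.map (algebraMap C C')) (algebraMap C C' (algebraMap R C r))
      rw [← IsScalarTower.algebraMap_apply]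
    haveI : Module.Flat R C₁ := Module.Flat.of_linearEquiv
      ((Submodule.quotEquivOfEq _ _ hIm).restrictScalars R)
    have hp₁ : (P.map mk).comap (algebraMap R (C ⧸ I)) = p := by
      ext r
      rw [Ideal.mem_comap, ← hp, Ideal.mem_comap]
      exact hmemP _
    have hreg₁ : IsSMulRegular (C₁ ⧸ p.map (algebraMap R C₁))
        (algebraMap (C ⧸ I) C₁ (mk h)) := by
      have e1 : p.map (algebraMap R C₁) =
          (p.map (algebraMap R C')).map (Ideal.Quotient.mk (I.map (algebraMap C C'))) := by
        rw [Ideal.map_map]; rfl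
      refine IsSMulRegular.of_right_eq_zero_of_smul fun z hz => ?_
      obtain ⟨z, rfl⟩ := Ideal.Quotient.mk_surjective z
      obtain ⟨z, rfl⟩ := Ideal.Quotient.mk_surjective z
      have hz' : algebraMap C C' h * z ∈ p.map (algebraMap R C') ⊔ I.map (algebraMap C C') := by
        change Ideal.Quotient.mk _ (Ideal.Quotient.mk (I.map (algebraMap C C'))
          (algebraMap C C' h * z)) = 0 at hz
        rw [Ideal.Quotient.eq_zero_iff_mem, e1, ← Ideal.mem_comap,
          Ideal.comap_map_of_surjective _ Ideal.Quotient.mk_surjective, ← RingHom.ker_eq_comap_bot,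
          Ideal.mk_ker] at hz
        exact hz
      rw [Ideal.Quotient.eq_zero_iff_mem, e1, ← Ideal.mem_comap,
        Ideal.comap_map_of_surjective _ Ideal.Quotient.mk_surjective, ← RingHom.ker_eq_comap_bot,
        Ideal.mk_ker]
      set J := p.map (algebraMap R C')
      have hsup : ∀ w : C', w ∈ J ⊔ I.map (algebraMap C C') ↔
          Ideal.Quotient.mk J w ∈ Ideal.ofList (gs.map (algebraMap C C')) •
            (⊤ : Submodule C' (C' ⧸ J)) := by
        intro w
        rw [hIm, show (Ideal.Quotient.mk J w : C' ⧸ J) = Submodule.mkQ J w from rfl, ← Submodule.mem_comap,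
          show Ideal.ofList (gs.map (algebraMap C C')) • (⊤ : Submodule C' (C' ⧸ J)) =
            Submodule.map (Submodule.mkQ J) (Ideal.ofList (gs.map (algebraMap C C')) : Submodule C' C') from by
            rw [← Submodule.range_mkQ, ← Submodule.map_top, ← Submodule.map_smul'', smul_eq_mul,
              Ideal.mul_top],
          Submodule.comap_map_mkQ]
      rw [hsup] at hz' ⊢
      rw [← Submodule.Quotient.mk_eq_zero] at hz' ⊢
      refine hfib.2.right_eq_zero_of_smul ?_
      rw [← Submodule.Quotient.mk_smul]
      exact Eq.trans rfl hz'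
    obtain ⟨a₁, ha₁, hS₁⟩ := stepNhd (P.map mk) p hp₁ C₁ (mk h)
      ((hmemP h).mpr (hmem h (by simp))) hreg₁
    obtain ⟨a₁, rfl⟩ := Ideal.Quotient.mk_surjective a₁
    refine ⟨a₀ * a₁, fun hm => (Ideal.IsPrime.mem_or_mem ‹P.IsPrime› hm).elim ha₀
      (fun hm' => ha₁ (Ideal.mem_map_of_mem _ hm')), fun S _ _ _ _ _ hu => ?_⟩
    rw [map_mul, IsUnit.mul_iff] at hu
    obtain ⟨hgregS, hgflatS⟩ := hS₀ S hu.1
    let S₁ := S ⧸ I.map (algebraMap C S)
    have hIS : I.map (algebraMap C S) = Ideal.ofList (gs.map (algebraMap C S)) :=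
      Ideal.map_ofList _ _
    letI : Algebra (C ⧸ I) S₁ := (Ideal.quotientMap (I.map (algebraMap C S)) (algebraMap C S)
      Ideal.le_comap_map).toAlgebra
    haveI : IsScalarTower R (C ⧸ I) S₁ := .of_algebraMap_eq fun r => by
      change Ideal.Quotient.mk _ (algebraMap R S r) =
        Ideal.Quotient.mk (I.map (algebraMap C S)) (algebraMap C S (algebraMap R C r))
      rw [← IsScalarTower.algebraMap_apply]
    haveI : Module.Flat (C ⧸ I) S₁ := RingHom.flat_algebraMap_iff.1
      (Lib.Flat55.Presented.quotient_flat (algebraMap C S) (RingHom.flat_algebraMap_iff.2 ‹_›) I)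
    obtain ⟨h1, h2⟩ := hS₁ S₁ (hu.2.map (Ideal.Quotient.mk (I.map (algebraMap C S))))
    have e2 : Ideal.ofList ((gs ++ [h]).map (algebraMap C S)) =
        I.map (algebraMap C S) ⊔ Ideal.span {algebraMap C S h} := by
      rw [List.map_append, List.map_singleton, Ideal.ofList_append, Ideal.ofList_singleton, hIS]
    let e : (S₁ ⧸ Ideal.span {algebraMap (C ⧸ I) S₁ (mk h)}) ≃+*
        S ⧸ Ideal.ofList ((gs ++ [h]).map (algebraMap C S)) :=
      (Ideal.quotEquivOfEq (show Ideal.span {algebraMap (C ⧸ I) S₁ (mk h)} =
        (Ideal.span {algebraMap C S h}).map (Ideal.Quotient.mk (I.map (algebraMap C S))) by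
          refine ((Ideal.map_span (Ideal.Quotient.mk (I.map (algebraMap C S))) _).trans ?_).symm
          rw [Set.image_singleton]; rfl)).trans
        ((DoubleQuot.quotQuotEquivQuotSup _ _).trans (Ideal.quotEquivOfEq e2.symm))
    let eL : (S₁ ⧸ Ideal.span {algebraMap (C ⧸ I) S₁ (mk h)}) ≃ₗ[R]
        S ⧸ Ideal.ofList ((gs ++ [h]).map (algebraMap C S)) :=
      { e.toAddEquiv with
        map_smul' := fun r x => by
          obtain ⟨x, rfl⟩ := Ideal.Quotient.mk_surjective x
          obtain ⟨x, rfl⟩ := Ideal.Quotient.mk_surjective x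
          rfl }
    refine ⟨?_, fun i => ?_⟩
    · rw [List.map_append, List.map_singleton, isWeaklyRegular_append_iff,
        isWeaklyRegular_singleton_iff]
      refine ⟨hgregS, ?_⟩
      have e : (Ideal.ofList (gs.map (algebraMap C S)) • (⊤ : Submodule S S)) =
          I.map (algebraMap C S) := by rw [smul_eq_mul, Ideal.mul_top, hIS]
      refine ((Submodule.quotEquivOfEq _ _ e).isSMulRegular_congr _).mpr ?_
      refine IsSMulRegular.of_right_eq_zero_of_smul fun z hz => h1.right_eq_zero_of_smul ?_
      rw [← hz, Algebra.smul_def, Algebra.smul_def]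
      rfl
    · rcases Nat.lt_or_ge gs.length i with hi | hi
      · rw [List.take_of_length_le (by simp; omega)]
        exact Module.Flat.of_linearEquiv eL.symm
      · rw [List.map_append, List.take_append_of_le_length (by simpa using hi)]
        exact hgflatS i

end Groth.Agent.H68.KoszulSpread
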