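import Groth.Agent.H68.LCIBridge
import Groth.Agent.Lib.Synt92.SmoothAmbient
import Groth.Agent.Lib.Regular.Adapted
import Groth.Agent.Lib.Regular.Quotient
import Groth.Agent.Lib.Regular.Serre
import Groth.Agent.S15821
import Mathlib.RingTheory.RegularLocalRing.Polynomial

/-!
# Morphisms of finite type between regular schemes are local complete intersections
-/

set_option autoImplicit false
set_option linter.style.haveILetI false

universe u

open IsLocalRing RingTheory.Sequence

namespace Groth.Agent.H68.LCIRegular

open Lib.Synt92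

/-- Regular sequences generating an ideal at each of its primes make it Koszul regular. -/
theorem isKoszulRegularIdeal_of_atPrime {B : Type u} [CommRing B] [IsNoetherianRing B] (I : Ideal B)
    (h : ∀ (P : Ideal B) [P.IsPrime], I ≤ P → ∃ rs : List (Localization.AtPrime P),
      IsWeaklyRegular (Localization.AtPrime P) rs ∧
        Ideal.ofList rs = I.map (algebraMap B (Localization.AtPrime P))) :
    LCI.IsKoszulRegularIdeal I := by
  classical
  intro P₀ hP₀
  let P := P₀.asIdeal
  haveI : P.IsPrime := P₀.isPrime
  obtain ⟨rs, hreg, hrs⟩ := h P hP₀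
  have hnum : ∀ r ∈ rs, ∃ b : B, b ∈ I ∧ ∃ u : Localization.AtPrime P, IsUnit u ∧
      algebraMap B (Localization.AtPrime P) b = u * r := fun r hr => by
    have : r ∈ I.map (algebraMap B (Localization.AtPrime P)) := hrs ▸ Ideal.subset_span hr
    obtain ⟨⟨a, s⟩, e⟩ := (IsLocalization.mem_map_algebraMap_iff P.primeCompl _).mp this
    exact ⟨a, a.2, _, IsLocalization.map_units _ s, by rw [mul_comm]; exact e.symm⟩
  choose! b hbI u hu hbu using hnum
  let fs := rs.map b
  have hfs : fs.map (algebraMap B (Localization.AtPrime P)) = rs.map fun r => u r * r := by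
    rw [List.map_map]; exact List.map_congr_left hbu
  have hspan : Ideal.ofList (fs.map (algebraMap B (Localization.AtPrime P))) = Ideal.ofList rs := by
    rw [hfs]
    refine le_antisymm (Ideal.span_le.mpr fun z hz => ?_) (Ideal.span_le.mpr fun r hr => ?_)
    · obtain ⟨r, hr, rfl⟩ := List.mem_map.mp hz
      exact Ideal.mul_mem_left _ _ (Ideal.subset_span hr)
    · exact (Ideal.unit_mul_mem_iff_mem _ (hu r hr)).mp
        (Ideal.subset_span (List.mem_map.mpr ⟨r, hr, rfl⟩))
  have hreg' : IsWeaklyRegular (Localization.AtPrime P) (fs.map (algebraMap B (Localization.AtPrime P))) := by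
    let v : Localization.AtPrime P → Localization.AtPrime P := fun r => if r ∈ rs then u r else 1
    rw [hfs, show rs.map (fun r => u r * r) = rs.map (fun r => v r * r) from
      List.map_congr_left fun r hr => by simp [v, hr]]
    exact (Groth.Agent.H26.FibreRegStalk.weaklyRegular_of_unit_mul _ rs v (fun r => by
      by_cases hr : r ∈ rs <;> simp [v, hr, hu])).mpr hreg
  obtain ⟨g₁, hg₁, hg₁'⟩ := H26.CISpread.exists_weaklyRegular_nhd P fs hreg'
  -- equality of ideals spreads
  obtain ⟨s, hsI⟩ := I.fg_of_isNoetherianRing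
  have hex : ∀ z ∈ s, ∃ t ∉ P, t * z ∈ Ideal.ofList fs := fun z hz => by
    refine (H26.CISpread.mem_map_iff P _ z).mp ?_
    rw [Ideal.map_ofList, hspan, hrs]
    exact Ideal.mem_map_of_mem _ (hsI.le (Submodule.subset_span hz))
  choose! t ht htz using hex
  let g₂ := ∏ z ∈ s, t z
  have hg₂ : g₂ ∉ P := fun hm => by
    obtain ⟨z, hz, hzp⟩ := Ideal.IsPrime.prod_mem_iff.mp hm
    exact ht z hz hzp
  let g := g₁ * g₂
  refine ⟨g, fun hm => (Ideal.IsPrime.mem_or_mem (I := P) inferInstance hm).elim hg₁ hg₂,
    fs.map (algebraMap B (Localization.Away g)), (Groth.Agent.S15821.result _ _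
      (SmoothAmbient.isWeaklyRegular_away g fs fun q _ hq =>
        hg₁' q fun hm => hq (Ideal.mul_mem_right _ _ hm))).1, ?_⟩
  change _ = Ideal.ofList (fs.map (algebraMap B (Localization.Away g)))
  rw [← Ideal.map_ofList]
  refine le_antisymm ?_ (Ideal.map_mono (Ideal.span_le.mpr fun z hz => ?_))
  · refine le_trans (Ideal.map_mono hsI.ge) ?_
    rw [Ideal.map_span, Ideal.span_le]
    rintro _ ⟨z, hz, rfl⟩
    have hu2 : IsUnit (algebraMap B (Localization.Away g) (t z)) := by
      refine isUnit_of_dvd_unit (map_dvd _ ((Finset.dvd_prod_of_mem t hz).trans (dvd_mul_left g₂ g₁)))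
        (IsLocalization.Away.algebraMap_isUnit g)
    refine (Ideal.unit_mul_mem_iff_mem _ hu2).mp ?_
    rw [← map_mul]
    exact Ideal.mem_map_of_mem _ (htz z hz)
  · obtain ⟨r, hr, rfl⟩ := List.mem_map.mp hz
    exact hbI r hr

theorem surjective_localRingHom {B C : Type u} [CommRing B] [CommRing C] (f : B →+* C)
    (hf : Function.Surjective f) (p : Ideal B) [p.IsPrime] (P : Ideal C) [P.IsPrime]
    (hP : p = P.comap f) : Function.Surjective (Localization.localRingHom p P f hP) := by
  subst hP
  exact RingHom.surjective_localRingHom_of_surjective f hf P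

/-- A regular closed subscheme of a regular scheme is regularly embedded. -/
theorem isKoszulRegularIdeal_ker {B C : Type u} [CommRing B] [CommRing C] [IsRegularRing B] [IsRegularRing C]
    (φ : B →+* C) (hφ : Function.Surjective φ) : LCI.IsKoszulRegularIdeal (RingHom.ker φ) := by
  refine isKoszulRegularIdeal_of_atPrime _ fun P _ hP => ?_
  let I := RingHom.ker φ
  let L := Localization.AtPrime P
  haveI : IsRegularLocalRing L := IsRegularRing.isRegularLocalRing_localization P
  let IL := I.map (algebraMap B L)
  haveI hQ : (P.map φ).IsPrime := Ideal.map_isPrime_of_surjective hφ hP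
  let Q := P.map φ
  have hQc : Q.comap φ = P := (Ideal.comap_map_of_surjective φ hφ P).trans (sup_eq_left.2 hP)
  let ψ : L →+* Localization.AtPrime Q := Localization.localRingHom P Q φ hQc.symm
  have hψ : Function.Surjective ψ :=
    Groth.Agent.H68.LCIRegular.surjective_localRingHom φ hφ P Q hQc.symm
  have hker : RingHom.ker ψ = IL := by
    refine le_antisymm (fun z hz => ?_) (Ideal.map_le_iff_le_comap.2 fun b hb => ?_)
    · obtain ⟨b, s, rfl⟩ := IsLocalization.exists_mk'_eq P.primeCompl z
      rw [RingHom.mem_ker, Localization.localRingHom_mk', IsLocalization.mk'_eq_zero_iff] at hz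
      obtain ⟨⟨m, hm⟩, hmb⟩ := hz
      obtain ⟨t, rfl⟩ := hφ m
      refine (IsLocalization.mk'_mem_map_algebraMap_iff P.primeCompl _ _ _ _).2
        ⟨t, fun ht => hm (Ideal.mem_map_of_mem φ ht), ?_⟩
      change φ (t * b) = 0
      rw [map_mul]
      exact hmb
    · change ψ (algebraMap B L b) = 0
      rw [Localization.localRingHom_to_map, show φ b = 0 from hb, map_zero]
  haveI : IsRegularLocalRing (Localization.AtPrime Q) := IsRegularRing.isRegularLocalRing_localization Q
  haveI : IsRegularLocalRing (L ⧸ IL) := IsRegularLocalRing.of_ringEquiv (R := Localization.AtPrime Q)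
    ((Ideal.quotEquivOfEq hker.symm).trans (RingHom.quotientKerEquivOfSurjective hψ)).symm
  obtain ⟨s, t, hs, hst, hlen, -⟩ := Lib.Regular.Adapted.exists_adapted _ L rfl IL
  have hreg := Lib.Regular.Quotient.isRegular_of_span_eq_maximalIdeal (s ++ t) hst
    (by rw [List.length_append]; exact hlen)
  exact ⟨s, ((isWeaklyRegular_append_iff L s t).1 hreg.toIsWeaklyRegular).1, hs⟩

end Groth.Agent.H68.LCIRegular
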