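import Groth.Prelude.Def_W4c4chowquasisplitNorm
import Groth.Agent.Lib.Cyc.Push
import Mathlib.AlgebraicGeometry.Morphisms.Affine
import Mathlib

/-!
A structure map to a nontrivial finite subextension makes the norm subgroup everything.
-/

set_option autoImplicit false

universe u

open AlgebraicGeometry CategoryTheory Limits

namespace Groth.Agent.H68.NormTop

theorem residueDegree_eq_one {X Y : Scheme.{u}} (p : Y ⟶ X) (s : X ⟶ Y) (h : s ≫ p = 𝟙 X) (x : X) :
    p.residueDegree (s x) = 1 := by
  have hcomp : p.residueFieldMap (s x) ≫ s.residueFieldMap x = (s ≫ p).residueFieldMap x :=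
    (Scheme.residueFieldMap_comp s p x).symm
  have hb : Function.Bijective (p.residueFieldMap (s x) ≫ s.residueFieldMap x).hom := by
    rw [hcomp]
    haveI : IsIso (s ≫ p) := by rw [h]; infer_instance
    exact ConcreteCategory.bijective_of_isIso ((s ≫ p).residueFieldMap x)
  letI := (p.residueFieldMap (s x)).hom.toAlgebra
  have hsurj : Function.Surjective (algebraMap (X.residueField (p (s x))) (Y.residueField (s x))) := by
    intro y
    obtain ⟨a, ha⟩ := hb.2 ((s.residueFieldMap x).hom y)
    exact ⟨a, (s.residueFieldMap x).hom.injective ha⟩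
  show Module.finrank (X.residueField (p (s x))) (Y.residueField (s x)) = 1
  rw [← (AlgEquiv.ofBijective (Algebra.ofId (X.residueField (p (s x))) (Y.residueField (s x)))
    ⟨(algebraMap (X.residueField (p (s x))) (Y.residueField (s x))).injective, hsurj⟩).toLinearEquiv.finrank_eq, Module.finrank_self]

/-- If `X` is defined over a nontrivial finite subextension, every class is a norm. -/
theorem normSubgroup_eq_top (k : Type u) [Field k] (K : Type u) [Field K] [Algebra k K]
    (F : IntermediateField k K) [FiniteDimensional k F] (hF : F ≠ ⊥)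
    (X : Scheme.{u}) [X.Over (Spec (CommRingCat.of k))] (g : X ⟶ Spec (CommRingCat.of F))
    (hg : g ≫ Spec.map (CommRingCat.ofHom (algebraMap k F)) = X ↘ Spec (CommRingCat.of k))
    (δ : X → ℤ) (j : ℤ) :
    QsChow.normSubgroup k K X δ j = ⊤ := by
  refine eq_top_iff.mpr fun c _ => ?_
  obtain ⟨⟨α, hα⟩, rfl⟩ := QuotientAddGroup.mk_surjective c
  let s : X ⟶ Curv2.bc k X F := pullback.lift (𝟙 X) g (by rw [Category.id_comp, hg])
  have hs : s ≫ Curv2.bcFst k X F = 𝟙 X := pullback.lift_fst _ _ _
  have hsx : ∀ x, (Curv2.bcFst k X F) (s x) = x := fun x => by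
    rw [← Scheme.Hom.comp_apply, hs]; rfl
  obtain ⟨β, hβ, hmap⟩ := Lib.Cyc.Push.exists_map_eq_of_section (Curv2.bcFst k X F)
    (δ ∘ ⇑(Curv2.bcFst k X F).base) δ (fun x => s x) hsx
    (fun x => congrArg δ (hsx x)) (fun x => residueDegree_eq_one _ s hs x) α
  have hβk : β ∈ Cyc.Zk (Curv2.bc k X F) (δ ∘ ⇑(Curv2.bcFst k X F).base) j := by
    intro y hy
    by_contra h
    exact (hβ y h).2 (hα _ hy)
  refine AddSubgroup.subset_closure ⟨F, inferInstance, hF, β, hβk, by rw [hmap]; exact hα, ?_⟩
  simp only [hmap]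
  rfl

end Groth.Agent.H68.NormTop
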