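import Mathlib.RingTheory.RootsOfUnity.PrimitiveRoots
import Mathlib.RingTheory.RootsOfUnity.Complex
import Mathlib.Analysis.Complex.Norm
import Mathlib.LinearAlgebra.Matrix.PosDef
import Mathlib.Data.ZMod.Basic
import Mathlib.Tactic

set_option autoImplicit false

open Finset

namespace Groth.Agent.H68.OrbRR

universe u

section
variable {K : Type u} [Field K]

/-- The finite Fourier sum. -/
def g (N : ℕ) (ζ : K) (j : ℕ) : K :=
  ∑ i ∈ Finset.Ioo 0 N, ζ ^ (i * j) / (2 - ζ ^ i - (ζ ^ i)⁻¹)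

theorem sum_range_pow {N : ℕ} {ζ : K} (hζ : IsPrimitiveRoot ζ N) (j : ℕ) :
    ∑ i ∈ range N, (ζ ^ j) ^ i = if N ∣ j then (N : K) else 0 := by
  split_ifs with h
  · rw [(hζ.pow_eq_one_iff_dvd j).2 h]; simp
  · have h1 : ζ ^ j ≠ 1 := fun h1 => h ((hζ.pow_eq_one_iff_dvd j).1 h1)
    rw [geom_sum_eq h1, ← pow_mul, mul_comm, pow_mul, hζ.pow_eq_one, one_pow, sub_self, zero_div]

theorem sum_Ioo_pow {N : ℕ} (hN : 0 < N) {ζ : K} (hζ : IsPrimitiveRoot ζ N) (j : ℕ) :
    ∑ i ∈ Finset.Ioo 0 N, (ζ ^ j) ^ i = (if N ∣ j then (N : K) else 0) - 1 := by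
  rw [← sum_range_pow hζ j]
  have : range N = insert 0 (Finset.Ioo 0 N) := by
    ext x; simp only [mem_range, mem_insert, mem_Ioo]; omega
  rw [this, sum_insert (by simp), pow_zero]
  ring

theorem den_ne {N i : ℕ} {ζ : K} (hζ : IsPrimitiveRoot ζ N) (hi : i ∈ Finset.Ioo 0 N) :
    2 - ζ ^ i - (ζ ^ i)⁻¹ ≠ 0 := by
  rw [Finset.mem_Ioo] at hi
  have hz : ζ ^ i ≠ 1 := hζ.pow_ne_one_of_pos_of_lt (by omega) hi.2
  have hz0 : ζ ^ i ≠ 0 := pow_ne_zero _ (hζ.ne_zero (by omega))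
  intro h
  have h2 : (ζ ^ i - 1) ^ 2 = 0 := by
    field_simp at h
    linear_combination (-1 : K) * h
  exact hz (sub_eq_zero.1 ((pow_eq_zero_iff (by norm_num)).1 h2))

theorem g_rec {N : ℕ} {ζ : K} (hζ : IsPrimitiveRoot ζ N) (j : ℕ) (hj : j + 1 < N) :
    g N ζ (j + 2) - 2 * g N ζ (j + 1) + g N ζ j = 1 := by
  have h := sum_Ioo_pow (by omega : 0 < N) hζ (j + 1)
  rw [if_neg (Nat.not_dvd_of_pos_of_lt (by omega) hj), zero_sub] at h
  simp only [g, Finset.mul_sum, ← Finset.sum_sub_distrib, ← Finset.sum_add_distrib]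
  refine (Finset.sum_congr rfl fun i hi => ?_).trans
    ((Finset.sum_neg_distrib fun i => (ζ ^ (j + 1)) ^ i).trans (by rw [h]; ring))
  have hd := den_ne hζ hi
  have hz0 : ζ ^ i ≠ 0 := pow_ne_zero _ (hζ.ne_zero (by omega))
  rw [← pow_mul, show (j + 1) * i = i * (j + 1) by ring, pow_mul ζ i, pow_mul ζ i, pow_mul ζ i,
    mul_div_assoc', ← sub_div, ← add_div, div_eq_iff hd]
  generalize ζ ^ i = z at hd hz0 ⊢
  field_simp
  ring

theorem sum_g {N : ℕ} {ζ : K} (hζ : IsPrimitiveRoot ζ N) : ∑ j ∈ range N, g N ζ j = 0 := by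
  simp only [g]
  rw [Finset.sum_comm]
  refine Finset.sum_eq_zero fun i hi => ?_
  rw [Finset.mem_Ioo] at hi
  rw [← Finset.sum_div]
  simp only [pow_mul]
  rw [sum_range_pow hζ i, if_neg (Nat.not_dvd_of_pos_of_lt hi.1 hi.2), zero_div]

theorem g_eq (h6 : (6 : K) ≠ 0) (N j : ℕ) (hj : j < N) (ζ : K) (hζ : IsPrimitiveRoot ζ N) :
    g N ζ j = (j : K) * ((j : K) - (N : K)) / 2 + ((N : K) ^ 2 - 1) / 12 := by
  have h2 : (2 : K) ≠ 0 := fun h => h6 (by linear_combination 3 * h)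
  have h3 : (3 : K) ≠ 0 := fun h => h6 (by linear_combination 2 * h)
  have h12 : (12 : K) ≠ 0 := fun h => mul_ne_zero h2 h6 (by linear_combination h)
  haveI : NeZero N := ⟨by omega⟩
  have hN : (N : K) ≠ 0 := (hζ.neZero').out
  set h : ℕ → K := fun k => g N ζ k - ((k : K) * ((k : K) - (N : K)) / 2 + ((N : K) ^ 2 - 1) / 12)
    with hh
  have hrec : ∀ k, k + 1 < N → h (k + 2) - 2 * h (k + 1) + h k = 0 := by
    intro k hk
    have := g_rec hζ k hk
    simp only [hh]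
    push_cast
    field_simp at this ⊢
    linear_combination (2 * 12 : K) * this
  have hlin : ∀ k, k ≤ N → h k = h 0 + (k : K) * (h 1 - h 0) := by
    intro k
    induction k using Nat.strong_induction_on with
    | _ k ih =>
      intro hk
      match k, ih, hk with
      | 0, _, _ => simp
      | 1, _, _ => simp
      | k + 2, ih, hk =>
        have e1 := ih (k + 1) (by omega) (by omega)
        have e2 := ih k (by omega) (by omega)
        have e3 := hrec k (by omega)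
        push_cast at e1 ⊢
        linear_combination e3 + 2 * e1 - e2
  have hper : h N = h 0 := by
    simp only [hh]
    have : g N ζ N = g N ζ 0 := by
      simp only [g]
      refine Finset.sum_congr rfl fun i _ => ?_
      rw [mul_comm i N, pow_mul, hζ.pow_eq_one, one_pow, mul_zero, pow_zero]
    rw [this]
    push_cast
    ring
  have hs : h 1 - h 0 = 0 := by
    have := hlin N le_rfl
    rw [hper] at this
    exact (mul_eq_zero.1 (by linear_combination -this : (N : K) * (h 1 - h 0) = 0)).resolve_left hN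
  have hconst : ∀ k, k ≤ N → h k = h 0 := fun k hk => by rw [hlin k hk, hs, mul_zero, add_zero]
  have hsum : ∑ k ∈ range N, h k = 0 := by
    have key : ∀ M : ℕ, 24 * ∑ k ∈ range M,
        ((k : K) * ((k : K) - (N : K)) / 2 + ((N : K) ^ 2 - 1) / 12) =
        2 * (M : K) * ((M : K) - 1) * (2 * (M : K) - 1) - 6 * (N : K) * (M : K) * ((M : K) - 1) +
          2 * (M : K) * ((N : K) ^ 2 - 1) := by
      intro M
      induction M with
      | zero => simp
      | succ M ih =>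
        rw [Finset.sum_range_succ, mul_add, ih]
        push_cast
        field_simp
        ring
    simp only [hh, Finset.sum_sub_distrib, sum_g hζ, zero_sub, neg_eq_zero]
    have h24 : (24 : K) ≠ 0 := fun h => mul_ne_zero h2 h12 (by linear_combination h)
    refine (mul_eq_zero.1 ((key N).trans ?_)).resolve_left h24
    ring
  have h0 : h 0 = 0 := by
    rw [Finset.sum_congr rfl fun k hk => hconst k (Finset.mem_range.1 hk).le, Finset.sum_const,
      Finset.card_range, nsmul_eq_mul] at hsum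
    exact (mul_eq_zero.1 hsum).resolve_left hN
  have := hconst j hj.le
  rw [h0] at this
  exact sub_eq_zero.1 this

end

theorem den_eq {N : ℕ} (hN : N ≠ 0) {ζ : ℂ} (hζ : IsPrimitiveRoot ζ N) (i : ℕ) :
    2 - ζ ^ i - (ζ ^ i)⁻¹ = ((Complex.normSq (1 - ζ ^ i) : ℝ) : ℂ) := by
  have hn : ‖ζ ^ i‖ = 1 := by rw [norm_pow, hζ.norm'_eq_one hN, one_pow]
  have hinv : (ζ ^ i)⁻¹ = starRingEnd ℂ (ζ ^ i) := Complex.inv_eq_conj hn
  have hne : ζ ^ i ≠ 0 := fun h => by rw [h] at hn; simp at hn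
  rw [Complex.normSq_eq_conj_mul_self, map_sub, map_one, ← hinv]
  field_simp
  ring

/-- The eigenvalue weights. -/
noncomputable def c (N : ℕ) (ζ : ℂ) (k : ℕ) : ℝ := (Complex.normSq (1 - ζ ^ k))⁻¹

theorem f_eq {N : ℕ} {ζ : ℂ} (hζ : IsPrimitiveRoot ζ N) (j : ℕ) (hj : j < N) :
    (j : ℂ) * ((j : ℂ) - (N : ℂ)) / 2 + ((N : ℂ) ^ 2 - 1) / 12 =
      ∑ k ∈ Finset.Ioo 0 N, ((c N ζ k : ℝ) : ℂ) * ζ ^ (k * j) := by
  rw [← g_eq (by norm_num) N j hj ζ hζ, g]
  refine Finset.sum_congr rfl fun k _ => ?_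
  rw [den_eq (by omega) hζ, c, Complex.ofReal_inv, div_eq_inv_mul]

theorem eigen_nonneg (N : ℕ) (hN : 0 < N) (ζ : ℂ)
    (hζ : IsPrimitiveRoot ζ N) (m : ℕ) :
    (∑ i ∈ Finset.range N,
        ((i : ℂ) * ((i : ℂ) - (N : ℂ)) / 2 + ((N : ℂ) ^ 2 - 1) / 12) / (N : ℂ) * ζ ^ (m * i)).im = 0 ∧
    0 ≤ (∑ i ∈ Finset.range N,
        ((i : ℂ) * ((i : ℂ) - (N : ℂ)) / 2 + ((N : ℂ) ^ 2 - 1) / 12) / (N : ℂ) * ζ ^ (m * i)).re := by
  have hNC : (N : ℂ) ≠ 0 := Nat.cast_ne_zero.2 (by omega)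
  have e : ∑ i ∈ Finset.range N,
        ((i : ℂ) * ((i : ℂ) - (N : ℂ)) / 2 + ((N : ℂ) ^ 2 - 1) / 12) / (N : ℂ) * ζ ^ (m * i) =
      ((∑ k ∈ Finset.Ioo 0 N, if N ∣ (k + m) then c N ζ k else 0 : ℝ) : ℂ) := by
    calc _ = ∑ i ∈ Finset.range N, ∑ k ∈ Finset.Ioo 0 N,
          ((c N ζ k : ℝ) : ℂ) / (N : ℂ) * (ζ ^ (k + m)) ^ i := by
          refine Finset.sum_congr rfl fun i hi => ?_
          rw [f_eq hζ i (Finset.mem_range.1 hi), Finset.sum_div, Finset.sum_mul]
          refine Finset.sum_congr rfl fun k _ => ?_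
          ring
      _ = _ := by
          rw [Finset.sum_comm, Complex.ofReal_sum]
          refine Finset.sum_congr rfl fun k _ => ?_
          rw [← Finset.mul_sum, sum_range_pow hζ]
          split_ifs
          · rw [div_mul_cancel₀ _ hNC]
          · simp
  rw [e, Complex.ofReal_im, Complex.ofReal_re]
  refine ⟨rfl, Finset.sum_nonneg fun k _ => ?_⟩
  split_ifs
  · exact inv_nonneg.2 (Complex.normSq_nonneg _)
  · exact le_rfl

theorem posSemidef (N : ℕ) [NeZero N] :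
    (Matrix.of fun i j : ZMod N =>
        ((((j - i).val : ℝ) * (((j - i).val : ℝ) - (N : ℝ))) / 2 + ((N : ℝ) ^ 2 - 1) / 12) / (N : ℝ)).PosSemidef := by
  refine Matrix.PosSemidef.of_dotProduct_mulVec_nonneg ?_ fun x => ?_
  · refine Matrix.IsHermitian.ext fun i j => ?_
    simp only [Matrix.of_apply, star_trivial]
    by_cases h : j - i = 0
    · rw [← neg_sub j i, h, neg_zero]
    · haveI : NeZero (j - i) := ⟨h⟩
      rw [← neg_sub j i, ZMod.val_neg_of_ne_zero, Nat.cast_sub (ZMod.val_lt _).le]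
      ring
  · obtain ⟨ζ, hζ⟩ : ∃ ζ : ℂ, IsPrimitiveRoot ζ N := ⟨_, Complex.isPrimitiveRoot_exp N (NeZero.ne N)⟩
    have hN : N ≠ 0 := NeZero.ne N
    have hpow : ∀ (i j : ZMod N) (k : ℕ),
        ζ ^ (k * (j - i).val) = starRingEnd ℂ (ζ ^ (k * i.val)) * ζ ^ (k * j.val) := by
      intro i j k
      have hn : ‖ζ ^ (k * i.val)‖ = 1 := by rw [norm_pow, hζ.norm'_eq_one hN, one_pow]
      rw [← Complex.inv_eq_conj hn, ← div_eq_inv_mul, eq_div_iff (pow_ne_zero _ (hζ.ne_zero hN)),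
        ← pow_add, ← mul_add, mul_comm k, pow_mul, mul_comm k j.val, pow_mul]
      congr 1
      have h1 : ((j - i).val + i.val) % N = j.val := by
        rw [← ZMod.val_add, sub_add_cancel]
      rw [← h1, ← pow_mod_orderOf (x := ζ) ((j - i).val + i.val), ← hζ.eq_orderOf]
    have key : ((dotProduct (star x) ((Matrix.of fun i j : ZMod N =>
        ((((j - i).val : ℝ) * (((j - i).val : ℝ) - (N : ℝ))) / 2 + ((N : ℝ) ^ 2 - 1) / 12) /
          (N : ℝ)).mulVec x) : ℝ) : ℂ) =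
        ((∑ k ∈ Finset.Ioo 0 N, c N ζ k / (N : ℝ) *
          Complex.normSq (∑ j : ZMod N, (x j : ℂ) * ζ ^ (k * j.val)) : ℝ) : ℂ) := by
      simp only [dotProduct, Matrix.mulVec, Matrix.of_apply, star_trivial]
      push_cast
      simp only [f_eq hζ _ (ZMod.val_lt _), hpow, Complex.normSq_eq_conj_mul_self, map_sum,
        map_mul, Complex.conj_ofReal, Finset.sum_mul, Finset.mul_sum, Finset.sum_div]
      rw [Finset.sum_comm]
      conv_rhs => rw [Finset.sum_comm]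
      refine Finset.sum_congr rfl fun a _ => ?_
      rw [Finset.sum_comm]
      refine Finset.sum_congr rfl fun b _ => Finset.sum_congr rfl fun k _ => ?_
      ring
    rw [Complex.ofReal_inj.1 key]
    exact Finset.sum_nonneg fun k _ => mul_nonneg (div_nonneg (inv_nonneg.2 (Complex.normSq_nonneg _))
      (Nat.cast_nonneg _)) (Complex.normSq_nonneg _)

end Groth.Agent.H68.OrbRR
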