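import Groth.Prelude.Def_W4c4chowquasisplitNorm
import Groth.Agent.Lib.FibreDeg.Points
import Groth.Agent.Lib.Cyc.Push
import Mathlib

/-!
The Chow group of zero cycles of the spectrum of a field, and the point norm subgroup.
-/

set_option autoImplicit false

universe u

open AlgebraicGeometry CategoryTheory

namespace Groth.Agent.H68.PtChow

variable (k : Type u) [Field k]

/-- Residue degree of `Spec F ⟶ Spec k` at its point. -/
theorem residueDegree_specMap (F : Type u) [Field F] [Algebra k F] (x : Spec (CommRingCat.of F)) :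
    (Spec.map (CommRingCat.ofHom (algebraMap k F))).residueDegree x = Module.finrank k F := by
  set p := Spec.map (CommRingCat.ofHom (algebraMap k F)) with hp
  let ιk := ((Scheme.ΓSpecIso (CommRingCat.of k)).inv ≫ (Spec (CommRingCat.of k)).Γevaluation (p x)).hom
  let ιF := ((Scheme.ΓSpecIso (CommRingCat.of F)).inv ≫ (Spec (CommRingCat.of F)).Γevaluation x).hom
  letI := (p.residueFieldMap x).hom.toAlgebra
  refine (Algebra.finrank_eq_of_equiv_equiv
    (RingEquiv.ofBijective ιk (Lib.FibreDeg.Points.bijective_Γevaluation_of_field k (p x)))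
    (RingEquiv.ofBijective ιF (Lib.FibreDeg.Points.bijective_Γevaluation_of_field F x)) ?_).symm
  have h : ((Scheme.ΓSpecIso (CommRingCat.of k)).inv ≫ (Spec (CommRingCat.of k)).Γevaluation (p x)) ≫
      p.residueFieldMap x = CommRingCat.ofHom (algebraMap k F) ≫
        ((Scheme.ΓSpecIso (CommRingCat.of F)).inv ≫ (Spec (CommRingCat.of F)).Γevaluation x) := by
    rw [Category.assoc, Scheme.Γevaluation_naturality, ← Category.assoc, hp, ← Scheme.ΓSpecIso_inv_naturality,
      Category.assoc]
  exact RingHom.ext fun a => congr($(h).hom a)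

/-- Evaluation at the point. -/
noncomputable def evalPt : ↥(ChowOps.zk (Spec (CommRingCat.of k)) (fun _ => 0) 0) →+ ℤ where
  toFun α := (α : AlgebraicCycle (Spec (CommRingCat.of k)) ℤ) (IsLocalRing.closedPoint k)
  map_zero' := rfl
  map_add' _ _ := rfl

theorem ratTriv_le_ker : ChowOps.ratTriv (Spec (CommRingCat.of k)) (fun _ => 0) 0 ≤ (evalPt k).ker := by
  refine (AddSubgroup.closure_le _).mpr ?_
  rintro α ⟨ι, ξ, f, hξ, -, -, hα⟩
  have : IsEmpty ι := ⟨fun i => by have := hξ i; simp at this⟩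
  rw [SetLike.mem_coe, AddMonoidHom.mem_ker]
  show (α : AlgebraicCycle (Spec (CommRingCat.of k)) ℤ) (IsLocalRing.closedPoint k) = 0
  rw [hα]
  exact finsum_of_isEmpty _

/-- The degree on the Chow group of the point. -/
noncomputable def deg : ChowOps.CH (Spec (CommRingCat.of k)) (fun _ => 0) 0 →+ ℤ :=
  QuotientAddGroup.lift _ (evalPt k) (ratTriv_le_ker k)

theorem deg_cl (α : AlgebraicCycle (Spec (CommRingCat.of k)) ℤ) (h : α ∈ Cyc.Zk _ (fun _ => 0) 0) :
    deg k (ChowOps.cl α h) = α (IsLocalRing.closedPoint k) := rfl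

theorem deg_injective : Function.Injective (deg k) := by
  rw [injective_iff_map_eq_zero]
  intro c hc
  obtain ⟨⟨α, hα⟩, rfl⟩ := QuotientAddGroup.mk_surjective c
  have hα0 : α = 0 := Function.locallyFinsuppWithin.ext fun z => by
    rw [show z = IsLocalRing.closedPoint k from Subsingleton.elim (α := PrimeSpectrum k) _ _]
    exact hc
  have : (⟨α, hα⟩ : ↥(ChowOps.zk (Spec (CommRingCat.of k)) (fun _ => 0) 0)) = 0 := Subtype.ext hα0
  rw [this]
  rfl

theorem singleton_locallyFinite (F : Type u) [Field F] (a : ℤ) :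
    ∃ α : AlgebraicCycle (Spec (CommRingCat.of F)) ℤ, ∀ x, α x = a := by
  classical
  refine ⟨⟨fun _ => a, Set.subset_univ _, fun z _ => ⟨Set.univ, Filter.univ_mem, ?_⟩⟩, fun x => rfl⟩
  exact Set.Finite.subset (Set.finite_univ (α := PrimeSpectrum F)) (Set.subset_univ _)

theorem map_specMap (F : Type u) [Field F] [Algebra k F] (α : AlgebraicCycle (Spec (CommRingCat.of F)) ℤ) :
    AlgebraicCycle.map (Spec.map (CommRingCat.ofHom (algebraMap k F))) (fun _ => (0 : ℤ)) (fun _ => (0 : ℤ)) α
      (IsLocalRing.closedPoint k) = α (IsLocalRing.closedPoint F) * Module.finrank k F := by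
  classical
  have hset : (⇑(Spec.map (CommRingCat.ofHom (algebraMap k F))) ⁻¹'
      ({(IsLocalRing.closedPoint k : Spec (CommRingCat.of k))} : Set (Spec (CommRingCat.of k)))) =
      ({(IsLocalRing.closedPoint F : Spec (CommRingCat.of F))} : Set (Spec (CommRingCat.of F))) := by
    ext x
    exact ⟨fun _ => Subsingleton.elim (α := PrimeSpectrum F) _ _, fun _ => Subsingleton.elim (α := PrimeSpectrum k) _ _⟩
  rw [Lib.Cyc.Push.map_apply]
  refine (finsum_mem_congr hset (fun _ _ => rfl)).trans ((finsum_mem_singleton (a := (IsLocalRing.closedPoint F : Spec (CommRingCat.of F)))).trans ?_)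
  show _ * ((if (0 : ℤ) = 0 then _ else 0 : ℕ) : ℤ) = _
  rw [if_pos rfl, residueDegree_specMap]

/-- The image of the norm subgroup in `ℤ` is generated by the degrees. -/
theorem map_ptNormSubgroup (K : Type u) [Field K] [Algebra k K] :
    (QsChow.ptNormSubgroup k K).map (deg k) = AddSubgroup.closure
      {d | ∃ (F : IntermediateField k K) (_ : FiniteDimensional k F) (_ : F ≠ ⊥), d = (Module.finrank k F : ℤ)} := by
  rw [QsChow.ptNormSubgroup, AddMonoidHom.map_closure]
  refine le_antisymm ((AddSubgroup.closure_le _).mpr ?_) (AddSubgroup.closure_mono ?_)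
  · rintro _ ⟨c, ⟨F, hF, hne, α, h, rfl⟩, rfl⟩
    have hmem : (Module.finrank k F : ℤ) ∈ {d | ∃ (F : IntermediateField k K) (_ : FiniteDimensional k F)
        (_ : F ≠ ⊥), d = (Module.finrank k F : ℤ)} := ⟨F, hF, hne, rfl⟩
    rw [deg_cl, map_specMap, SetLike.mem_coe, ← smul_eq_mul]
    exact AddSubgroup.zsmul_mem _ (AddSubgroup.subset_closure hmem) _
  · rintro _ ⟨F, hF, hne, rfl⟩
    obtain ⟨α, hα⟩ := singleton_locallyFinite F 1
    have h : AlgebraicCycle.map (Spec.map (CommRingCat.ofHom (algebraMap k F)))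
        (fun _ => (0 : ℤ)) (fun _ => (0 : ℤ)) α ∈ Cyc.Zk (Spec (CommRingCat.of k)) (fun _ => 0) 0 :=
      fun x hx => absurd rfl hx
    refine ⟨ChowOps.cl _ h, ⟨F, hF, hne, α, h, rfl⟩, ?_⟩
    rw [deg_cl, map_specMap, hα, one_mul]

theorem deg_surjective : Function.Surjective (deg k) := fun a => by
  obtain ⟨α, hα⟩ := singleton_locallyFinite k a
  exact ⟨ChowOps.cl α (fun x hx => absurd rfl hx), hα _⟩

end Groth.Agent.H68.PtChow
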