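import Groth.Prelude.Def_FEt
import Groth.Agent.H26.Punctured
import Groth.Agent.Lib.Unram.BaseChangeNhd
import Mathlib.AlgebraicGeometry.Noetherian
import Mathlib.AlgebraicGeometry.Morphisms.OpenImmersion
import Mathlib.AlgebraicGeometry.Morphisms.Affine
import Mathlib.AlgebraicGeometry.Morphisms.Separated
import Mathlib.AlgebraicGeometry.PullbackCarrier
import Mathlib.RingTheory.Spectrum.Prime.LTSeries
import Mathlib.RingTheory.EssentialFiniteness

/-!
# Morphisms which are open immersions off the closed point of a local ring satisfying condition (W)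
-/

set_option autoImplicit false
universe u
open CategoryTheory CategoryTheory.Limits AlgebraicGeometry TopologicalSpace

namespace Groth.Agent.H68.PunctW

/-- Condition (W): an open of the punctured spectrum which contains none of its irreducible
components and is affine over it is affine. -/
def CondW (R : CommRingCat.{u}) [IsLocalRing R] : Prop :=
  ∀ U : (Spec R).Opens, ∀ hU : U ≤ FEt.puncturedSpec ↑R,
    (∀ T ∈ irreducibleComponents ↥(FEt.puncturedSpec ↑R), ¬ Subtype.val '' T ⊆ (U : Set _)) →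
    IsAffineHom ((Spec R).homOfLE hU) → IsAffineOpen U

variable {R B : CommRingCat.{u}} [IsLocalRing R] [IsNoetherianRing R] [IsNoetherianRing B]

theorem height_le_one (hW : CondW R) (φ : R ⟶ B)
    [IsOpenImmersion ((Spec.map φ ⁻¹ᵁ FEt.puncturedSpec ↑R).ι ≫ Spec.map φ)]
    (z z₁ : PrimeSpectrum B) (hz : z ∉ Spec.map φ ⁻¹ᵁ FEt.puncturedSpec ↑R)
    (hmax : ∀ q : PrimeSpectrum B, q ≤ z → q ∉ Spec.map φ ⁻¹ᵁ FEt.puncturedSpec ↑R → q = z)
    (hz1 : z < z₁) : z.asIdeal.height ≤ 1 := by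
  classical
  let h : Spec B ⟶ Spec R := Spec.map φ
  let S' : (Spec R).Opens := FEt.puncturedSpec ↑R
  let W : (Spec B).Opens := h ⁻¹ᵁ S'
  let k : W.toScheme ⟶ Spec R := W.ι ≫ h
  haveI : IsOpenImmersion k := ‹_›
  let I : Ideal B := (IsLocalRing.maximalIdeal R).map φ.hom
  have hWI : ∀ q : PrimeSpectrum B, q ∈ W ↔ ¬ I ≤ q.asIdeal := by
    intro q
    rw [Ideal.map_le_iff_le_comap]
    show (PrimeSpectrum.comap φ.hom q ≠ IsLocalRing.closedPoint R) ↔ _
    refine not_congr ⟨fun e => ?_, fun e => ?_⟩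
    · exact (congrArg PrimeSpectrum.asIdeal e).ge
    · exact PrimeSpectrum.ext (le_antisymm (IsLocalRing.le_maximalIdeal (PrimeSpectrum.comap φ.hom q).2.ne_top) e)
  have hIz : I ≤ z.asIdeal := by
    by_contra e
    exact hz ((hWI z).2 e)
  have hzW : ∀ q : PrimeSpectrum B, q < z → q ∈ W := fun q hq => by
    by_contra e
    exact hq.ne (hmax q hq.le e)
  -- the points over the minimal primes of `R`
  let M : Set W.toScheme := k ⁻¹' {r : PrimeSpectrum R | r.asIdeal ∈ minimalPrimes R}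
  let pt : W.toScheme → PrimeSpectrum B := fun m => W.ι m
  have hM : M.Finite := by
    refine Set.Finite.preimage k.isOpenEmbedding.injective.injOn ?_
    exact (minimalPrimes.finite_of_isNoetherianRing R).preimage
      (fun a _ b _ e => PrimeSpectrum.ext e)
  -- the finitely many primes to avoid
  let P : Set (Ideal B) := insert z.asIdeal
    (⋃ m ∈ {m ∈ M | (pt m) ≤ z}, ((pt m).asIdeal ⊔ I).minimalPrimes)
  have hP : P.Finite := ((hM.subset fun m hm => hm.1).biUnion fun m _ =>
    Ideal.finite_minimalPrimes_of_isNoetherianRing B _).insert _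
  have hP1 : ∀ p ∈ P, p.IsPrime := by
    intro p hp
    simp only [P, Set.mem_insert_iff, Set.mem_iUnion] at hp
    rcases hp with rfl | ⟨m, _, hp⟩
    · exact z.2
    · exact hp.1.1
  obtain ⟨f, hf1, hf⟩ : ∃ f ∈ z₁.asIdeal, ∀ p ∈ P, f ∉ p := by
    by_contra e
    push Not at e
    have hsub : ((z₁.asIdeal : Ideal B) : Set B) ⊆ ⋃ p ∈ ↑hP.toFinset, ((id p : Ideal B) : Set B) :=
      fun x hx => by
        obtain ⟨p, hp, hxp⟩ := e x hx
        exact Set.mem_biUnion (hP.mem_toFinset.2 hp) hxp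
    obtain ⟨p, hp, hle⟩ := (Ideal.subset_union_prime (f := id) ⊥ ⊥ fun p hp _ _ =>
      hP1 p (hP.mem_toFinset.1 hp)).1 hsub
    rw [hP.mem_toFinset] at hp
    simp only [P, Set.mem_insert_iff, Set.mem_iUnion] at hp
    change z₁.asIdeal ≤ p at hle
    rcases hp with rfl | ⟨m, ⟨_, hm⟩, hp⟩
    · exact not_lt_of_ge hle hz1
    · exact not_lt_of_ge (hle.trans (hp.2 ⟨z.2, sup_le hm hIz⟩
        (le_trans (b := z₁.asIdeal) hz1.le hle))) hz1
  -- one equation per component
  have hg : ∀ m : W.toScheme, ∃ g : B, g ∉ z.asIdeal ∧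
      (¬ (pt m) ≤ z → g ∈ (pt m).asIdeal) := by
    intro m
    by_cases hm : (pt m) ≤ z
    · exact ⟨1, z.asIdeal.ne_top_iff_one.1 z.2.ne_top, fun e => absurd hm e⟩
    · obtain ⟨g, hg1, hg2⟩ := SetLike.not_le_iff_exists.1
        (show ¬ (pt m).asIdeal ≤ z.asIdeal from hm)
      exact ⟨g, hg2, fun _ => hg1⟩
  choose gm hgm1 hgm2 using hg
  let g : B := f * ∏ m ∈ hM.toFinset, gm m
  have hgz : g ∉ z.asIdeal := by
    intro e
    rcases z.2.mem_or_mem e with e | e
    · exact hf _ (Set.mem_insert _ _) e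
    · obtain ⟨m, _, hm⟩ := (Ideal.IsPrime.prod_mem_iff).1 e
      exact hgm1 m hm
  let D : (Spec B).Opens := PrimeSpectrum.basicOpen g
  let W₂ : W.toScheme.Opens := W.ι ⁻¹ᵁ D
  let U : (Spec R).Opens := k ''ᵁ W₂
  have hkW : ∀ w : W.toScheme, k w ∈ S' := fun w => w.2
  have hU : U ≤ FEt.puncturedSpec ↑R := by
    rintro _ ⟨w, _, rfl⟩
    exact hkW w
  have hUnc : ∀ T ∈ irreducibleComponents ↥(FEt.puncturedSpec ↑R),
      ¬ Subtype.val '' T ⊆ (U : Set _) := by
    intro T hT hsub
    have hTi : IsIrreducible T := hT.1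
    have hTc : IsClosed T := isClosed_of_mem_irreducibleComponents T hT
    haveI : QuasiSober ↥(FEt.puncturedSpec ↑R) :=
      (FEt.puncturedSpec ↑R).2.isOpenEmbedding_subtypeVal.quasiSober
    let t := hTi.genericPoint
    have ht : IsGenericPoint t T := by
      have := hTi.isGenericPoint_genericPoint_closure
      rwa [hTc.closure_eq] at this
    haveI := (t.1 : PrimeSpectrum R).2
    obtain ⟨r, hr, hrt⟩ := Ideal.exists_minimalPrimes_le
      (bot_le : (⊥ : Ideal R) ≤ (t.1 : PrimeSpectrum R).asIdeal)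
    have hrp : r.IsPrime := hr.1.1
    let r' : PrimeSpectrum R := ⟨r, hrp⟩
    have hr' : r' ∈ FEt.puncturedSpec ↑R := by
      intro (e : r' = IsLocalRing.closedPoint R)
      refine t.2 (PrimeSpectrum.ext (le_antisymm ?_ ?_))
      · exact IsLocalRing.le_maximalIdeal (t.1 : PrimeSpectrum R).2.ne_top
      · exact (congrArg PrimeSpectrum.asIdeal e).ge.trans hrt
    let r₀ : ↥(FEt.puncturedSpec ↑R) := ⟨r', hr'⟩
    have hspec : r₀ ⤳ t := by
      rw [subtype_specializes_iff]
      exact (PrimeSpectrum.le_iff_specializes r' _).1 hrt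
    have hle : T ⊆ closure {r₀} := by
      rw [← ht.def]
      exact closure_minimal (Set.singleton_subset_iff.2 hspec.mem_closure) isClosed_closure
    have hTeq : closure {r₀} ⊆ T := hT.2 isIrreducible_singleton.closure hle
    obtain ⟨w, hwD, hw⟩ := hsub (Set.mem_image_of_mem _ (hTeq (subset_closure rfl)))
    have hwM : w ∈ M := by
      show k w ∈ {r : PrimeSpectrum R | r.asIdeal ∈ minimalPrimes R}
      have e : k w = r₀.1 := hw
      rw [e]
      exact hr
    -- a specialisation of `w` in `W` where `g` vanishes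
    obtain ⟨v, hvW, hwv, hgv⟩ : ∃ v : PrimeSpectrum B, v ∈ W ∧
        (pt w) ≤ v ∧ g ∈ v.asIdeal := by
      by_cases hwz : (pt w) ≤ z
      · let wp : PrimeSpectrum B := pt w
        obtain ⟨v, hv, hvz⟩ := Ideal.exists_minimalPrimes_le (I := wp.asIdeal ⊔ Ideal.span {f})
          (J := z₁.asIdeal) (sup_le (hwz.trans hz1.le) ((Ideal.span_singleton_le_iff_mem _).2 hf1))
        have hvp : v.IsPrime := hv.1.1
        have hfv : f ∈ v := hv.1.2 (Ideal.mem_sup_right (Ideal.mem_span_singleton_self f))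
        refine ⟨⟨v, hvp⟩, ?_, le_sup_left.trans hv.1.2, v.mul_mem_right _ hfv⟩
        by_contra hvW
        have hIv : I ≤ v := by
          by_contra e
          exact hvW ((hWI ⟨v, hvp⟩).2 e)
        obtain ⟨v₀, hv₀, hv₀v⟩ := Ideal.exists_minimalPrimes_le (I := wp.asIdeal ⊔ I) (J := v)
          (sup_le (le_sup_left.trans hv.1.2) hIv)
        have hv₀p : v₀.IsPrime := hv₀.1.1
        have hfv₀ : f ∉ v₀ := by
          refine hf v₀ (Set.mem_insert_of_mem _ ?_)
          exact Set.mem_biUnion (show w ∈ {m ∈ M | (pt m) ≤ z} from ⟨hwM, hwz⟩) hv₀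
        have h1 : wp < ⟨v₀, hv₀p⟩ := by
          refine lt_of_le_of_ne (le_sup_left.trans hv₀.1.2) fun e => ?_
          exact ((hWI wp).1 w.2) (le_sup_right.trans (hv₀.1.2.trans
            (congrArg PrimeSpectrum.asIdeal e).ge))
        have h2 : (⟨v₀, hv₀p⟩ : PrimeSpectrum B) < ⟨v, hvp⟩ :=
          lt_of_le_of_ne hv₀v fun e => hfv₀ (by rw [show v₀ = v from congrArg PrimeSpectrum.asIdeal e]; exact hfv)
        obtain ⟨q, hq, hq1, hq2⟩ := PrimeSpectrum.exist_mem_one_of_mem_two h1 h2 hfv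
        refine hq2.ne (PrimeSpectrum.ext (le_antisymm hq2.le (hv.2 ⟨q.2, sup_le hq1.le ?_⟩ hq2.le)))
        exact (Ideal.span_singleton_le_iff_mem _).2 hq
      · refine ⟨pt w, w.2, le_rfl, Ideal.mul_mem_left _ _ ?_⟩
        exact (Ideal.IsPrime.prod_mem_iff).2 ⟨w, hM.mem_toFinset.2 hwM, hgm2 w hwz⟩
    let v₀ : W.toScheme := ⟨v, hvW⟩
    have hspec' : w ⤳ v₀ :=
      W.ι.isOpenEmbedding.isInducing.specializes_iff.1
        ((PrimeSpectrum.le_iff_specializes (pt w) v).1 hwv)
    have hkv : (⟨k v₀, hkW v₀⟩ : ↥(FEt.puncturedSpec ↑R)) ∈ T := by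
      refine hTeq (specializes_iff_mem_closure.1 ?_)
      rw [subtype_specializes_iff]
      have e : k w = r₀.1 := hw
      exact e ▸ hspec'.map k.continuous
    obtain ⟨w', hw'D, hw'⟩ := hsub (Set.mem_image_of_mem _ hkv)
    obtain rfl := k.isOpenEmbedding.injective hw'
    exact hw'D hgv
  -- the inclusion is affine
  have hAff : IsAffineHom ((Spec R).homOfLE hU) := by
    constructor
    intro V hV
    rw [← U.ι.isAffineOpen_iff_of_isOpenImmersion]
    let V' : (Spec R).Opens := (FEt.puncturedSpec ↑R).ι ''ᵁ V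
    have hV' : IsAffineOpen V' := hV.image_of_isOpenImmersion _
    have e1 : U.ι ''ᵁ ((Spec R).homOfLE hU ⁻¹ᵁ V) = k ''ᵁ (W.ι ⁻¹ᵁ (D ⊓ h ⁻¹ᵁ V')) := by
      apply Opens.ext
      ext x
      constructor
      · rintro ⟨a, ha, rfl⟩
        obtain ⟨w, hwD, hw⟩ := a.2
        refine ⟨w, ⟨hwD, ?_⟩, hw⟩
        show k w ∈ V'
        have e : k w = a.1 := hw
        rw [e]
        exact ⟨(Spec R).homOfLE hU a, ha, Scheme.homOfLE_apply hU a⟩
      · rintro ⟨w, ⟨hwD, hwV⟩, rfl⟩
        have hwU : k w ∈ U := ⟨w, hwD, rfl⟩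
        refine ⟨⟨k w, hwU⟩, ?_, rfl⟩
        obtain ⟨b, hb, hb'⟩ := hwV
        have : (Spec R).homOfLE hU ⟨k w, hwU⟩ = b :=
          Subtype.ext ((Scheme.homOfLE_apply hU _).trans hb'.symm)
        show (Spec R).homOfLE hU ⟨k w, hwU⟩ ∈ V
        rw [this]
        exact hb
    rw [e1, k.isAffineOpen_iff_of_isOpenImmersion, ← W.ι.isAffineOpen_iff_of_isOpenImmersion,
      W.ι.image_preimage_eq_opensRange_inf, Scheme.Opens.opensRange_ι]
    have hhV : IsAffineOpen (h ⁻¹ᵁ V') := hV'.preimage h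
    have e2 : W ⊓ (D ⊓ h ⁻¹ᵁ V') = (Spec B).basicOpen
        ((Spec B).presheaf.map (homOfLE (le_top : h ⁻¹ᵁ V' ≤ ⊤)).op
          ((Scheme.ΓSpecIso B).inv g)) := by
      rw [Scheme.basicOpen_res, basicOpen_eq_of_affine]
      refine le_antisymm (le_inf (inf_le_right.trans inf_le_right) (inf_le_right.trans inf_le_left))
        (le_inf ?_ (le_inf inf_le_right inf_le_left))
      refine inf_le_left.trans fun x hx => ?_
      obtain ⟨b, _, hb⟩ := hx
      show h x ∈ S'
      rw [← hb]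
      exact b.2
    rw [e2]
    exact hhV.basicOpen _
  have hUaff : IsAffineOpen U := hW U hU hUnc hAff
  have hAffW : IsAffineOpen (W ⊓ D) := by
    rw [← Scheme.Opens.opensRange_ι W, ← W.ι.image_preimage_eq_opensRange_inf,
      W.ι.isAffineOpen_iff_of_isOpenImmersion]
    exact k.isAffineOpen_iff_of_isOpenImmersion.1 hUaff
  -- pass to the local ring at `z`
  let L := Localization.AtPrime z.asIdeal
  let j : Spec (CommRingCat.of L) ⟶ Spec B := Spec.map (CommRingCat.ofHom (algebraMap B L))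
  haveI : IsNoetherianRing L := IsLocalization.isNoetherianRing z.asIdeal.primeCompl L ‹_›
  have hjz : PrimeSpectrum.comap (algebraMap B L) (IsLocalRing.closedPoint L) = z :=
    PrimeSpectrum.ext (IsLocalization.AtPrime.comap_maximalIdeal L z.asIdeal)
  have hpre : j ⁻¹ᵁ (W ⊓ D) = FEt.puncturedSpec L := by
    ext q
    show (PrimeSpectrum.comap (algebraMap B L) q ∈ W ∧
      g ∉ (PrimeSpectrum.comap (algebraMap B L) q).asIdeal) ↔ (q : PrimeSpectrum L) ≠ IsLocalRing.closedPoint L
    have hinj := PrimeSpectrum.localization_comap_injective L z.asIdeal.primeCompl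
    have hle : PrimeSpectrum.comap (algebraMap B L) q ≤ z := by
      refine le_of_le_of_eq ?_ hjz
      exact Ideal.comap_mono (IsLocalRing.le_maximalIdeal (PrimeSpectrum.isPrime (R := L) q).ne_top)
    constructor
    · rintro ⟨h1, -⟩ rfl
      rw [hjz] at h1
      exact hz h1
    · intro hq
      refine ⟨hzW _ (lt_of_le_of_ne hle fun e => hq (hinj (e.trans hjz.symm))), fun e => hgz (hle e)⟩
  have haffL : IsAffineOpen (FEt.puncturedSpec L) := by
    rw [← hpre]
    exact hAffW.preimage j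
  have := Groth.Agent.H26.Punctured.ringKrullDim_le_one_of_isAffineOpen L haffL
  rw [IsLocalization.AtPrime.ringKrullDim_eq_height z.asIdeal] at this
  exact_mod_cast this

end Groth.Agent.H68.PunctW
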