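import Groth.Agent.H68.PunctW
import Mathlib.AlgebraicGeometry.Morphisms.LocalIso
import Mathlib.AlgebraicGeometry.Morphisms.ClosedImmersion
import Mathlib.Topology.NoetherianSpace

/-!
# Reduction to the local ring of the target
-/

set_option autoImplicit false
universe u
open CategoryTheory CategoryTheory.Limits AlgebraicGeometry TopologicalSpace
open scoped TensorProduct

namespace Groth.Agent.H68.PunctW

variable {X Y : Scheme.{u}}

theorem isPullback_comp_mono {C : Type*} [Category C] {P A B S T : C} {p : P ⟶ A} {q : P ⟶ B}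
    {f : A ⟶ S} {g : B ⟶ S} (h : IsPullback p q f g) (i : S ⟶ T) [Mono i] :
    IsPullback p q (f ≫ i) (g ≫ i) :=
  ⟨⟨by simp only [← Category.assoc, h.w]⟩,
    ⟨PullbackCone.isLimitOfCompMono f g i _ h.isLimit⟩⟩

theorem exists_tensor {A B₀ R : CommRingCat.{u}} (a : A ⟶ B₀) (c : A ⟶ R) [IsNoetherianRing B₀]
    (hc : @Algebra.EssFiniteType A R _ _ c.hom.toAlgebra) :
    ∃ (B : CommRingCat.{u}) (_ : IsNoetherianRing B) (φ : R ⟶ B) (ψ : B₀ ⟶ B),
      IsPullback (Spec.map ψ) (Spec.map φ) (Spec.map a) (Spec.map c) := by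
  algebraize [a.hom, c.hom]
  haveI : Algebra.EssFiniteType A R := hc
  haveI : IsNoetherianRing (B₀ ⊗[A] R) := Algebra.EssFiniteType.isNoetherianRing B₀ _
  exact ⟨CommRingCat.of (B₀ ⊗[A] R), ‹_›, _, _,
    isPullback_SpecMap_of_isPushout _ _ _ _ (CommRingCat.isPushout_tensorProduct A B₀ R)⟩

/-- The pullback of an affine open to the spectrum of a local ring of the target is affine and
Noetherian. -/
theorem exists_setup [IsLocallyNoetherian X] [IsLocallyNoetherian Y] (g : X ⟶ Y) (y : ↥Y)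
    {V : Y.Opens} (hV : IsAffineOpen V) (hy : y ∈ V) {O : X.Opens} (hO : IsAffineOpen O)
    (e : O ≤ g ⁻¹ᵁ V) :
    ∃ (B : CommRingCat.{u}) (_ : IsNoetherianRing B) (φ : Y.presheaf.stalk y ⟶ B)
      (p : Spec B ⟶ O.toScheme), IsPullback p (Spec.map φ) (O.ι ≫ g) (Y.fromSpecStalk y) := by
  haveI : IsNoetherianRing Γ(X, O) := IsLocallyNoetherian.component_noetherian ⟨O, hO⟩
  obtain ⟨B, hB, φ, ψ, h1⟩ := exists_tensor (g.appLE V O e) (Y.presheaf.germ V y hy) (by
    letI := (Y.presheaf.germ V y hy).hom.toAlgebra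
    haveI := hV.isLocalization_stalk ⟨y, hy⟩
    exact Algebra.EssFiniteType.of_isLocalization _ (hV.primeIdealOf ⟨y, hy⟩).asIdeal.primeCompl)
  refine ⟨B, hB, φ, Spec.map ψ ≫ hO.isoSpec.inv, ?_⟩
  have hy' : Y.fromSpecStalk y = Spec.map (Y.presheaf.germ V y hy) ≫ hV.fromSpec := by
    rw [← hV.fromSpecStalk_eq_fromSpecStalk hy, IsAffineOpen.fromSpecStalk]
  haveI := hV.isOpenImmersion_fromSpec
  have h2 : IsPullback (Spec.map ψ) (Spec.map φ)
      (hO.fromSpec ≫ g) (Y.fromSpecStalk y) := by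
    rw [hy', ← IsAffineOpen.SpecMap_appLE_fromSpec g hV hO e]
    exact isPullback_comp_mono h1 hV.fromSpec
  exact h2.of_iso (Iso.refl _) hO.isoSpec.symm (Iso.refl _) (Iso.refl _) (by simp) (by simp)
    (by rw [Iso.symm_hom, ← Category.assoc, IsAffineOpen.isoSpec_inv_ι]; exact Category.comp_id _) (by simp)

/-- A flat preimmersion induces isomorphisms on the local rings. -/
theorem bijective_stalkMap {P Q : Scheme.{u}} (f : P ⟶ Q) [IsPreimmersion f] [Flat f] (x : ↥P) :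
    Function.Bijective (f.stalkMap x) := by
  refine ⟨?_, f.stalkMap_surjective x⟩
  algebraize [(f.stalkMap x).hom]
  have : Module.FaithfullyFlat (Q.presheaf.stalk (f x)) (P.presheaf.stalk x) :=
    @Module.FaithfullyFlat.of_flat_of_isLocalHom _ _ _ _ _ _ _
      (Flat.stalkMap f x) (f.toLRSHom.prop x)
  exact ‹RingHom.FaithfullyFlat _›.injective

variable {g : X ⟶ Y} {y : ↥Y} {O : X.Opens} {B : CommRingCat.{u}} {φ : Y.presheaf.stalk y ⟶ B}
  {p : Spec B ⟶ O.toScheme}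

theorem preimmersion_flat (hpb : IsPullback p (Spec.map φ) (O.ι ≫ g) (Y.fromSpecStalk y)) :
    IsPreimmersion p ∧ Flat p := by
  haveI : IsPreimmersion (Y.fromSpecStalk y) := inferInstance
  have h1 : Flat (Y.fromSpecStalk y) :=
    Groth.Agent.Lib.Unram.BaseChangeNhd.flat_fromSpecStalk y
  exact ⟨MorphismProperty.of_isPullback hpb.flip inferInstance,
    MorphismProperty.of_isPullback hpb.flip h1⟩

theorem apply_eq (hpb : IsPullback p (Spec.map φ) (O.ι ≫ g) (Y.fromSpecStalk y)) (q : ↥(Spec B)) :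
    g (p q).1 = Y.fromSpecStalk y (Spec.map φ q) := by
  rw [← Scheme.Hom.comp_apply, ← hpb.w]
  rfl

theorem mem_punctured_iff (hpb : IsPullback p (Spec.map φ) (O.ι ≫ g) (Y.fromSpecStalk y))
    (q : ↥(Spec B)) : q ∈ Spec.map φ ⁻¹ᵁ FEt.puncturedSpec ↑(Y.presheaf.stalk y) ↔ g (p q).1 ≠ y := by
  show Spec.map φ q ≠ IsLocalRing.closedPoint (Y.presheaf.stalk y) ↔ _
  rw [apply_eq hpb]
  refine not_congr ⟨fun e => by rw [e]; exact Scheme.fromSpecStalk_closedPoint, fun e => ?_⟩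
  exact (Y.fromSpecStalk y).isEmbedding.injective (e.trans Scheme.fromSpecStalk_closedPoint.symm)

theorem exists_preimage (hpb : IsPullback p (Spec.map φ) (O.ι ≫ g) (Y.fromSpecStalk y))
    (x : ↥X) (hx : x ∈ O) (hgx : g x ⤳ y) : ∃ q : ↥(Spec B), (p q).1 = x := by
  obtain ⟨s, hs⟩ : g x ∈ Set.range (Y.fromSpecStalk y) := by
    rw [Scheme.range_fromSpecStalk]; exact hgx
  obtain ⟨q, hq, -⟩ := Scheme.exists_preimage_of_isPullback hpb (⟨x, hx⟩ : O.toScheme) s hs.symm
  exact ⟨q, congrArg Subtype.val hq⟩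

/-- The local statement, in terms of the fibre product with the spectrum of the local ring. -/
theorem dim_le_one_or_isolated [IsLocallyNoetherian Y] [IsNoetherianRing B]
    (hpb : IsPullback p (Spec.map φ) (O.ι ≫ g) (Y.fromSpecStalk y))
    (hW : CondW (Y.presheaf.stalk y))
    [IsOpenImmersion ((Spec.map φ ⁻¹ᵁ FEt.puncturedSpec ↑(Y.presheaf.stalk y)).ι ≫ Spec.map φ)]
    (z : ↥X) (hzO : z ∈ O) (hz : g z = y) (hmax : ∀ z' : ↥X, g z' = y → z' ⤳ z → z' = z) :
    ringKrullDim ↑(X.presheaf.stalk z) ≤ 1 ∨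
      ∃ O' : X.Opens, z ∈ O' ∧ ∀ z' : ↥X, z' ∈ O' → g z' = y → z' = z := by
  classical
  obtain ⟨hp1, hp2⟩ := preimmersion_flat hpb
  obtain ⟨(zB : PrimeSpectrum B), hzB⟩ := exists_preimage hpb z hzO (hz ▸ specializes_rfl)
  let pt : ↥(Spec B) → ↥X := fun q => (p q).1
  have hinj : ∀ {a b : ↥(Spec B)}, (p a).1 = (p b).1 → a = b := fun h =>
    p.isEmbedding.injective (Subtype.ext h)
  have hspec : ∀ {a b : PrimeSpectrum B}, a ≤ b ↔ pt a ⤳ pt b := fun {a b} => by
    rw [PrimeSpectrum.le_iff_specializes]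
    exact (O.ι.isOpenEmbedding.isEmbedding.comp p.isEmbedding).isInducing.specializes_iff.symm
  have hmem := mem_punctured_iff hpb
  by_cases hz1 : ∃ z₁ : PrimeSpectrum B, (zB : PrimeSpectrum B) < z₁
  · obtain ⟨z₁, hz1⟩ := hz1
    left
    have h1 := height_le_one hW φ zB z₁ (fun h => (hmem zB).1 h (by rw [hzB, hz]))
      (fun q hq hqW => hinj ((hmax _ (Classical.not_not.1 fun h => hqW ((hmem q).2 h))
        (hzB ▸ hspec.1 hq)).trans hzB.symm)) hz1
    subst hzB
    have b1 : Function.Bijective (p.stalkMap zB) := bijective_stalkMap p zB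
    have b2 : Function.Bijective (O.ι.stalkMap (p zB)) :=
      ConcreteCategory.bijective_of_isIso (O.ι.stalkMap (p zB))
    have e1 := ringKrullDim_eq_of_ringEquiv (RingEquiv.ofBijective (p.stalkMap zB).hom b1)
    have e2 := ringKrullDim_eq_of_ringEquiv (RingEquiv.ofBijective (O.ι.stalkMap (p zB)).hom b2)
    show ringKrullDim ↑(X.presheaf.stalk (O.ι (p zB))) ≤ 1
    rw [e2, e1]
    let : Algebra B ((Spec B).presheaf.stalk zB) := AlgebraicGeometry.StructureSheaf.stalkAlgebra B zB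
    have : IsLocalization.AtPrime ((Spec B).presheaf.stalk zB) (zB : PrimeSpectrum B).asIdeal :=
      StructureSheaf.IsLocalization.to_stalk B zB
    rw [IsLocalization.AtPrime.ringKrullDim_eq_height (zB : PrimeSpectrum B).asIdeal]
    exact_mod_cast h1
  · right
    let I : Ideal B := (IsLocalRing.maximalIdeal (Y.presheaf.stalk y)).map φ.hom
    have hI : ∀ q : PrimeSpectrum B, I ≤ q.asIdeal ↔ g (pt q) = y := fun q => by
      refine not_iff_not.1 (Iff.trans ?_ (hmem q))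
      rw [Ideal.map_le_iff_le_comap]
      refine not_congr ⟨fun e => ?_, fun e => (congrArg PrimeSpectrum.asIdeal e).ge⟩
      exact PrimeSpectrum.ext (le_antisymm
        (IsLocalRing.le_maximalIdeal (PrimeSpectrum.comap φ.hom q).2.ne_top) e)
    let F : Set ↥X := pt '' {q : PrimeSpectrum B | q.asIdeal ∈ I.minimalPrimes ∧ q ≠ zB}
    have hF : F.Finite := (((Ideal.finite_minimalPrimes_of_isNoetherianRing B I).preimage
      (fun a _ b _ e => PrimeSpectrum.ext e)).subset fun q hq => hq.1).image _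
    let C : Set ↥X := ⋃ x ∈ F, closure {x}
    have hC : IsClosed C := hF.isClosed_biUnion fun _ _ => isClosed_closure
    refine ⟨O ⊓ ⟨Cᶜ, hC.isOpen_compl⟩, ⟨hzO, ?_⟩, ?_⟩
    · intro hzC
      obtain ⟨_, ⟨q, ⟨hq, hqne⟩, rfl⟩, hxq⟩ := Set.mem_iUnion₂.1 hzC
      exact hqne (hinj ((hmax _ ((hI q).1 hq.1.2) (specializes_iff_mem_closure.2 hxq)).trans hzB.symm))
    · rintro z' ⟨hz'O, hz'C⟩ hgz'
      obtain ⟨(q : PrimeSpectrum B), rfl⟩ := exists_preimage hpb z' hz'O (hgz' ▸ specializes_rfl)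
      obtain ⟨r, hr, hrq⟩ := Ideal.exists_minimalPrimes_le ((hI q).2 hgz')
      by_cases h : (⟨r, hr.1.1⟩ : PrimeSpectrum B) = zB
      · have h0 : (⟨r, hr.1.1⟩ : PrimeSpectrum B) ≤ q := hrq
        have h1 : (zB : PrimeSpectrum B) ≤ q := h ▸ h0
        rw [(h1.eq_or_lt.resolve_right fun h2 => hz1 ⟨q, h2⟩).symm]
        exact hzB
      · exact absurd (Set.mem_biUnion (Set.mem_image_of_mem pt
          (show (⟨r, hr.1.1⟩ : PrimeSpectrum B) ∈ {q : PrimeSpectrum B | q.asIdeal ∈ I.minimalPrimes ∧ q ≠ zB} from ⟨hr, h⟩))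
          (specializes_iff_mem_closure.1 (hspec.1 (show (⟨r, hr.1.1⟩ : PrimeSpectrum B) ≤ q from hrq))))
          hz'C

/-- A separated local isomorphism with preirreducible source is an open immersion. -/
theorem isOpenImmersion_of_isLocalIso {W S : Scheme.{u}} (f : W ⟶ S) [IsSeparated f]
    [IsLocalIso f] [PreirreducibleSpace ↥W] : IsOpenImmersion f := by
  have hU : ∀ w : ↥W, ∃ U : W.Opens, w ∈ U ∧ IsOpenImmersion (U.ι ≫ f) :=
    IsLocalIso.exists_isOpenImmersion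
  choose U hwU hUf using hU
  have hstalk : ∀ w, IsIso (f.stalkMap w) := fun w => by
    haveI := hUf w
    have h1 : IsIso (((U w).ι ≫ f).stalkMap ⟨w, hwU w⟩) := inferInstance
    rw [Scheme.Hom.stalkMap_comp] at h1
    have h2 : IsIso ((U w).ι.stalkMap (⟨w, hwU w⟩ : (U w).toScheme)) := inferInstance
    exact @IsIso.of_isIso_comp_right _ _ _ _ _ _ _ h2 h1
  have hopen : IsOpenMap f := by
    intro s hs
    have : f '' s = ⋃ w, ((U w).ι ≫ f) '' ((U w).ι ⁻¹' s) := by
      ext x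
      simp only [Set.mem_image, Set.mem_iUnion, Set.mem_preimage]
      constructor
      · rintro ⟨w, hw, rfl⟩; exact ⟨w, ⟨w, hwU w⟩, hw, rfl⟩
      · rintro ⟨w, a, ha, rfl⟩; exact ⟨(U w).ι a, ha, rfl⟩
    rw [this]
    exact isOpen_iUnion fun w => by
      haveI := hUf w
      exact ((U w).ι ≫ f).isOpenEmbedding.isOpenMap _ (hs.preimage (U w).ι.continuous)
  have hinj : Function.Injective f := by
    intro w₁ w₂ e
    haveI := hUf w₁
    let k := (U w₁).ι ≫ f
    let V : S.Opens := k.opensRange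
    have hle : U w₁ ≤ f ⁻¹ᵁ V := fun a ha => ⟨⟨a, ha⟩, rfl⟩
    let i : (U w₁).toScheme ⟶ (f ⁻¹ᵁ V).toScheme := W.homOfLE hle
    have hi : i ≫ f ∣_ V = k.isoOpensRange.hom := by
      rw [← cancel_mono V.ι]
      simp [i, k, V]
    haveI : IsClosedImmersion (i ≫ f ∣_ V) := by rw [hi]; infer_instance
    haveI : IsSeparated (f ∣_ V) := IsZariskiLocalAtTarget.restrict ‹_› V
    haveI := IsClosedImmersion.of_comp i (f ∣_ V)
    have h2 : w₂ ∈ f ⁻¹ᵁ V := by
      show f w₂ ∈ V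
      rw [← e]; exact ⟨⟨w₁, hwU w₁⟩, rfl⟩
    have hpre : IsPreirreducible (f ⁻¹ᵁ V : Set ↥W) :=
      PreirreducibleSpace.isPreirreducible_univ.open_subset (f ⁻¹ᵁ V).2 (Set.subset_univ _)
    haveI : PreirreducibleSpace ↥(f ⁻¹ᵁ V).toScheme := Subtype.preirreducibleSpace hpre
    haveI : PreconnectedSpace ↥(f ⁻¹ᵁ V).toScheme :=
      ⟨(PreirreducibleSpace.isPreirreducible_univ (X := ↥(f ⁻¹ᵁ V).toScheme)).isPreconnected⟩
    have hclopen : IsClopen (Set.range i) :=
      ⟨i.isClosedEmbedding.isClosed_range, i.isOpenEmbedding.isOpen_range⟩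
    obtain ⟨a, ha⟩ := (hclopen.eq_univ ⟨_, ⟨⟨w₁, hwU w₁⟩, rfl⟩⟩).symm ▸ Set.mem_univ (⟨w₂, h2⟩ : ↥(f ⁻¹ᵁ V).toScheme)
    have ha' : a.1 = w₂ := (Scheme.homOfLE_apply hle a).symm.trans (congrArg Subtype.val ha)
    have : (⟨w₁, hwU w₁⟩ : U w₁) = a := k.isOpenEmbedding.injective (by
      show f w₁ = f a.1
      rw [ha', e])
    exact (congrArg Subtype.val this).trans ha'
  haveI := hstalk
  exact IsOpenImmersion.of_isIso_stalkMap f
    (.of_continuous_injective_isOpenMap f.continuous hinj hopen)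

end Groth.Agent.H68.PunctW
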