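import Groth.Agent.H68.FormalFibres
import Groth.Agent.Lib.GRing.Component
import Groth.Agent.Lib.Excellent.LocalizedHom
import Mathlib.RingTheory.ZariskisMainTheorem

/-!
# Formal fibres at quasi-finite primes
-/

set_option autoImplicit false
set_option linter.style.haveILetI false

universe u

open IsLocalRing
open scoped TensorProduct

set_option synthInstance.maxHeartbeats 400000
set_option maxHeartbeats 1000000

namespace Groth.Agent.H68.QFFormalFibres

open Lib.Excellent

/-- Near a quasi-finite prime an algebra of finite type is finite: its local ring there is a local ring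
of a finite subalgebra. -/
theorem exists_finite_model (R R' : Type u) [CommRing R] [CommRing R'] [Algebra R R']
    [Algebra.FiniteType R R'] (p' : Ideal R') [p'.IsPrime] [Algebra.QuasiFiniteAt R p'] :
    ∃ S : Subalgebra R R', Module.Finite R S ∧
      IsLocalization (p'.comap (algebraMap S R')).primeCompl (Localization.AtPrime p') := by
  obtain ⟨S, hS, r, hr, hbij⟩ :=
    Algebra.QuasiFiniteAt.exists_fg_and_exists_notMem_and_awayMap_bijective (R := R) p'
  refine ⟨S, Module.Finite.iff_fg.mpr hS, ?_⟩
  have hx : ∀ x : R', ∃ (a : S) (n : ℕ), (a : R') = (r : R') ^ n * x := by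
    intro x
    obtain ⟨z, hz⟩ := hbij.2 (algebraMap R' (Localization.Away (S.val.toRingHom r)) x)
    obtain ⟨a, ⟨_, n, rfl⟩, rfl⟩ := IsLocalization.exists_mk'_eq (Submonoid.powers r) z
    rw [Localization.awayMap, IsLocalization.Away.map, IsLocalization.map_mk',
      IsLocalization.mk'_eq_iff_eq_mul, ← map_mul, IsLocalization.eq_iff_exists
        (Submonoid.powers (S.val.toRingHom r))] at hz
    obtain ⟨⟨_, k, rfl⟩, hk⟩ := hz
    refine ⟨r ^ k * a, k + n, ?_⟩
    simpa [pow_add, mul_comm, mul_assoc, mul_left_comm] using hk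
  have hmem : ∀ (t : R'), t ∉ p' → ∀ (a : S) (n : ℕ), (a : R') = (r : R') ^ n * t →
      a ∈ (p'.comap (algebraMap S R')).primeCompl := by
    intro t ht a n ha h
    have h' : (r : R') ^ n * t ∈ p' := ha ▸ (h : (a : R') ∈ p')
    rcases ‹p'.IsPrime›.mem_or_mem h' with h1 | h1
    · exact hr (‹p'.IsPrime›.mem_of_pow_mem n h1)
    · exact ht h1
  refine (isLocalization_iff _ _).mpr ⟨fun y => ?_, fun z => ?_, fun {x y} hxy => ?_⟩
  · rw [IsScalarTower.algebraMap_apply S R' (Localization.AtPrime p')]
    exact IsLocalization.map_units (Localization.AtPrime p') (⟨algebraMap S R' y.1, y.2⟩ : p'.primeCompl)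
  · obtain ⟨x, ⟨t, ht⟩, rfl⟩ := IsLocalization.exists_mk'_eq p'.primeCompl z
    obtain ⟨a, n, ha⟩ := hx x
    obtain ⟨b, m, hb⟩ := hx t
    refine ⟨⟨r ^ m * a, ⟨r ^ n * b, hmem t ht _ (n + m) ?_⟩⟩, ?_⟩
    · simp only [MulMemClass.coe_mul, SubmonoidClass.coe_pow, hb, pow_add, mul_assoc]
    · rw [IsScalarTower.algebraMap_apply S R' (Localization.AtPrime p'),
        IsScalarTower.algebraMap_apply S R' (Localization.AtPrime p')]
      change _ * algebraMap R' _ ((r : R') ^ n * (b : R')) = algebraMap R' _ ((r : R') ^ m * (a : R'))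
      rw [ha, hb, show (r : R') ^ n * ((r : R') ^ m * t) = t * ((r : R') ^ n * (r : R') ^ m) by ring,
        map_mul, ← mul_assoc, IsLocalization.mk'_spec_mk, ← map_mul]
      congr 1
      ring
  · rw [IsScalarTower.algebraMap_apply S R' (Localization.AtPrime p'),
      IsScalarTower.algebraMap_apply S R' (Localization.AtPrime p'),
      IsLocalization.eq_iff_exists p'.primeCompl] at hxy
    obtain ⟨⟨t, ht⟩, htxy⟩ := hxy
    obtain ⟨c, n, hc⟩ := hx t
    refine ⟨⟨c, hmem t ht c n hc⟩, Subtype.ext ?_⟩
    simp only [MulMemClass.coe_mul, hc, mul_assoc]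
    exact congrArg _ htxy

/-- A finite point of `R` at which `R'` is a localization is a finite point of `R'`. -/
theorem isFinPoint_tower {R R' K : Type u} [CommRing R] [CommRing R'] [Field K] [Algebra R R']
    [Algebra R K] [Algebra R' K] [IsScalarTower R R' K] (hK : FormalFibre.IsFinPoint R K) :
    FormalFibre.IsFinPoint R' K := by
  obtain ⟨B, hB, hfr⟩ := hK
  obtain ⟨T, hT⟩ := (Module.Finite.iff_fg (N := B.toSubmodule)).mp hB
  let B' := Algebra.adjoin R' (B : Set K)
  have hint : ∀ x ∈ (B : Set K), IsIntegral R' x := fun x hx =>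
    ((Algebra.IsIntegral.isIntegral (R := R) (⟨x, hx⟩ : B)).map B.val).tower_top
  have hB' : B' = Algebra.adjoin R' (T : Set K) := by
    refine le_antisymm (Algebra.adjoin_le fun x hx => ?_) (Algebra.adjoin_mono fun x hx => ?_)
    · have hx' : x ∈ B.toSubmodule := hx
      rw [← hT] at hx'
      exact (Submodule.span_le (p := ((Algebra.adjoin R' (T : Set K)).restrictScalars R).toSubmodule)).2
        Algebra.subset_adjoin hx'
    · exact (hT ▸ Submodule.subset_span hx : x ∈ B.toSubmodule)
  refine ⟨B', (Module.Finite.iff_fg (N := B'.toSubmodule)).2 ?_, IsFractionRing.of_field _ _ fun z => ?_⟩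
  · rw [hB']
    refine fg_adjoin_of_finite T.finite_toSet fun x hx => hint x ?_
    exact (hT ▸ Submodule.subset_span hx : x ∈ B.toSubmodule)
  · obtain ⟨y, w, _, rfl⟩ := IsFractionRing.div_surjective B z
    exact ⟨⟨y.1, Algebra.subset_adjoin y.2⟩, ⟨w.1, Algebra.subset_adjoin w.2⟩, rfl⟩

/-- Finite points along finite algebras. -/
theorem isFinPoint_trans {R S K : Type u} [CommRing R] [CommRing S] [Field K] [Algebra R S]
    [Module.Finite R S] [Algebra R K] [Algebra S K] [IsScalarTower R S K]
    (hK : FormalFibre.IsFinPoint S K) : FormalFibre.IsFinPoint R K := by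
  obtain ⟨B, hB, hfr⟩ := hK
  haveI : Module.Finite R B := Module.Finite.trans S B
  exact ⟨B.restrictScalars R, ‹_›, hfr⟩

/-- Two models of a local ring have the same formal fibres. -/
theorem regular_transfer (S : Type u) [CommRing S] [IsNoetherianRing S] (P : Ideal S) [P.IsPrime]
    (A' : Type u) [CommRing A'] [IsLocalRing A'] [Algebra S A'] [IsLocalization P.primeCompl A']
    (K : Type u) [Field K] [Algebra S K] [Algebra A' K] [IsScalarTower S A' K]
    (h : IsRegularRing (K ⊗[S] EGA4.Cpl (Localization.AtPrime P))) :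
    IsRegularRing (K ⊗[A'] EGA4.Cpl A') := by
  haveI : IsNoetherianRing (Localization.AtPrime P) :=
    IsLocalization.isNoetherianRing P.primeCompl _ inferInstance
  let ψ : Localization.AtPrime P ≃ₐ[S] A' := IsLocalization.algEquiv P.primeCompl _ _
  letI : Algebra (Localization.AtPrime P) A' := ψ.toRingEquiv.toRingHom.toAlgebra
  letI : Algebra (Localization.AtPrime P) K :=
    ((algebraMap A' K).comp ψ.toRingEquiv.toRingHom).toAlgebra
  haveI : IsScalarTower (Localization.AtPrime P) A' K := .of_algebraMap_eq' rfl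
  haveI : IsScalarTower S (Localization.AtPrime P) K := .of_algebraMap_eq fun a => by
    exact (IsScalarTower.algebraMap_apply S A' K a).trans
      (congrArg (algebraMap A' K) (ψ.commutes a).symm)
  haveI : TensorProduct.CompatibleSMul S (Localization.AtPrime P) K (EGA4.Cpl (Localization.AtPrime P)) :=
    IsLocalization.tensorProduct_compatibleSMul P.primeCompl (Localization.AtPrime P) K
      (EGA4.Cpl (Localization.AtPrime P))
  obtain ⟨e⟩ := FormalFibres.exists_tensor_equiv (Localization.AtPrime P) A' ψ.surjective K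
  refine Transport.isoInvariant_isRegularRing _ _ e ?_
  exact Transport.isoInvariant_isRegularRing _ _
    (Algebra.TensorProduct.equivOfCompatibleSMul S (Localization.AtPrime P) (Localization.AtPrime P) K
      (EGA4.Cpl (Localization.AtPrime P))).symm.toRingEquiv h

/-- The formal fibres at a quasi-finite prime. -/
theorem geometricallyRegular_of_quasiFiniteAt (R R' : Type u) [CommRing R] [CommRing R']
    [IsNoetherianRing R] [Algebra R R'] [Algebra.FiniteType R R']
    (p' : Ideal R') [p'.IsPrime] [Algebra.QuasiFiniteAt R p']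
    (Q' : Ideal (Localization.AtPrime p')) [Q'.IsPrime]
    (Q : Ideal (Localization.AtPrime (Ideal.comap (algebraMap R R') p'))) [Q.IsPrime]
    (hQ : Ideal.comap (algebraMap R (Localization.AtPrime (Ideal.comap (algebraMap R R') p'))) Q =
      Ideal.comap (algebraMap R (Localization.AtPrime p')) Q')
    (h : CAlg.IsGeometricallyRegular Q.ResidueField
      (EGA4.formalFibre (Localization.AtPrime (Ideal.comap (algebraMap R R') p')) Q)) :
    CAlg.IsGeometricallyRegular Q'.ResidueField (EGA4.formalFibre (Localization.AtPrime p') Q') := by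
  intro K _ _ _
  let A' := Localization.AtPrime p'
  let p := Ideal.comap (algebraMap R R') p'
  let Rp := Localization.AtPrime p
  letI : Algebra A' K := ((algebraMap Q'.ResidueField K).comp (algebraMap A' _)).toAlgebra
  haveI : IsScalarTower A' Q'.ResidueField K := .of_algebraMap_eq' rfl
  refine Transport.isoInvariant_isRegularRing _ _
    (Algebra.TensorProduct.cancelBaseChange A' Q'.ResidueField K K (EGA4.Cpl A')).symm.toRingEquiv ?_
  obtain ⟨S, hSfin, hloc⟩ := exists_finite_model R R' p'
  haveI := hSfin
  let p'' := p'.comap (algebraMap S R')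
  haveI : IsLocalization p''.primeCompl A' := hloc
  letI : Algebra R K := ((algebraMap A' K).comp (algebraMap R A')).toAlgebra
  haveI : IsScalarTower R A' K := .of_algebraMap_eq' rfl
  letI : Algebra S K := ((algebraMap A' K).comp (algebraMap S A')).toAlgebra
  haveI : IsScalarTower S A' K := .of_algebraMap_eq' rfl
  haveI : IsScalarTower R S A' := .of_algebraMap_eq fun a => by
    rw [IsScalarTower.algebraMap_apply R R' A', IsScalarTower.algebraMap_apply S R' A']
    rfl
  haveI : IsScalarTower R S K := .of_algebraMap_eq fun a => by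
    exact congrArg (algebraMap A' K) (IsScalarTower.algebraMap_apply R S A' a)
  -- `K` over `Rp`
  have hker : ∀ a : R, algebraMap R K a = 0 ↔ algebraMap R Rp a ∈ Q := fun a => by
    rw [← Ideal.mem_comap, hQ, Ideal.mem_comap, ← Ideal.algebraMap_residueField_eq_zero (I := Q')]
    exact map_eq_zero (algebraMap Q'.ResidueField K)
  have hunit : ∀ s : p.primeCompl, IsUnit (algebraMap R K s) := fun s => by
    refine Ne.isUnit fun h0 => ?_
    exact ‹Q.IsPrime›.ne_top (Ideal.eq_top_of_isUnit_mem _ ((hker s).1 h0) (IsLocalization.map_units Rp s))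
  letI : Algebra Rp K := (IsLocalization.lift (M := p.primeCompl) (g := algebraMap R K) hunit).toAlgebra
  haveI : IsScalarTower R Rp K := .of_algebraMap_eq fun a =>
    (IsLocalization.lift_eq (g := algebraMap R K) hunit a).symm
  have hQker : ∀ z : Rp, algebraMap Rp K z = 0 ↔ z ∈ Q := fun z => by
    obtain ⟨a, s, rfl⟩ := IsLocalization.exists_mk'_eq p.primeCompl z
    have hsp := congrArg (algebraMap Rp K) (IsLocalization.mk'_spec Rp a s)
    rw [map_mul, ← IsScalarTower.algebraMap_apply R Rp K, ← IsScalarTower.algebraMap_apply R Rp K] at hsp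
    rw [IsLocalization.mk'_mem_iff, ← hker, ← hsp, mul_eq_zero, or_iff_left (hunit s).ne_zero]
  letI : Algebra Q.ResidueField K := (Ideal.ResidueField.lift Q (algebraMap Rp K)
    (fun z hz => RingHom.mem_ker.2 ((hQker z).2 hz))
    (fun z hz => Ne.isUnit fun h0 => hz ((hQker z).1 h0))).toAlgebra
  haveI : IsScalarTower Rp Q.ResidueField K := .of_algebraMap_eq fun z =>
    (Ideal.ResidueField.lift_algebraMap (I := Q) (algebraMap Rp K) _ _ z).symm
  have hA' : FormalFibre.IsFinPoint A' K := FormalFibre.isFinPoint_of_finite Q' K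
  have hS : FormalFibre.IsFinPoint S K :=
    LocalizedHom.isFinPoint_of_isLocalization p''.primeCompl K hA'
  have hR : FormalFibre.IsFinPoint R K := isFinPoint_trans hS
  have h1 : IsRegularRing (K ⊗[Rp] EGA4.Cpl Rp) := Transport.isoInvariant_isRegularRing _ _
    (Algebra.TensorProduct.cancelBaseChange Rp Q.ResidueField K K (EGA4.Cpl Rp)).toRingEquiv
    (h K (FormalFibre.finite_of_isFinPoint (isFinPoint_tower hR) Q))
  haveI : IsNoetherianRing Rp := IsLocalization.isNoetherianRing p.primeCompl _ inferInstance
  haveI : TensorProduct.CompatibleSMul R Rp K (EGA4.Cpl Rp) :=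
    IsLocalization.tensorProduct_compatibleSMul p.primeCompl Rp K (EGA4.Cpl Rp)
  have h2 : IsRegularRing (K ⊗[R] EGA4.Cpl Rp) := Transport.isoInvariant_isRegularRing _ _
    (Algebra.TensorProduct.equivOfCompatibleSMul R Rp Rp K (EGA4.Cpl Rp)).toRingEquiv h1
  have hp'' : p''.comap (algebraMap R S) = p := rfl
  have h3 := Lib.GRing.Component.isRegularRing_component R S p p'' hp'' K h2
  haveI : IsNoetherianRing S := IsNoetherianRing.of_finite R S
  exact regular_transfer S p'' (Localization.AtPrime p') K h3

end Groth.Agent.H68.QFFormalFibres
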