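import Groth.Prelude.Def_EGA4b
import Groth.Agent.H20.PDDepth
import Groth.Agent.H46.GoodJac
import Groth.Agent.H46.FibreProf.Transfer
import Groth.Agent.H18.CMPoly
import Groth.Agent.Lib.CohBasics.Affine
import Groth.Agent.Lib.JacCrit.FlatRegular
import Groth.Agent.Lib.Regular.Serre
import Groth.Agent.S1493

/-!
# Semicontinuity of the rectified depth (EGA IV 10.8)
-/

set_option autoImplicit false
set_option linter.style.haveILetI false
universe u

open CategoryTheory AlgebraicGeometry IsLocalRing TopologicalSpace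
open Groth.Agent.Lib Groth.Agent.H46

namespace Groth.Agent.H68.RectDepth

theorem isCohenMacaulayRing_of_regular (R : Type u) [CommRing R] [IsRegularRing R] :
    LocCoh.IsCohenMacaulayRing R :=
  { isCohenMacaulayLocalRing_localization := fun q _ =>
      haveI : IsRegularLocalRing (Localization.AtPrime q) := IsRegularRing.isRegularLocalRing_localization q
      JacCrit.FlatRegular.isCohenMacaulayLocalRing _ }

theorem isUniversallyCatenary_of_regular (R : Type u) [CommRing R] [IsRegularLocalRing R] :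
    CAlg.IsUniversallyCatenary R :=
  haveI := isCohenMacaulayRing_of_regular R
  H18.CMPoly.isUniversallyCatenary R

theorem regular_sections {S : Scheme.{u}} [IsLocallyNoetherian S]
    (hreg : ∀ s : S, IsRegularLocalRing (S.presheaf.stalk s)) {V : S.Opens} (hV : IsAffineOpen V) :
    IsRegularRing Γ(S, V) :=
  haveI : IsNoetherianRing Γ(S, V) := IsLocallyNoetherian.component_noetherian ⟨V, hV⟩
  Groth.Agent.S1493.regular_sections hreg hV

/-- A point of a scheme with regular local ring has a single component through it. -/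
theorem exists_component {T : Scheme.{u}} [IsLocallyNoetherian T] [JacobsonSpace T]
    (hT : DimEquiJac.Good T) (P : T) [IsDomain (T.presheaf.stalk P)] :
    ∃ θ : T, θ ⤳ P ∧ DimEquiJac.IsMaxIn Set.univ θ ∧
      (∀ θ', DimEquiJac.IsMaxIn Set.univ θ' → θ' ⤳ P → θ' = θ) ∧
      DimData.sd P + DimEquiJac.cdim P = DimEquiJac.cdim θ := by
  let bot : PrimeSpectrum (T.presheaf.stalk P) := ⟨⊥, Ideal.isPrime_bot⟩
  let θ := T.fromSpecStalk P bot
  have hθP : θ ⤳ P := Lib.Cyc.DimFun.fromSpecStalk_specializes_self P bot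
  have hgen : ∀ w : T, w ⤳ P → θ ⤳ w := fun w hw => by
    have := (Lib.Cyc.DimFun.fromSpecStalk_specializes_iff P bot (Lib.Cyc.DimFun.genPrime P w hw)).2 bot_le
    rwa [Lib.Cyc.DimFun.fromSpecStalk_genPrime] at this
  have hmax : DimEquiJac.IsMaxIn Set.univ θ :=
    ⟨trivial, fun w _ hw => (hw.antisymm (hgen w (hw.trans hθP))).eq⟩
  refine ⟨θ, hθP, hmax, fun θ' h' hs => (h'.2 θ trivial (hgen θ' hs)).symm, ?_⟩
  obtain ⟨w, hw, -, he⟩ := DimData.exists_qd_eq (Z := T) P
  have h1 := DimJac.qd_add hw (hgen w hw) (DimJac.isCatenary_of_univ (hT.cat _))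
  have h2 := DimData.qd_le_sd hθP
  rw [DimEquiJac.cdim_add hT hθP]
  have h3 : DimData.qd hθP = DimData.qd hw + DimData.qd (hgen w hw) := by omega
  omega

theorem coe_add_natCast {d : ℕ} {c : ℕ∞} : ((c : WithBot ℕ∞) + (d : WithBot ℕ∞)) = ((c + d : ℕ∞) : WithBot ℕ∞) := by
  rw [WithBot.coe_add]
  rfl

theorem rectified_iff {n dep sdP cd D : ℕ} (hD : sdP + cd = D) (hle : dep ≤ sdP) :
    n ≤ dep + cd ↔ n ≤ D ∧ sdP ≤ dep + (D - n) := by
  omega

variable {X S : Scheme.{u}} [IsLocallyNoetherian S] [JacobsonSpace S]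

theorem good_base (hreg : ∀ s : S, IsRegularLocalRing (S.presheaf.stalk s))
    (h3 : ∀ S' ∈ irreducibleComponents (S : Type u), ∀ s ∈ S', IsClosed ({s} : Set S) →
      topologicalKrullDim (↥S' : Type u) = topologicalKrullDim ↥{t : S | t ∈ S' ∧ t ⤳ s}) :
    DimEquiJac.Good S :=
  ⟨fun s => haveI := hreg s; isUniversallyCatenary_of_regular _, h3⟩

/-- The rectified depth. -/
noncomputable def pstar (F : X.Modules) (x : X) : WithBot ℕ∞ :=
  ((LocCoh.depth (X.presheaf.stalk x) (F.presheaf.stalk x) : ℕ∞) : WithBot ℕ∞) +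
    topologicalKrullDim ↥(closure ({x} : Set X))

set_option maxHeartbeats 1000000 in
theorem isOpen_le_pstar (hreg : ∀ s : S, IsRegularLocalRing (S.presheaf.stalk s))
    (h3 : ∀ S' ∈ irreducibleComponents (S : Type u), ∀ s ∈ S', IsClosed ({s} : Set S) →
      topologicalKrullDim (↥S' : Type u) = topologicalKrullDim ↥{t : S | t ∈ S' ∧ t ⤳ s})
    (g : X ⟶ S) [LocallyOfFiniteType g] (F : X.Modules) (hF : Coh.IsCoh F) (n : ℕ) :
    IsOpen {x : X | (n : WithBot ℕ∞) ≤ pstar F x} := by
  haveI := hF.1
  haveI := hF.2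
  haveI := LocallyOfFiniteType.isLocallyNoetherian g
  haveI := LocallyOfFiniteType.jacobsonSpace g
  have hS := good_base hreg h3
  have hX := GoodJac.good_of_lft g hS
  rw [isOpen_iff_forall_mem_open]
  intro x₀ hx₀
  obtain ⟨V, hV, hxV, -⟩ := exists_isAffineOpen_mem_and_subset (X := S) (x := g x₀) (U := ⊤) trivial
  obtain ⟨U, hU, hxU, hUV⟩ :=
    exists_isAffineOpen_mem_and_subset (x := x₀) (U := g ⁻¹ᵁ V) hxV
  let A := Γ(S, V)
  let R := Γ(X, U)
  haveI : IsNoetherianRing A := IsLocallyNoetherian.component_noetherian ⟨V, hV⟩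
  haveI : IsRegularRing A := regular_sections hreg hV
  letI : Algebra A R := (g.appLE V U hUV).hom.toAlgebra
  haveI hft : Algebra.FiniteType A R := g.finiteType_appLE hV hU hUV
  obtain ⟨N, π, hπ⟩ := Algebra.FiniteType.iff_quotient_mvPolynomial''.1 hft
  let B := MvPolynomial (Fin N) A
  haveI : IsRegularRing B := inferInstanceAs (IsRegularRing (MvPolynomial (Fin N) A))
  letI : Algebra B R := π.toRingHom.toAlgebra
  haveI : Module.Finite B R := Module.Finite.of_surjective (Algebra.linearMap B R) hπ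
  letI : Module B Γ(F, U) := Module.compHom _ π.toRingHom
  haveI : IsScalarTower B R Γ(F, U) := IsScalarTower.of_algebraMap_smul fun _ _ => rfl
  haveI : Module.Finite R Γ(F, U) := CohBasics.Affine.finite_sections hU
  haveI : Module.Finite B Γ(F, U) := Module.Finite.trans R Γ(F, U)
  let M := Γ(F, U)
  -- the ambient regular scheme
  let T := Spec (CommRingCat.of B)
  let a : T ⟶ Spec A := Spec.map (CommRingCat.ofHom (algebraMap A B))
  haveI : LocallyOfFiniteType a := by
    rw [HasRingHomProperty.Spec_iff (P := @LocallyOfFiniteType)]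
    exact RingHom.finiteType_algebraMap.2 (inferInstanceAs (Algebra.FiniteType A (MvPolynomial (Fin N) A)))
  haveI : IsOpenImmersion hV.fromSpec := hV.isOpenImmersion_fromSpec
  haveI : LocallyOfFiniteType (a ≫ hV.fromSpec) := inferInstance
  haveI : IsLocallyNoetherian T := LocallyOfFiniteType.isLocallyNoetherian (a ≫ hV.fromSpec)
  haveI : JacobsonSpace T := LocallyOfFiniteType.jacobsonSpace (a ≫ hV.fromSpec)
  have hT := GoodJac.good_of_lft (a ≫ hV.fromSpec) hS
  let e : ∀ P : T, T.presheaf.stalk P ≃+* Localization.AtPrime (P : PrimeSpectrum B).asIdeal := fun P =>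
    (Spec.stalkIso (CommRingCat.of B) P).commRingCatIsoToRingEquiv
  have hregT : ∀ P : PrimeSpectrum B, IsRegularLocalRing (Localization.AtPrime P.asIdeal) := fun P =>
    IsRegularRing.isRegularLocalRing_localization P.asIdeal
  have hdom : ∀ P : T, IsDomain (T.presheaf.stalk P) := fun P => by
    haveI := hregT P
    haveI := Regular.Quotient.isDomain (Localization.AtPrime (P : PrimeSpectrum B).asIdeal)
    exact (e P).toMulEquiv.isDomain
  let φ : U → T := fun x => FibreProf.Transfer.pt hU π.toRingHom x.2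
  have hφ : Topology.IsClosedEmbedding φ := by
    have h1 : Topology.IsClosedEmbedding (fun x : U => hU.isoSpec.hom x) :=
      (Scheme.homeoOfIso hU.isoSpec).isClosedEmbedding
    exact (PrimeSpectrum.isClosedEmbedding_comap_of_surjective _ π.toRingHom hπ).comp h1
  obtain ⟨θ₀, hθ₀, hθ₀max, -, -⟩ := haveI := hdom (φ ⟨x₀, hxU⟩); exists_component hT (φ ⟨x₀, hxU⟩)
  obtain ⟨W, hW, hxW, hWgood⟩ := DimEquiJac.exists_nhd (isClosed_univ (X := T)) (φ ⟨x₀, hxU⟩)
  let D := DimEquiJac.cdim θ₀
  let G : Set (PrimeSpectrum B) := (Module.support B M)ᶜ ∪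
    {P | n ≤ D ∧ Lib.Regular.PD.PDle (Localization.AtPrime P.asIdeal)
      (LocalizedModule P.asIdeal.primeCompl M) (D - n)}
  have hG : IsOpen G := by
    refine Module.isClosed_support.isOpen_compl.union ?_
    by_cases h : n ≤ D
    · simpa [h] using H20.PDDepth.isOpen_setOf_pdle (D - n) M
    · simp [h]
  have key : ∀ x : U, φ x ∈ W → ((n : WithBot ℕ∞) ≤ pstar F (x : X) ↔ (φ x : PrimeSpectrum B) ∈ G) := by
    intro x hx
    haveI := hdom (φ x)
    obtain ⟨θ, hθ, hθmax, -, hsum⟩ := exists_component hT (φ x)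
    obtain ⟨θ', hθ', hθ'max, huniq, -⟩ := haveI := hdom (φ ⟨x₀, hxU⟩); exists_component hT (φ ⟨x₀, hxU⟩)
    have hθe : θ = θ₀ :=
      (huniq θ hθmax (hWgood θ hθmax _ hx hθ)).trans (huniq θ₀ hθ₀max hθ₀).symm
    rw [hθe] at hsum
    -- the closure
    have hcl : topologicalKrullDim ↥(closure ({(x : X)} : Set X)) =
        (DimEquiJac.cdim (φ x) : WithBot ℕ∞) := by
      have h1 : topologicalKrullDim ↥(closure ({x} : Set U)) =
          (DimEquiJac.cdim (φ x) : WithBot ℕ∞) := by
        rw [← DimEquiJac.dim_closure hT (φ x), show closure ({φ x} : Set T) = φ '' closure {x} by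
          rw [← Set.image_singleton, hφ.closure_image_eq]]
        exact IsHomeomorph.topologicalKrullDim_eq _
          (hφ.isEmbedding.homeomorphImage (closure {x})).isHomeomorph
      have h2 : topologicalKrullDim ↥(closure ({x} : Set U)) =
          topologicalKrullDim ↥((U : Set X) ∩ closure {(x : X)}) := by
        erw [Topology.IsEmbedding.subtypeVal.closure_eq_preimage_closure_image, Set.image_singleton]
        have e1 : Subtype.val '' ((Subtype.val : U → X) ⁻¹' closure {(x : X)}) =
            (U : Set X) ∩ closure {(x : X)} := by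
          rw [Set.image_preimage_eq_inter_range, Subtype.range_coe, Set.inter_comm]
        exact IsHomeomorph.topologicalKrullDim_eq _
          ((Topology.IsEmbedding.subtypeVal.homeomorphImage _).trans (Homeomorph.setCongr e1)).isHomeomorph
      refine le_antisymm ?_ ?_
      · rw [DimEquiJac.dim_closure hX (x : X), ← h1, h2]
        exact DimEquiJac.cdim_le_dim_open_inter hX U.2 x.2 le_rfl
      · rw [← h1, h2]
        exact (Topology.IsEmbedding.inclusion Set.inter_subset_right).isInducing.topologicalKrullDim_le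
    -- the stalk
    let P : PrimeSpectrum B := φ x
    let BP := Localization.AtPrime P.asIdeal
    haveI : IsRegularLocalRing BP := hregT P
    letI : Module B (F.presheaf.stalk (x : X)) :=
      Module.compHom _ (FibreProf.Transfer.toStalk π.toRingHom x.2)
    letI : Module BP (F.presheaf.stalk (x : X)) :=
      Module.compHom _ (FibreProf.Transfer.locHom hU π.toRingHom x.2)
    haveI : IsScalarTower B BP (F.presheaf.stalk (x : X)) := IsScalarTower.of_algebraMap_smul fun b v => by
      show (FibreProf.Transfer.locHom hU π.toRingHom x.2) (algebraMap B BP b) • v =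
        FibreProf.Transfer.toStalk π.toRingHom x.2 b • v
      rw [← RingHom.comp_apply, FibreProf.Transfer.locHom_comp]
    let _ := StalkLoc.Basic.moduleSections F x.2
    have hloc : IsLocalizedModule (hU.primeIdealOf x).asIdeal.primeCompl (StalkLoc.Basic.germₗ F x.2) :=
      StalkLoc.Basic.isLocalizedModule_germ hU x.2
    let γ : M →ₗ[B] F.presheaf.stalk (x : X) :=
      { toFun := StalkLoc.Basic.germₗ F x.2
        map_add' := map_add _
        map_smul' := fun b m => (map_smul (StalkLoc.Basic.germₗ F x.2) (π b) m).trans rfl }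
    haveI : IsLocalizedModule P.asIdeal.primeCompl γ := by
      refine ⟨fun b => ?_, fun v => ?_, fun {m m'} h => ?_⟩
      · rw [Module.End.isUnit_iff]
        exact ((FibreProf.Transfer.isUnit_toStalk_iff hU π.toRingHom x.2 _).2 b.2).smul_bijective
      · obtain ⟨⟨m, t⟩, ht⟩ := hloc.surj v
        obtain ⟨t', ht'⟩ := hπ t
        refine ⟨⟨m, ⟨t', show π t' ∈ (hU.primeIdealOf x).asIdeal.primeCompl from ht' ▸ t.2⟩⟩, ?_⟩
        exact (congrArg (fun r => (X.presheaf.germ U x x.2) r • v) ht').trans ht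
      · obtain ⟨t, ht⟩ := hloc.exists_of_eq h
        obtain ⟨t', ht'⟩ := hπ t
        refine ⟨⟨t', show π t' ∈ (hU.primeIdealOf x).asIdeal.primeCompl from ht' ▸ t.2⟩, ?_⟩
        show (π t' : R) • m = (π t' : R) • m'
        rw [ht']
        exact ht
    let e₁ : LocalizedModule P.asIdeal.primeCompl M ≃ₗ[BP] F.presheaf.stalk (x : X) :=
      (IsLocalizedModule.iso P.asIdeal.primeCompl γ).extendScalarsOfIsLocalization
        P.asIdeal.primeCompl BP
    letI : Algebra BP (X.presheaf.stalk (x : X)) := (FibreProf.Transfer.locHom hU π.toRingHom x.2).toAlgebra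
    haveI : IsScalarTower BP (X.presheaf.stalk (x : X)) (F.presheaf.stalk (x : X)) :=
      IsScalarTower.of_algebraMap_smul fun _ _ => rfl
    have hdepth : LocCoh.depth (X.presheaf.stalk (x : X)) (F.presheaf.stalk (x : X)) =
        LocCoh.depth BP (LocalizedModule P.asIdeal.primeCompl M) := by
      rw [← Depth.Basic.depth_eq_of_surjective (R := BP) (S := X.presheaf.stalk (x : X))
        (M := F.presheaf.stalk (x : X)) (FibreProf.Transfer.locHom_surjective hU π.toRingHom hπ x.2),
        Depth.Basic.depth_congr e₁]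
    haveI : Module.Finite BP (LocalizedModule P.asIdeal.primeCompl M) :=
      Module.Finite.of_isLocalizedModule P.asIdeal.primeCompl
        (LocalizedModule.mkLinearMap P.asIdeal.primeCompl M)
    show (n : WithBot ℕ∞) ≤ pstar F (x : X) ↔ P ∈ G
    rw [pstar, hcl, hdepth, coe_add_natCast, ← WithBot.coe_natCast n, WithBot.coe_le_coe]
    rcases subsingleton_or_nontrivial (LocalizedModule P.asIdeal.primeCompl M) with hs | hs
    · simp only [LocCoh.depth, Depth.Basic.idealDepth_subsingleton, top_add, le_top, true_iff]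
      exact Or.inl (Module.notMem_support_iff.2 hs)
    · have hsupp : P ∈ Module.support B M := Module.mem_support_iff.2 hs
      obtain ⟨dep, hdep⟩ := ENat.ne_top_iff_exists.1
        (Depth.Assoc.depth_ne_top (R := BP) (LocalizedModule P.asIdeal.primeCompl M))
      have hspan : ((maximalIdeal BP).spanFinrank : WithBot ℕ∞) = ringKrullDim BP :=
        IsRegularLocalRing.spanFinrank_maximalIdeal (R := BP)
      have hsd : (maximalIdeal BP).spanFinrank = DimData.sd (φ x) := by
        have h := hspan.trans ((ringKrullDim_eq_of_ringEquiv (e (φ x))).symm.trans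
          (DimData.ringKrullDim_stalk (φ x)))
        exact_mod_cast h
      have hle : dep ≤ DimData.sd (φ x) := by
        have h := (Depth.Assoc.depth_le_supportDim (R := BP) (LocalizedModule P.asIdeal.primeCompl M)).trans
          (Module.supportDim_le_ringKrullDim _ _)
        rw [← hdep, ← hspan, hsd] at h
        exact_mod_cast h
      rw [← hdep, show ((dep : ℕ∞) + (DimEquiJac.cdim (φ x) : ℕ∞)) =
        ((dep + DimEquiJac.cdim (φ x) : ℕ) : ℕ∞) by push_cast; rfl, Nat.cast_le,
        rectified_iff hsum hle]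
      simp only [G, Set.mem_union, Set.mem_compl_iff, hsupp, not_true_eq_false, false_or]
      rw [Set.mem_ofPred_eq, H20.PDDepth.pdle_iff_le_depth_add (R := BP), hsd, ← hdep]
      exact and_congr_right fun _ => by norm_cast
  let O : Set X := Subtype.val '' (φ ⁻¹' (W ∩ G))
  refine ⟨O, ?_, U.2.isOpenMap_subtype_val _ ((hW.inter hG).preimage hφ.continuous),
    ⟨⟨x₀, hxU⟩, ⟨hxW, (key _ hxW).1 hx₀⟩, rfl⟩⟩
  rintro _ ⟨x, ⟨hx, hxG⟩, rfl⟩
  exact (key x hx).2 hxG

end Groth.Agent.H68.RectDepth

namespace Groth.Agent.H68.RectDepth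

variable {X S : Scheme.{u}} [IsLocallyNoetherian S] [JacobsonSpace S]

theorem exists_nhd_depth_eq (hreg : ∀ s : S, IsRegularLocalRing (S.presheaf.stalk s))
    (h3 : ∀ S' ∈ irreducibleComponents (S : Type u), ∀ s ∈ S', IsClosed ({s} : Set S) →
      topologicalKrullDim (↥S' : Type u) = topologicalKrullDim ↥{t : S | t ∈ S' ∧ t ⤳ s})
    (g : X ⟶ S) [LocallyOfFiniteType g] (F : X.Modules) (hF : Coh.IsCoh F) (x : X) (n : ℕ∞)
    (hn : (n : WithBot ℕ∞) = pstar F x) :
    ∃ U : X.Opens, x ∈ U ∧ ∀ x' : X, x' ∈ U → x' ∈ closure ({x} : Set X) → IsClosed ({x'} : Set X) →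
      LocCoh.depth (X.presheaf.stalk x') (F.presheaf.stalk x') = n := by
  haveI := hF.1
  haveI := hF.2
  haveI := LocallyOfFiniteType.isLocallyNoetherian g
  haveI := LocallyOfFiniteType.jacobsonSpace g
  have hX := GoodJac.good_of_lft g (good_base hreg h3)
  have hp : ∀ x' : X, IsClosed ({x'} : Set X) → pstar F x' =
      ((LocCoh.depth (X.presheaf.stalk x') (F.presheaf.stalk x') : ℕ∞) : WithBot ℕ∞) := fun x' hc => by
    haveI : Unique (IrreducibleCloseds ({x'} : Set X)) :=
      { default := ⟨Set.univ, ⟨⟨⟨x', rfl⟩, trivial⟩,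
          fun _ _ _ _ h1 h2 => by
            obtain ⟨a, -, ha⟩ := h1
            obtain ⟨b, -, hb⟩ := h2
            exact ⟨a, trivial, ha, (Subsingleton.elim b a) ▸ hb⟩⟩, isClosed_univ⟩
        uniq := fun C => IrreducibleCloseds.ext (Set.eq_univ_of_forall fun a => by
          obtain ⟨b, hb⟩ := C.2.nonempty
          exact (Subsingleton.elim b a) ▸ hb) }
    rw [pstar, hc.closure_eq, topologicalKrullDim, Order.krullDim_eq_zero_of_unique, add_zero]
  have hle : ∀ x' ∈ closure ({x} : Set X), pstar F x' ≤ pstar F x := fun x' hx' => by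
    have hmem : ∀ m : ℕ, (m : WithBot ℕ∞) ≤ pstar F x' → (m : WithBot ℕ∞) ≤ pstar F x := fun m hm =>
      (specializes_iff_mem_closure.2 hx').mem_open (isOpen_le_pstar hreg h3 g F hF m) hm
    rw [← hn]
    obtain ⟨d, hd⟩ := WithBot.ne_bot_iff_exists.1 (show pstar F x' ≠ ⊥ by
      rw [pstar, DimEquiJac.dim_closure hX x', coe_add_natCast]
      exact WithBot.coe_ne_bot)
    rw [← hd, WithBot.coe_le_coe]
    refine ENat.forall_natCast_le_iff_le.1 fun m hm => ?_
    have := hmem m (by rw [← hd]; exact WithBot.coe_le_coe.2 hm)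
    rw [← hn] at this
    exact WithBot.coe_le_coe.1 this
  rcases eq_or_ne n ⊤ with rfl | hnt
  · have hsupp : x ∉ CohB1.support F := by
      intro hx
      haveI : Nontrivial (F.presheaf.stalk x) := not_subsingleton_iff_nontrivial.1 hx
      haveI := Modules.GenStalk.finite_stalk F x
      obtain ⟨d, hd⟩ := ENat.ne_top_iff_exists.1
        (Depth.Assoc.depth_ne_top (R := X.presheaf.stalk x) (F.presheaf.stalk x))
      rw [pstar, DimEquiJac.dim_closure hX x, coe_add_natCast, ← hd, WithBot.coe_inj] at hn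
      exact (WithTop.add_ne_top.2 ⟨ENat.natCast_ne_top d, ENat.natCast_ne_top _⟩) hn.symm
    refine ⟨⟨(CohB1.support F)ᶜ, (Modules.Support.isClosed_support F).isOpen_compl⟩, hsupp,
      fun x' hx' _ _ => ?_⟩
    haveI : Subsingleton (F.presheaf.stalk x') := not_not.1 hx'
    exact Depth.Basic.idealDepth_subsingleton
  obtain ⟨m, rfl⟩ := ENat.ne_top_iff_exists.1 hnt
  refine ⟨⟨_, isOpen_le_pstar hreg h3 g F hF m⟩, hn.le, fun x' hx' hcl hc => ?_⟩
  have h1 : (m : WithBot ℕ∞) ≤ pstar F x' := hx'
  have h2 := le_antisymm ((hle x' hcl).trans hn.symm.le) h1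
  rw [hp x' hc] at h2
  exact WithBot.coe_inj.1 h2

end Groth.Agent.H68.RectDepth
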