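import Groth.Agent.H19.FlatLocus.Main
import Groth.Agent.Lib.LocalFlat.InjMod
import Groth.Agent.H80.SkAss
import Mathlib.RingTheory.Support
import Mathlib.RingTheory.Flat.Equalizer
import Mathlib.RingTheory.Regular.RegularSequence

/-!
# Openness of the locus where a sequence is regular on the fibres of a flat module
-/

set_option autoImplicit false
set_option linter.style.haveILetI false
universe u

open RingTheory.Sequence Pointwise TensorProduct IsLocalRing

namespace Groth.Agent.H68.RegFibreOpen

variable {R A : Type u} [CommRing R] [CommRing A] [Algebra R A]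
  (M : Type u) [AddCommGroup M] [Module A M] [Module R M] [IsScalarTower R A M]

/-- The ideal of the fibre through `Q`. -/
abbrev J (R : Type u) [CommRing R] {A : Type u} [CommRing A] [Algebra R A] (Q : PrimeSpectrum A) : Ideal A :=
  (Q.asIdeal.comap (algebraMap R A)).map (algebraMap R A)

/-- The localisation at `Q`. -/
abbrev L (Q : PrimeSpectrum A) : Type u := LocalizedModule Q.asIdeal.primeCompl M

/-- The fibre of the localisation. -/
abbrev F (R : Type u) [CommRing R] {A : Type u} [CommRing A] [Algebra R A]
    (M : Type u) [AddCommGroup M] [Module A M] (Q : PrimeSpectrum A) : Type u :=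
  L M Q ⧸ (J R Q • (⊤ : Submodule A (L M Q)))

theorem isSMulRegular_quot_iff {V : Type u} [AddCommGroup V] [Module A V] (P : Submodule A V) (g : A) :
    IsSMulRegular (V ⧸ P) g ↔ ∀ z : V, g • z ∈ P → z ∈ P := by
  refine ⟨fun h z hz => (Submodule.Quotient.mk_eq_zero P).1 (h.right_eq_zero_of_smul ?_), fun h => ?_⟩
  · rw [← Submodule.Quotient.mk_smul, (Submodule.Quotient.mk_eq_zero P).2 hz]
  · refine IsSMulRegular.of_right_eq_zero_of_smul fun y hy => ?_
    obtain ⟨z, rfl⟩ := Submodule.mkQ_surjective P y
    rw [← map_smul, Submodule.mkQ_apply, Submodule.Quotient.mk_eq_zero] at hy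
    exact (Submodule.Quotient.mk_eq_zero P).2 (h z hy)

/-- Regularity on the fibre at `Q` = regularity with flat quotient. -/
theorem step [IsNoetherianRing A] [Module.Finite A M] (g : A) (Q : PrimeSpectrum A)
    [Module.Flat R (L M Q)] :
    IsSMulRegular (F R M Q) g ↔ IsSMulRegular (L M Q) g ∧ Module.Flat R (QuotSMulTop g (L M Q)) := by
  set p := Q.asIdeal.comap (algebraMap R A)
  let R' := Localization.AtPrime p
  let A' := Localization.AtPrime Q.asIdeal
  let φ : R' →+* A' := Localization.localRingHom p Q.asIdeal (algebraMap R A) rfl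
  letI : Algebra R' A' := φ.toAlgebra
  haveI : IsLocalHom (algebraMap R' A') :=
    Localization.isLocalHom_localRingHom p Q.asIdeal (algebraMap R A) rfl
  letI : Module R' (L M Q) := Module.compHom _ φ
  haveI : IsScalarTower R' A' (L M Q) := IsScalarTower.of_algebraMap_smul fun _ _ => rfl
  haveI : IsScalarTower R R' (L M Q) := IsScalarTower.of_algebraMap_smul fun r z => by
    show φ (algebraMap R R' r) • z = r • z
    rw [Localization.localRingHom_to_map, algebraMap_smul, algebraMap_smul]
  haveI : Module.Flat R' (L M Q) := (Module.flat_iff_of_isLocalization (R := R) R' p.primeCompl _).2 ‹_›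
  haveI : Module.Finite A' (L M Q) :=
    Module.Finite.of_isLocalizedModule Q.asIdeal.primeCompl (Rₚ := A')
      (LocalizedModule.mkLinearMap Q.asIdeal.primeCompl M)
  let u : L M Q →ₗ[R'] L M Q :=
    { toFun := fun z => g • z
      map_add' := fun a b => smul_add g a b
      map_smul' := fun r z => (smul_comm (φ r) g z).symm }
  have hJ : ∀ z : L M Q, z ∈ J R Q • (⊤ : Submodule A (L M Q)) ↔
      z ∈ p • (⊤ : Submodule R (L M Q)) := fun z => by
    rw [← Submodule.restrictScalars_mem R, Ideal.smul_restrictScalars, Submodule.restrictScalars_top]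
  have hm : ∀ z : L M Q, z ∈ maximalIdeal R' • (⊤ : Submodule R' (L M Q)) ↔
      z ∈ p • (⊤ : Submodule R (L M Q)) := fun z => by
    rw [← Localization.AtPrime.map_eq_maximalIdeal, ← Submodule.restrictScalars_mem R,
      Ideal.smul_restrictScalars, Submodule.restrictScalars_top]
  have hred : IsSMulRegular (F R M Q) g ↔
      ∀ z : L M Q, g • z ∈ maximalIdeal R' • (⊤ : Submodule R' (L M Q)) →
        z ∈ maximalIdeal R' • (⊤ : Submodule R' (L M Q)) := by
    rw [isSMulRegular_quot_iff]
    simp only [hm, ← hJ]
  constructor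
  · intro h
    have hu : Function.Injective (u.lTensor (ResidueField R')) := by
      rw [injective_iff_map_eq_zero]
      intro y hy
      obtain ⟨z, rfl⟩ : ∃ z, (1 : ResidueField R') ⊗ₜ[R'] z = y :=
        TensorProduct.mk_surjective R' (L M Q) (ResidueField R') IsLocalRing.residue_surjective y
      rw [LinearMap.lTensor_tmul] at hy
      have hz := (hred.1 h) z
        (Lib.LocalFlat.InjMod.mem_smul_of_mkQ_rTensor_eq_zero (maximalIdeal R') hy)
      refine Submodule.smul_induction_on hz (fun a ha v _ => ?_) (fun a b ha hb => ?_)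
      · rw [TensorProduct.tmul_smul, TensorProduct.smul_tmul', Algebra.smul_def, mul_one,
          ResidueField.algebraMap_eq, (IsLocalRing.residue_eq_zero_iff a).2 ha, TensorProduct.zero_tmul]
      · rw [TensorProduct.tmul_add, ha, hb, add_zero]
    have hinj := Lib.LocalFlat.InjMod.injective_of_injective_mod u hu A'
    have hfl : Module.Flat R' (L M Q ⧸ LinearMap.range u) := Lib.LocalFlat.InjMod.flat_coker u hu A'
    refine ⟨hinj, ?_⟩
    haveI : Module.Flat R R' := IsLocalization.flat R' p.primeCompl
    haveI := hfl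
    haveI : Module.Flat R (L M Q ⧸ LinearMap.range u) := Module.Flat.trans R R' _
    have heq : (g • (⊤ : Submodule A (L M Q))).restrictScalars R =
        (LinearMap.range u).restrictScalars R := by
      ext z
      simp only [Submodule.restrictScalars_mem, Submodule.mem_smul_pointwise_iff_exists,
        Submodule.mem_top, true_and, LinearMap.mem_range]
      rfl
    exact Module.Flat.of_linearEquiv
      ((((Submodule.Quotient.restrictScalarsEquiv R _).symm.trans (Submodule.quotEquivOfEq _ _ heq)).trans
        (Submodule.Quotient.restrictScalarsEquiv R _)) :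
        (QuotSMulTop g (L M Q)) ≃ₗ[R] (L M Q ⧸ LinearMap.range u))
  · rintro ⟨hreg, hfl⟩
    haveI := hfl
    rw [isSMulRegular_quot_iff]
    intro z hz
    rw [hJ] at hz ⊢
    let v : L M Q →ₗ[R] L M Q := (Algebra.lsmul R R (L M Q) g)
    let w : L M Q →ₗ[R] QuotSMulTop g (L M Q) := (Submodule.mkQ _).restrictScalars R
    have hex : Function.Exact v w := fun y => by
      simp [w, v, Submodule.Quotient.mk_eq_zero, Submodule.mem_smul_pointwise_iff_exists]
    have hinj := LinearMap.lTensor_injective_of_exact_of_flat w (Submodule.mkQ_surjective _) v hreg hex (R ⧸ p)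
    have key : ∀ y : L M Q, (1 : R ⧸ p) ⊗ₜ[R] y = 0 ↔ y ∈ p • (⊤ : Submodule R (L M Q)) := fun y => by
      refine ⟨Lib.LocalFlat.InjMod.mem_smul_of_mkQ_rTensor_eq_zero p, fun hy => ?_⟩
      refine Submodule.smul_induction_on hy (fun a ha v _ => ?_) (fun a b ha hb => ?_)
      · rw [TensorProduct.tmul_smul, TensorProduct.smul_tmul', Algebra.smul_def, mul_one,
          Ideal.Quotient.algebraMap_eq, Ideal.Quotient.eq_zero_iff_mem.2 ha, TensorProduct.zero_tmul]
      · rw [TensorProduct.tmul_add, ha, hb, add_zero]
    refine (key z).1 (hinj ?_)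
    rw [map_zero, LinearMap.lTensor_tmul]
    exact (key _).2 hz

/-- The locus where an element is regular on a localisation is open. -/
theorem isOpen_regular [IsNoetherianRing A] [Module.Finite A M] (g : A) :
    IsOpen {Q : PrimeSpectrum A | IsSMulRegular (L M Q) g} := by
  let K := LinearMap.ker (LinearMap.lsmul A M g)
  have : {Q : PrimeSpectrum A | IsSMulRegular (L M Q) g} = (Module.support A K)ᶜ := by
    ext Q
    rw [Set.mem_setOf_eq, Set.mem_compl_iff, Module.notMem_support_iff']
    constructor
    · intro h z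
      have h0 : LocalizedModule.mkLinearMap Q.asIdeal.primeCompl M z.1 = 0 := by
        refine h.right_eq_zero_of_smul ?_
        rw [← map_smul, show g • z.1 = 0 from z.2, map_zero]
      obtain ⟨s, hs⟩ := (IsLocalizedModule.eq_zero_iff Q.asIdeal.primeCompl _).1 h0
      exact ⟨s.1, s.2, Subtype.ext hs⟩
    · intro h
      refine IsSMulRegular.of_right_eq_zero_of_smul fun y hy => ?_
      obtain ⟨⟨m, s⟩, rfl⟩ := IsLocalizedModule.mk'_surjective Q.asIdeal.primeCompl
        (LocalizedModule.mkLinearMap Q.asIdeal.primeCompl M) y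
      simp only [Function.uncurry_apply_pair, ← IsLocalizedModule.mk'_smul, IsLocalizedModule.mk'_eq_zero] at hy ⊢
      obtain ⟨t, ht⟩ := (IsLocalizedModule.eq_zero_iff Q.asIdeal.primeCompl _).1 hy
      obtain ⟨t', ht', ht'0⟩ := h ⟨t.1 • m, by
        show g • t.1 • m = 0
        rw [smul_comm]
        exact ht⟩
      refine (IsLocalizedModule.eq_zero_iff Q.asIdeal.primeCompl _).2 ⟨⟨t', ht'⟩ * t, ?_⟩
      rw [mul_smul]
      exact congrArg Subtype.val ht'0
  rw [this, Module.support_eq_zeroLocus]
  exact (PrimeSpectrum.isClosed_zeroLocus _).isOpen_compl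

/-- Fibres commute with reduction modulo an element. -/
noncomputable def quotFibreEquiv (g : A) (Q : PrimeSpectrum A) :
    F R (QuotSMulTop g M) Q ≃ₗ[A] QuotSMulTop g (F R M Q) := by
  let e := Groth.Agent.H80.SkAss.quotEquiv Q.asIdeal.primeCompl M g
  let e' : L (QuotSMulTop g M) Q ≃ₗ[A] QuotSMulTop g (L M Q) :=
    ((e.restrictScalars A).trans ((Submodule.Quotient.restrictScalarsEquiv A _).symm)).trans
      (Submodule.quotEquivOfEq _ _ (by
        ext z
        simp [Submodule.mem_smul_pointwise_iff_exists]))
  let JJ := J R Q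
  let e1 : F R (QuotSMulTop g M) Q ≃ₗ[A]
      (QuotSMulTop g (L M Q) ⧸ (JJ • (⊤ : Submodule A (L M Q))).map (Submodule.mkQ (g • ⊤))) :=
    Submodule.Quotient.equiv _ _ e' (by
      simp only [Submodule.map_smul'', Submodule.map_top, LinearEquiv.range, Submodule.range_mkQ]
      rfl)
  let e3 : (F R M Q ⧸ (g • (⊤ : Submodule A (L M Q))).map (Submodule.mkQ (JJ • ⊤))) ≃ₗ[A]
      QuotSMulTop g (F R M Q) :=
    Submodule.quotEquivOfEq _ _ (by
      rw [Submodule.map_pointwise_smul, Submodule.map_top, Submodule.range_mkQ])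
  exact e1.trans ((((Submodule.quotientQuotientEquivQuotientSup _ _).trans
      (Submodule.quotEquivOfEq _ _ (sup_comm _ _))).trans
      (Submodule.quotientQuotientEquivQuotientSup _ _).symm).trans e3)

/-- The main openness statement. -/
theorem isOpen_regSeq [IsNoetherianRing R] [Algebra.FiniteType R A] :
    ∀ (rs : List A) (M : Type u) [AddCommGroup M] [Module A M] [Module R M] [IsScalarTower R A M]
      [Module.Finite A M],
      IsOpen {Q : PrimeSpectrum A | Module.Flat R (L M Q) ∧ IsWeaklyRegular (F R M Q) rs} := by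
  haveI : IsNoetherianRing A := Algebra.FiniteType.isNoetherianRing R A
  haveI : Algebra.FinitePresentation R A := Algebra.FinitePresentation.of_finiteType.mp ‹_›
  intro rs
  induction rs with
  | nil =>
    intro M _ _ _ _ _
    haveI := Module.finitePresentation_of_finite A M
    convert Groth.Agent.H19.FlatLocus.isOpen_flat_of_finitePresentation (R := R) (S := A) (M := M) using 1
    ext Q
    simp
  | cons g rs ih =>
    intro M _ _ _ _ _
    haveI := Module.finitePresentation_of_finite A M
    have hflN : ∀ Q : PrimeSpectrum A, Module.Flat R (L (QuotSMulTop g M) Q) ↔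
        Module.Flat R (QuotSMulTop g (L M Q)) := fun Q => by
      let e := Groth.Agent.H80.SkAss.quotEquiv Q.asIdeal.primeCompl M g
      let e' : L (QuotSMulTop g M) Q ≃ₗ[A] QuotSMulTop g (L M Q) :=
        ((e.restrictScalars A).trans ((Submodule.Quotient.restrictScalarsEquiv A _).symm)).trans
          (Submodule.quotEquivOfEq _ _ (by
            ext z
            simp [Submodule.mem_smul_pointwise_iff_exists]))
      exact ⟨fun _ => Module.Flat.of_linearEquiv (e'.restrictScalars R).symm,
        fun _ => Module.Flat.of_linearEquiv (e'.restrictScalars R)⟩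
    have heq : {Q : PrimeSpectrum A | Module.Flat R (L M Q) ∧ IsWeaklyRegular (F R M Q) (g :: rs)} =
        {Q | Module.Flat R (L M Q)} ∩ ({Q | IsSMulRegular (L M Q) g} ∩
          {Q | Module.Flat R (L (QuotSMulTop g M) Q) ∧ IsWeaklyRegular (F R (QuotSMulTop g M) Q) rs}) := by
      ext Q
      simp only [Set.mem_setOf_eq, Set.mem_inter_iff, isWeaklyRegular_cons_iff,
        (quotFibreEquiv M g Q).isWeaklyRegular_congr, hflN Q]
      constructor
      · rintro ⟨hfl, hg, hrs⟩
        haveI := hfl
        obtain ⟨h1, h2⟩ := (step M g Q).1 hg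
        exact ⟨hfl, h1, h2, hrs⟩
      · rintro ⟨hfl, h1, h2, hrs⟩
        haveI := hfl
        exact ⟨hfl, (step M g Q).2 ⟨h1, h2⟩, hrs⟩
    rw [heq]
    exact (Groth.Agent.H19.FlatLocus.isOpen_flat_of_finitePresentation (R := R) (S := A) (M := M)).inter
      ((isOpen_regular M g).inter (ih (QuotSMulTop g M)))

end Groth.Agent.H68.RegFibreOpen
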