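import Mathlib

/-!
Uniform bound on residue degrees of a finite morphism.
-/

set_option autoImplicit false

universe u

open AlgebraicGeometry CategoryTheory

namespace Groth.Agent.H68.ResDeg

theorem residueField_eq_frac {X : Scheme.{u}} {U : X.Opens} (hU : IsAffineOpen U) (x : X) (hx : x ∈ U)
    (z : X.residueField x) :
    ∃ a b : Γ(X, U), (X.evaluation U x hx).hom b ≠ 0 ∧
      z * (X.evaluation U x hx).hom b = (X.evaluation U x hx).hom a := by
  obtain ⟨s, rfl⟩ : ∃ s, (X.residue x).hom s = z := IsLocalRing.residue_surjective z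
  letI := TopCat.Presheaf.algebra_section_stalk X.presheaf (⟨x, hx⟩ : U)
  haveI := hU.isLocalization_stalk ⟨x, hx⟩
  obtain ⟨⟨a, b⟩, h⟩ := IsLocalization.surj (hU.primeIdealOf ⟨x, hx⟩).asIdeal.primeCompl s
  refine ⟨a, b, ?_, ?_⟩
  · have hu : IsUnit (algebraMap Γ(X, U) (X.presheaf.stalk x) b) := IsLocalization.map_units _ b
    exact (hu.map (X.residue x).hom).ne_zero
  · exact (map_mul (X.residue x).hom s _).symm.trans (congrArg (X.residue x).hom h)

/-- A generating set of sections over an affine open bounds the residue degree. -/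
theorem exists_bound_on_affine {X Y : Scheme.{u}} (f : X ⟶ Y) [IsFinite f] {U : Y.Opens} (hU : IsAffineOpen U) :
    ∃ N : ℕ, ∀ x : X, f x ∈ U →
      @Module.finrank (Y.residueField (f x)) (X.residueField x) _ _ (f.residueFieldMap x).hom.toAlgebra.toModule ≤ N ∧
      (f.residueFieldMap x).hom.Finite := by
  classical
  algebraize [(f.app U).hom]
  haveI : Module.Finite Γ(Y, U) Γ(X, f ⁻¹ᵁ U) := f.finite_app U hU
  obtain ⟨S, hS⟩ := (Module.finite_def.mp this : (⊤ : Submodule Γ(Y, U) Γ(X, f ⁻¹ᵁ U)).FG)
  refine ⟨S.card, fun x hx => ?_⟩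
  letI := (f.residueFieldMap x).hom.toAlgebra
  let evX := (X.evaluation (f ⁻¹ᵁ U) x hx).hom
  let evY := (Y.evaluation U (f x) hx).hom
  have hcomm : ∀ a : Γ(Y, U), evX (algebraMap _ Γ(X, f ⁻¹ᵁ U) a) =
      algebraMap (Y.residueField (f x)) (X.residueField x) (evY a) := fun a =>
    (Scheme.evaluation_naturality_apply f x hx a).symm
  let W : Submodule (Y.residueField (f x)) (X.residueField x) := Submodule.span _ ((S.image evX : Finset _) : Set _)
  have hev : ∀ b, evX b ∈ W := by
    intro b
    have hb : b ∈ Submodule.span Γ(Y, U) (S : Set Γ(X, f ⁻¹ᵁ U)) := hS ▸ Submodule.mem_top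
    induction hb using Submodule.span_induction with
    | mem b hb => exact Submodule.subset_span (Finset.mem_image_of_mem evX hb)
    | zero => rw [map_zero]; exact W.zero_mem
    | add b c _ _ hb hc => rw [map_add]; exact W.add_mem hb hc
    | smul a b _ hb =>
      rw [Algebra.smul_def, map_mul, hcomm, ← Algebra.smul_def]
      exact W.smul_mem _ hb
  have hfin : Module.Finite (Y.residueField (f x)) W :=
    Module.Finite.iff_fg.mpr ⟨_, rfl⟩
  have hone : (1 : X.residueField x) ∈ W := by simpa using hev 1
  have hmul : ∀ a b, a ∈ W → b ∈ W → a * b ∈ W := by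
    intro a b ha hb
    induction ha using Submodule.span_induction with
    | mem a ha =>
      obtain ⟨a', -, rfl⟩ := Finset.mem_image.mp ha
      induction hb using Submodule.span_induction with
      | mem b hb =>
        obtain ⟨b', -, rfl⟩ := Finset.mem_image.mp hb
        rw [← map_mul]
        exact hev _
      | zero => rw [mul_zero]; exact W.zero_mem
      | add b c _ _ hb hc => rw [mul_add]; exact W.add_mem hb hc
      | smul r b _ hb => rw [mul_smul_comm]; exact W.smul_mem _ hb
    | zero => rw [zero_mul]; exact W.zero_mem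
    | add a c _ _ ha hc => rw [add_mul]; exact W.add_mem ha hc
    | smul r a _ ha => rw [smul_mul_assoc]; exact W.smul_mem _ ha
  let B : Subalgebra (Y.residueField (f x)) (X.residueField x) := W.toSubalgebra hone hmul
  haveI : Module.Finite (Y.residueField (f x)) B := hfin
  have hfield : IsField B := isField_of_isIntegral_of_isField' (R := Y.residueField (f x)) (Field.toIsField _)
  have htop : W = ⊤ := by
    refine eq_top_iff.mpr fun z _ => ?_
    obtain ⟨a, b, hb, hz⟩ := residueField_eq_frac (hU.preimage f) x hx z
    obtain ⟨c, hc⟩ := hfield.mul_inv_cancel (a := (⟨evX b, hev b⟩ : B)) (fun h => hb (congrArg Subtype.val h))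
    have hc' : evX b * c.1 = 1 := congrArg Subtype.val hc
    have : z = evX a * c.1 := by rw [← hz, mul_assoc, hc', mul_one]
    rw [this]
    exact hmul _ _ (hev a) c.2
  haveI : Module.Finite (Y.residueField (f x)) (X.residueField x) := by
    rw [Module.finite_def, ← htop]
    exact ⟨_, rfl⟩
  refine ⟨?_, this⟩
  calc Module.finrank (Y.residueField (f x)) (X.residueField x)
      = Module.finrank (Y.residueField (f x)) W := by rw [htop, finrank_top]
    _ ≤ (S.image evX).card := finrank_span_finset_le_card _
    _ ≤ S.card := Finset.card_image_le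

end Groth.Agent.H68.ResDeg
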