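import Groth.Agent.Lib.PLie.Restricted
import Mathlib.RingTheory.HopfAlgebra.Basic
import Mathlib.RingTheory.Bialgebra.TensorProduct
import Mathlib.RingTheory.Ideal.Quotient.Operations
import Mathlib.RingTheory.TensorProduct.Maps
import Mathlib.Algebra.CharP.Lemmas
import Mathlib.LinearAlgebra.TensorProduct.Basis
import Mathlib.Algebra.Algebra.Opposite

/-!
# The restricted enveloping algebra as a cocommutative Hopf algebra

`uL b φ = U(L)/J`: Hopf algebra structure with `ι x` primitive, monomial basis, and the fact that
its primitive elements are exactly the image of `L`.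
-/

set_option autoImplicit false

universe u

namespace Groth.Agent.H68.RestrictedHopf

open UniversalEnvelopingAlgebra TensorProduct
open Groth.Agent.Lib.PBW
open Groth.Agent.Lib.PLie
open Groth.Agent.Lib

attribute [local instance 100] LieRing.ofAssociativeRing

variable {k : Type u} [Field k] {p : ℕ} [hp : Fact p.Prime] [CharP k p]
variable {L : Type u} [LieRing L] [LieAlgebra k L] {n : ℕ} (b : Module.Basis (Fin n) k L)
  (φ : PLie.PMap k p L)

lemma add_pow_p {A : Type u} [Ring A] [Algebra k A] {x y : A} (h : Commute x y) :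
    (x + y) ^ p = x ^ p + y ^ p := by
  obtain ⟨r, hr⟩ := h.exists_add_pow_prime_eq hp.out
  have h0 : (p : A) = 0 := by rw [← map_natCast (algebraMap k A), CharP.cast_eq_zero, map_zero]
  rw [hr, h0]
  simp

lemma neg_pow_p {A : Type u} [Ring A] [Algebra k A] (x : A) : (-x) ^ p = -(x ^ p) := by
  have h := add_pow_p (k := k) (p := p) ((Commute.refl x).neg_left)
  rw [neg_add_cancel, zero_pow hp.out.ne_zero] at h
  exact eq_neg_of_add_eq_zero_left h.symm

/-- the ideal of definition -/
noncomputable abbrev I : Ideal (UniversalEnvelopingAlgebra k L) := Restricted.J b φ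

instance twoSided : Ideal.IsTwoSided (I b φ) := by
  refine ⟨fun {a} v ha => ?_⟩
  induction ha using Submodule.span_induction with
  | mem s hs =>
    obtain ⟨i, rfl⟩ := hs
    rw [(Restricted.c_central b φ i v).eq]
    exact Submodule.smul_mem _ _ (Submodule.subset_span ⟨i, rfl⟩)
  | zero => simp
  | add s t _ _ hs ht => rw [add_mul]; exact add_mem hs ht
  | smul a s _ hs => rw [smul_eq_mul, mul_assoc]; exact Submodule.smul_mem _ a hs

/-- the restricted enveloping algebra -/
abbrev uL := UniversalEnvelopingAlgebra k L ⧸ I b φ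

/-- the quotient map -/
noncomputable def q : UniversalEnvelopingAlgebra k L →ₐ[k] uL b φ :=
  Ideal.Quotient.mkₐ k (I b φ)

lemma q_surjective : Function.Surjective (q b φ) := Ideal.Quotient.mkₐ_surjective k _

/-- the inclusion of `L` -/
noncomputable def j : L →ₗ[k] uL b φ :=
  (q b φ).toLinearMap.comp (ι k).toLinearMap

lemma q_ι (x : L) : q b φ (ι k x) = j b φ x := rfl

lemma j_lie (x y : L) : j b φ ⁅x, y⁆ = j b φ x * j b φ y - j b φ y * j b φ x := by
  rw [← q_ι, ← q_ι, ← q_ι, PBW.Basic.ι_lie, map_sub, map_mul, map_mul]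

lemma j_pow (x : L) : j b φ x ^ p = j b φ (φ x) := by
  rw [← q_ι, ← q_ι, ← map_pow, ← sub_eq_zero, ← map_sub]
  exact Ideal.Quotient.eq_zero_iff_mem.mpr (Restricted.ι_pow_sub_mem b φ x)

lemma j_injective : Function.Injective (j b φ) := by
  rw [injective_iff_map_eq_zero]
  intro x hx
  exact Restricted.eq_zero_of_ι_mem b φ (Ideal.Quotient.eq_zero_iff_mem.mp hx)

lemma u_induction {motive : uL b φ → Prop} (halg : ∀ r, motive (algebraMap k _ r))
    (hj : ∀ x, motive (j b φ x)) (hmul : ∀ a c, motive a → motive c → motive (a * c))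
    (hadd : ∀ a c, motive a → motive c → motive (a + c)) (a : uL b φ) : motive a := by
  obtain ⟨v, rfl⟩ := q_surjective b φ a
  refine PBW.Basic.induction (motive := fun v => motive (q b φ v)) ?_ ?_ ?_ ?_ v
  · intro r; rw [AlgHom.commutes]; exact halg r
  · exact hj
  · intro v w hv hw; rw [map_mul]; exact hmul _ _ hv hw
  · intro v w hv hw; rw [map_add]; exact hadd _ _ hv hw

lemma algHom_ext {B : Type u} [Semiring B] [Algebra k B] {f g : uL b φ →ₐ[k] B}
    (h : ∀ x, f (j b φ x) = g (j b φ x)) : f = g := by
  ext a
  induction a using u_induction b φ with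
  | halg r => simp
  | hj x => exact h x
  | hmul a c ha hc => rw [map_mul, map_mul, ha, hc]
  | hadd a c ha hc => rw [map_add, map_add, ha, hc]

/-- universal property -/
noncomputable def lift {B : Type u} [Ring B] [Algebra k B] (f : L →ₗ[k] B)
    (hl : ∀ x y, f ⁅x, y⁆ = f x * f y - f y * f x) (hf : ∀ x, f x ^ p = f (φ x)) :
    uL b φ →ₐ[k] B :=
  Ideal.Quotient.liftₐ (I b φ)
    (UniversalEnvelopingAlgebra.lift k ({ f with
      map_lie' := fun {x y} => by rw [LieRing.of_associative_ring_bracket]; exact hl x y } : L →ₗ⁅k⁆ B))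
    (by
      intro a ha
      induction ha using Submodule.span_induction with
      | mem s hs =>
        obtain ⟨i, rfl⟩ := hs
        rw [Restricted.c, Exists.c, map_sub, map_pow, lift_ι_apply, lift_ι_apply]
        exact sub_eq_zero.mpr (hf (b i))
      | zero => simp
      | add s t _ _ hs ht => rw [map_add, hs, ht, add_zero]
      | smul a s _ hs => rw [smul_eq_mul, map_mul, hs, mul_zero])

lemma lift_j {B : Type u} [Ring B] [Algebra k B] (f : L →ₗ[k] B)
    (hl : ∀ x y, f ⁅x, y⁆ = f x * f y - f y * f x) (hf : ∀ x, f x ^ p = f (φ x)) (x : L) :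
    lift b φ f hl hf (j b φ x) = f x :=
  UniversalEnvelopingAlgebra.lift_ι_apply k _ x

/-- the comultiplication on generators -/
noncomputable def δ : L →ₗ[k] uL b φ ⊗[k] uL b φ :=
  ((TensorProduct.mk k (uL b φ) (uL b φ)).flip 1 + TensorProduct.mk k (uL b φ) (uL b φ) 1).comp (j b φ)

lemma δ_apply (x : L) : δ b φ x = j b φ x ⊗ₜ 1 + 1 ⊗ₜ j b φ x := rfl

/-- the comultiplication -/
noncomputable def comulHom : uL b φ →ₐ[k] uL b φ ⊗[k] uL b φ :=
  lift b φ (δ b φ)
    (fun x y => by
      simp only [δ_apply, j_lie, TensorProduct.sub_tmul, TensorProduct.tmul_sub, mul_add, add_mul,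
        Algebra.TensorProduct.tmul_mul_tmul, one_mul, mul_one]
      abel)
    (fun x => by
      have hc : Commute (j b φ x ⊗ₜ[k] (1 : uL b φ)) ((1 : uL b φ) ⊗ₜ[k] j b φ x) := by
        simp [Commute, SemiconjBy, Algebra.TensorProduct.tmul_mul_tmul]
      simp only [δ_apply]
      rw [add_pow_p (k := k) hc, Algebra.TensorProduct.tmul_pow, Algebra.TensorProduct.tmul_pow,
        one_pow, j_pow])

lemma comulHom_j (x : L) : comulHom b φ (j b φ x) = j b φ x ⊗ₜ 1 + 1 ⊗ₜ j b φ x :=
  lift_j b φ _ _ _ x

/-- the counit -/
noncomputable def counitHom : uL b φ →ₐ[k] k :=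
  lift b φ 0 (fun _ _ => by simp) (fun _ => by simp [zero_pow hp.out.ne_zero])

lemma counitHom_j (x : L) : counitHom b φ (j b φ x) = 0 :=
  lift_j b φ _ _ _ x

noncomputable instance instBialgebra : Bialgebra k (uL b φ) :=
  Bialgebra.ofAlgHom (comulHom b φ) (counitHom b φ)
    (algHom_ext b φ fun x => by
      simp only [AlgHom.comp_apply, AlgEquiv.coe_toAlgHom, comulHom_j, map_add,
        Algebra.TensorProduct.map_tmul, map_one, AlgHom.id_apply, Algebra.TensorProduct.one_def,
        TensorProduct.add_tmul, TensorProduct.tmul_add, Algebra.TensorProduct.assoc_tmul]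
      abel)
    (algHom_ext b φ fun x => by
      simp [comulHom_j, counitHom_j])
    (algHom_ext b φ fun x => by
      simp [comulHom_j, counitHom_j])

lemma comul_eq (a : uL b φ) : Coalgebra.comul (R := k) a = comulHom b φ a := rfl

lemma counit_eq (a : uL b φ) : Coalgebra.counit (R := k) a = counitHom b φ a := rfl

instance instIsCocomm : Coalgebra.IsCocomm k (uL b φ) where
  comm_comp_comul := by
    have h : (Algebra.TensorProduct.comm k (uL b φ) (uL b φ)).toAlgHom.comp (comulHom b φ) =
        comulHom b φ := algHom_ext b φ fun x => by simp [comulHom_j, add_comm]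
    exact congr(($h).toLinearMap)

/-- the antipode as an anti-homomorphism -/
noncomputable def antipodeHom : uL b φ →ₐ[k] (uL b φ)ᵐᵒᵖ :=
  lift b φ (((MulOpposite.opLinearEquiv k).toLinearMap).comp (-(j b φ)))
    (fun x y => MulOpposite.unop_injective (by simp [j_lie]))
    (fun x => MulOpposite.unop_injective (by simp [neg_pow_p (k := k), j_pow]))

/-- the antipode -/
noncomputable def S : uL b φ →ₗ[k] uL b φ :=
  ((MulOpposite.opLinearEquiv k).symm.toLinearMap).comp (antipodeHom b φ).toLinearMap

lemma S_mul (a c : uL b φ) : S b φ (a * c) = S b φ c * S b φ a := by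
  simp [S]

lemma S_one : S b φ 1 = 1 := by simp [S]

lemma S_j (x : L) : S b φ (j b φ x) = -j b φ x := by
  simp [S, antipodeHom, lift_j]

lemma mul_S_rTensor (a : uL b φ) :
    LinearMap.mul' k (uL b φ) ((S b φ).rTensor _ (comulHom b φ a)) =
      algebraMap k _ (counitHom b φ a) := by
  induction a using u_induction b φ with
  | halg r =>
    simp [Algebra.algebraMap_eq_smul_one, Algebra.TensorProduct.one_def, S_one]
  | hj x => simp [comulHom_j, counitHom_j, S_j, S_one]
  | hmul a c ha hc =>
    rw [map_mul (comulHom b φ), map_mul (counitHom b φ), map_mul (algebraMap k _)]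
    have hgen : ∀ t s : uL b φ ⊗[k] uL b φ,
        LinearMap.mul' k (uL b φ) ((S b φ).rTensor _ s) = algebraMap k _ (counitHom b φ c) →
        ∀ r : k, LinearMap.mul' k (uL b φ) ((S b φ).rTensor _ t) = algebraMap k _ r →
        LinearMap.mul' k (uL b φ) ((S b φ).rTensor _ (t * s)) =
          algebraMap k _ r * algebraMap k _ (counitHom b φ c) := by
      intro t s hs r ht
      rw [← hs, ← ht]
      clear hs
      induction s using TensorProduct.induction_on with
      | zero => simp
      | add s s' h h' => simp only [mul_add, map_add, h, h', mul_add]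
      | tmul c₁ c₂ =>
        have : LinearMap.mul' k (uL b φ) ((S b φ).rTensor _ (t * c₁ ⊗ₜ[k] c₂)) =
            S b φ c₁ * (LinearMap.mul' k (uL b φ) ((S b φ).rTensor _ t)) * c₂ := by
          clear ht
          induction t using TensorProduct.induction_on with
          | zero => simp
          | add t t' h h' => simp only [add_mul, map_add, mul_add, h, h']
          | tmul a₁ a₂ => simp [S_mul, mul_assoc]
        rw [this, ht, LinearMap.rTensor_tmul, LinearMap.mul'_apply, ← Algebra.commutes r (S b φ c₁),
          mul_assoc]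
    exact hgen _ _ hc _ ha
  | hadd a c ha hc => simp only [map_add, ha, hc]

lemma mul_S_lTensor (a : uL b φ) :
    LinearMap.mul' k (uL b φ) ((S b φ).lTensor _ (comulHom b φ a)) =
      algebraMap k _ (counitHom b φ a) := by
  induction a using u_induction b φ with
  | halg r =>
    simp [Algebra.algebraMap_eq_smul_one, Algebra.TensorProduct.one_def, S_one]
  | hj x => simp [comulHom_j, counitHom_j, S_j, S_one]
  | hmul a c ha hc =>
    rw [map_mul (comulHom b φ), map_mul (counitHom b φ), map_mul (algebraMap k _)]
    have hgen : ∀ t s : uL b φ ⊗[k] uL b φ,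
        LinearMap.mul' k (uL b φ) ((S b φ).lTensor _ t) = algebraMap k _ (counitHom b φ a) →
        ∀ r : k, LinearMap.mul' k (uL b φ) ((S b φ).lTensor _ s) = algebraMap k _ r →
        LinearMap.mul' k (uL b φ) ((S b φ).lTensor _ (t * s)) =
          algebraMap k _ (counitHom b φ a) * algebraMap k _ r := by
      intro t s ht r hs
      rw [← hs, ← ht]
      clear ht
      induction t using TensorProduct.induction_on with
      | zero => simp
      | add t t' h h' => simp only [add_mul, map_add, h, h']
      | tmul a₁ a₂ =>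
        have : LinearMap.mul' k (uL b φ) ((S b φ).lTensor _ (a₁ ⊗ₜ[k] a₂ * s)) =
            a₁ * (LinearMap.mul' k (uL b φ) ((S b φ).lTensor _ s)) * S b φ a₂ := by
          clear hs
          induction s using TensorProduct.induction_on with
          | zero => simp
          | add s s' h h' => simp only [mul_add, map_add, add_mul, h, h']
          | tmul c₁ c₂ => simp [S_mul, mul_assoc]
        rw [this, hs, LinearMap.lTensor_tmul, LinearMap.mul'_apply, mul_assoc, mul_assoc,
          Algebra.commutes r (S b φ a₂)]
    exact hgen _ _ ha _ hc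
  | hadd a c ha hc => simp only [map_add, ha, hc]

noncomputable instance instHopfAlgebra : HopfAlgebra k (uL b φ) where
  antipode := S b φ
  mul_antipode_rTensor_comul := by ext a; exact mul_S_rTensor b φ a
  mul_antipode_lTensor_comul := by ext a; exact mul_S_lTensor b φ a

instance instFinite : Module.Finite k (uL b φ) := Restricted.finite b φ

/-- the monomial with exponents `a` -/
noncomputable def X (a : Fin n → ℕ) : uL b φ :=
  (List.ofFn fun i => j b φ (b i) ^ a i).prod

/-- the sorted word with given counts -/
def word (a : Fin n → ℕ) : {l : List (Fin n) // l.SortedLE} :=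
  ⟨(List.finRange n).flatMap fun i => List.replicate (a i) i,
    List.Pairwise.sortedLE (List.pairwise_flatMap.mpr
      ⟨fun j _ => List.pairwise_replicate.mpr (Or.inr le_rfl),
        (List.pairwise_lt_finRange n).imp fun {j k} hjk x hx y hy => by
          rw [List.eq_of_mem_replicate hx, List.eq_of_mem_replicate hy]
          exact hjk.le⟩)⟩

lemma count_word (a : Fin n → ℕ) (i : Fin n) : (word a).1.count i = a i := by
  rw [word, List.count_flatMap]
  simp only [List.count_replicate, Function.comp_def, beq_iff_eq]
  rw [← Fin.sum_univ_def]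
  simp

lemma q_Ψ_word (g : Fin n → Fin p) :
    q b φ (Restricted.Ψbasis b φ (word fun i => (g i : ℕ))) = X b φ fun i => (g i : ℕ) := by
  rw [Restricted.Ψbasis_apply, Restricted.Ψ, map_list_prod, List.map_map, X, List.ofFn_eq_map]
  congr 1
  refine List.map_congr_left fun i _ => ?_
  simp [count_word, Nat.mod_eq_of_lt (g i).2, Nat.div_eq_of_lt (g i).2]
  rfl

lemma X_linearIndependent :
    LinearIndependent k fun g : Fin n → Fin p => X b φ fun i => (g i : ℕ) := by
  have hinj : Function.Injective fun g : Fin n → Fin p => word fun i => (g i : ℕ) := by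
    intro g g' h
    funext i
    have := congrArg (fun w : {l : List (Fin n) // l.SortedLE} => w.1.count i) h
    simp only [count_word] at this
    exact Fin.ext this
  have h1 := (Restricted.Ψbasis b φ).linearIndependent.comp _ hinj
  have h2 : Disjoint (Submodule.span k (Set.range (Restricted.Ψbasis b φ ∘
      fun g : Fin n → Fin p => word fun i => (g i : ℕ)))) (LinearMap.ker (q b φ).toLinearMap) := by
    have hle : LinearMap.ker (q b φ).toLinearMap ≤ Restricted.N b φ := fun v hv =>
      Restricted.J_le_N b φ (Ideal.Quotient.eq_zero_iff_mem.mp hv)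
    refine Disjoint.mono_right hle ?_
    rw [Set.range_comp, Restricted.N]
    refine (Restricted.Ψbasis b φ).linearIndependent.disjoint_span_image ?_
    rw [Set.disjoint_left]
    rintro _ ⟨g, rfl⟩ ⟨i, hi⟩
    rw [count_word] at hi
    exact absurd (g i).2 (not_lt.mpr hi)
  have h3 := h1.map h2
  have e : (fun g : Fin n → Fin p => X b φ fun i => (g i : ℕ)) = ⇑(q b φ).toLinearMap ∘
      (⇑(Restricted.Ψbasis b φ) ∘ fun g : Fin n → Fin p => word fun i => (g i : ℕ)) :=
    funext fun g => (q_Ψ_word b φ g).symm
  rw [e]
  exact h3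

lemma X_span :
    ⊤ ≤ Submodule.span k (Set.range fun g : Fin n → Fin p => X b φ fun i => (g i : ℕ)) := by
  intro z hz
  clear hz
  obtain ⟨v, rfl⟩ := q_surjective b φ z
  induction (Restricted.Ψbasis b φ).mem_span v using Submodule.span_induction with
  | mem w hw =>
    obtain ⟨l, rfl⟩ := hw
    by_cases hl : ∀ i, l.1.count i < p
    · have : l = word fun i => ((⟨l.1.count i, hl i⟩ : Fin p) : ℕ) := by
        apply Subtype.ext
        exact Restricted.sorted_eq l.1 l.2
      rw [this]
      exact Submodule.subset_span ⟨_, (q_Ψ_word b φ _).symm⟩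
    · push Not at hl
      obtain ⟨i, hi⟩ := hl
      have hmem : Restricted.Ψbasis b φ l ∈ Restricted.J b φ := by
        rw [Restricted.Ψbasis_apply, Restricted.Ψ]
        have hq : l.1.count i / p = l.1.count i / p - 1 + 1 := by
          have := Nat.div_pos hi hp.out.pos; omega
        let g : Fin n → UniversalEnvelopingAlgebra k L := fun j =>
          ι k (b j) ^ (l.1.count j % p) * Restricted.c b φ j ^ (if j = i then l.1.count j / p - 1 else l.1.count j / p)
        rw [Restricted.prod_mul_central _ (List.nodup_finRange n) g _ i (Restricted.c b φ i)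
          (Restricted.c_central b φ i) (List.mem_finRange i) ?_ (fun j hj => by simp [g, hj]),
          (Restricted.c_central b φ i _).eq]
        · exact Submodule.smul_mem _ _ (Submodule.subset_span ⟨i, rfl⟩)
        · simp only [g, if_true]
          rw [hq, pow_succ', ← mul_assoc, ← mul_assoc, (Restricted.c_central b φ i _).eq,
            Nat.add_sub_cancel]
      have : q b φ (Restricted.Ψbasis b φ l) = 0 := Ideal.Quotient.eq_zero_iff_mem.mpr hmem
      rw [this]
      exact zero_mem _
  | zero => simp
  | add x z _ _ hx hz => rw [map_add]; exact add_mem hx hz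
  | smul r x _ hx => rw [map_smul]; exact Submodule.smul_mem _ _ hx

/-- the monomial basis -/
noncomputable def basis : Module.Basis (Fin n → Fin p) k (uL b φ) :=
  Module.Basis.mk (X_linearIndependent b φ) (X_span b φ)

lemma basis_apply (g : Fin n → Fin p) : basis b φ g = X b φ fun i => (g i : ℕ) := by
  rw [basis, Module.Basis.mk_apply]

lemma prod_ofFn_sum {A : Type u} [Semiring A] {m : ℕ} :
    ∀ (r : ℕ) (t : Fin r → Fin m → A),
      (List.ofFn fun i => ∑ s, t i s).prod = ∑ g : Fin r → Fin m, (List.ofFn fun i => t i (g i)).prod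
  | 0, t => by simp
  | r + 1, t => by
    rw [List.ofFn_succ, List.prod_cons, prod_ofFn_sum r, Finset.sum_mul_sum,
      ← (Fin.consEquiv fun _ => Fin m).sum_comp, Fintype.sum_prod_type]
    simp [List.ofFn_succ, Fin.consEquiv]

lemma prod_ofFn_smul_tmul {A : Type u} [Ring A] [Algebra k A] :
    ∀ (r : ℕ) (c : Fin r → k) (x y : Fin r → A),
      (List.ofFn fun i => c i • (x i ⊗ₜ[k] y i)).prod =
        (∏ i, c i) • ((List.ofFn x).prod ⊗ₜ[k] (List.ofFn y).prod)
  | 0, c, x, y => by simp [Algebra.TensorProduct.one_def]
  | r + 1, c, x, y => by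
    rw [List.ofFn_succ, List.prod_cons, prod_ofFn_smul_tmul r, List.ofFn_succ, List.ofFn_succ,
      List.prod_cons, List.prod_cons, Fin.prod_univ_succ, smul_mul_smul_comm,
      Algebra.TensorProduct.tmul_mul_tmul]

lemma comulHom_pow (x : L) (a : ℕ) (ha : a < p) :
    comulHom b φ (j b φ x ^ a) =
      ∑ s : Fin p, (a.choose (s : ℕ) : k) • ((j b φ x ^ (a - s)) ⊗ₜ[k] (j b φ x ^ (s : ℕ))) := by
  have hc : Commute ((1 : uL b φ) ⊗ₜ[k] j b φ x) (j b φ x ⊗ₜ[k] (1 : uL b φ)) := by
    simp [Commute, SemiconjBy, Algebra.TensorProduct.tmul_mul_tmul]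
  rw [map_pow, comulHom_j, add_comm, hc.add_pow, Fin.sum_univ_eq_sum_range
    (fun s => (a.choose s : k) • ((j b φ x ^ (a - s)) ⊗ₜ[k] (j b φ x ^ s)))]
  refine Finset.sum_subset_zero_on_sdiff (Finset.range_subset_range.mpr ha) ?_ ?_
  · intro s hs
    simp only [Finset.mem_sdiff, Finset.mem_range, not_lt] at hs
    rw [Nat.choose_eq_zero_of_lt (by omega), Nat.cast_zero, zero_smul]
  · intro s _
    rw [Nat.cast_smul_eq_nsmul, nsmul_eq_mul, (Nat.cast_commute (a.choose s) _).eq]
    simp [Algebra.TensorProduct.tmul_pow, Algebra.TensorProduct.tmul_mul_tmul]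

lemma comul_basis (a : Fin n → Fin p) :
    comulHom b φ (basis b φ a) = ∑ g : Fin n → Fin p, (∏ i, ((a i : ℕ).choose (g i : ℕ) : k)) •
      ((X b φ fun i => (a i : ℕ) - (g i : ℕ)) ⊗ₜ[k] X b φ fun i => (g i : ℕ)) := by
  rw [basis_apply, X, map_list_prod, List.map_ofFn]
  rw [show (⇑(comulHom b φ) ∘ fun i => j b φ (b i) ^ (a i : ℕ)) = fun i =>
      ∑ s : Fin p, ((a i : ℕ).choose (s : ℕ) : k) •
        ((j b φ (b i) ^ ((a i : ℕ) - s)) ⊗ₜ[k] (j b φ (b i) ^ (s : ℕ))) from
    funext fun i => comulHom_pow b φ _ _ (a i).2]
  rw [prod_ofFn_sum]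
  exact Finset.sum_congr rfl fun g _ => prod_ofFn_smul_tmul n _ _ _

omit hp in
/-- exponent vector `e_i` -/
def single [NeZero p] (h : 1 < p) (i : Fin n) : Fin n → Fin p :=
  Function.update (fun _ => 0) i ⟨1, h⟩

lemma X_single (i : Fin n) : (X b φ fun t => (single (p := p) hp.out.one_lt i t : ℕ)) = j b φ (b i) := by
  have h : ∀ (r : ℕ) (i : Fin r) (y : Fin r → uL b φ),
      (List.ofFn fun t => y t ^ ((single (p := p) hp.out.one_lt i t : Fin p) : ℕ)).prod = y i := by
    intro r
    induction r with
    | zero => exact fun i => i.elim0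
    | succ r ih =>
      intro i y
      rw [List.ofFn_succ, List.prod_cons]
      rcases Fin.eq_zero_or_eq_succ i with rfl | ⟨i', rfl⟩
      · simp [single, Function.update_of_ne (Fin.succ_ne_zero _)]
      · rw [← ih i' fun t => y t.succ]
        simp [single, Function.update_apply, (Fin.succ_ne_zero i').symm]
  exact h n i fun t => j b φ (b t)

/-- primitive elements come from `L` -/
theorem primitive_mem (w : uL b φ) (hw : comulHom b φ w = w ⊗ₜ 1 + 1 ⊗ₜ w) :
    w ∈ LinearMap.range (j b φ) := by
  have h1 : (1 : uL b φ) = basis b φ 0 := by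
    rw [basis_apply, X]
    simp
  rw [← (basis b φ).sum_repr w]
  refine Submodule.sum_mem _ fun a _ => ?_
  by_cases hz : (basis b φ).repr w a = 0
  · simp [hz]
  by_cases ha0 : a = 0
  · exfalso
    subst ha0
    have h := congrArg (fun t => ((basis b φ).tensorProduct (basis b φ)).repr t (0, 0)) hw
    simp only [Module.Basis.tensorProduct_repr_tmul_apply, map_add, Finsupp.add_apply, h1,
      Module.Basis.repr_self, Finsupp.single_eq_same, smul_eq_mul, mul_one, one_mul] at h
    conv at h => lhs; rw [← (basis b φ).sum_repr w, map_sum, map_sum, Finsupp.finsetSum_apply]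
    rw [Finset.sum_eq_single 0] at h
    · rw [map_smul, map_smul, Finsupp.smul_apply, ← h1, map_one, Algebra.TensorProduct.one_def, h1,
        Module.Basis.tensorProduct_repr_tmul_apply, Module.Basis.repr_self,
        Finsupp.single_eq_same] at h
      simp only [smul_eq_mul, mul_one] at h
      exact hz (left_eq_add.mp h)
    · intro c _ hc
      rw [map_smul, map_smul, Finsupp.smul_apply, comul_basis, map_sum, Finsupp.finsetSum_apply,
        Finset.sum_eq_zero, smul_zero]
      intro g _
      let d : Fin n → Fin p := fun i => ⟨(c i : ℕ) - (g i : ℕ), by have := (c i).2; omega⟩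
      rw [show (fun i => (c i : ℕ) - (g i : ℕ)) = fun i => (d i : ℕ) from rfl, ← basis_apply,
        ← basis_apply, map_smul, Finsupp.smul_apply, Module.Basis.tensorProduct_repr_tmul_apply,
        Module.Basis.repr_self, Module.Basis.repr_self]
      by_cases hg : g = 0
      · subst hg
        have hd : d ≠ 0 := by
          intro hd
          apply hc
          funext i
          apply Fin.ext
          have := congrArg (fun f : Fin n → Fin p => (f i : ℕ)) hd
          simpa [d] using this
        simp [Finsupp.single_eq_of_ne (Ne.symm hd)]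
      · simp [Finsupp.single_eq_of_ne (Ne.symm hg)]
    · simp
  obtain ⟨i, hi⟩ : ∃ i, a i ≠ 0 := Function.ne_iff.mp ha0
  by_cases ha1 : a = single hp.out.one_lt i
  · exact Submodule.smul_mem _ _ ⟨b i, by rw [ha1, basis_apply, X_single]⟩
  exfalso
  let e : Fin n → Fin p := single hp.out.one_lt i
  have hi1 : 1 ≤ (a i : ℕ) := by
    rcases Nat.eq_zero_or_pos (a i : ℕ) with h | h
    · exact absurd (Fin.ext h) hi
    · exact h
  have hev : ∀ t, (e t : ℕ) ≤ (a t : ℕ) := by
    intro t
    by_cases ht : t = i
    · subst ht; simpa [e, single] using hi1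
    · simp [e, single, Function.update_of_ne ht]
  let a' : Fin n → Fin p := fun t => ⟨(a t : ℕ) - (e t : ℕ), by have := (a t).2; omega⟩
  have ha' : a' ≠ 0 := by
    intro h
    apply ha1
    funext t
    apply Fin.ext
    have := congrArg (fun f : Fin n → Fin p => (f t : ℕ)) h
    simp only [a', Pi.zero_apply, Fin.val_zero] at this
    have := hev t
    simp only [e] at *
    omega
  have he : e ≠ 0 := by
    intro h
    have := congrArg (fun f : Fin n → Fin p => (f i : ℕ)) h
    simp [e, single] at this
  have h := congrArg (fun t => ((basis b φ).tensorProduct (basis b φ)).repr t (a', e)) hw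
  simp only [Module.Basis.tensorProduct_repr_tmul_apply, map_add, Finsupp.add_apply, h1,
    Module.Basis.repr_self, Finsupp.single_eq_of_ne ha', Finsupp.single_eq_of_ne he,
    smul_eq_mul, mul_zero, zero_mul, add_zero] at h
  conv at h => lhs; rw [← (basis b φ).sum_repr w, map_sum, map_sum, Finsupp.finsetSum_apply]
  have key : ∀ c : Fin n → Fin p,
      ((basis b φ).tensorProduct (basis b φ)).repr (comulHom b φ (basis b φ c)) (a', e) =
        if c = a then ((a i : ℕ) : k) else 0 := by
    intro c
    rw [comul_basis, map_sum, Finsupp.finsetSum_apply, Finset.sum_eq_single e]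
    · let d : Fin n → Fin p := fun t => ⟨(c t : ℕ) - (e t : ℕ), by have := (c t).2; omega⟩
      rw [show (fun t => (c t : ℕ) - (e t : ℕ)) = fun t => (d t : ℕ) from rfl, ← basis_apply,
        ← basis_apply, map_smul, Finsupp.smul_apply, Module.Basis.tensorProduct_repr_tmul_apply,
        Module.Basis.repr_self, Module.Basis.repr_self, Finsupp.single_eq_same]
      by_cases hca : c = a
      · subst hca
        rw [if_pos rfl, Finsupp.single_eq_same]
        simp only [smul_eq_mul, mul_one]
        rw [Finset.prod_eq_single i]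
        · simp [e, single]
        · intro t _ ht
          simp [e, single, Function.update_of_ne ht]
        · simp
      · rw [if_neg hca]
        by_cases hle : ∀ t, (e t : ℕ) ≤ (c t : ℕ)
        · have hd : d ≠ a' := by
            intro hd
            apply hca
            funext t
            apply Fin.ext
            have := congrArg (fun f : Fin n → Fin p => (f t : ℕ)) hd
            simp only [d, a'] at this
            have := hle t
            have := hev t
            omega
          simp [Finsupp.single_eq_of_ne (Ne.symm hd)]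
        · push Not at hle
          obtain ⟨t, ht⟩ := hle
          rw [Finset.prod_eq_zero (Finset.mem_univ t)]
          · simp
          · rw [Nat.choose_eq_zero_of_lt ht, Nat.cast_zero]
    · intro g _ hg
      let d : Fin n → Fin p := fun t => ⟨(c t : ℕ) - (g t : ℕ), by have := (c t).2; omega⟩
      rw [show (fun t => (c t : ℕ) - (g t : ℕ)) = fun t => (d t : ℕ) from rfl, ← basis_apply,
        ← basis_apply, map_smul, Finsupp.smul_apply, Module.Basis.tensorProduct_repr_tmul_apply,
        Module.Basis.repr_self, Module.Basis.repr_self, Finsupp.single_eq_of_ne (Ne.symm hg)]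
      simp
    · simp
  rw [Finset.sum_eq_single a] at h
  · rw [map_smul, map_smul, Finsupp.smul_apply, key, if_pos rfl, smul_eq_mul] at h
    rcases mul_eq_zero.mp h with h | h
    · exact hz h
    · rw [CharP.cast_eq_zero_iff k p] at h
      have := Nat.le_of_dvd hi1 h
      have := (a i).2
      omega
  · intro c _ hc
    rw [map_smul, map_smul, Finsupp.smul_apply, key, if_neg hc, smul_zero]
  · simp

end Groth.Agent.H68.RestrictedHopf
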