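import Groth.Agent.H68.FSLocal
import Mathlib.LinearAlgebra.Matrix.NonsingularInverse
import Mathlib.LinearAlgebra.Dual.Lemmas
import Mathlib.RingTheory.LocalRing.Module
import Mathlib.RingTheory.Support

/-!
# The conormal map at a prime: injectivity on the residue field and retractions
-/

set_option autoImplicit false

universe u

open scoped TensorProduct
open Groth.Agent.H68.FSLocal

namespace Groth.Agent.H68.RetrResidue

variable {R P C : Type u} [CommRing R] [CommRing P] [CommRing C] [Algebra R P] [Algebra P C]
  [Algebra R C] [IsScalarTower R P C]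

local notation "𝔍" => RingHom.ker (algebraMap P C)

/-- Maps from differentials to the conormal module extend along the surjection. -/
lemma exists_descend (hsurj : Function.Surjective (algebraMap P C)) (g : Ω[P⁄R] →ₗ[P] (𝔍).Cotangent) :
    ∃ g' : C ⊗[P] Ω[P⁄R] →ₗ[P] (𝔍).Cotangent, ∀ ω, g' ((1 : C) ⊗ₜ ω) = g ω := by
  let π : C →+* P ⧸ 𝔍 := RingHom.liftOfSurjective (algebraMap P C) hsurj
    ⟨Ideal.Quotient.mk 𝔍, le_of_eq Ideal.mk_ker.symm⟩
  have hπ : ∀ a, π (algebraMap P C a) = Ideal.Quotient.mk 𝔍 a := fun a =>
    RingHom.liftOfRightInverse_comp_apply _ _ _ _ a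
  letI : Module C (𝔍).Cotangent := Module.compHom _ π
  haveI : IsScalarTower P C (𝔍).Cotangent := IsScalarTower.of_algebraMap_smul fun a x => by
    show π (algebraMap P C a) • x = a • x
    rw [hπ]
    exact algebraMap_smul (P ⧸ 𝔍) a x
  exact ⟨(g.liftBaseChange C).restrictScalars P, fun ω => by
    rw [LinearMap.restrictScalars_apply, LinearMap.liftBaseChange_tmul, one_smul]⟩

/-- The extension given by `exists_descend`. -/
noncomputable def descend (hsurj : Function.Surjective (algebraMap P C)) (g : Ω[P⁄R] →ₗ[P] (𝔍).Cotangent) :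
    C ⊗[P] Ω[P⁄R] →ₗ[P] (𝔍).Cotangent :=
  (exists_descend hsurj g).choose

lemma descend_tmul (hsurj : Function.Surjective (algebraMap P C)) (g : Ω[P⁄R] →ₗ[P] (𝔍).Cotangent)
    (ω : Ω[P⁄R]) : descend hsurj g ((1 : C) ⊗ₜ ω) = g ω :=
  (exists_descend hsurj g).choose_spec ω

/-- A retraction up to a scalar outside `p` gives injectivity at `p`. -/
theorem injective_of_retr (hsurj : Function.Surjective (algebraMap P C)) (p : Ideal C) [p.IsPrime]
    {s : P} (hs : Retr R 𝔍 s) (hsp : algebraMap P C s ∉ p) :
    Function.Injective ((KaehlerDifferential.kerCotangentToTensor R P C).lTensor p.ResidueField) := by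
  obtain ⟨g, hg⟩ := hs
  let g' := descend hsurj g
  have hgf : g' ∘ₗ KaehlerDifferential.kerCotangentToTensor R P C = s • LinearMap.id := by
    refine LinearMap.ext fun z => ?_
    obtain ⟨j, rfl⟩ := Ideal.toCotangent_surjective _ z
    rw [LinearMap.comp_apply, KaehlerDifferential.kerCotangentToTensor_toCotangent]
    rw [descend_tmul, hg]
    rfl
  refine Function.Injective.of_comp (f := g'.lTensor p.ResidueField) ?_
  rw [← LinearMap.coe_comp, ← LinearMap.lTensor_comp, hgf, LinearMap.lTensor_smul, LinearMap.lTensor_id]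
  have hu : IsUnit (algebraMap P p.ResidueField s) := by
    rw [isUnit_iff_ne_zero, IsScalarTower.algebraMap_apply P C p.ResidueField, ne_eq,
      Ideal.algebraMap_residueField_eq_zero]
    exact hsp
  intro x y hxy
  have h : algebraMap P p.ResidueField s • x = algebraMap P p.ResidueField s • y := by
    rw [algebraMap_smul, algebraMap_smul]
    exact hxy
  exact hu.smul_left_cancel.mp h

/-- Injectivity at `p` gives a retraction up to a scalar outside `p`. -/
theorem retr_of_injective [Algebra.FormallySmooth R P] (hsurj : Function.Surjective (algebraMap P C))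
    [Module.Finite P (𝔍).Cotangent] (p : Ideal C) [p.IsPrime]
    (hinj : Function.Injective
      ((KaehlerDifferential.kerCotangentToTensor R P C).lTensor p.ResidueField)) :
    ∃ s : P, Retr R 𝔍 s ∧ algebraMap P C s ∉ p := by
  classical
  let κ := p.ResidueField
  let N := (𝔍).Cotangent
  obtain ⟨F, hF⟩ := Module.Finite.fg_top (R := P) (M := N)
  -- a basis at `p` made of elements of the module
  have hspan : Submodule.span κ (Set.range fun z : N => (1 : κ) ⊗ₜ[P] z) = ⊤ := by
    refine Submodule.eq_top_iff'.mpr fun w => ?_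
    induction w using TensorProduct.induction_on with
    | zero => exact zero_mem _
    | tmul a z =>
      rw [show a ⊗ₜ[P] z = a • ((1 : κ) ⊗ₜ[P] z) by rw [TensorProduct.smul_tmul', smul_eq_mul, mul_one]]
      exact Submodule.smul_mem _ _ (Submodule.subset_span ⟨z, rfl⟩)
    | add a b ha hb => exact add_mem ha hb
  obtain ⟨b, hb, hbspan, hbli⟩ := exists_linearIndependent κ (Set.range fun z : N => (1 : κ) ⊗ₜ[P] z)
  haveI : Module.Finite κ (κ ⊗[P] N) := inferInstance
  haveI : Finite b := hbli.setFinite.to_subtype
  haveI : Fintype b := Fintype.ofFinite _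
  choose z hz using fun x : b => hb x.2
  choose j hj using fun x : b => (𝔍).toCotangent_surjective (z x)
  obtain ⟨i, hi⟩ := Module.projective_def.mp (inferInstance : Module.Projective P Ω[P⁄R])
  let V : b → Ω[P⁄R] → κ := fun x ω => algebraMap P κ (i (KaehlerDifferential.D R P (j x : P)) ω)
  have hVind : ∀ a : b → κ, (∀ ω, ∑ x, a x * V x ω = 0) → a = 0 := by
    intro a ha
    let ι : Ω[P⁄R] →ₗ[P] κ ⊗[P] (C ⊗[P] Ω[P⁄R]) :=
      (TensorProduct.mk P κ _ 1) ∘ₗ (TensorProduct.mk P C _ 1)
    let S : Finset Ω[P⁄R] := Finset.univ.biUnion fun x : b => (i (KaehlerDifferential.D R P (j x : P))).support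
    have h1 : ∀ x : b, ι (KaehlerDifferential.D R P (j x : P)) = ∑ ω ∈ S, V x ω • ι ω := fun x => by
      conv_lhs => rw [← hi (KaehlerDifferential.D R P (j x : P))]
      rw [Finsupp.linearCombination_apply, Finsupp.sum, map_sum]
      refine (Finset.sum_subset (Finset.subset_biUnion_of_mem
        (fun x : b => (i (KaehlerDifferential.D R P (j x : P))).support) (Finset.mem_univ x))
        fun ω _ hω => ?_).trans (Finset.sum_congr rfl fun ω _ => ?_)
      · rw [Finsupp.notMem_support_iff.mp hω, zero_smul, map_zero]
      · rw [map_smul]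
        exact (algebraMap_smul κ _ _).symm
    have h2 : ((KaehlerDifferential.kerCotangentToTensor R P C).lTensor κ) (∑ x, a x • ((1 : κ) ⊗ₜ[P] z x)) = 0 := by
      rw [map_sum]
      calc _ = ∑ x, a x • ι (KaehlerDifferential.D R P (j x : P)) := Finset.sum_congr rfl fun x _ => by
            rw [TensorProduct.smul_tmul', LinearMap.lTensor_tmul, ← hj x,
              KaehlerDifferential.kerCotangentToTensor_toCotangent]
            rw [← TensorProduct.smul_tmul']
            rfl
        _ = ∑ ω ∈ S, (∑ x, a x * V x ω) • ι ω := by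
            simp only [h1, Finset.smul_sum, smul_smul, Finset.sum_smul]
            exact Finset.sum_comm
        _ = 0 := by simp only [ha, zero_smul, Finset.sum_const_zero]
    rw [← map_zero ((KaehlerDifferential.kerCotangentToTensor R P C).lTensor κ)] at h2
    have h3 := Fintype.linearIndependent_iff.mp hbli a (by
      refine Eq.trans ?_ (hinj h2)
      exact Finset.sum_congr rfl fun x _ => by rw [← hz x])
    exact funext h3
  -- columns spanning `κ^b`
  have hcol : Submodule.span κ (Set.range fun ω => fun x => V x ω) = ⊤ := by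
    by_contra hne
    obtain ⟨φ, hφ, hle⟩ := Submodule.exists_dual_map_eq_bot_of_lt_top (lt_top_iff_ne_top.mpr hne) inferInstance
    refine hφ (LinearMap.pi_ext' fun x => LinearMap.ext_ring ?_)
    have ha := hVind (fun x => φ (Pi.single x 1)) fun ω => by
      have h0 : φ (fun x => V x ω) = 0 := by
        rw [← Submodule.mem_bot κ, ← hle]
        exact Submodule.mem_map_of_mem (Submodule.subset_span ⟨ω, rfl⟩)
      rw [← h0]
      conv_rhs => rw [pi_eq_sum_univ (fun x => V x ω), map_sum]
      refine Finset.sum_congr rfl fun x _ => ?_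
      rw [map_smul, smul_eq_mul, mul_comm]
      congr 2
      funext y
      simp [Pi.single_apply, eq_comm]
    simpa using congr_fun ha x
  obtain ⟨c, hc, hcspan, hcli⟩ := exists_linearIndependent κ (Set.range fun ω => fun x => V x ω)
  rw [hcol] at hcspan
  haveI : Finite c := hcli.setFinite.to_subtype
  haveI : Fintype c := Fintype.ofFinite _
  choose w hw using fun y : c => hc y.2
  have hcard : Fintype.card c = Fintype.card b := by
    have B := Module.Basis.mk hcli (by rw [Subtype.range_coe]; exact hcspan.ge)
    rw [← Module.finrank_eq_card_basis B, Module.finrank_fintype_fun_eq_card]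
  let e : b ≃ c := (Fintype.equivOfCardEq hcard).symm
  let M : Matrix b b P := fun x y => i (KaehlerDifferential.D R P (j x : P)) (w (e y))
  have hM : algebraMap P κ M.det ≠ 0 := by
    rw [RingHom.map_det]
    have hli : LinearIndependent κ ((algebraMap P κ).mapMatrix M).col := by
      have heq : ((algebraMap P κ).mapMatrix M).col = Subtype.val ∘ e :=
        funext fun y => funext fun x => congr_fun (hw (e y)) x
      rw [heq]
      exact hcli.comp e e.injective
    exact ((Matrix.isUnit_iff_isUnit_det _).mp (Matrix.linearIndependent_cols_iff_isUnit.mp hli)).ne_zero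
  let g : Ω[P⁄R] →ₗ[P] N :=
    ∑ l : b, (∑ y : b, M.adjugate y l • (Finsupp.lapply (w (e y)) ∘ₗ i)).smulRight (z l)
  have hgz : ∀ x, g (KaehlerDifferential.D R P (j x : P)) = M.det • z x := fun x => by
    simp only [g, LinearMap.sum_apply, LinearMap.smulRight_apply, LinearMap.smul_apply,
      LinearMap.comp_apply, Finsupp.lapply_apply, smul_eq_mul]
    have h1 : ∀ l, (∑ y, M.adjugate y l * i (KaehlerDifferential.D R P (j x : P)) (w (e y))) =
        (M * M.adjugate) x l := fun l => by
      rw [Matrix.mul_apply]
      exact Finset.sum_congr rfl fun y _ => mul_comm _ _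
    simp only [h1, Matrix.mul_adjugate, Matrix.smul_apply, Matrix.one_apply, smul_eq_mul, mul_ite,
      mul_one, mul_zero, ite_smul, zero_smul, Finset.sum_ite_eq, Finset.mem_univ, if_true]
  -- the elements generate near `p`
  let Q := N ⧸ Submodule.span P (Set.range z)
  let q : Ideal P := p.comap (algebraMap P C)
  have hQ : Subsingleton (κ ⊗[P] Q) := by
    refine subsingleton_of_forall_eq 0 fun t => ?_
    induction t using TensorProduct.induction_on with
    | zero => rfl
    | add s t hs ht => rw [hs, ht, add_zero]
    | tmul a y =>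
      obtain ⟨y, rfl⟩ := Submodule.mkQ_surjective _ y
      have hy : (1 : κ) ⊗ₜ[P] y ∈ Submodule.span κ b := by
        rw [hbspan, hspan]; trivial
      have h1 : ((Submodule.span P (Set.range z)).mkQ.baseChange κ) ((1 : κ) ⊗ₜ[P] y) = 0 := by
        rw [← LinearMap.mem_ker]
        refine (Submodule.span_le.mpr fun u hu => ?_) hy
        show _ = 0
        rw [← show (1 : κ) ⊗ₜ[P] z ⟨u, hu⟩ = u from hz ⟨u, hu⟩, LinearMap.baseChange_tmul,
          Submodule.mkQ_apply, (Submodule.Quotient.mk_eq_zero _).mpr (Submodule.subset_span (Set.mem_range_self _)),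
          TensorProduct.tmul_zero]
      rw [show a ⊗ₜ[P] (Submodule.span P (Set.range z)).mkQ y =
          a • ((Submodule.span P (Set.range z)).mkQ.baseChange κ ((1 : κ) ⊗ₜ[P] y)) by
        rw [LinearMap.baseChange_tmul, TensorProduct.smul_tmul', smul_eq_mul, mul_one], h1, smul_zero]
  have hQq : (⟨q, inferInstance⟩ : PrimeSpectrum P) ∉ (Module.support P Q : Set (PrimeSpectrum P)) := by
    rw [Module.mem_support_iff_nontrivial_residueField_tensorProduct, not_nontrivial_iff_subsingleton]
    let ε : q.ResidueField ≃ₐ[P] κ :=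
      AlgEquiv.ofBijective (Ideal.ResidueField.mapₐ q p (Algebra.ofId P C) rfl)
        (RingHom.SurjectiveOnStalks.residueFieldMap_bijective
          (RingHom.surjectiveOnStalks_of_surjective hsurj) q p rfl)
    exact (TensorProduct.congr ε.toLinearEquiv (LinearEquiv.refl P Q)).toEquiv.subsingleton
  rw [Module.support_eq_zeroLocus, PrimeSpectrum.mem_zeroLocus, SetLike.coe_subset_coe,
    SetLike.not_le_iff_exists] at hQq
  obtain ⟨t, ht, htq⟩ := hQq
  refine ⟨M.det * t, ⟨t • g, fun j' => ?_⟩, fun hmem => ?_⟩
  · have hmem : t • (𝔍).toCotangent j' ∈ Submodule.span P (Set.range z) := by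
      rw [← Submodule.Quotient.mk_eq_zero, Submodule.Quotient.mk_smul]
      exact Module.mem_annihilator.mp ht _
    rw [Submodule.mem_span_range_iff_exists_fun] at hmem
    obtain ⟨a, ha⟩ := hmem
    have hcomp : ∀ v : 𝔍, g (KaehlerDifferential.D R P (v : P)) =
        (descend hsurj g) (KaehlerDifferential.kerCotangentToTensor R P C ((𝔍).toCotangent v)) :=
      fun v => by rw [KaehlerDifferential.kerCotangentToTensor_toCotangent, descend_tmul]
    let G : N →ₗ[P] N := descend hsurj g ∘ₗ KaehlerDifferential.kerCotangentToTensor R P C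
    have hG : ∀ v : 𝔍, G ((𝔍).toCotangent v) = g (KaehlerDifferential.D R P (v : P)) :=
      fun v => (hcomp v).symm
    have hGz : ∀ x, G (z x) = M.det • z x := fun x => by
      rw [← hgz x, ← hj x, hG]
    rw [LinearMap.smul_apply, ← hG, ← map_smul, ← ha, map_sum, mul_comm, ← smul_smul, smul_comm,
      ← ha, Finset.smul_sum]
    exact Finset.sum_congr rfl fun x _ => by rw [map_smul, hGz, smul_comm]
  · rw [map_mul] at hmem
    rcases Ideal.IsPrime.mem_or_mem inferInstance hmem with h | h
    · apply hM
      rw [IsScalarTower.algebraMap_apply P C κ]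
      exact Ideal.algebraMap_residueField_eq_zero.mpr h
    · exact htq h

end Groth.Agent.H68.RetrResidue
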