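import Groth.Agent.H68.BinForms

/-!
Linear series of binary quintics and their trisecant cubics.
-/

set_option autoImplicit false

open MvPolynomial

namespace Groth.Agent.H68.Secants

open BinForms

variable {K : Type*} [Field K]

/-- A linear series of binary quintics separates length two subschemes. -/
def Sep (V : Submodule K (MvPolynomial (Fin 2) K)) : Prop :=
  ∀ e ∈ homogeneousSubmodule (Fin 2) K 2, e ≠ 0 →
    ∀ F ∈ homogeneousSubmodule (Fin 2) K 5, ∃ v ∈ V, ∃ h ∈ homogeneousSubmodule (Fin 2) K 3, F = v + e * h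

/-- The bilinear form `(g, h) ↦ φ (g h)`. -/
noncomputable def bil (φ : homogeneousSubmodule (Fin 2) K 5 →ₗ[K] K) :
    homogeneousSubmodule (Fin 2) K 3 →ₗ[K] homogeneousSubmodule (Fin 2) K 2 →ₗ[K] K :=
  (mulForms 3 2).compr₂ φ

lemma bil_apply (φ : homogeneousSubmodule (Fin 2) K 5 →ₗ[K] K) (g : homogeneousSubmodule (Fin 2) K 3)
    (h : homogeneousSubmodule (Fin 2) K 2) : bil φ g h = φ (mulForms 3 2 g h) := rfl

/-- A nonzero functional vanishing on a separating series kills exactly one cubic up to scalars. -/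
theorem finrank_ker_bil {V : Submodule K (MvPolynomial (Fin 2) K)}
    (hV : V ≤ homogeneousSubmodule (Fin 2) K 5) (hsep : Sep V)
    (φ : homogeneousSubmodule (Fin 2) K 5 →ₗ[K] K) (hφ0 : φ ≠ 0)
    (hφ : ∀ F : homogeneousSubmodule (Fin 2) K 5, (F : MvPolynomial (Fin 2) K) ∈ V → φ F = 0) :
    Module.finrank K (LinearMap.ker (bil φ)) = 1 := by
  have hsurj : Function.Surjective (bil φ) := by
    rw [← LinearMap.flip_injective_iff₁, injective_iff_map_eq_zero]
    intro e he
    by_contra hne
    apply hφ0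
    ext F
    obtain ⟨v, hv, h, hh, hF⟩ := hsep e.1 e.2 (fun h0 => hne (Subtype.ext h0)) F.1 F.2
    have eF : F = ⟨v, hV hv⟩ + mulForms 3 2 ⟨h, hh⟩ e := Subtype.ext (by
      simp only [Submodule.coe_add, mulForms_coe]; rw [hF, mul_comm])
    rw [eF, map_add, hφ _ hv, zero_add, LinearMap.zero_apply]
    exact LinearMap.congr_fun he (⟨h, hh⟩ : homogeneousSubmodule (Fin 2) K 3)
  have h := (bil φ).finrank_range_add_finrank_ker
  rw [LinearMap.range_eq_top.mpr hsurj, finrank_top, finrank_homogeneous, Module.finrank_linearMap,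
    finrank_homogeneous, Module.finrank_self] at h
  omega

theorem exists_unique_ker_bil {V : Submodule K (MvPolynomial (Fin 2) K)}
    (hV : V ≤ homogeneousSubmodule (Fin 2) K 5) (hsep : Sep V)
    (φ : homogeneousSubmodule (Fin 2) K 5 →ₗ[K] K) (hφ0 : φ ≠ 0)
    (hφ : ∀ F : homogeneousSubmodule (Fin 2) K 5, (F : MvPolynomial (Fin 2) K) ∈ V → φ F = 0) :
    ∃ g, g ≠ 0 ∧ bil φ g = 0 ∧ ∀ g', bil φ g' = 0 → ∃ c : K, c • g = g' := by
  have h := finrank_ker_bil hV hsep φ hφ0 hφ
  have hne : LinearMap.ker (bil φ) ≠ ⊥ := fun h0 => by rw [h0, finrank_bot] at h; exact zero_ne_one h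
  obtain ⟨g, hg, hg0⟩ := Submodule.exists_mem_ne_zero_of_ne_bot hne
  refine ⟨g, hg0, hg, fun g' hg' => Submodule.mem_span_singleton.mp ?_⟩
  rw [Submodule.eq_of_le_of_finrank_eq ((Submodule.span_singleton_le_iff_mem g _).mpr hg)
    (by rw [finrank_span_singleton hg0, h])]
  exact hg'

/-- No cubic `g` has all its multiples `g · S₂` in a separating series of dimension at most `4`. -/
theorem not_forall_mul_mem [IsAlgClosed K] {V : Submodule K (MvPolynomial (Fin 2) K)}
    (hV : V ≤ homogeneousSubmodule (Fin 2) K 5) (hdim : Module.finrank K V ≤ 4) (hsep : Sep V)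
    {g : MvPolynomial (Fin 2) K} (hg : g ∈ homogeneousSubmodule (Fin 2) K 3) (hg0 : g ≠ 0)
    (hall : ∀ h ∈ homogeneousSubmodule (Fin 2) K 2, g * h ∈ V) : False := by
  classical
  obtain ⟨e, he, l, hl, rfl⟩ := exists_quadratic_factor hg
  have he0 : e ≠ 0 := right_ne_zero_of_mul hg0
  haveI : Module.Finite K V := Submodule.finiteDimensional_of_le hV
  let A : Submodule K (MvPolynomial (Fin 2) K) := (homogeneousSubmodule (Fin 2) K 3).map (LinearMap.mulLeft K e)
  let B : Submodule K (MvPolynomial (Fin 2) K) := (homogeneousSubmodule (Fin 2) K 2).map (LinearMap.mulLeft K (l * e))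
  have hA : Module.finrank K A = 4 := by
    rw [← (Submodule.equivMapOfInjective _ (mul_right_injective₀ he0) _).finrank_eq, finrank_homogeneous]
  have hB : Module.finrank K B = 3 := by
    rw [← (Submodule.equivMapOfInjective _ (mul_right_injective₀ hg0) _).finrank_eq, finrank_homogeneous]
  haveI : Module.Finite K A := Module.Finite.map _ _
  have hBle : B ≤ V ⊓ A := by
    rintro _ ⟨h, hh, rfl⟩
    refine ⟨hall h hh, l * h, IsHomogeneous.mul hl hh, ?_⟩
    simp only [LinearMap.mulLeft_apply]; ring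
  have h5 : homogeneousSubmodule (Fin 2) K 5 ≤ V ⊔ A := by
    intro F hF
    obtain ⟨v, hv, h, hh, rfl⟩ := hsep e he he0 F hF
    exact Submodule.add_mem_sup hv ⟨h, hh, rfl⟩
  have h1 := Submodule.finrank_sup_add_finrank_inf_eq V A
  have h2 := Submodule.finrank_mono h5
  have h3 := Submodule.finrank_mono hBle
  rw [finrank_homogeneous] at h2
  omega

end Groth.Agent.H68.Secants
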