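import Groth.Prelude.Def_W4c2movlemaddchowShuffle
import Mathlib.Data.Fin.Tuple.Sort
import Mathlib.Algebra.MonoidAlgebra.Defs
import Mathlib.Tactic

set_option autoImplicit false

open Equiv W4c2movlemaddchow

namespace Groth.Agent.H68.Shuffle

theorem strictMono_of {a n : ℕ} (ν : Perm (Fin n)) (e : Fin a → Fin n) (he : Function.Injective e)
    (h : Monotone fun i => ν (e i)) : StrictMono fun i => ν (e i) :=
  h.strictMono_of_injective (ν.injective.comp he)

theorem unique {a n : ℕ} (e : Fin a → Fin n) (he : Function.Injective e)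
    (ext' : Perm (Fin a) → Perm (Fin n)) (hext : ∀ σ i, ext' σ (e i) = e (σ i))
    (τ₁ τ₂ : Perm (Fin n)) (σ₁ σ₂ : Perm (Fin a)) (h₁ : Monotone fun i => τ₁ (e i))
    (h₂ : Monotone fun i => τ₂ (e i)) (h : τ₁ * ext' σ₁ = τ₂ * ext' σ₂) : σ₁ = σ₂ ∧ τ₁ = τ₂ := by
  have hi : ∀ i, τ₁ (e (σ₁ i)) = τ₂ (e (σ₂ i)) := fun i => by
    have := congrArg (fun p : Perm (Fin n) => p (e i)) h
    simpa [hext] using this
  have g : (fun i => τ₁ (e i)) = fun i => τ₂ (e i) := by
    refine ((strictMono_of τ₁ e he h₁).range_inj (strictMono_of τ₂ e he h₂)).1 ?_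
    rw [← σ₁.surjective.range_comp (fun i => τ₁ (e i)), ← σ₂.surjective.range_comp (fun i => τ₂ (e i))]
    exact congrArg Set.range (funext hi)
  have hσ : σ₁ = σ₂ := Equiv.ext fun i => he (τ₂.injective ((congrFun g (σ₁ i)).symm.trans (hi i)))
  subst hσ
  exact ⟨rfl, mul_right_cancel h⟩

theorem decompose {a n : ℕ} (e : Fin a → Fin n) (he : Function.Injective e)
    (ext' : Perm (Fin a) → Perm (Fin n)) (hext : ∀ σ i, ext' σ (e i) = e (σ i))
    (ν : Perm (Fin n)) : ∃ (τ : Perm (Fin n)) (σ : Perm (Fin a)), τ * ext' σ = ν ∧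
      StrictMono fun i => τ (e i) := by
  set π := Tuple.sort fun i => ν (e i)
  refine ⟨ν * (ext' π⁻¹)⁻¹, π⁻¹, by simp, ?_⟩
  have h : ∀ i, (ν * (ext' π⁻¹)⁻¹) (e i) = ν (e (π i)) := fun i => by
    rw [Perm.mul_apply]
    congr 1
    rw [Perm.inv_def, Equiv.symm_apply_eq, hext]
    simp
  refine strictMono_of _ e he ?_
  simp only [h]
  exact Tuple.monotone_sort fun i => ν (e i)

theorem extRight_castAdd (a t : ℕ) (σ : Perm (Fin a)) (i : Fin a) :
    extRight a t σ (Fin.castAdd t i) = Fin.castAdd t (σ i) := by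
  simp [extRight, Equiv.permCongr_apply]

theorem extRight_natAdd (a t : ℕ) (σ : Perm (Fin a)) (l : Fin t) :
    extRight a t σ (Fin.natAdd a l) = Fin.natAdd a l := by
  simp [extRight, Equiv.permCongr_apply]

/-- The embedding of the last `s + t` positions. -/
def lastEmb (r s t : ℕ) (j : Fin (s + t)) : Fin (r + s + t) :=
  Fin.cast (Nat.add_assoc r s t).symm (Fin.natAdd r j)

/-- The embedding of the first `r` positions. -/
def firstEmb (r s t : ℕ) (i : Fin r) : Fin (r + s + t) :=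
  Fin.castAdd t (Fin.castAdd s i)

theorem lastEmb_injective (r s t : ℕ) : Function.Injective (lastEmb r s t) := fun a b h => by
  have := congrArg Fin.val h
  simp [lastEmb] at this
  exact Fin.ext (by omega)

theorem lastEmb_castAdd (r s t : ℕ) (j : Fin s) :
    lastEmb r s t (Fin.castAdd t j) = Fin.castAdd t (Fin.natAdd r j) := Fin.ext (by simp [lastEmb])

theorem lastEmb_natAdd (r s t : ℕ) (l : Fin t) :
    lastEmb r s t (Fin.natAdd s l) = Fin.natAdd (r + s) l :=
  Fin.ext (by simp [lastEmb]; omega)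

theorem firstEmb_eq (r s t : ℕ) (i : Fin r) :
    firstEmb r s t i = Fin.cast (Nat.add_assoc r s t).symm (Fin.castAdd (s + t) i) :=
  Fin.ext (by simp [firstEmb])

theorem extLeft_last (r s t : ℕ) (σ : Perm (Fin (s + t))) (j : Fin (s + t)) :
    extLeft r s t σ (lastEmb r s t j) = lastEmb r s t (σ j) := by
  simp [extLeft, lastEmb, Equiv.permCongr_apply]

theorem extLeft_first (r s t : ℕ) (σ : Perm (Fin (s + t))) (i : Fin r) :
    extLeft r s t σ (firstEmb r s t i) = firstEmb r s t i := by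
  simp [extLeft, firstEmb_eq, Equiv.permCongr_apply]

theorem shuffle_assoc_iff (r s t : ℕ) (τ : Perm (Fin (r + s + t))) :
    IsShuffle₂ r (s + t) ((finCongr (Nat.add_assoc r s t)).permCongr τ) ↔
      (Monotone fun i => τ (firstEmb r s t i)) ∧ Monotone fun j => τ (lastEmb r s t j) := by
  simp only [IsShuffle₂, firstEmb_eq, lastEmb, Equiv.permCongr_apply, finCongr_apply, finCongr_symm,
    Monotone, Fin.cast_le_cast]

theorem bij_right (r s t : ℕ) :
    Set.BijOn
      (fun p : Perm (Fin (r + s + t)) × Perm (Fin (r + s)) => p.1 * extRight (r + s) t p.2)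
      ({τ | IsShuffle₂ (r + s) t τ} ×ˢ {σ | IsShuffle₂ r s σ})
      {ν | IsShuffle₃ r s t ν} := by
  refine ⟨?_, ?_, ?_⟩
  · rintro ⟨τ, σ⟩ ⟨⟨h1, h2⟩, h3, h4⟩
    refine ⟨?_, ?_, ?_⟩
    · simpa [extRight_castAdd, Function.comp_def] using h1.comp h3
    · simpa [extRight_castAdd, Function.comp_def] using h1.comp h4
    · simpa [extRight_natAdd] using h2
  · rintro ⟨τ₁, σ₁⟩ ⟨⟨h1, -⟩, -⟩ ⟨τ₂, σ₂⟩ ⟨⟨h2, -⟩, -⟩ h
    obtain ⟨rfl, rfl⟩ := unique _ (Fin.castAdd_injective _ _) _ (extRight_castAdd (r + s) t)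
      τ₁ τ₂ σ₁ σ₂ h1 h2 h
    rfl
  · rintro ν ⟨h1, h2, h3⟩
    obtain ⟨τ, σ, rfl, hτ⟩ := decompose _ (Fin.castAdd_injective _ _) _ (extRight_castAdd (r + s) t) ν
    simp only [Perm.mul_apply, extRight_castAdd, extRight_natAdd] at h1 h2 h3
    exact ⟨(τ, σ), ⟨⟨hτ.monotone, h3⟩, fun i j hij => hτ.le_iff_le.1 (h1 hij),
      fun i j hij => hτ.le_iff_le.1 (h2 hij)⟩, rfl⟩

theorem bij_left (r s t : ℕ) :
    Set.BijOn
      (fun p : Perm (Fin (r + s + t)) × Perm (Fin (s + t)) => p.1 * extLeft r s t p.2)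
      ({τ | IsShuffle₂ r (s + t) ((finCongr (Nat.add_assoc r s t)).permCongr τ)} ×ˢ
        {σ | IsShuffle₂ s t σ})
      {ν | IsShuffle₃ r s t ν} := by
  refine ⟨?_, ?_, ?_⟩
  · rintro ⟨τ, σ⟩ ⟨h, h3, h4⟩
    obtain ⟨h1, h2⟩ := (shuffle_assoc_iff r s t τ).1 h
    refine ⟨?_, ?_, ?_⟩
    · simpa [extLeft_first, firstEmb] using
        (show Monotone fun i => τ (extLeft r s t σ (firstEmb r s t i)) by simpa [extLeft_first] using h1)
    · have : Monotone fun j => τ (extLeft r s t σ (lastEmb r s t (Fin.castAdd t j))) := by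
        simpa [extLeft_last, Function.comp_def] using h2.comp h3
      simpa [lastEmb_castAdd] using this
    · have : Monotone fun j => τ (extLeft r s t σ (lastEmb r s t (Fin.natAdd s j))) := by
        simpa [extLeft_last, Function.comp_def] using h2.comp h4
      simpa [lastEmb_natAdd] using this
  · rintro ⟨τ₁, σ₁⟩ ⟨h, -⟩ ⟨τ₂, σ₂⟩ ⟨h', -⟩ he
    obtain ⟨rfl, rfl⟩ := unique _ (lastEmb_injective r s t) _ (extLeft_last r s t) τ₁ τ₂ σ₁ σ₂
      ((shuffle_assoc_iff r s t τ₁).1 h).2 ((shuffle_assoc_iff r s t τ₂).1 h').2 he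
    rfl
  · rintro ν ⟨h1, h2, h3⟩
    obtain ⟨τ, σ, rfl, hτ⟩ := decompose _ (lastEmb_injective r s t) _ (extLeft_last r s t) ν
    simp only [← lastEmb_castAdd, ← lastEmb_natAdd, Perm.mul_apply, extLeft_last] at h2 h3
    refine ⟨(τ, σ), ⟨(shuffle_assoc_iff r s t τ).2 ⟨?_, hτ.monotone⟩,
      fun i j hij => hτ.le_iff_le.1 (h2 hij), fun i j hij => hτ.le_iff_le.1 (h3 hij)⟩, rfl⟩
    intro i j hij
    have := h1 hij
    simp only at this ⊢
    rw [show Fin.castAdd t (Fin.castAdd s i) = firstEmb r s t i from rfl,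
      show Fin.castAdd t (Fin.castAdd s j) = firstEmb r s t j from rfl] at this
    simpa only [Perm.mul_apply, extLeft_first] using this

theorem sign_extRight (a t : ℕ) (σ : Perm (Fin a)) :
    Perm.sign (extRight a t σ) = Perm.sign σ := by
  simp [extRight, Perm.sign_sumCongr]

theorem sign_extLeft (r s t : ℕ) (σ : Perm (Fin (s + t))) :
    Perm.sign (extLeft r s t σ) = Perm.sign σ := by
  simp [extLeft, Perm.sign_sumCongr]

theorem sums (r s t : ℕ) :
    ((∑ ν ∈ Finset.univ.filter (IsShuffle₃ r s t),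
        MonoidAlgebra.single ν (((Equiv.Perm.sign ν : ℤˣ) : ℤ)) :
          MonoidAlgebra ℤ (Equiv.Perm (Fin (r + s + t)))) =
      ∑ τ ∈ Finset.univ.filter (IsShuffle₂ (r + s) t),
        ∑ σ ∈ Finset.univ.filter (IsShuffle₂ r s),
          MonoidAlgebra.single (τ * extRight (r + s) t σ)
            (((Equiv.Perm.sign τ : ℤˣ) : ℤ) * ((Equiv.Perm.sign σ : ℤˣ) : ℤ))) ∧
    ((∑ ν ∈ Finset.univ.filter (IsShuffle₃ r s t),
        MonoidAlgebra.single ν (((Equiv.Perm.sign ν : ℤˣ) : ℤ)) :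
          MonoidAlgebra ℤ (Equiv.Perm (Fin (r + s + t)))) =
      ∑ τ ∈ Finset.univ.filter (fun τ : Equiv.Perm (Fin (r + s + t)) =>
          IsShuffle₂ r (s + t) ((finCongr (Nat.add_assoc r s t)).permCongr τ)),
        ∑ σ ∈ Finset.univ.filter (IsShuffle₂ s t),
          MonoidAlgebra.single (τ * extLeft r s t σ)
            (((Equiv.Perm.sign τ : ℤˣ) : ℤ) * ((Equiv.Perm.sign σ : ℤˣ) : ℤ))) := by
  constructor
  · rw [← Finset.sum_product']
    symm
    obtain ⟨h1, h2, h3⟩ := bij_right r s t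
    refine Finset.sum_nbij (fun p => p.1 * extRight (r + s) t p.2) ?_ ?_ ?_ ?_
    · intro p hp
      simp at hp ⊢
      exact h1 hp
    · intro p hp q hq h
      simp at hp hq
      exact h2 hp hq h
    · intro ν hν
      simp at hν
      obtain ⟨p, hp, hpν⟩ := h3 hν
      exact ⟨p, by simpa using hp, hpν⟩
    · intro p _
      simp [sign_extRight]
  · rw [← Finset.sum_product']
    symm
    obtain ⟨h1, h2, h3⟩ := bij_left r s t
    refine Finset.sum_nbij (fun p => p.1 * extLeft r s t p.2) ?_ ?_ ?_ ?_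
    · intro p hp
      simp at hp ⊢
      exact h1 hp
    · intro p hp q hq h
      simp at hp hq
      exact h2 hp hq h
    · intro ν hν
      simp at hν
      obtain ⟨p, hp, hpν⟩ := h3 hν
      exact ⟨p, by simpa using hp, hpν⟩
    · intro p _
      simp [sign_extLeft]

end Groth.Agent.H68.Shuffle
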