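import Groth.Prelude.Def_RelCanon
import Groth.Agent.H46.FibreProf.Equidim
import Groth.Agent.H46.FibreProf.Unit
import Groth.Agent.H46.FiberStalk
import Groth.Agent.Lib.EGA75.Sn
import Groth.Agent.H26.FreeCrit
import Groth.Agent.Lib.JacCrit.FlatRegular
import Groth.Agent.H46.GoodJac
import Groth.Agent.Lib.Cyc.PP.SubSetup
import Groth.Agent.H18.CMPoly
import Groth.Agent.S1717

set_option autoImplicit false
set_option linter.style.haveILetI false
universe u

open CategoryTheory AlgebraicGeometry IsLocalRing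
open Groth.Agent.H46.FibreTrdeg Groth.Agent.H46.DimData Groth.Agent.H46.FibreProf.Basic
open Groth.Agent.H46.FibreProf.Open

namespace Groth.Agent.H68.SkNhd

open Groth.Agent.Lib

variable {Y T : Scheme.{u}}

theorem skAt_structureModule_iff (X : Scheme.{u}) (k : ℕ) (x : X) :
    RelCanon.SkAt k (Coh.structureModule X) x ↔
      LocCoh.HasSk k (X.presheaf.stalk x) (X.presheaf.stalk x) :=
  ⟨H46.FibreProf.Unit.hasSk_congr (BettiExact.TorComp.stalkUnitEquiv X x),
    H46.FibreProf.Unit.hasSk_congr (BettiExact.TorComp.stalkUnitEquiv X x).symm⟩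

/-- The local ring of the fibre of an open subscheme is that of the fibre. -/
theorem nonempty_fiberStalk_equiv (f : Y ⟶ T) (U : Y.Opens) (z : U.toScheme) :
    Nonempty (((U.ι ≫ f).fiber ((U.ι ≫ f) z)).presheaf.stalk ((U.ι ≫ f).asFiber z) ≃+*
      (f.fiber (f (U.ι z))).presheaf.stalk (f.asFiber (U.ι z))) := by
  have h : ∀ {X : Scheme.{u}} (g : X ⟶ T) (x : X), Nonempty
      ((X.presheaf.stalk x ⧸ (maximalIdeal (T.presheaf.stalk (g x))).map (g.stalkMap x).hom) ≃+*
        (g.fiber (g x)).presheaf.stalk (g.asFiber x)) := by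
    intro X g x
    have key : ∀ (y : T) (a : g.fiber y) (x : X), g.fiberι y a = x → Nonempty
        ((X.presheaf.stalk x ⧸ (maximalIdeal (T.presheaf.stalk (g x))).map (g.stalkMap x).hom) ≃+*
          (g.fiber y).presheaf.stalk a) := by
      rintro y a x rfl
      exact ⟨(Ideal.quotEquivOfEq (H46.FiberStalk.ker_stalkMap_fiberι g y a).symm).trans
        (RingHom.quotientKerEquivOfSurjective ((g.fiberι y).stalkMap_surjective a))⟩
    exact key _ _ x (g.fiberι_asFiber x)
  obtain ⟨e1⟩ := h (U.ι ≫ f) z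
  obtain ⟨e2⟩ := h f (U.ι z)
  let σ : Y.presheaf.stalk (U.ι z) ≃+* U.toScheme.presheaf.stalk z :=
    (asIso (U.ι.stalkMap z)).commRingCatIsoToRingEquiv
  refine ⟨e1.symm.trans ((Ideal.quotientEquiv _ _ σ.symm ?_).trans e2)⟩
  refine Eq.trans ?_ (Ideal.map_map _ _).symm
  congr 1
  ext a
  show (f.stalkMap (U.ι z)).hom a = σ.symm (((U.ι ≫ f).stalkMap z).hom a)
  rw [Scheme.Hom.stalkMap_comp]
  exact (σ.symm_apply_apply _).symm

theorem trdegAt_restrict (f : Y ⟶ T) (U : Y.Opens) (z : U.toScheme) :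
    Cyc.Residue.trdegAt (U.ι ≫ f) z = Cyc.Residue.trdegAt f (U.ι z) := by
  rw [Cyc.Residue.trdegAt_comp, Cyc.FieldDim.trdegAt_eq_zero_of_surjective U.ι z
    (Cyc.FieldDim.residueFieldMap_surjective (f := U.ι) z), add_zero]

/-- Near a point at which the fibre is `(S_k)`, `k ≥ 2`, all fibres are `(S_k)` and all their
components have the same dimension. -/
theorem exists_nhd (f : Y ⟶ T) [IsLocallyNoetherian Y] [IsLocallyNoetherian T] [Flat f]
    [LocallyOfFiniteType f] (k : ℕ) (hk : 2 ≤ k) (y : Y)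
    (hy : LocCoh.HasSk k ((f.fiber (f y)).presheaf.stalk (f.asFiber y))
      ((f.fiber (f y)).presheaf.stalk (f.asFiber y))) :
    ∃ (U : Y.Opens) (e : ℕ), y ∈ U ∧
      (∀ x ∈ U, LocCoh.HasSk k ((f.fiber (f x)).presheaf.stalk (f.asFiber x))
        ((f.fiber (f x)).presheaf.stalk (f.asFiber x))) ∧
      (∀ x ∈ U, fe f x = e) ∧ ∀ x ∈ U, IsMaxFib f x → trd f x = e := by
  haveI : LocallyOfFinitePresentation f := inferInstance
  have hfp := H46.FibreProf.Unit.isFP_structureModule Y
  haveI := hfp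
  haveI := Groth.Agent.H26.FreeCrit.isQuasicoherent_of_isFP hfp
  have hflat : FlatMod.IsFlatOver f (Coh.structureModule Y) := fun x =>
    (H46.FibreProf.Unit.isFlatOverAt_structureModule f x).2 (Flat.stalkMap f x)
  have hsuppu : ∀ w : Y, w ∈ CohB1.support (Coh.structureModule Y) := fun w hw => by
    haveI : Subsingleton ((Coh.structureModule Y).presheaf.stalk w) := hw
    exact not_subsingleton (Y.presheaf.stalk w)
      (BettiExact.TorComp.stalkUnitEquiv Y w).symm.toEquiv.subsingleton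
  let A := (f.fiber (f y)).presheaf.stalk (f.asFiber y)
  haveI := H46.QFin.isLocallyNoetherian_fiber f (f y)
  have hcat : CAlg.IsCatenary A := by
    let K := T.residueField (f y)
    haveI : LocCoh.IsCohenMacaulayRing K :=
      { isCohenMacaulayLocalRing_localization := fun q _ =>
          JacCrit.FlatRegular.isCohenMacaulayLocalRing _ }
    refine H46.DimJac.isCatenary_of_univ (H46.GoodJac.isUniversallyCatenary_stalk
      (S := Spec (CommRingCat.of K)) (f.fiberToSpecResidueField (f y))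
      (fun s => ?_) (f.asFiber y))
    letI := (Spec (CommRingCat.of K)).presheaf.algebra_section_stalk (U := ⊤) ⟨s, trivial⟩
    haveI := (isAffineOpen_top (Spec (CommRingCat.of K))).isLocalization_stalk ⟨s, trivial⟩
    exact Excellent.Localization.isUniversallyCatenary_of_isLocalization
      ((isAffineOpen_top (Spec (CommRingCat.of K))).primeIdealOf ⟨s, trivial⟩).asIdeal.primeCompl
      (Cyc.PP.SubSetup.isUniversallyCatenary_of_surjective
        (Scheme.ΓSpecIso (CommRingCat.of K)).inv.hom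
        (Scheme.ΓSpecIso (CommRingCat.of K)).commRingCatIsoToRingEquiv.symm.surjective
        (H18.CMPoly.isUniversallyCatenary K))
  have hS2 : LocCoh.HasSk 2 A A := fun p _ =>
    le_trans (min_le_min_right _ (Nat.mono_cast hk : ((2 : ℕ) : WithBot ℕ∞) ≤ k)) (hy p)
  have hsk := (H46.FibreProf.Unit.hasSk_iff f (f y) (f.asFiber y) k).1 hy
  rw [f.fiberι_asFiber] at hsk
  have heq : EGA4.IsEquidimModule A
      ((fm f (Coh.structureModule Y) (f y)).presheaf.stalk (f.asFiber y)) := by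
    obtain ⟨l⟩ := H46.FibreProf.Unit.stalk_equiv f (f y) (f.asFiber y)
    intro p hp
    rw [l.annihilator_eq, Module.annihilator_eq_bot.2 inferInstance] at hp
    rw [Module.supportDim_eq_of_equiv l, Module.supportDim_self_eq_ringKrullDim]
    exact Groth.Agent.S1717.result A hcat hS2 p hp
  have hmax := (H46.FibreProf.Equidim.isEquidimModule_iff f _ (f y) (f.asFiber y)).1 heq
  rw [f.fiberι_asFiber] at hmax
  have key : ∀ x, Sk f (Coh.structureModule Y) k x → ∀ w, FG f x w →
      (IsMaxFib f w ↔ CInt.fiberDepth f (Coh.structureModule Y) w = 0) := by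
    intro x hx w hw
    rw [← H46.FibreProf.Equidim.isMaxSupp_iff f _
      (H46.FibreProf.Equidim.sk_mono f _ (by omega) hx) hw]
    exact ⟨fun h => ⟨hsuppu w, fun w' _ h' => h w' h'.1 h'.2⟩,
      fun h w' h1 h2 => h.2 w' (hsuppu w') ⟨h1, h2⟩⟩
  obtain ⟨θ, hθ1, hθ2, hθ3, hθ4⟩ := exists_fe_eq f y
  have hyA : AssDims f (Coh.structureModule Y) {fe f y} y := by
    intro w hw h0
    have hwm := (key y hsk w hw).2 h0
    rw [Set.mem_singleton_iff, ← hθ4]
    exact hmax w θ hw ⟨hθ1, hθ2⟩ ⟨hsuppu w, fun w' _ h' => hwm w' h'.1 h'.2⟩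
      ⟨hsuppu θ, fun w' _ h' => hθ3 w' h'.1 h'.2⟩
  let U : Y.Opens := ⟨{x | Sk f (Coh.structureModule Y) k x ∧
      AssDims f (Coh.structureModule Y) {fe f y} x}, by
    convert (isOpen_sk f _ hfp ⊤ (fun x _ => hflat x) k).inter
      (isOpen_assDims f _ hfp ⊤ (fun x _ => hflat x) {fe f y}) using 1
    ext x; simp⟩
  refine ⟨U, fe f y, ⟨hsk, hyA⟩, fun x hx => ?_, fun x hx => ?_, fun x hx hxm => ?_⟩
  · refine (H46.FibreProf.Unit.hasSk_iff f (f x) (f.asFiber x) k).2 ?_
    rw [f.fiberι_asFiber]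
    exact hx.1
  · obtain ⟨ζ, h1, h2, h3, h4⟩ := exists_fe_eq f x
    rw [← h4]
    exact Set.mem_singleton_iff.1 (hx.2 ζ ⟨h1, h2⟩ ((key x hx.1 ζ ⟨h1, h2⟩).1 h3))
  · exact Set.mem_singleton_iff.1 (hx.2 x (fg_self f x) ((key x hx.1 x (fg_self f x)).1 hxm))

end Groth.Agent.H68.SkNhd
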