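import Mathlib.RingTheory.LocalRing.Length
import Mathlib.RingTheory.TensorProduct.Quotient
import Mathlib.RingTheory.Artinian.Ring
import Mathlib.RingTheory.Length
import Mathlib.Algebra.DualNumber
import Mathlib.RingTheory.Smooth.Basic
import Mathlib.RingTheory.Smooth.Field
import Mathlib.Algebra.Algebra.ZMod
import Groth.Agent.Lib.PBasis.FieldSmooth

/-!
# Artinian local rings formally smooth over a field are fields
-/

set_option autoImplicit false

universe u v w

open IsLocalRing DualNumber TensorProduct

namespace Groth.Agent.H68.SmoothArtin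

theorem maximalIdeal_eq_bot_of_prime (P : Type w) [Field P] (R : Type v) [CommRing R]
    [IsLocalRing R] [IsArtinianRing R] [Algebra P R] [Algebra.FormallySmooth P R]
    (hK : ∀ [Algebra P (ResidueField R)], Algebra.FormallySmooth P (ResidueField R)) :
    maximalIdeal R = ⊥ := by
  haveI := @hK inferInstance
  by_contra hne
  obtain ⟨e, he⟩ : IsNilpotent (maximalIdeal R) := by
    rw [← IsLocalRing.jacobson_eq_maximalIdeal ⊥ bot_ne_top]
    exact IsArtinianRing.isNilpotent_jacobson_bot
  have he1 : e ≠ 0 := by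
    rintro rfl
    rw [pow_zero, Ideal.one_eq_top, Ideal.zero_eq_bot] at he
    exact top_ne_bot he
  -- an element of `m` outside `m ^ 2`
  obtain ⟨a, ham, ha2⟩ : ∃ a ∈ maximalIdeal R, a ∉ maximalIdeal R ^ 2 := by
    by_contra h
    simp only [not_exists, not_and, not_not] at h
    have hle : maximalIdeal R ≤ maximalIdeal R ^ 2 := h
    have hall : ∀ n, maximalIdeal R ≤ maximalIdeal R ^ (n + 1) := by
      intro n
      induction n with
      | zero => simp
      | succ n ih =>
        calc maximalIdeal R ≤ maximalIdeal R * maximalIdeal R := by rwa [← pow_two]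
          _ ≤ maximalIdeal R ^ (n + 1) * maximalIdeal R := Ideal.mul_mono_left ih
          _ = maximalIdeal R ^ (n + 2) := (pow_succ _ _).symm
    refine hne (le_bot_iff.1 ?_)
    refine le_trans (hall (e - 1)) ?_
    rw [show e - 1 + 1 = e by omega, he]
    exact le_rfl
  set m := maximalIdeal R with hm
  let K := ResidueField R
  let q : (R ⧸ m ^ 2) →ₐ[P] K :=
    Ideal.Quotient.factorₐ P (show m ^ 2 ≤ maximalIdeal R from Ideal.pow_le_self two_ne_zero)
  have hq : Function.Surjective q := fun x => by
    obtain ⟨r, rfl⟩ := Ideal.Quotient.mk_surjective x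
    exact ⟨Ideal.Quotient.mk _ r, rfl⟩
  have hqn : IsNilpotent (RingHom.ker (q : (R ⧸ m ^ 2) →+* K)) := by
    refine ⟨2, ?_⟩
    have hker : RingHom.ker (q : (R ⧸ m ^ 2) →+* K) ≤ m.map (Ideal.Quotient.mk (m ^ 2)) := by
      intro x hx
      obtain ⟨r, rfl⟩ := Ideal.Quotient.mk_surjective x
      refine Ideal.mem_map_of_mem _ ?_
      exact Ideal.Quotient.eq_zero_iff_mem.1 hx
    refine le_bot_iff.1 (le_trans (Ideal.pow_right_mono hker 2) ?_)
    rw [← Ideal.map_pow, Ideal.map_quotient_self]
  let s : K →ₐ[P] (R ⧸ m ^ 2) :=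
    Algebra.FormallySmooth.liftOfSurjective (AlgHom.id P K) q hq hqn
  have hs : ∀ x, q (s x) = x :=
    Algebra.FormallySmooth.liftOfSurjective_apply _ q hq hqn
  letI : Algebra K (R ⧸ m ^ 2) := s.toRingHom.toAlgebra
  let res : R →ₐ[P] K := IsScalarTower.toAlgHom P R K
  have hres : ∀ r, q (Ideal.Quotient.mk (m ^ 2) r) = res r := fun r => rfl
  obtain ⟨φ, hφ⟩ := Module.Projective.exists_dual_ne_zero K
    (x := (Ideal.Quotient.mk (m ^ 2) a)) (by rwa [ne_eq, Ideal.Quotient.eq_zero_iff_mem])
  let c := φ (Ideal.Quotient.mk (m ^ 2) a)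
  let L : R → K := fun r => c⁻¹ * φ (Ideal.Quotient.mk (m ^ 2) r - s (res r))
  have hLmul : ∀ r r', L (r * r') = res r * L r' + res r' * L r := by
    intro r r'
    have hy : ∀ r, (Ideal.Quotient.mk (m ^ 2) r - s (res r)) ∈ RingHom.ker (q : (R ⧸ m ^ 2) →+* K) := by
      intro r
      rw [RingHom.mem_ker]
      show q (_ - _) = 0
      rw [map_sub, hs, hres, sub_self]
    have hsq : (RingHom.ker (q : (R ⧸ m ^ 2) →+* K)) ^ 2 = ⊥ := by
      refine le_bot_iff.1 (le_trans (Ideal.pow_right_mono ?_ 2)
        (le_of_eq ((Ideal.map_pow _ m 2).symm.trans (Ideal.map_quotient_self _))))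
      intro x hx
      obtain ⟨r, rfl⟩ := Ideal.Quotient.mk_surjective x
      exact Ideal.mem_map_of_mem _ (Ideal.Quotient.eq_zero_iff_mem.1 hx)
    have h0 := Ideal.mul_mem_mul (hy r) (hy r')
    rw [← pow_two, hsq, Ideal.mem_bot] at h0
    have hd : Ideal.Quotient.mk (m ^ 2) (r * r') - s (res (r * r')) =
        res r • (Ideal.Quotient.mk (m ^ 2) r' - s (res r')) +
          res r' • (Ideal.Quotient.mk (m ^ 2) r - s (res r)) := by
      rw [Algebra.smul_def, Algebra.smul_def, RingHom.algebraMap_toAlgebra, map_mul, map_mul,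
        map_mul]
      linear_combination (norm := (simp only [AlgHom.toRingHom_eq_coe, RingHom.coe_coe]; ring)) h0
    simp only [L, hd, map_add, map_smul, smul_eq_mul]
    ring
  have hLadd : ∀ r r', L (r + r') = L r + L r' := by
    intro r r'
    simp only [L, map_add, map_sub]
    ring
  have hLalg : ∀ p : P, L (algebraMap P R p) = 0 := by
    intro p
    simp only [L, AlgHom.commutes, Ideal.Quotient.mk_algebraMap, sub_self, map_zero, mul_zero]
  let ψ : R →ₐ[P] K[ε] :=
    { toFun := fun r => TrivSqZeroExt.inl (res r) + TrivSqZeroExt.inr (L r)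
      map_one' := by
        ext <;> simp [L]
      map_mul' := fun r r' => by
        ext
        · simp
        · simp [hLmul, smul_eq_mul]; ring
      map_zero' := by ext <;> simp [L]
      map_add' := fun r r' => by ext <;> simp [hLadd] <;> ring
      commutes' := fun p => by
        ext
        · simp [TrivSqZeroExt.algebraMap_eq_inl']
        · simp [hLalg, TrivSqZeroExt.algebraMap_eq_inl'] }
  have hψa : ψ a = ε := by
    have h0 : res a = 0 := Ideal.Quotient.eq_zero_iff_mem.2 ham
    have h1 : L a = 1 := by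
      simp only [L, h0, map_zero, sub_zero]
      exact inv_mul_cancel₀ hφ
    ext
    · simp [ψ, h0]
    · simp [ψ, h1]
  -- lift to a truncated polynomial ring
  let J : Ideal (Polynomial K) := Ideal.span {Polynomial.X ^ (e + 1)}
  let π : (Polynomial K ⧸ J) →ₐ[K] K[ε] := Ideal.Quotient.liftₐ J (Polynomial.aeval ε) (fun f hf => by
    obtain ⟨g, rfl⟩ := Ideal.mem_span_singleton.1 hf
    obtain ⟨e', rfl⟩ : ∃ e', e = e' + 1 := ⟨e - 1, by omega⟩
    rw [map_mul, map_pow, Polynomial.aeval_X, pow_succ, pow_succ, mul_assoc (ε ^ e'),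
      DualNumber.eps_mul_eps, mul_zero, zero_mul])
  have hπ : Function.Surjective (π.restrictScalars P) := by
    intro z
    refine ⟨Ideal.Quotient.mk J (Polynomial.C z.fst + Polynomial.C z.snd * Polynomial.X), ?_⟩
    show π _ = z
    rw [Ideal.Quotient.liftₐ_apply, Ideal.Quotient.lift_mk]
    ext <;> simp [TrivSqZeroExt.algebraMap_eq_inl]
  have hπn : IsNilpotent (RingHom.ker (π.restrictScalars P : (Polynomial K ⧸ J) →+* K[ε])) := by
    refine ⟨e + 1, le_bot_iff.1 ?_⟩
    have hker : RingHom.ker (π.restrictScalars P : (Polynomial K ⧸ J) →+* K[ε]) ≤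
        (Ideal.span {(Polynomial.X : Polynomial K)}).map (Ideal.Quotient.mk J) := by
      intro x hx
      obtain ⟨f, rfl⟩ := Ideal.Quotient.mk_surjective x
      refine Ideal.mem_map_of_mem _ (Ideal.mem_span_singleton.2 (Polynomial.X_dvd_iff.2 ?_))
      have hx' : Polynomial.aeval (ε : K[ε]) f = 0 := hx
      have := congrArg (TrivSqZeroExt.fstHom K K K) hx'
      rw [← Polynomial.aeval_algHom_apply, map_zero] at this
      simpa [Polynomial.coeff_zero_eq_eval_zero] using this
    refine le_trans (Ideal.pow_right_mono hker _) ?_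
    rw [← Ideal.map_pow, Ideal.span_singleton_pow, Ideal.map_quotient_self]
  let σ := Algebra.FormallySmooth.liftOfSurjective ψ (π.restrictScalars P) hπ hπn
  obtain ⟨f, hf⟩ := Ideal.Quotient.mk_surjective (σ a)
  have hf' : Polynomial.aeval (ε : K[ε]) f = ε := by
    have := Algebra.FormallySmooth.liftOfSurjective_apply ψ (π.restrictScalars P) hπ hπn a
    rw [hψa] at this
    show π (Ideal.Quotient.mk J f) = ε
    rw [hf]; exact this
  have hf0 : f.coeff 0 = 0 := by
    have := congrArg (TrivSqZeroExt.fstHom K K K) hf'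
    rw [← Polynomial.aeval_algHom_apply] at this
    simpa [Polynomial.coeff_zero_eq_eval_zero] using this
  obtain ⟨g, rfl⟩ := Polynomial.X_dvd_iff.2 hf0
  have hg0 : g.eval 0 = 1 := by
    rw [map_mul, Polynomial.aeval_X] at hf'
    have h2 := congrArg TrivSqZeroExt.snd hf'
    have h3 : TrivSqZeroExt.fst (Polynomial.aeval (ε : K[ε]) g) = g.eval 0 := by
      have h := Polynomial.aeval_algHom_apply (TrivSqZeroExt.fstHom K K K) (ε : K[ε]) g
      simpa using h.symm
    simpa [h3] using h2
  have hae : a ^ e = 0 := by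
    have := Ideal.pow_mem_pow ham e
    rw [he] at this
    exact this
  have h4 : (Polynomial.X * g) ^ e ∈ J := by
    rw [← Ideal.Quotient.eq_zero_iff_mem, map_pow, hf, ← map_pow, hae, map_zero]
  obtain ⟨h, hh⟩ := Ideal.mem_span_singleton.1 h4
  rw [mul_pow, pow_succ, mul_assoc] at hh
  have := congrArg (Polynomial.eval 0) (mul_left_cancel₀ (pow_ne_zero e Polynomial.X_ne_zero) hh)
  simp [hg0] at this

theorem formallySmooth_primeField_charZero (K : Type v) [Field K] [CharZero K] [Algebra ℚ K] :
    Algebra.FormallySmooth ℚ K :=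
  Lib.PBasis.Separable.formallySmooth_of_charZero ℚ K

theorem formallySmooth_primeField_charP (p : ℕ) [Fact p.Prime] (K : Type v) [Field K]
    [Algebra (ZMod p) K] : Algebra.FormallySmooth (ZMod p) K := by
  haveI : CharP K p := charP_of_injective_algebraMap (algebraMap (ZMod p) K).injective p
  let P := ULift.{v} (ZMod p)
  letI : Algebra P K := ULift.algebra' _ _
  haveI : IsScalarTower (ZMod p) P K := IsScalarTower.of_algebraMap_eq (fun _ => rfl)
  haveI : CharP P p := charP_of_injective_ringHom
    (f := (ULift.ringEquiv : P ≃+* ZMod p).symm.toRingHom) (RingEquiv.injective _) p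
  haveI : Finite P := Finite.of_equiv (ZMod p) Equiv.ulift.symm
  haveI : PerfectRing P p := PerfectRing.ofFiniteOfIsReduced p P
  haveI := Lib.PBasis.Separable.formallySmooth_of_perfect_charP K p P
  haveI : Algebra.FormallySmooth (ZMod p) P :=
    Algebra.FormallySmooth.of_equiv (AlgEquiv.ofRingEquiv (R := ZMod p)
      (f := (ULift.ringEquiv : P ≃+* ZMod p).symm) fun _ => rfl)
  exact Algebra.FormallySmooth.comp (ZMod p) P K

/-- An Artinian local ring formally smooth over a field is a field. -/
theorem maximalIdeal_eq_bot (k : Type u) [Field k] (R : Type v) [CommRing R]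
    [IsLocalRing R] [IsArtinianRing R] [Algebra k R] [Algebra.FormallySmooth k R] :
    maximalIdeal R = ⊥ := by
  obtain h | ⟨p, hp, hpk⟩ := CharP.exists' k
  · letI : Algebra ℚ k := DivisionRing.toRatAlgebra
    letI : Algebra ℚ R := ((algebraMap k R).comp (algebraMap ℚ k)).toAlgebra
    haveI : IsScalarTower ℚ k R := IsScalarTower.of_algebraMap_eq' rfl
    haveI := formallySmooth_primeField_charZero k
    haveI : Algebra.FormallySmooth ℚ R := Algebra.FormallySmooth.comp ℚ k R
    haveI : CharZero (ResidueField R) :=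
      charZero_of_injective_algebraMap (algebraMap ℚ (ResidueField R)).injective
    exact maximalIdeal_eq_bot_of_prime ℚ R fun {_} => formallySmooth_primeField_charZero _
  · haveI := hp
    letI : Algebra (ZMod p) k := ZMod.algebra k p
    letI : Algebra (ZMod p) R := ((algebraMap k R).comp (algebraMap (ZMod p) k)).toAlgebra
    haveI : IsScalarTower (ZMod p) k R := IsScalarTower.of_algebraMap_eq' rfl
    haveI := formallySmooth_primeField_charP p k
    haveI : Algebra.FormallySmooth (ZMod p) R := Algebra.FormallySmooth.comp (ZMod p) k R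
    exact maximalIdeal_eq_bot_of_prime (ZMod p) R fun {_} => formallySmooth_primeField_charP p _

theorem length_eq (A : Type u) (B : Type v) [CommRing A] [CommRing B]
    [IsLocalRing A] [IsLocalRing B] [IsArtinianRing A] [IsArtinianRing B] [Algebra A B]
    [Module.Flat A B] [Algebra.FormallySmooth A B] :
    Module.length A A = Module.length B B := by
  obtain ⟨e, he⟩ : IsNilpotent (maximalIdeal A) := by
    rw [← IsLocalRing.jacobson_eq_maximalIdeal ⊥ bot_ne_top]
    exact IsArtinianRing.isNilpotent_jacobson_bot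
  have hle : (maximalIdeal A).map (algebraMap A B) ≤ maximalIdeal B := by
    rw [Ideal.map_le_iff_le_comap]
    refine fun x hx => (maximalIdeal.isMaximal B).isPrime.mem_of_pow_mem e ?_
    have := Ideal.pow_mem_pow hx e
    rw [he] at this
    rw [← map_pow, show x ^ e = 0 from this, map_zero]
    exact Submodule.zero_mem _
  haveI : IsLocalHom (algebraMap A B) :=
    ⟨fun x hx => by
      by_contra hxu
      exact hle (Ideal.mem_map_of_mem _ (show x ∈ maximalIdeal A from hxu)) hx⟩
  set I := maximalIdeal A with hI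
  set Q := B ⧸ I.map (algebraMap A B)
  haveI : Nontrivial Q := Ideal.Quotient.nontrivial_iff.2
    (lt_of_le_of_lt hle (lt_top_iff_ne_top.2 (maximalIdeal.isMaximal B).ne_top)).ne
  haveI : IsLocalRing Q := IsLocalRing.of_surjective' (Ideal.Quotient.mk _) Ideal.Quotient.mk_surjective
  letI := Ideal.Quotient.field I
  haveI : Algebra.FormallySmooth (A ⧸ I) Q :=
    Algebra.FormallySmooth.of_equiv (Algebra.TensorProduct.quotIdealMapEquivQuotTensor B I).symm
  have hQ := maximalIdeal_eq_bot (A ⧸ I) Q
  have hQf : IsField Q := IsLocalRing.isField_iff_maximalIdeal_eq.2 hQ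
  have hlen : Module.length B Q = 1 := by
    rw [Module.length_eq_of_surjective (R := Q) (S := B) (M := Q) Ideal.Quotient.mk_surjective]
    letI := hQf.toField
    exact Module.length_eq_one_iff.2 inferInstance
  have h := IsLocalRing.length_baseChange A B A
  rw [(TensorProduct.AlgebraTensorModule.rid A B B).length_eq, hlen, mul_one] at h
  exact h.symm

end Groth.Agent.H68.SmoothArtin
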