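import Groth.Prelude.Def_EGA43
import Groth.Agent.Lib.JacCrit.SmoothNhd
import Groth.Agent.Lib.JacCrit.SmoothLocal
import Groth.Agent.Lib.JacCrit.FlatRegular
import Groth.Agent.Lib.Cohen.QuasiExcellent
import Groth.Agent.H52.FBase.GeomPt
import Groth.Agent.H46.FiberStalk
import Groth.Agent.H46.OpenAt
import Groth.Agent.H34.Stein.FlatCount
import Groth.Agent.S2561
import Mathlib.RingTheory.Smooth.Fiber
import Mathlib.RingTheory.EssentialFiniteness

/-!
# Pointwise smoothness criteria over reduced Noetherian local rings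
-/

set_option autoImplicit false
set_option linter.style.haveILetI false
universe u

open CategoryTheory CategoryTheory.Limits AlgebraicGeometry IsLocalRing TensorProduct

namespace Groth.Agent.H68.SmoothCrit

open Groth.Agent.H52.FBase.StalkBC

section Alg

variable {A B : Type u} [CommRing A] [CommRing B] [IsLocalRing A] [IsLocalRing B]
  [IsNoetherianRing A]

theorem formallySmooth_of_flat (φ : A →+* B) [IsLocalHom φ] (hess : φ.EssFiniteType)
    (hflat : φ.Flat)
    (hfib : letI : Algebra (ResidueField A) (B ⧸ (maximalIdeal A).map φ) :=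
        (Ideal.quotientMap ((maximalIdeal A).map φ) φ Ideal.le_comap_map).toAlgebra
      Algebra.FormallySmooth (ResidueField A) (B ⧸ (maximalIdeal A).map φ)) :
    φ.FormallySmooth := by
  letI : Algebra A B := φ.toAlgebra
  haveI : Algebra.EssFiniteType A B := hess
  haveI : Module.Flat A B := hflat
  haveI : IsLocalHom (algebraMap A B) := ‹IsLocalHom φ›
  letI : Algebra (ResidueField A) (B ⧸ (maximalIdeal A).map φ) :=
    (Ideal.quotientMap ((maximalIdeal A).map φ) φ Ideal.le_comap_map).toAlgebra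
  haveI := hfib
  obtain ⟨e⟩ := Groth.Agent.Lib.JacCrit.SmoothLocal.nonempty_fibreEquiv φ
  haveI : Algebra.FormallySmooth (ResidueField A) (ResidueField A ⊗[A] B) :=
    Algebra.FormallySmooth.of_equiv e.symm
  haveI : Algebra.FinitePresentation A (Algebra.EssFiniteType.subalgebra A B) :=
    Algebra.FinitePresentation.of_finiteType.mp inferInstance
  exact Algebra.FormallySmooth.of_formallySmooth_residueField_tensor
    (P := Algebra.EssFiniteType.subalgebra A B) (Algebra.EssFiniteType.submonoid A B)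

theorem isGeometricallyReduced_of_isGeometricallyRegular (k C : Type u) [Field k] [CommRing C]
    [Algebra k C] (h : CAlg.IsGeometricallyRegular k C) : Algebra.IsGeometricallyReduced k C := by
  rw [Algebra.isGeometricallyReduced_field_iff]
  let Kb := AlgebraicClosure k
  suffices _root_.IsReduced (C ⊗[k] Kb) from
    isReduced_of_injective (Algebra.TensorProduct.comm k Kb C) (AlgEquiv.injective _)
  refine IsReduced.tensorProduct_of_flat_of_forall_fg fun S hS => ?_
  haveI : Algebra.FiniteType k S := (Subalgebra.fg_iff_finiteType S).1 hS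
  haveI : Algebra.IsIntegral k Kb := Algebra.IsAlgebraic.isIntegral
  haveI : Algebra.IsIntegral k S := Algebra.IsIntegral.of_injective S.val Subtype.val_injective
  haveI : Module.Finite k S := Algebra.IsIntegral.finite
  letI : Field S := (isField_of_isIntegral_of_isField' (S := S) (Field.toIsField k)).toField
  haveI := h S inferInstance
  haveI := Groth.Agent.Lib.Cohen.QuasiExcellent.isReduced_of_isRegularRing (S ⊗[k] C)
  exact isReduced_of_injective (Algebra.TensorProduct.comm k C S) (AlgEquiv.injective _)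

end Alg

variable {X Y : Scheme.{u}}

/-- The map from the local ring to the local ring of the fibre. -/
theorem exists_rho (f : X ⟶ Y) (y : Y) (a : f.fiber y) (x : X) (hx : f.fiberι y a = x) :
    ∃ ρ : X.presheaf.stalk x ⟶ (f.fiber y).presheaf.stalk a,
      Function.Surjective ρ.hom ∧
      RingHom.ker ρ.hom = (maximalIdeal (Y.presheaf.stalk (f x))).map (f.stalkMap x).hom ∧
      Spec.map ρ ≫ X.fromSpecStalk x = (f.fiber y).fromSpecStalk a ≫ f.fiberι y := by
  subst hx
  exact ⟨(f.fiberι y).stalkMap a, (f.fiberι y).stalkMap_surjective a,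
    H46.FiberStalk.ker_stalkMap_fiberι f y a, Scheme.SpecMap_stalkMap_fromSpecStalk (f.fiberι y)⟩

/-- The closed fibre of the local homomorphism is the local ring of the fibre, as algebras over the
residue field. -/
theorem nonempty_algEquiv_fiber (f : X ⟶ Y) (x : X) :
    letI φ := (f.stalkMap x).hom
    letI 𝔪 := maximalIdeal (Y.presheaf.stalk (f x))
    letI : Algebra (Y.residueField (f x)) (X.presheaf.stalk x ⧸ 𝔪.map φ) :=
      (Ideal.quotientMap (𝔪.map φ) φ Ideal.le_comap_map).toAlgebra
    Nonempty ((X.presheaf.stalk x ⧸ 𝔪.map φ) ≃ₐ[Y.residueField (f x)]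
      Ox (k := Y.residueField (f x)) (f.fiberToSpecResidueField (f x)) (f.asFiber x)) := by
  let φ := (f.stalkMap x).hom
  let 𝔪 := maximalIdeal (Y.presheaf.stalk (f x))
  letI : Algebra (Y.residueField (f x)) (X.presheaf.stalk x ⧸ 𝔪.map φ) :=
    (Ideal.quotientMap (𝔪.map φ) φ Ideal.le_comap_map).toAlgebra
  obtain ⟨ρ, hρs, hρk, hρ⟩ := exists_rho f (f x) (f.asFiber x) x (f.fiberι_asFiber x)
  let E : (X.presheaf.stalk x ⧸ 𝔪.map φ) ≃+* (f.fiber (f x)).presheaf.stalk (f.asFiber x) :=
    (Ideal.quotEquivOfEq hρk.symm).trans (RingHom.quotientKerEquivOfSurjective hρs)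
  let ψ : Y.residueField (f x) ⟶ (f.fiber (f x)).presheaf.stalk (f.asFiber x) :=
    CommRingCat.ofHom (H52.FBase.StalkBC.φ (k := Y.residueField (f x)) (f.fiberToSpecResidueField (f x)) (f.asFiber x))
  have hψ : Y.residue (f x) ≫ ψ = f.stalkMap x ≫ ρ := by
    apply Spec.map_injective
    rw [← cancel_mono (Y.fromSpecStalk (f x)), Spec.map_comp, Spec.map_comp, Category.assoc,
      Category.assoc, Scheme.SpecMap_stalkMap_fromSpecStalk, ← Category.assoc (Spec.map ρ), hρ,
      Category.assoc]
    show Spec.map ψ ≫ Y.fromSpecResidueField (f x) = _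
    rw [show Spec.map ψ = (f.fiber (f x)).fromSpecStalk (f.asFiber x) ≫
        f.fiberToSpecResidueField (f x) from specMap_φ _ _, Category.assoc]
    exact congrArg (_ ≫ ·) pullback.condition.symm
  refine ⟨{ E with commutes' := fun c => ?_ }⟩
  obtain ⟨r, rfl⟩ := IsLocalRing.residue_surjective (R := Y.presheaf.stalk (f x)) c
  exact (congr($(hψ).hom r)).symm

section Crit

variable [IsLocallyNoetherian Y] (f : X ⟶ Y) [LocallyOfFiniteType f]

theorem flat_and_geometricallyRegular_of_smooth {x : X}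
    (h : ∃ U : X.Opens, x ∈ U ∧ Smooth (U.ι ≫ f)) :
    letI φ := (f.stalkMap x).hom
    letI 𝔪 := maximalIdeal (Y.presheaf.stalk (f x))
    letI : Algebra (ResidueField (Y.presheaf.stalk (f x))) (X.presheaf.stalk x ⧸ 𝔪.map φ) :=
      (Ideal.quotientMap (𝔪.map φ) φ Ideal.le_comap_map).toAlgebra
    φ.Flat ∧ CAlg.IsGeometricallyRegular (ResidueField (Y.presheaf.stalk (f x)))
      (X.presheaf.stalk x ⧸ 𝔪.map φ) ∧ IsRegularLocalRing (X.presheaf.stalk x ⧸ 𝔪.map φ) := by
  let φ := (f.stalkMap x).hom
  let 𝔪 := maximalIdeal (Y.presheaf.stalk (f x))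
  letI : Algebra (ResidueField (Y.presheaf.stalk (f x))) (X.presheaf.stalk x ⧸ 𝔪.map φ) :=
    (Ideal.quotientMap (𝔪.map φ) φ Ideal.le_comap_map).toAlgebra
  haveI : IsLocallyNoetherian X := LocallyOfFiniteType.isLocallyNoetherian f
  haveI : LocallyOfFinitePresentation f := inferInstance
  have hflat : φ.Flat := Groth.Agent.Lib.JacCrit.SmoothNhd.flat_stalkMap f h
  have hfs : φ.FormallySmooth := Groth.Agent.Lib.JacCrit.SmoothNhd.formallySmooth_stalkMap f h
  have hess : φ.EssFiniteType := LocallyOfFiniteType.stalkMap f x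
  haveI := Groth.Agent.Lib.JacCrit.SmoothLocal.isLocalRing_fibre φ
  haveI := Groth.Agent.Lib.JacCrit.SmoothLocal.essFiniteType_fibre φ hess
  letI : Algebra (Y.presheaf.stalk (f x)) (X.presheaf.stalk x) := φ.toAlgebra
  haveI : Algebra.FormallySmooth (Y.presheaf.stalk (f x)) (X.presheaf.stalk x) := hfs
  obtain ⟨e⟩ := Groth.Agent.Lib.JacCrit.SmoothLocal.nonempty_fibreEquiv φ
  haveI : Algebra.FormallySmooth (ResidueField (Y.presheaf.stalk (f x)))
      (X.presheaf.stalk x ⧸ 𝔪.map φ) := Algebra.FormallySmooth.of_equiv e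
  exact ⟨hflat,
    (Groth.Agent.Lib.JacCrit.SmoothLocal.formallySmooth_iff_isGeometricallyRegular _ _).1 ‹_›,
    Groth.Agent.Lib.JacCrit.SmoothLocal.isRegularLocalRing_fibre φ hess hfs⟩

theorem smooth_of_flat {x : X} (hflat : (f.stalkMap x).hom.Flat)
    (hreg : letI φ := (f.stalkMap x).hom
      letI 𝔪 := maximalIdeal (Y.presheaf.stalk (f x))
      letI : Algebra (ResidueField (Y.presheaf.stalk (f x))) (X.presheaf.stalk x ⧸ 𝔪.map φ) :=
        (Ideal.quotientMap (𝔪.map φ) φ Ideal.le_comap_map).toAlgebra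
      CAlg.IsGeometricallyRegular (ResidueField (Y.presheaf.stalk (f x)))
        (X.presheaf.stalk x ⧸ 𝔪.map φ)) :
    ∃ U : X.Opens, x ∈ U ∧ Smooth (U.ι ≫ f) := by
  haveI : IsLocallyNoetherian X := LocallyOfFiniteType.isLocallyNoetherian f
  haveI : LocallyOfFinitePresentation f := inferInstance
  have hess : (f.stalkMap x).hom.EssFiniteType := LocallyOfFiniteType.stalkMap f x
  haveI := Groth.Agent.Lib.JacCrit.SmoothLocal.isLocalRing_fibre (f.stalkMap x).hom
  rw [Groth.Agent.Lib.JacCrit.SmoothNhd.exists_smooth_nhd_iff, Scheme.Hom.mem_smoothLocus]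
  letI : Algebra (ResidueField (Y.presheaf.stalk (f x)))
      (X.presheaf.stalk x ⧸ (maximalIdeal (Y.presheaf.stalk (f x))).map (f.stalkMap x).hom) :=
    (Ideal.quotientMap _ (f.stalkMap x).hom Ideal.le_comap_map).toAlgebra
  haveI := Groth.Agent.Lib.JacCrit.SmoothLocal.essFiniteType_fibre (f.stalkMap x).hom hess
  exact formallySmooth_of_flat _ hess hflat
    ((Groth.Agent.Lib.JacCrit.SmoothLocal.formallySmooth_iff_isGeometricallyRegular _ _).2 hreg)

/-- Universal openness at the maximal points of the fibre through `x` gives smoothness. -/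
theorem smooth_of_isUnivOpenAt {x : X} (hred : _root_.IsReduced (Y.presheaf.stalk (f x)))
    (hreg : letI φ := (f.stalkMap x).hom
      letI 𝔪 := maximalIdeal (Y.presheaf.stalk (f x))
      letI : Algebra (ResidueField (Y.presheaf.stalk (f x))) (X.presheaf.stalk x ⧸ 𝔪.map φ) :=
        (Ideal.quotientMap (𝔪.map φ) φ Ideal.le_comap_map).toAlgebra
      CAlg.IsGeometricallyRegular (ResidueField (Y.presheaf.stalk (f x)))
        (X.presheaf.stalk x ⧸ 𝔪.map φ))
    (hu : ∀ z : X, f z = f x → z ⤳ x → EGA43.IsUnivOpenAt f z) :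
    ∃ U : X.Opens, x ∈ U ∧ Smooth (U.ι ≫ f) := by
  refine smooth_of_flat f (Groth.Agent.S2561.result f x (fun z hz _ => hu _ ?_ ?_) ?_ hred) hreg
  · have : f.fiberι (f x) z ∈ f ⁻¹' {f x} := f.range_fiberι (f x) ▸ ⟨z, rfl⟩
    exact this
  · have := (specializes_iff_mem_closure.2 hz).map (f.fiberι (f x)).continuous
    rwa [f.fiberι_asFiber] at this
  · letI φ := (f.stalkMap x).hom
    letI 𝔪 := maximalIdeal (Y.presheaf.stalk (f x))
    letI instA : Algebra (Y.residueField (f x)) (X.presheaf.stalk x ⧸ 𝔪.map φ) :=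
      (Ideal.quotientMap (𝔪.map φ) φ Ideal.le_comap_map).toAlgebra
    obtain ⟨e⟩ := nonempty_algEquiv_fiber f x
    haveI hgr : Algebra.IsGeometricallyReduced (Y.residueField (f x))
        (X.presheaf.stalk x ⧸ 𝔪.map φ) :=
      isGeometricallyReduced_of_isGeometricallyRegular (Y.residueField (f x))
        (X.presheaf.stalk x ⧸ 𝔪.map φ) (fun k' _ inst hk' => @hreg k' _ inst hk')
    exact H52.FBase.GeomPt.isGeomReducedAt_of_isGeometricallyReduced
      (k := Y.residueField (f x))
      (Algebra.IsGeometricallyReduced.of_injective (k := Y.residueField (f x))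
        (A := Ox (k := Y.residueField (f x)) (f.fiberToSpecResidueField (f x)) (f.asFiber x))
        (B := X.presheaf.stalk x ⧸ 𝔪.map φ) e.symm.toAlgHom e.symm.injective)

end Crit

end Groth.Agent.H68.SmoothCrit
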