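import Groth.Agent.H68.SmoothArtin
import Groth.Agent.Lib.Kaehler.FSmooth
import Mathlib.AlgebraicGeometry.Morphisms.UniversallyOpen
import Mathlib.AlgebraicGeometry.Noetherian
import Mathlib.AlgebraicGeometry.FunctionField
import Mathlib.RingTheory.HopkinsLevitzki
import Mathlib.RingTheory.RingHom.Smooth

set_option autoImplicit false

universe u

open AlgebraicGeometry CategoryTheory IsLocalRing

namespace Groth.Agent.H68.SmoothGenericLength

variable {X Y : Scheme.{u}}

theorem eq_genericPoint [IrreducibleSpace X] {x : X} (h : x ⤳ genericPoint X) : x = genericPoint X :=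
  (h.antisymm (genericPoint_specializes x)).eq

theorem isArtinian_stalk [IrreducibleSpace X] [IsNoetherian X] :
    IsArtinianRing (X.presheaf.stalk (genericPoint X)) := by
  haveI : Ring.KrullDimLE 0 (X.presheaf.stalk (genericPoint X)) := by
    refine Ring.KrullDimLE.mk₀ fun p hp => ?_
    have h1 : X.fromSpecStalk (genericPoint X) ⟨p, hp⟩ = genericPoint X := by
      refine eq_genericPoint ?_
      have hr : X.fromSpecStalk (genericPoint X) ⟨p, hp⟩ ∈ Set.range (X.fromSpecStalk (genericPoint X)) :=
        Set.mem_range_self _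
      rw [Scheme.range_fromSpecStalk] at hr
      exact hr
    have h2 : (⟨p, hp⟩ : PrimeSpectrum _) = closedPoint (X.presheaf.stalk (genericPoint X)) := by
      apply (X.fromSpecStalk (genericPoint X)).isEmbedding.injective
      exact h1.trans Scheme.fromSpecStalk_closedPoint.symm
    rw [show p = maximalIdeal _ from congrArg PrimeSpectrum.asIdeal h2]
    infer_instance
  exact IsNoetherianRing.isArtinianRing_of_krullDimLE_zero

theorem map_genericPoint [IrreducibleSpace X] [IrreducibleSpace Y] (f : X ⟶ Y) [Flat f] :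
    f (genericPoint X) = genericPoint Y := by
  obtain ⟨x, hx, hfx⟩ := Flat.generalizingMap f (genericPoint_specializes (f (genericPoint X)))
  rw [← hfx, eq_genericPoint hx]

theorem formallySmooth_stalkMap (f : X ⟶ Y) (hf : MoreMor.IsFormallySmoothHom f) (x : X) :
    (f.stalkMap x).hom.FormallySmooth := by
  obtain ⟨_, ⟨U, hU, rfl⟩, hxU, -⟩ :=
    Y.isBasis_affineOpens.exists_subset_of_mem_open (Set.mem_univ (f x)) isOpen_univ
  obtain ⟨_, ⟨V, hV, rfl⟩, hxV, hVU⟩ :=
    X.isBasis_affineOpens.exists_subset_of_mem_open hxU (U.2.preimage f.continuous)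
  have := Lib.Kaehler.FSmooth.formallySmooth_appLE hf hU hV hVU
  algebraize [(f.appLE U V hVU).hom]
  let p := (hU.primeIdealOf ⟨f x, hVU hxV⟩).asIdeal
  let q := (hV.primeIdealOf ⟨x, hxV⟩).asIdeal
  have : q.LiesOver p :=
    ⟨congr($(IsAffineOpen.comap_primeIdealOf_appLE U hU V hV hVU hxV).1).symm⟩
  let := Localization.AtPrime.algebraOfLiesOver p q
  have e := IsAffineOpen.arrowStalkMapIso f U hU V hV hVU hxV
  refine (RingHom.FormallySmooth.respectsIso.arrow_mk_iso_iff e).mpr
    (RingHom.formallySmooth_algebraMap.mpr ?_)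
  have : Algebra.FormallySmooth Γ(Y, U) (Localization.AtPrime q) :=
    Algebra.FormallySmooth.comp Γ(Y, U) Γ(X, V) (Localization.AtPrime q)
  exact Algebra.FormallySmooth.localization_base p.primeCompl

theorem length_stalk [IrreducibleSpace X] [IrreducibleSpace Y] [IsNoetherian X] [IsNoetherian Y]
    (f : X ⟶ Y) [Flat f] (hf : MoreMor.IsFormallySmoothHom f) :
    Module.length (X.presheaf.stalk (genericPoint X)) (X.presheaf.stalk (genericPoint X))
      = Module.length (Y.presheaf.stalk (genericPoint Y)) (Y.presheaf.stalk (genericPoint Y)) := by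
  set x := genericPoint X
  haveI := isArtinian_stalk (X := X)
  have h1 := isArtinian_stalk (X := Y)
  rw [← map_genericPoint f] at h1 ⊢
  letI := (f.stalkMap x).hom.toAlgebra
  haveI : Module.Flat (Y.presheaf.stalk (f x)) (X.presheaf.stalk x) := Flat.stalkMap f x
  haveI : Algebra.FormallySmooth (Y.presheaf.stalk (f x)) (X.presheaf.stalk x) :=
    formallySmooth_stalkMap f hf x
  exact (SmoothArtin.length_eq _ _).symm

end Groth.Agent.H68.SmoothGenericLength
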