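import Groth.Agent.Lib.Flat55.Slicing
import Groth.Agent.Lib.JacCrit.SmoothLocal
import Groth.Agent.Lib.Regular.Quotient
import Mathlib.RingTheory.Smooth.Basic
import Mathlib.RingTheory.Smooth.Kaehler
import Mathlib.RingTheory.Smooth.Flat
import Mathlib.RingTheory.Etale.Kaehler
import Mathlib.LinearAlgebra.TensorProduct.RightExactness

/-!
# Hypersurfaces cut out by functions with nonvanishing differential
-/

set_option autoImplicit false
set_option linter.style.haveILetI false
universe u

open KaehlerDifferential IsLocalRing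

namespace Groth.Agent.H68.SmoothHyper

variable {R A : Type u} [CommRing R] [CommRing A] [Algebra R A]

/-- A unimodular differential cuts out a formally smooth hypersurface. -/
theorem formallySmooth_quotient [Algebra.FormallySmooth R A] (h : A) (φ : Ω[A⁄R] →ₗ[A] A)
    (hφ : φ (D R A h) = 1) : Algebra.FormallySmooth R (A ⧸ Ideal.span {h}) := by
  set I := Ideal.span {h} with hI
  have hsurj : Function.Surjective (algebraMap A (A ⧸ I)) := Ideal.Quotient.mk_surjective
  rw [Algebra.FormallySmooth.iff_split_injection hsurj]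
  let K := RingHom.ker (algebraMap A (A ⧸ I))
  have hK : ∀ z, z ∈ K ↔ z ∈ I := fun z => Ideal.Quotient.eq_zero_iff_mem
  have hh : h ∈ K := (hK _).mpr (Ideal.mem_span_singleton_self _)
  let cls : K.Cotangent := K.toCotangent ⟨h, hh⟩
  have hkill : ∀ z ∈ K, ∀ q : K.Cotangent, z • q = 0 := fun z hz q => by
    obtain ⟨⟨y, hy⟩, rfl⟩ := K.toCotangent_surjective q
    rw [← map_smul, Ideal.toCotangent_eq_zero]
    exact (pow_two K).symm ▸ Ideal.mul_mem_mul hz hy
  let l0 : Ω[A⁄R] →ₗ[A] K.Cotangent := (LinearMap.toSpanSingleton A _ cls).comp φ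
  let bil : (A ⧸ I) →ₗ[A] Ω[A⁄R] →ₗ[A] K.Cotangent :=
    Submodule.liftQ I (LinearMap.toSpanSingleton A _ l0) fun z hz => by
      rw [LinearMap.mem_ker]
      exact LinearMap.ext fun m => hkill z ((hK z).mpr hz) (l0 m)
  refine ⟨TensorProduct.lift bil, LinearMap.ext fun q => ?_⟩
  obtain ⟨⟨y, hy⟩, rfl⟩ := K.toCotangent_surjective q
  obtain ⟨c, rfl⟩ := Ideal.mem_span_singleton'.mp ((hK y).mp hy)
  rw [LinearMap.comp_apply, kerCotangentToTensor_toCotangent, TensorProduct.lift.tmul,
    LinearMap.id_apply]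
  show (bil (Submodule.Quotient.mk 1)) (D R A (c * h)) = _
  rw [Submodule.liftQ_apply, LinearMap.toSpanSingleton_apply, one_smul, Derivation.leibniz, map_add,
    map_smul, map_smul, hkill _ hh, add_zero]
  simp only [l0, LinearMap.comp_apply, LinearMap.toSpanSingleton_apply]
  rw [hφ, one_smul, ← map_smul]
  rfl

/-- An element outside `P • M` of a projective module has a functional with value outside `P`. -/
theorem exists_functional {M : Type u} [AddCommGroup M] [Module A M] [Module.Projective A M]
    (P : Ideal A) (m : M) (hm : m ∉ P • (⊤ : Submodule A M)) : ∃ φ : M →ₗ[A] A, φ m ∉ P := by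
  by_contra! hall
  obtain ⟨s, hs⟩ := Module.projective_def'.1 (inferInstance : Module.Projective A M)
  refine hm ?_
  have h1 : Finsupp.linearCombination A id (s m) = m := LinearMap.congr_fun hs m
  rw [← h1, Finsupp.linearCombination_apply, Finsupp.sum]
  refine Submodule.sum_mem _ fun c _ => Submodule.smul_mem_smul ?_ Submodule.mem_top
  exact hall ((Finsupp.lapply c).comp s)

/-- A differential nonzero at `P` stays nonzero in the fibre local ring. -/
theorem notMem_map_maximalIdeal (P : Ideal A) [P.IsPrime] (h : A) (hP : h ∈ P)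
    (hd : ∀ s ∉ P, s • D R A h ∉ P • (⊤ : Submodule A Ω[A⁄R])) :
    algebraMap A (Localization.AtPrime P) h ∉
      ((P.comap (algebraMap R A)).map (algebraMap R A)).map (algebraMap A (Localization.AtPrime P)) := by
  intro hmem
  rw [IsLocalization.mem_map_algebraMap_iff P.primeCompl] at hmem
  obtain ⟨⟨⟨z, hz⟩, ⟨s, hs⟩⟩, heq⟩ := hmem
  simp only [← map_mul] at heq
  obtain ⟨⟨t, ht⟩, ht'⟩ := (IsLocalization.eq_iff_exists P.primeCompl (Localization.AtPrime P)).1 heq
  simp only at ht'
  refine hd (t * s) (P.primeCompl.mul_mem ht hs) ?_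
  have hD : ∀ w ∈ (P.comap (algebraMap R A)).map (algebraMap R A),
      D R A w ∈ P • (⊤ : Submodule A Ω[A⁄R]) := by
    intro w hw
    induction hw using Submodule.span_induction with
    | mem w hw =>
      obtain ⟨r, -, rfl⟩ := hw
      rw [Derivation.map_algebraMap]
      exact Submodule.zero_mem _
    | zero => rw [map_zero]; exact Submodule.zero_mem _
    | add a b _ _ ha hb => rw [map_add]; exact Submodule.add_mem _ ha hb
    | smul a w hw' hw =>
      rw [smul_eq_mul, Derivation.leibniz]
      refine Submodule.add_mem _ (Submodule.smul_mem _ _ hw) (Submodule.smul_mem_smul ?_ Submodule.mem_top)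
      exact (Ideal.map_le_iff_le_comap.2 le_rfl : (P.comap (algebraMap R A)).map (algebraMap R A) ≤ P) hw'
  have h2 : D R A (t * (h * s)) ∈ P • (⊤ : Submodule A Ω[A⁄R]) := by
    rw [ht']
    exact hD _ (Ideal.mul_mem_left _ _ hz)
  rw [show t * (h * s) = (t * s) * h by ring, Derivation.leibniz] at h2
  exact (Submodule.add_mem_iff_left _ (Submodule.smul_mem_smul hP Submodule.mem_top)).1 h2

/-- Smooth hypersurfaces: the key local statement. -/
theorem exists_smooth_hypersurface [Algebra.Smooth R A] (P : Ideal A) [P.IsPrime] (h : A) (hP : h ∈ P)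
    (hd : ∀ s ∉ P, s • D R A h ∉ P • (⊤ : Submodule A Ω[A⁄R])) :
    ∃ a ∉ P, algebraMap A (Localization.Away a) h ∈ nonZeroDivisors (Localization.Away a) ∧
      Algebra.Smooth R (Localization.Away a ⧸ Ideal.span {algebraMap A (Localization.Away a) h}) := by
  obtain ⟨φ₀, hφ₀⟩ := exists_functional P (D R A h) (by
    simpa using hd 1 (fun h1 => (inferInstance : P.IsPrime).ne_top ((Ideal.eq_top_iff_one P).2 h1)))
  let p := P.comap (algebraMap R A)
  let R' := Localization.AtPrime p
  let C' := Localization.AtPrime P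
  letI : Algebra R' C' := (Localization.localRingHom p P (algebraMap R A) rfl).toAlgebra
  haveI : IsLocalHom (algebraMap R' C') :=
    Localization.isLocalHom_localRingHom p P (algebraMap R A) rfl
  have hcomm : ∀ r, algebraMap R' C' (algebraMap R R' r) = algebraMap A C' (algebraMap R A r) :=
    fun r => Localization.localRingHom_to_map _ _ _ _ r
  haveI : IsScalarTower R R' C' := IsScalarTower.of_algebraMap_eq fun r => by
    rw [hcomm, ← IsScalarTower.algebraMap_apply]
  haveI : Module.Flat A C' := IsLocalization.flat C' P.primeCompl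
  haveI : Module.Flat R C' := Module.Flat.trans R A C'
  haveI : Module.Flat R' C' := (Module.flat_iff_of_isLocalization (R := R) R' p.primeCompl C').2 ‹_›
  haveI : Algebra.FormallySmooth A C' := Algebra.FormallySmooth.of_isLocalization P.primeCompl
  haveI : Algebra.FormallySmooth R C' := Algebra.FormallySmooth.comp R A C'
  haveI : Algebra.FormallySmooth R' C' := Algebra.FormallySmooth.localization_base (R := R) p.primeCompl
  haveI : Algebra.EssFiniteType A C' := .of_isLocalization _ P.primeCompl
  haveI : Algebra.EssFiniteType R C' := .comp R A C'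
  haveI : Algebra.EssFiniteType R' C' := .of_comp R R' C'
  haveI := Lib.JacCrit.SmoothLocal.isLocalRing_fibre (algebraMap R' C')
  haveI : IsRegularLocalRing (C' ⧸ (maximalIdeal R').map (algebraMap R' C')) :=
    Lib.JacCrit.SmoothLocal.isRegularLocalRing_fibre (algebraMap R' C')
      (RingHom.essFiniteType_algebraMap.2 ‹_›) (RingHom.formallySmooth_algebraMap.2 ‹_›)
  haveI := Lib.Regular.Quotient.isDomain (C' ⧸ (maximalIdeal R').map (algebraMap R' C'))
  have hm : (maximalIdeal R').map (algebraMap R' C') = (p.map (algebraMap R A)).map (algebraMap A C') := by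
    rw [← IsLocalization.AtPrime.map_eq_maximalIdeal p R', Ideal.map_map, Ideal.map_map,
      ← IsScalarTower.algebraMap_eq, ← IsScalarTower.algebraMap_eq]
  have hreg : Ideal.Quotient.mk ((maximalIdeal R').map (algebraMap R' C')) (algebraMap A C' h) ∈
      nonZeroDivisors (C' ⧸ (maximalIdeal R').map (algebraMap R' C')) := by
    refine mem_nonZeroDivisors_of_ne_zero fun h0 => ?_
    rw [Ideal.Quotient.eq_zero_iff_mem, hm] at h0
    exact notMem_map_maximalIdeal P h hP hd h0
  obtain ⟨a₂, ha₂, H⟩ := Lib.Flat55.Slicing.exists_slice p P (R' := R') (C' := C') hcomm h hP hreg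
  let a₁ := φ₀ (D R A h)
  let B := Localization.Away (a₁ * a₂)
  obtain ⟨hB₂, -⟩ := H (Localization.Away a₂)
  refine ⟨a₁ * a₂, P.primeCompl.mul_mem hφ₀ ha₂, ?_, ?_⟩
  · refine mem_nonZeroDivisors_iff_right.2 fun x hx => ?_
    obtain ⟨y, ⟨_, n, rfl⟩, rfl⟩ := IsLocalization.exists_mk'_eq (Submonoid.powers (a₁ * a₂)) x
    rw [IsLocalization.mk'_eq_zero_iff]
    have hx' : algebraMap A B (y * h) = 0 := by
      rw [map_mul, ← IsLocalization.mk'_spec B y (⟨_, n, rfl⟩ : Submonoid.powers (a₁ * a₂)),
        mul_right_comm, hx, zero_mul]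
    obtain ⟨⟨_, k, rfl⟩, hk⟩ := (IsLocalization.map_eq_zero_iff (Submonoid.powers (a₁ * a₂)) B _).1 hx'
    have h0 : algebraMap A (Localization.Away a₂) ((a₁ * a₂) ^ k * y) = 0 := by
      refine mem_nonZeroDivisors_iff_right.1 hB₂ _ ?_
      rw [← map_mul, mul_assoc, hk, map_zero]
    obtain ⟨⟨_, m, rfl⟩, hm⟩ := (IsLocalization.map_eq_zero_iff (Submonoid.powers a₂) _ _).1 h0
    refine ⟨⟨(a₁ * a₂) ^ (m + k), m + k, rfl⟩, ?_⟩
    show (a₁ * a₂) ^ (m + k) * y = 0
    rw [pow_add, mul_assoc, mul_pow, mul_assoc, show a₂ ^ m * ((a₁ * a₂) ^ k * y) = 0 from hm, mul_zero]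
  · haveI : Algebra.Smooth A B := Algebra.Smooth.of_isLocalization_Away (a₁ * a₂)
    haveI : Algebra.Smooth R B := Algebra.Smooth.comp R A B
    haveI hloc : IsLocalizedModule (Submonoid.powers (a₁ * a₂)) (KaehlerDifferential.map R R A B) :=
      KaehlerDifferential.isLocalizedModule_map R A B (Submonoid.powers (a₁ * a₂))
    obtain ⟨u, hu⟩ : IsUnit (algebraMap A B a₁) :=
      isUnit_of_dvd_unit (map_dvd (algebraMap A B) (dvd_mul_right a₁ a₂))
        (IsLocalization.Away.algebraMap_isUnit _)
    let g : Ω[A⁄R] →ₗ[A] B := (Algebra.linearMap A B).comp φ₀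
    have hgu : ∀ x : Submonoid.powers (a₁ * a₂), IsUnit (algebraMap A (Module.End A B) x) :=
      IsLocalizedModule.map_units (Algebra.linearMap A B)
    let φA : Ω[B⁄R] →ₗ[A] B :=
      IsLocalizedModule.lift (Submonoid.powers (a₁ * a₂)) (KaehlerDifferential.map R R A B) g hgu
    let φ : Ω[B⁄R] →ₗ[B] B :=
      (↑u⁻¹ : B) • LinearMap.extendScalarsOfIsLocalization (Submonoid.powers (a₁ * a₂)) B φA
    have hφ : φ (D R B (algebraMap A B h)) = 1 := by
      rw [← KaehlerDifferential.map_D R R A B h]
      show (↑u⁻¹ : B) • φA (KaehlerDifferential.map R R A B (D R A h)) = 1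
      rw [IsLocalizedModule.lift_apply]
      show (↑u⁻¹ : B) * algebraMap A B a₁ = 1
      rw [← hu, Units.inv_mul]
    haveI := formallySmooth_quotient (algebraMap A B h) φ hφ
    exact ⟨inferInstance, Algebra.FinitePresentation.quotient ((Submodule.fg_span_singleton (algebraMap A B h)))⟩

end Groth.Agent.H68.SmoothHyper
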