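import Groth.Agent.H68.SmoothHyper
import Mathlib.AlgebraicGeometry.Morphisms.Smooth

/-!
# Smooth divisors through a point, scheme form
-/

set_option autoImplicit false
set_option linter.style.haveILetI false
universe u

open CategoryTheory AlgebraicGeometry KaehlerDifferential IsLocalRing TensorProduct

namespace Groth.Agent.H68.SmoothHyperScheme

theorem exists_smooth_effCartier {X S : Scheme.{u}} (f : X ⟶ S) (x : X)
    (W : X.Opens) (hxW : x ∈ W) (hW : Smooth (W.ι ≫ f))
    (h : ↑(X.presheaf.stalk x)) (hm : h ∈ maximalIdeal ↑(X.presheaf.stalk x))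
    (hd : letI := (f.stalkMap x).hom.toAlgebra
      (1 : ResidueField ↑(X.presheaf.stalk x)) ⊗ₜ[↑(X.presheaf.stalk x)]
          (D ↑(S.presheaf.stalk (f x)) ↑(X.presheaf.stalk x) h) ≠ 0) :
    ∃ (U : X.Opens) (hU : IsAffineOpen U) (hx : x ∈ U) (h' : Γ(X, U)),
      X.presheaf.germ U x hx h' = h ∧ h' ∈ nonZeroDivisors Γ(X, U) ∧
      Smooth (Spec.map (CommRingCat.ofHom (Ideal.Quotient.mk (Ideal.span {h'}))) ≫ hU.fromSpec ≫ f) := by
  obtain ⟨U₀, hxU₀, t, rfl⟩ := X.presheaf.exists_germ_eq h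
  obtain ⟨_, ⟨(V : S.Opens), hV, rfl⟩, hxV, -⟩ :=
    S.isBasis_affineOpens.exists_subset_of_mem_open (Set.mem_univ (f x)) isOpen_univ
  obtain ⟨_, ⟨(U : X.Opens), hU, rfl⟩, hxU, hUle⟩ :=
    X.isBasis_affineOpens.exists_subset_of_mem_open
      (show x ∈ ((U₀ ⊓ W ⊓ f ⁻¹ᵁ V : X.Opens) : Set X) from ⟨⟨hxU₀, hxW⟩, hxV⟩)
      (U₀ ⊓ W ⊓ f ⁻¹ᵁ V).2
  replace hU : IsAffineOpen U := hU
  replace hV : IsAffineOpen V := hV
  replace hxU : x ∈ U := hxU
  replace hUle : U ≤ U₀ ⊓ W ⊓ f ⁻¹ᵁ V := hUle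
  have hU0 : U ≤ U₀ := fun y hy => (hUle hy).1.1
  have hUW : U ≤ W := fun y hy => (hUle hy).1.2
  have hUV : U ≤ f ⁻¹ᵁ V := fun y hy => (hUle hy).2
  -- smoothness of the chart
  haveI : Smooth (U.ι ≫ f) := by
    rw [← X.homOfLE_ι hUW, Category.assoc]
    infer_instance
  have hsm : (f.appLE V U hUV).hom.Smooth := by
    haveI : IsAffine U := hU
    have hle : (⊤ : U.toScheme.Opens) ≤ (U.ι ≫ f) ⁻¹ᵁ V := fun y _ => hUV y.2
    have h1 := HasRingHomProperty.appLE @Smooth (U.ι ≫ f) ‹_› ⟨V, hV⟩ ⟨⊤, isAffineOpen_top _⟩ hle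
    have e : f.appLE V U hUV = (U.ι ≫ f).appLE V ⊤ hle ≫ U.topIso.hom := by
      rw [Scheme.Hom.comp_appLE, Scheme.Opens.ι_appLE, Scheme.Opens.topIso_hom, Category.assoc]
      refine congrArg (f.app V ≫ ·) ?_
      exact X.presheaf.map_comp _ _
    rw [e, CommRingCat.hom_comp]
    exact RingHom.Smooth.propertyIsLocal.respectsIso.left _ U.topIso.commRingCatIsoToRingEquiv h1
  letI := (f.appLE V U hUV).hom.toAlgebra
  haveI : Algebra.Smooth Γ(S, V) Γ(X, U) := hsm
  let g : Γ(X, U) := X.presheaf.map (homOfLE hU0).op t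
  have hgerm : X.presheaf.germ U x hxU g = X.presheaf.germ U₀ x hxU₀ t :=
    X.presheaf.germ_res_apply (homOfLE hU0) x hxU t
  let P := (hU.primeIdealOf ⟨x, hxU⟩).asIdeal
  letI algX := X.presheaf.algebra_section_stalk (U := U) ⟨x, hxU⟩
  haveI hlX := hU.isLocalization_stalk ⟨x, hxU⟩
  have hgP : g ∈ P := by
    rw [← IsLocalization.AtPrime.to_map_mem_maximal_iff (X.presheaf.stalk x) P]
    show X.presheaf.germ U x hxU g ∈ _
    rwa [hgerm]
  have hdA : ∀ s ∉ P, s • D Γ(S, V) Γ(X, U) g ∉ P • (⊤ : Submodule Γ(X, U) Ω[Γ(X, U)⁄Γ(S, V)]) := by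
    intro s hs hmem
    apply hd
    letI algf := (f.stalkMap x).hom.toAlgebra
    letI : Algebra Γ(S, V) (S.presheaf.stalk (f x)) := S.presheaf.algebra_section_stalk ⟨f x, hxV⟩
    letI : Algebra Γ(S, V) (X.presheaf.stalk x) :=
      ((algebraMap Γ(X, U) (X.presheaf.stalk x)).comp (algebraMap Γ(S, V) Γ(X, U))).toAlgebra
    haveI : IsScalarTower Γ(S, V) Γ(X, U) (X.presheaf.stalk x) :=
      IsScalarTower.of_algebraMap_eq fun _ => rfl
    haveI : IsScalarTower Γ(S, V) (S.presheaf.stalk (f x)) (X.presheaf.stalk x) :=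
      IsScalarTower.of_algebraMap_eq fun r => by
        show X.presheaf.germ U x hxU (f.appLE V U hUV r) = f.stalkMap x (S.presheaf.germ V (f x) hxV r)
        rw [Scheme.Hom.germ_stalkMap_apply, Scheme.Hom.appLE, CommRingCat.comp_apply,
          X.presheaf.germ_res_apply]
    let Λ := KaehlerDifferential.map Γ(S, V) (S.presheaf.stalk (f x)) Γ(X, U) (X.presheaf.stalk x)
    have key : ∀ ω ∈ P • (⊤ : Submodule Γ(X, U) Ω[Γ(X, U)⁄Γ(S, V)]),
        (1 : ResidueField (X.presheaf.stalk x)) ⊗ₜ[X.presheaf.stalk x] Λ ω = 0 := by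
      intro ω hω
      refine Submodule.smul_induction_on hω (fun a ha v _ => ?_) (fun a b ha hb => ?_)
      · rw [map_smul, ← IsScalarTower.algebraMap_smul (X.presheaf.stalk x) a (Λ v),
          TensorProduct.tmul_smul, TensorProduct.smul_tmul', Algebra.smul_def, mul_one,
          ResidueField.algebraMap_eq, (IsLocalRing.residue_eq_zero_iff _).2
            ((IsLocalization.AtPrime.to_map_mem_maximal_iff (X.presheaf.stalk x) P a).2 ha),
          TensorProduct.zero_tmul]
      · rw [map_add, TensorProduct.tmul_add, ha, hb, add_zero]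
    have h0 := key _ hmem
    rw [map_smul, KaehlerDifferential.map_D,
      ← IsScalarTower.algebraMap_smul (X.presheaf.stalk x) s, TensorProduct.tmul_smul] at h0
    have hu : IsUnit (algebraMap Γ(X, U) (X.presheaf.stalk x) s) :=
      IsLocalization.map_units (X.presheaf.stalk x) (⟨s, hs⟩ : P.primeCompl)
    rw [hu.smul_eq_zero] at h0
    rw [← hgerm]
    exact h0
  obtain ⟨a, haP, hnzd, hsmq⟩ := SmoothHyper.exists_smooth_hypersurface P g hgP hdA
  have hxD : x ∈ X.basicOpen a := by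
    rw [X.mem_basicOpen a x hxU]
    exact IsLocalization.map_units (X.presheaf.stalk x) (⟨a, haP⟩ : P.primeCompl)
  have hD : X.basicOpen a ≤ U := X.basicOpen_le a
  haveI := hU.isLocalization_basicOpen a
  let g' : Γ(X, X.basicOpen a) := algebraMap Γ(X, U) Γ(X, X.basicOpen a) g
  let e : Localization.Away a ≃ₐ[Γ(X, U)] Γ(X, X.basicOpen a) :=
    IsLocalization.algEquiv (Submonoid.powers a) _ _
  have hg' : g' = e (algebraMap Γ(X, U) (Localization.Away a) g) := (e.commutes g).symm
  refine ⟨X.basicOpen a, hU.basicOpen a, hxD, g', ?_, ?_, ?_⟩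
  · rw [← hgerm]
    exact X.presheaf.germ_res_apply (homOfLE hD) x hxD g
  · refine mem_nonZeroDivisors_iff_right.2 fun z hz => ?_
    have := mem_nonZeroDivisors_iff_right.1 hnzd (e.symm z) (e.injective (by
      rw [map_mul, e.apply_symm_apply, ← hg', hz, map_zero]))
    simpa using congrArg e this
  · have hmap := IsAffineOpen.SpecMap_appLE_fromSpec f hV (hU.basicOpen a) (hD.trans hUV)
    rw [← hmap, ← Category.assoc, ← Spec.map_comp]
    haveI : Smooth (Spec.map (f.appLE V (X.basicOpen a) (hD.trans hUV) ≫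
        CommRingCat.ofHom (Ideal.Quotient.mk (Ideal.span {g'})))) := by
      rw [HasRingHomProperty.Spec_iff (P := @Smooth)]
      have hI : Ideal.span {g'} = (Ideal.span {algebraMap Γ(X, U) (Localization.Away a) g}).map
          (e.toRingEquiv : Localization.Away a →+* Γ(X, X.basicOpen a)) := by
        rw [Ideal.map_span, Set.image_singleton, hg']
        rfl
      let E := Ideal.quotientEquiv _ _ e.toRingEquiv hI
      have h2 := RingHom.Smooth.propertyIsLocal.respectsIso.left _ E (RingHom.smooth_algebraMap.2 hsmq)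
      have heq : (Ideal.Quotient.mk (Ideal.span {g'})).comp (f.appLE V (X.basicOpen a) (hD.trans hUV)).hom =
          (E : _ →+* _).comp (algebraMap Γ(S, V)
            (Localization.Away a ⧸ Ideal.span {algebraMap Γ(X, U) (Localization.Away a) g})) := by
        refine RingHom.ext fun r => ?_
        show Ideal.Quotient.mk _ (f.appLE V (X.basicOpen a) _ r) =
          Ideal.Quotient.mk _ (e (algebraMap Γ(S, V) (Localization.Away a) r))
        rw [IsScalarTower.algebraMap_apply Γ(S, V) Γ(X, U) (Localization.Away a), e.commutes]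
        refine congrArg _ ?_
        exact (congr($(Scheme.Hom.appLE_map f hUV (homOfLE hD).op).hom r)).symm
      show RingHom.Smooth ((Ideal.Quotient.mk (Ideal.span {g'})).comp
        (f.appLE V (X.basicOpen a) (hD.trans hUV)).hom)
      rw [heq]
      exact h2
    infer_instance

end Groth.Agent.H68.SmoothHyperScheme
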