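import Groth.Prelude.Def_W4c3tautjacobianRel
import Mathlib

/-!
The sl₂ commutation relation in the formal relation ring: `F E - E F = g - deg₁`.
-/

set_option autoImplicit false

open MvPolynomial W4c3tautjacobian

namespace Groth.Agent.H68.TautRel

variable {g : ℕ}

/-- The bidegree with values in `ℤ × ℤ`. -/
def wz (g : ℕ) (v : Var g) : ℤ × ℤ := (((wt g v).1 : ℤ), ((wt g v).2 : ℤ))

lemma weight_wz (d : Var g →₀ ℕ) : Finsupp.weight (wz g) d =
    (((Finsupp.weight (wt g) d).1 : ℤ), ((Finsupp.weight (wt g) d).2 : ℤ)) := by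
  induction d using Finsupp.induction_linear with
  | zero => simp [Prod.ext_iff]
  | add a b ha hb => simp [ha, hb]
  | single v n => simp [Finsupp.weight_single, wz]

/-- `P` is bihomogeneous of bidegree `a`. -/
abbrev Hom (P : RelRing g) (a : ℤ × ℤ) : Prop := IsWeightedHomogeneous (wz g) P a

lemma hom_of_wt {P : RelRing g} {a : ℕ × ℕ} (h : IsWeightedHomogeneous (wt g) P a) :
    Hom P ((a.1 : ℤ), (a.2 : ℤ)) := fun d hd => by
  rw [weight_wz, h hd]

lemma eq_zero_of_neg {P : RelRing g} {a : ℤ × ℤ} (h : Hom P a) (ha : a.1 < 0) : P = 0 := by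
  refine MvPolynomial.ext _ _ fun d => ?_
  rw [coeff_zero]
  by_contra hd
  have := congrArg Prod.fst (h hd)
  rw [weight_wz] at this
  simp at this
  omega

lemma hom_natCast (c : ℕ) : Hom (c : RelRing g) 0 := by
  rw [Hom, ← map_natCast (C : ℚ →+* RelRing g) c]
  exact isWeightedHomogeneous_C _ _

lemma hom_xv (i j : ℤ) : Hom (xv g i j) (i, j) := by
  unfold xv
  split_ifs with h1 h2
  · obtain ⟨rfl, rfl⟩ := h1
    exact hom_natCast g
  · obtain ⟨hi, hj, hv⟩ := h2
    have e : wz g (some ⟨(i.toNat, j.toNat), hv⟩) = (i, j) := by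
      simp [wz, wt, Prod.ext_iff, hi, hj]
    rw [← e]
    exact isWeightedHomogeneous_X _ _ _
  · exact isWeightedHomogeneous_zero _ _ _

/-- `dv` as a derivation. -/
noncomputable def D (g : ℕ) (p : ℕ × ℕ) : Derivation ℚ (RelRing g) (RelRing g) :=
  if h : Valid g p then pderiv (some ⟨p, h⟩) else 0

lemma dv_eq (p : ℕ × ℕ) (P : RelRing g) : dv g p P = D g p P := by
  unfold dv D
  split_ifs <;> simp

lemma hom_dv (p : ℕ × ℕ) {P : RelRing g} {a : ℤ × ℤ} (h : Hom P a) :
    Hom (dv g p P) (a - ((p.1 : ℤ), (p.2 : ℤ))) := by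
  unfold dv
  split_ifs with hv
  · exact IsWeightedHomogeneous.pderiv h (sub_add_cancel a _)
  · exact isWeightedHomogeneous_zero _ _ _

/-- The coefficient of the second order part of `F`. -/
noncomputable def co (g : ℕ) (p q : ℕ × ℕ) : RelRing g :=
  X none * xv g ((p.1 : ℤ) - 1) ((p.2 : ℤ) - 1) * xv g ((q.1 : ℤ) - 1) ((q.2 : ℤ) - 1)
    - (mergeCoeff p.1 q.1 : RelRing g) * xv g ((p.1 : ℤ) + q.1 - 2) ((p.2 : ℤ) + q.2)

lemma F_eq (P : RelRing g) : F g P = (1 / 2 : ℚ) • (∑ p ∈ idx g, ∑ q ∈ idx g, co g p q * D g p (D g q P))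
    + ∑ p ∈ idx g, xv g ((p.1 : ℤ) - 2) (p.2 : ℤ) * D g p P := by
  simp only [F, co, dv_eq]

lemma F_zero : F g 0 = 0 := by simp [F_eq]

lemma F_add (P Q : RelRing g) : F g (P + Q) = F g P + F g Q := by
  simp only [F_eq, map_add, mul_add, Finset.sum_add_distrib, smul_add]
  abel

lemma F_smul (c : ℚ) (P : RelRing g) : F g (c • P) = c • F g P := by
  simp only [F_eq, Derivation.map_smul, mul_smul_comm, ← Finset.smul_sum, smul_add]
  rw [smul_comm]

lemma hom_F {P : RelRing g} {a : ℤ × ℤ} (h : Hom P a) : Hom (F g P) (a - (2, 0)) := by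
  have hm : ∀ {A B : RelRing g} {x y z : ℤ × ℤ}, Hom A x → Hom B y → x + y = z → Hom (A * B) z :=
    fun hA hB e => e ▸ IsWeightedHomogeneous.mul hA hB
  unfold F
  show _ ∈ weightedHomogeneousSubmodule ℚ (wz g) (a - (2, 0))
  refine add_mem (Submodule.smul_mem _ _ (sum_mem fun p _ => sum_mem fun q _ => ?_)) (sum_mem fun p _ => ?_)
  · rw [sub_mul]
    refine sub_mem ?_ ?_
    · refine hm (hm (hm (isWeightedHomogeneous_X _ _ none) (hom_xv _ _) rfl) (hom_xv _ _) rfl)
        (hom_dv p (hom_dv q h)) ?_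
      simp [wz, wt, Prod.ext_iff]
      constructor <;> ring
    · refine hm (hm (hom_natCast _) (hom_xv _ _) rfl) (hom_dv p (hom_dv q h)) ?_
      simp [Prod.ext_iff]
      constructor <;> ring
  · refine hm (hom_xv _ _) (hom_dv p h) ?_
    simp [Prod.ext_iff]

lemma hom_iterate {P : RelRing g} {a : ℤ × ℤ} (h : Hom P a) (m : ℕ) :
    Hom ((F g)^[m] P) (a.1 - 2 * (m : ℤ), a.2) := by
  induction m with
  | zero => simpa using h
  | succ m ih =>
    rw [Function.iterate_succ_apply']
    have := hom_F ih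
    convert this using 1
    simp [Prod.ext_iff]
    ring

/-- The variable at a pair. -/
lemma xv_valid (p : ℕ × ℕ) (hp : Valid g p) : xv g (p.1 : ℤ) (p.2 : ℤ) = X (some ⟨p, hp⟩) := by
  unfold xv
  rw [if_neg fun h => hp.2.2.2 (Prod.ext (by simpa using h.1) (by simpa using h.2)),
    dif_pos ⟨by positivity, by positivity, by simpa using hp⟩]
  simp

lemma valid_two (hg : 1 ≤ g) : Valid g (2, 0) := ⟨le_rfl, by show 0 + 2 ≤ 2 * g; omega, ⟨1, rfl⟩, by simp⟩

lemma xv_two (hg : 1 ≤ g) : xv g 2 0 = X (some ⟨(2, 0), valid_two hg⟩) := xv_valid (2, 0) (valid_two hg)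

lemma mem_idx {p : ℕ × ℕ} (hp : Valid g p) : p ∈ idx g := by
  obtain ⟨h1, h2, -, -⟩ := hp
  simp only [idx, Finset.mem_product, Finset.mem_range]
  omega

instance : Fintype {p : ℕ × ℕ // Valid g p} :=
  Fintype.subtype ((idx g).filter (Valid g)) fun p => by
    simpa using fun hp => mem_idx hp

lemma D_two (hg : 1 ≤ g) (p : ℕ × ℕ) : D g p (xv g 2 0) = if p = (2, 0) then 1 else 0 := by
  classical
  rw [xv_two hg]
  unfold D
  split_ifs with hv h h
  · subst h; exact pderiv_X_self _
  · exact pderiv_X_of_ne fun h' => h (congrArg Subtype.val (Option.some.inj h'.symm))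
  · exact absurd (h ▸ valid_two hg) hv
  · simp

lemma D_D_mul (hg : 1 ≤ g) (p q : ℕ × ℕ) (P : RelRing g) :
    D g p (D g q (xv g 2 0 * P)) = xv g 2 0 * D g p (D g q P)
      + (if q = (2, 0) then D g p P else 0) + (if p = (2, 0) then D g q P else 0) := by
  simp only [Derivation.leibniz, map_add, smul_eq_mul, D_two hg, mul_ite, mul_one, mul_zero]
  split_ifs <;> simp [*]

lemma mergeCoeff_two_left (k : ℕ) : mergeCoeff 2 k = k := by
  rcases k with _ | k
  · simp [mergeCoeff]
  · simp [mergeCoeff, show 2 + (k + 1) - 2 = k + 1 by omega]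

lemma mergeCoeff_two_right (k : ℕ) : mergeCoeff k 2 = k := by
  rcases k with _ | k
  · simp [mergeCoeff]
  · simp [mergeCoeff, show k + 1 + 2 - 2 = k + 1 by omega, Nat.choose_succ_self_right]

lemma xv_one_neg_one : xv g 1 (-1) = 0 := by
  unfold xv
  simp

lemma co_two_left (q : ℕ × ℕ) : co g (2, 0) q = -((q.1 : RelRing g) * xv g (q.1 : ℤ) (q.2 : ℤ)) := by
  simp [co, mergeCoeff_two_left, xv_one_neg_one]

lemma co_two_right (p : ℕ × ℕ) : co g p (2, 0) = -((p.1 : RelRing g) * xv g (p.1 : ℤ) (p.2 : ℤ)) := by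
  simp [co, mergeCoeff_two_right, xv_one_neg_one]

/-- Euler's identity for the first degree. -/
lemma euler {P : RelRing g} {a : ℤ × ℤ} (h : Hom P a) :
    ∑ p ∈ idx g, (p.1 : RelRing g) * xv g (p.1 : ℤ) (p.2 : ℤ) * D g p P = (a.1 : RelRing g) * P := by
  classical
  by_cases hP : P = 0
  · simp [hP]
  obtain ⟨d, hd⟩ := ne_zero_iff.mp hP
  have ha : a.1 = ((Finsupp.weight (wt g) d).1 : ℤ) := by
    rw [← h hd, weight_wz]
  have hnat : IsWeightedHomogeneous (fun v => (wt g v).1) P (Finsupp.weight (wt g) d).1 := by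
    intro e he
    have h1 := congrArg Prod.fst ((h he).trans (h hd).symm)
    rw [weight_wz, weight_wz] at h1
    simp only [Nat.cast_inj] at h1
    rw [← h1]
    induction e using Finsupp.induction_linear with
    | zero => simp
    | add x y hx hy => simp only [map_add, Prod.fst_add]; clear h1 he; simp [Finsupp.weight_apply, Finsupp.sum_fintype, Finset.sum_add_distrib, Prod.fst_sum, add_mul]
    | single v n => simp [Finsupp.weight_single]
  have hE := hnat.sum_weight_X_mul_pderiv
  rw [Fintype.sum_option] at hE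
  simp only [wt, zero_smul, zero_add, nsmul_eq_mul] at hE
  rw [ha, Int.cast_natCast]
  refine Eq.trans ?_ hE
  rw [← Finset.sum_subtype ((idx g).filter (Valid g)) (fun p => by simpa using fun hp => mem_idx hp)
    (fun p => (p.1 : RelRing g) * xv g (p.1 : ℤ) (p.2 : ℤ) * D g p P) |>.trans
    (Finset.sum_congr rfl fun p _ => by rw [xv_valid p.1 p.2, D, dif_pos p.2, mul_assoc]),
    Finset.sum_filter_of_ne]
  intro p _ hp
  by_contra hv
  simp [D, hv] at hp

/-- The commutation relation. -/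
theorem F_E (hg : 1 ≤ g) {P : RelRing g} {a : ℤ × ℤ} (h : Hom P a) :
    F g (E g P) = E g (F g P) + ((g : ℚ) - (a.1 : ℚ)) • P := by
  classical
  have h20 := mem_idx (valid_two hg)
  unfold E
  rw [F_eq, F_eq]
  simp only [D_D_mul hg]
  simp only [Derivation.leibniz, D_two hg, smul_eq_mul, mul_add, Finset.sum_add_distrib, mul_ite, mul_one,
    mul_zero, Finset.sum_ite_eq', h20, if_true]
  rw [Finset.sum_comm (f := fun p q => if p = (2, 0) then co g p q * D g q P else 0)]
  simp only [Finset.sum_ite_eq', h20, if_true, co_two_left, co_two_right, neg_mul, Finset.sum_neg_distrib, euler h]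
  have h00 : xv g (((2, 0) : ℕ × ℕ).1 : ℤ) (((2, 0) : ℕ × ℕ).2 : ℤ) = xv g 2 0 := rfl
  have hg0 : xv g ((((2, 0) : ℕ × ℕ).1 : ℤ) - 2) (((2, 0) : ℕ × ℕ).2 : ℤ) = (g : RelRing g) := by simp [xv]
  rw [hg0]
  simp only [Algebra.smul_def, mul_left_comm _ (xv g 2 0), ← Finset.mul_sum]
  simp only [map_sub, map_natCast, map_intCast]
  have h2 : algebraMap ℚ (RelRing g) (1 / 2) + algebraMap ℚ (RelRing g) (1 / 2) = 1 := by
    rw [← map_add, show (1 / 2 : ℚ) + 1 / 2 = 1 by norm_num, map_one]
  linear_combination (-((a.1 : RelRing g) * P)) * h2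

/-- The iterated commutation relation at the bottom of a string. -/
theorem F_pow_succ_E (hg : 1 ≤ g) {P : RelRing g} (s : ℕ) (n : ℤ) (h : Hom P (2 * (s : ℤ), n)) :
    (F g)^[s + 1] (E g P) = (((s : ℚ) + 1) * ((g : ℚ) - s)) • (F g)^[s] P := by
  have key : ∀ q : ℕ, (F g)^[q + 1] (E g P) = E g ((F g)^[q + 1] P)
      + (((q : ℚ) + 1) * ((g : ℚ) - 2 * s + q)) • (F g)^[q] P := by
    intro q
    induction q with
    | zero =>
      simp only [zero_add, Function.iterate_one, Function.iterate_zero, id_eq]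
      rw [F_E hg h]
      push_cast
      simp
    | succ q ih =>
      rw [Function.iterate_succ_apply', ih, F_add, F_smul, F_E hg (hom_iterate h (q + 1)),
        ← Function.iterate_succ_apply' (F g) (q + 1) P, ← Function.iterate_succ_apply' (F g) q P, add_assoc, ← add_smul]
      congr 2
      push_cast
      ring
  rw [key s, eq_zero_of_neg (hom_iterate h (s + 1)) (by push_cast; omega), E, mul_zero, zero_add]
  congr 1
  ring

lemma F_iterate_zero (m : ℕ) : (F g)^[m] 0 = 0 := Function.iterate_fixed F_zero m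

lemma F_iterate_smul (c : ℚ) (P : RelRing g) (m : ℕ) : (F g)^[m] (c • P) = c • (F g)^[m] P := by
  induction m with
  | zero => rfl
  | succ m ih => rw [Function.iterate_succ_apply', ih, F_smul, Function.iterate_succ_apply']

lemma hom_E {P : RelRing g} {a : ℤ × ℤ} (h : Hom P a) (e : ℕ) :
    Hom ((E g)^[e] P) (a.1 + 2 * (e : ℤ), a.2) := by
  induction e with
  | zero => simpa using h
  | succ e ih =>
    rw [Function.iterate_succ_apply']
    have := IsWeightedHomogeneous.mul (hom_xv (g := g) 2 0) ih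
    convert! this using 1
    simp [Prod.ext_iff]
    ring

/-- Strings through degree `2g` are killed. -/
theorem F_pow_E_pow_eq_zero (hg : 1 ≤ g) {P : RelRing g} (s : ℕ) (n : ℤ) (h : Hom P (2 * (s : ℤ), n)) :
    ∀ e : ℕ, s ≤ g → g < s + e → (F g)^[s + e] ((E g)^[e] P) = 0 := by
  intro e
  induction e with
  | zero => intros; omega
  | succ e ih =>
    intro hs hlt
    rw [Function.iterate_succ_apply' (E g) e P, ← add_assoc]
    have hh : Hom ((E g)^[e] P) (2 * ((s + e : ℕ) : ℤ), n) := by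
      convert! hom_E h e using 1
      simp [Prod.ext_iff]; ring
    rw [F_pow_succ_E hg (s + e) n hh]
    rcases Nat.lt_or_ge g (s + e) with h' | h'
    · rw [ih hs h', smul_zero]
    · have : s + e = g := by omega
      rw [this, sub_self, mul_zero, zero_smul]

end Groth.Agent.H68.TautRel
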