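import Groth.Agent.H68.TautRel

/-!
Positivity of `F` after the sign twist `y ↦ 0`, `x ↦ -x`.
-/

set_option autoImplicit false

open MvPolynomial W4c3tautjacobian

namespace Groth.Agent.H68.TautRelPos

open TautRel

variable {g : ℕ}

/-- The sign twist. -/
noncomputable def tw (g : ℕ) : RelRing g →ₐ[ℚ] RelRing g :=
  aeval fun v => Option.elim v 0 fun p => -X (some p)

@[simp] lemma tw_none : tw g (X none) = 0 := by simp [tw]
@[simp] lemma tw_some (p : {p : ℕ × ℕ // Valid g p}) : tw g (X (some p)) = -X (some p) := by simp [tw]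

lemma tw_monomial (e : Var g →₀ ℕ) (c : ℚ) :
    ∃ s : ℚ, tw g (monomial e c) = monomial e (s * c) := by
  induction e using Finsupp.induction with
  | zero => exact ⟨1, by simp [tw]⟩
  | single_add a b f _ _ ih =>
    obtain ⟨s, hs⟩ := ih
    rw [monomial_single_add, map_mul, map_pow, hs]
    rcases a with _ | p
    · refine ⟨(0 : ℚ) ^ b * s, ?_⟩
      rw [tw_none, mul_assoc ((0 : ℚ) ^ b) s c, monomial_single_add]
      rcases Nat.eq_zero_or_pos b with rfl | hb
      · simp
      · rw [zero_pow hb.ne', zero_mul, zero_pow hb.ne', zero_mul, monomial_zero, mul_zero]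
    · refine ⟨(-1 : ℚ) ^ b * s, ?_⟩
      rw [tw_some, mul_assoc ((-1 : ℚ) ^ b) s c, monomial_single_add, neg_pow, ← C_mul_monomial (a := (-1 : ℚ) ^ b)]
      simp only [map_pow, map_neg, map_one]
      ring

lemma coeff_tw (P : RelRing g) (d : Var g →₀ ℕ) (h : coeff d P = 0) : coeff d (tw g P) = 0 := by
  classical
  rw [P.as_sum, map_sum, coeff_sum]
  refine Finset.sum_eq_zero fun e _ => ?_
  obtain ⟨s, hs⟩ := tw_monomial e (coeff e P)
  rw [hs, coeff_monomial]
  split_ifs with he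
  · rw [he, h, mul_zero]
  · rfl

lemma tw_D (p : ℕ × ℕ) (P : RelRing g) : tw g (D g p P) = -D g p (tw g P) := by
  classical
  by_cases hp : Valid g p
  · induction P using MvPolynomial.induction_on with
    | C c => simp [D, hp, tw]
    | add a b ha hb => simp only [map_add, ha, hb]; abel
    | mul_X a v ha =>
      rcases v with _ | q
      · have h0 : D g p (X none) = 0 := by
          rw [D, dif_pos hp]; exact pderiv_X_of_ne (Option.some_ne_none _).symm
        simp [Derivation.leibniz, h0, ha]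
      · have h0 : tw g (D g p (X (some q))) = D g p (X (some q)) := by
          rw [D, dif_pos hp, pderiv_X]
          rcases eq_or_ne (some ⟨p, hp⟩ : Var g) (some q) with h | h
          · rw [← h, Pi.single_eq_same, map_one]
          · rw [Pi.single_eq_of_ne' h, map_zero]
        simp only [Derivation.leibniz, smul_eq_mul, map_add, map_mul, tw_some, ha, h0, map_neg]
        ring
  · simp [D, hp]

lemma tw_xv {i j : ℤ} (h : ¬ (i = 0 ∧ j = 0)) : tw g (xv g i j) = -xv g i j := by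
  unfold xv
  rw [if_neg h]
  split_ifs <;> simp

/-- The twisted operator. -/
noncomputable def F' (g : ℕ) (Q : RelRing g) : RelRing g :=
  (1 / 2 : ℚ) • (∑ p ∈ idx g, ∑ q ∈ idx g,
      (mergeCoeff p.1 q.1 : RelRing g) * xv g ((p.1 : ℤ) + q.1 - 2) ((p.2 : ℤ) + q.2) * D g p (D g q Q))
    + ∑ p ∈ idx g, (if p = (2, 0) then -(g : RelRing g) else xv g ((p.1 : ℤ) - 2) (p.2 : ℤ)) * D g p Q

lemma valid_snd_eq_zero {p : ℕ × ℕ} (hp : Valid g p) (h : p.2 = 0) : p = (2, 0) := by
  obtain ⟨h1, -, ⟨c, hc⟩, hne⟩ := hp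
  obtain ⟨i, j⟩ := p
  dsimp only at h h1 hc
  subst h
  have : i ≠ 0 := by rintro rfl; exact hne rfl
  exact Prod.ext (by dsimp only; omega) rfl

lemma tw_F (P : RelRing g) : tw g (F g P) = F' g (tw g P) := by
  classical
  rw [F_eq]
  simp only [F', map_add, map_smul, map_sum, map_mul, tw_D, map_neg]
  congr 1
  · congr 1
    refine Finset.sum_congr rfl fun p _ => Finset.sum_congr rfl fun q _ => ?_
    rw [neg_neg]
    by_cases hp : Valid g p
    swap
    · simp [D, hp]
    by_cases hq : Valid g q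
    swap
    · simp [D, hq]
    have hne : ¬ ((p.1 : ℤ) + q.1 - 2 = 0 ∧ (p.2 : ℤ) + q.2 = 0) := by
      rintro ⟨h1, h2⟩
      rw [valid_snd_eq_zero hp (by omega), valid_snd_eq_zero hq (by omega)] at h1
      simp at h1
    simp [co, tw_xv hne]
  · refine Finset.sum_congr rfl fun p _ => ?_
    by_cases hp : Valid g p
    swap
    · simp [D, hp]
    split_ifs with h
    · subst h
      simp [xv]
    · have hne : ¬ ((p.1 : ℤ) - 2 = 0 ∧ (p.2 : ℤ) = 0) := fun h2 => h (valid_snd_eq_zero hp (by omega))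
      rw [tw_xv hne]
      ring

/-- Nonnegative coefficients and no `x 2 0`. -/
def NN (Q : RelRing g) : Prop :=
  ∀ d : Var g →₀ ℕ, 0 ≤ coeff d Q ∧ ((∃ h : Valid g (2, 0), d (some ⟨(2, 0), h⟩) ≠ 0) → coeff d Q = 0)

lemma nn_zero : NN (0 : RelRing g) := fun d => by simp

lemma nn_add {P Q : RelRing g} (hP : NN P) (hQ : NN Q) : NN (P + Q) := fun d =>
  ⟨by rw [coeff_add]; exact add_nonneg (hP d).1 (hQ d).1,
   fun h => by rw [coeff_add, (hP d).2 h, (hQ d).2 h, add_zero]⟩

lemma nn_sum {ι : Type*} {s : Finset ι} {f : ι → RelRing g} (h : ∀ x ∈ s, NN (f x)) : NN (∑ x ∈ s, f x) := by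
  classical
  induction s using Finset.induction_on with
  | empty => simpa using nn_zero
  | insert a t ha ih =>
    rw [Finset.sum_insert ha]
    exact nn_add (h a (Finset.mem_insert_self a t)) (ih fun x hx => h x (Finset.mem_insert_of_mem hx))

lemma nn_smul {c : ℚ} (hc : 0 ≤ c) {P : RelRing g} (hP : NN P) : NN (c • P) := fun d =>
  ⟨by rw [coeff_smul]; exact mul_nonneg hc (hP d).1, fun h => by rw [coeff_smul, (hP d).2 h, smul_zero]⟩

lemma nn_mul {P Q : RelRing g} (hP : NN P) (hQ : NN Q) : NN (P * Q) := by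
  classical
  intro d
  refine ⟨?_, fun ⟨hv, h⟩ => ?_⟩
  · rw [coeff_mul]; exact Finset.sum_nonneg fun x _ => mul_nonneg (hP _).1 (hQ _).1
  · rw [coeff_mul]
    refine Finset.sum_eq_zero fun x hx => ?_
    rw [Finset.HasAntidiagonal.mem_antidiagonal] at hx
    rw [← hx, Finsupp.add_apply] at h
    rcases Nat.eq_zero_or_pos (x.1 (some ⟨(2, 0), hv⟩)) with h0 | h0
    · rw [(hQ x.2).2 ⟨hv, by omega⟩, mul_zero]
    · rw [(hP x.1).2 ⟨hv, by omega⟩, zero_mul]

lemma nn_natCast (n : ℕ) : NN (n : RelRing g) := by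
  classical
  intro d
  rw [← map_natCast (C : ℚ →+* RelRing g) n, coeff_C]
  refine ⟨by split_ifs <;> simp, fun ⟨hv, h⟩ => if_neg fun h0 => h ?_⟩
  rw [← h0]; rfl

lemma nn_monomial {e : Var g →₀ ℕ} {c : ℚ} (hc : 0 ≤ c)
    (he : ∀ h : Valid g (2, 0), e (some ⟨(2, 0), h⟩) = 0) : NN (monomial e c) := by
  classical
  intro d
  rw [coeff_monomial]
  refine ⟨by split_ifs <;> simp [hc], fun ⟨hv, h⟩ => if_neg fun h0 => h (by rw [← h0]; exact he hv)⟩

lemma nn_xv {i j : ℤ} (h : ¬ (i = 2 ∧ j = 0)) : NN (xv g i j) := by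
  unfold xv
  split_ifs with h1 h2
  · exact nn_natCast g
  · refine nn_monomial zero_le_one fun hv => Finsupp.single_eq_of_ne' fun h3 => h ?_
    have h4 : (i.toNat, j.toNat) = (2, 0) := congrArg Subtype.val (Option.some.inj h3)
    rw [Prod.mk.injEq] at h4
    omega
  · exact nn_zero

lemma nn_D {Q : RelRing g} (hQ : NN Q) (p : ℕ × ℕ) : NN (D g p Q) := by
  classical
  by_cases hp : Valid g p
  swap
  · simpa [D, hp] using nn_zero
  rw [D, dif_pos hp, Q.as_sum, map_sum]
  refine nn_sum fun e he => ?_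
  rw [pderiv_monomial]
  refine nn_monomial (mul_nonneg (hQ e).1 (Nat.cast_nonneg _)) fun hv => ?_
  have h0 : e (some ⟨(2, 0), hv⟩) = 0 := by
    by_contra h
    exact mem_support_iff.mp he ((hQ e).2 ⟨hv, h⟩)
  rw [Finsupp.tsub_apply, h0, Nat.zero_sub]

lemma D_two_zero {Q : RelRing g} (hQ : NN Q) : D g (2, 0) Q = 0 := by
  classical
  by_cases hp : Valid g (2, 0)
  swap
  · simp [D, hp]
  rw [D, dif_pos hp, Q.as_sum, map_sum]
  refine Finset.sum_eq_zero fun e he => ?_
  have h0 : e (some ⟨(2, 0), hp⟩) = 0 := by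
    by_contra h
    exact mem_support_iff.mp he ((hQ e).2 ⟨hp, h⟩)
  rw [pderiv_monomial, h0, Nat.cast_zero, mul_zero, monomial_zero]

/-- The merging term. -/
noncomputable def mTerm (Q : RelRing g) (p q : ℕ × ℕ) : RelRing g :=
  (mergeCoeff p.1 q.1 : RelRing g) * xv g ((p.1 : ℤ) + q.1 - 2) ((p.2 : ℤ) + q.2) * D g p (D g q Q)

/-- The lowering term. -/
noncomputable def lTerm (Q : RelRing g) (p : ℕ × ℕ) : RelRing g :=
  (if p = (2, 0) then -(g : RelRing g) else xv g ((p.1 : ℤ) - 2) (p.2 : ℤ)) * D g p Q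

lemma nn_mTerm {Q : RelRing g} (hQ : NN Q) (p q : ℕ × ℕ) : NN (mTerm Q p q) := by
  classical
  unfold mTerm
  by_cases hp : Valid g p
  swap
  · simpa [D, hp] using nn_zero
  by_cases hq : Valid g q
  swap
  · simpa [D, hq] using nn_zero
  by_cases h : (p.1 : ℤ) + q.1 - 2 = 2 ∧ (p.2 : ℤ) + q.2 = 0
  · rw [valid_snd_eq_zero hq (by omega), D_two_zero hQ, map_zero, mul_zero]
    exact nn_zero
  · exact nn_mul (nn_mul (nn_natCast _) (nn_xv h)) (nn_D (nn_D hQ q) p)

lemma nn_lTerm {Q : RelRing g} (hQ : NN Q) (p : ℕ × ℕ) : NN (lTerm Q p) := by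
  classical
  unfold lTerm
  by_cases hp : Valid g p
  swap
  · simpa [D, hp] using nn_zero
  split_ifs with h
  · rw [h, D_two_zero hQ, mul_zero]; exact nn_zero
  · refine nn_mul (nn_xv ?_) (nn_D hQ p)
    rintro ⟨h1, h2⟩
    exact h (valid_snd_eq_zero hp (by omega))

lemma F'_eq (Q : RelRing g) : F' g Q = (1 / 2 : ℚ) • (∑ p ∈ idx g, ∑ q ∈ idx g, mTerm Q p q) + ∑ p ∈ idx g, lTerm Q p := rfl

lemma nn_F' {Q : RelRing g} (hQ : NN Q) : NN (F' g Q) := by
  rw [F'_eq]
  exact nn_add (nn_smul (by norm_num) (nn_sum fun p _ => nn_sum fun q _ => nn_mTerm hQ p q))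
    (nn_sum fun p _ => nn_lTerm hQ p)

lemma F'_lin (c : ℚ) (P Q : RelRing g) : F' g (c • P + Q) = c • F' g P + F' g Q := by
  simp only [F', map_add, Derivation.map_smul, mul_add, mul_smul_comm, Finset.sum_add_distrib, ← Finset.smul_sum,
    smul_add]
  rw [smul_comm]
  abel

/-- `Q` dominates a positive multiple of the monomial `d`. -/
def Dom (Q : RelRing g) (d : Var g →₀ ℕ) : Prop :=
  (∀ h : Valid g (2, 0), d (some ⟨(2, 0), h⟩) = 0) ∧ ∃ c : ℚ, 0 < c ∧ ∃ R, NN R ∧ Q = c • monomial d 1 + R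

lemma dom_step {Q : RelRing g} {d d' : Var g →₀ ℕ} (h : Dom Q d)
    (hd' : ∀ h : Valid g (2, 0), d' (some ⟨(2, 0), h⟩) = 0)
    (hs : ∃ c : ℚ, 0 < c ∧ ∃ R, NN R ∧ F' g (monomial d 1) = c • monomial d' 1 + R) : Dom (F' g Q) d' := by
  obtain ⟨hd, c, hc, R, hR, rfl⟩ := h
  obtain ⟨c', hc', R', hR', he⟩ := hs
  refine ⟨hd', c * c', mul_pos hc hc', c • R' + F' g R, nn_add (nn_smul hc.le hR') (nn_F' hR), ?_⟩
  rw [F'_lin, he, smul_add, smul_smul, add_assoc]

lemma exists_merge (a b : {p : ℕ × ℕ // Valid g p}) (hab : 0 < a.1.1 ∧ 0 < b.1.1) (r : Var g →₀ ℕ)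
    (hr : ∀ h : Valid g (2, 0), (Finsupp.single (some a) 1 + Finsupp.single (some b) 1 + r : Var g →₀ ℕ) (some ⟨(2, 0), h⟩) = 0)
    (c : {p : ℕ × ℕ // Valid g p}) (hc : c.1.1 + 2 = a.1.1 + b.1.1) (hc2 : c.1.2 = a.1.2 + b.1.2) :
    ∃ s : ℚ, 0 < s ∧ ∃ R, NN R ∧
      F' g (monomial (Finsupp.single (some a) 1 + Finsupp.single (some b) 1 + r) 1) =
        s • monomial (Finsupp.single (some c) 1 + r) 1 + R := by
  classical
  set d := Finsupp.single (some a) 1 + Finsupp.single (some b) 1 + r with hd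
  have hQ : NN (monomial d (1 : ℚ)) := nn_monomial zero_le_one hr
  have hxc : xv g ((a.1.1 : ℤ) + b.1.1 - 2) ((a.1.2 : ℤ) + b.1.2) = X (some c) := by
    rw [show ((a.1.1 : ℤ) + b.1.1 - 2) = (c.1.1 : ℤ) by omega, show ((a.1.2 : ℤ) + b.1.2) = (c.1.2 : ℤ) by omega,
      TautRel.xv_valid c.1 c.2]
  have h1 : d (some b) ≠ 0 := by simp [d]
  have h2 : (d - Finsupp.single (some b) 1 : Var g →₀ ℕ) = Finsupp.single (some a) 1 + r := by
    rw [hd, add_right_comm, add_tsub_cancel_right]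
  let t : ℚ := (mergeCoeff a.1.1 b.1.1 : ℚ) * ((d (some b) : ℚ) * ((Finsupp.single (some a) 1 + r : Var g →₀ ℕ) (some a) : ℚ))
  have ht : 0 < t := by
    have hm : 0 < mergeCoeff a.1.1 b.1.1 := by
      rw [mergeCoeff, if_neg (by omega)]
      exact Nat.choose_pos (by omega)
    have : 0 < (Finsupp.single (some a) 1 + r : Var g →₀ ℕ) (some a) := by simp
    have : 0 < d (some b) := Nat.pos_of_ne_zero h1
    simp only [t]
    positivity
  have hterm : mTerm (monomial d 1) a.1 b.1 = t • monomial (Finsupp.single (some c) 1 + r) 1 := by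
    rw [mTerm, hxc, D, dif_pos a.2, D, dif_pos b.2, pderiv_monomial, pderiv_monomial, h2]
    rw [show (Finsupp.single (some (⟨a.1, a.2⟩ : {p // Valid g p})) 1 : Var g →₀ ℕ) = Finsupp.single (some a) 1 from rfl,
      add_tsub_cancel_left, one_mul, X, ← map_natCast (C : ℚ →+* RelRing g), C_mul_monomial, monomial_mul,
      smul_monomial, smul_eq_mul]
    simp only [t, mul_one]
  refine ⟨(1 / 2) * t, by positivity, (1 / 2 : ℚ) • ((∑ q ∈ (idx g).erase b.1, mTerm (monomial d 1) a.1 q)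
    + ∑ p ∈ (idx g).erase a.1, ∑ q ∈ idx g, mTerm (monomial d 1) p q) + ∑ p ∈ idx g, lTerm (monomial d 1) p,
    nn_add (nn_smul (by norm_num) (nn_add (nn_sum fun q _ => nn_mTerm hQ _ q)
      (nn_sum fun p _ => nn_sum fun q _ => nn_mTerm hQ p q))) (nn_sum fun p _ => nn_lTerm hQ p), ?_⟩
  rw [F'_eq, ← Finset.add_sum_erase _ _ (TautRel.mem_idx a.2), ← Finset.add_sum_erase _ _ (TautRel.mem_idx b.2), hterm]
  simp only [smul_add, smul_smul]
  abel

lemma exists_lower (a c : {p : ℕ × ℕ // Valid g p}) (r : Var g →₀ ℕ)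
    (hr : ∀ h : Valid g (2, 0), (Finsupp.single (some a) 1 + r : Var g →₀ ℕ) (some ⟨(2, 0), h⟩) = 0)
    (hc : c.1.1 + 2 = a.1.1) (hc2 : c.1.2 = a.1.2) :
    ∃ s : ℚ, 0 < s ∧ ∃ R, NN R ∧ F' g (monomial (Finsupp.single (some a) 1 + r) 1) =
        s • monomial (Finsupp.single (some c) 1 + r) 1 + R := by
  classical
  set d := Finsupp.single (some a) 1 + r with hd
  have hQ : NN (monomial d (1 : ℚ)) := nn_monomial zero_le_one hr
  have ha20 : a.1 ≠ (2, 0) := by
    intro h
    apply c.2.2.2.2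
    have h1 := congrArg Prod.fst h
    have h2 := congrArg Prod.snd h
    dsimp only at h1 h2
    exact Prod.ext (by dsimp only; omega) (by dsimp only; omega)
  have hxc : xv g ((a.1.1 : ℤ) - 2) (a.1.2 : ℤ) = X (some c) := by
    rw [show ((a.1.1 : ℤ) - 2) = (c.1.1 : ℤ) by omega, show (a.1.2 : ℤ) = (c.1.2 : ℤ) by omega, TautRel.xv_valid c.1 c.2]
  have ht : (0 : ℚ) < d (some a) := by simp [d]; positivity
  have hterm : lTerm (monomial d 1) a.1 = (d (some a) : ℚ) • monomial (Finsupp.single (some c) 1 + r) 1 := by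
    rw [lTerm, if_neg ha20, hxc, D, dif_pos a.2, pderiv_monomial]
    rw [show (Finsupp.single (some (⟨a.1, a.2⟩ : {p // Valid g p})) 1 : Var g →₀ ℕ) = Finsupp.single (some a) 1 from rfl,
      hd, add_tsub_cancel_left, one_mul, X, monomial_mul, smul_monomial, smul_eq_mul, one_mul, mul_one]
  refine ⟨_, ht, (1 / 2 : ℚ) • (∑ p ∈ idx g, ∑ q ∈ idx g, mTerm (monomial d 1) p q)
      + ∑ p ∈ (idx g).erase a.1, lTerm (monomial d 1) p,
    nn_add (nn_smul (by norm_num) (nn_sum fun p _ => nn_sum fun q _ => nn_mTerm hQ p q))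
      (nn_sum fun p _ => nn_lTerm hQ p), ?_⟩
  rw [F'_eq, ← Finset.add_sum_erase (idx g) (fun p => lTerm (monomial d 1) p) (TautRel.mem_idx a.2), hterm]
  abel

lemma valid_of (i j : ℕ) (h1 : i ≤ j + 2) (h2 : j + 2 ≤ 2 * g) (h3 : (i + j) % 2 = 0) (h4 : 0 < i + j) : Valid g (i, j) :=
  ⟨h1, h2, Nat.even_iff.mpr h3, fun h => by simp only [Prod.mk.injEq] at h; omega⟩

/-- The iterate on the power of `x 3 1` contains the variable `x 0 (2 i)`. -/
theorem coeff_ne_zero (i : ℕ) (hi : 1 ≤ i) (hig : i + 1 ≤ g) :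
    coeff (Finsupp.single (some ⟨(0, 2 * i), valid_of 0 (2 * i) (by omega) (by omega) (by omega) (by omega)⟩) 1)
      ((F g)^[3 * i] (monomial (Finsupp.single (some ⟨(3, 1), valid_of 3 1 (by omega) (by omega) (by omega) (by omega)⟩) (2 * i)) 1))
      ≠ 0 := by
  classical
  set v : {p : ℕ × ℕ // Valid g p} := ⟨(3, 1), valid_of 3 1 (by omega) (by omega) (by omega) (by omega)⟩ with hv
  set G := (F g)^[3 * i] (monomial (Finsupp.single (some v) (2 * i)) 1) with hG
  let A : ∀ t : ℕ, t + 1 ≤ 2 * i → {p : ℕ × ℕ // Valid g p} := fun t ht =>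
    ⟨(t + 3, t + 1), valid_of (t + 3) (t + 1) (by omega) (by omega) (by omega) (by omega)⟩
  let B : ∀ s : ℕ, s ≤ i + 1 → {p : ℕ × ℕ // Valid g p} := fun s hs =>
    ⟨(2 * (i + 1 - s), 2 * i), valid_of _ _ (by omega) (by omega) (by omega) (by omega)⟩
  have h20 : ∀ (p : {p : ℕ × ℕ // Valid g p}) (h : Valid g (2, 0)), 0 < p.1.2 →
      (some p : Var g) ≠ some ⟨(2, 0), h⟩ := fun p h hp he => by
    rw [congrArg Subtype.val (Option.some.inj he)] at hp
    exact lt_irrefl 0 hp
  have hv2 : 0 < v.1.2 := Nat.one_pos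
  have tw_iter : ∀ n P, tw g ((F g)^[n] P) = (F' g)^[n] (tw g P) := by
    intro n P
    induction n with
    | zero => rfl
    | succ n ih => rw [Function.iterate_succ_apply', tw_F, ih, Function.iterate_succ_apply']
  have tw0 : tw g (monomial (Finsupp.single (some v) (2 * i)) 1) = monomial (Finsupp.single (some v) (2 * i)) 1 := by
    rw [← X_pow_eq_monomial, map_pow, tw_some, Even.neg_pow ⟨i, by ring⟩]
  have hmerge : ∀ t (ht : t + 1 ≤ 2 * i),
      Dom ((F' g)^[t] (monomial (Finsupp.single (some v) (2 * i)) 1))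
        (Finsupp.single (some (A t ht)) 1 + Finsupp.single (some v) (2 * i - (t + 1))) := by
    intro t
    induction t with
    | zero =>
      intro ht
      have e : Finsupp.single (some (A 0 ht)) 1 + Finsupp.single (some v) (2 * i - (0 + 1)) = Finsupp.single (some v) (2 * i) := by
        show Finsupp.single (some v) 1 + _ = _
        rw [← Finsupp.single_add]; congr 1; omega
      rw [e]
      exact ⟨fun h => Finsupp.single_eq_of_ne' (h20 v h hv2), 1, one_pos, 0, nn_zero, by simp⟩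
    | succ t ih =>
      intro ht
      have hh := ih (by omega)
      rw [Function.iterate_succ_apply']
      have e : Finsupp.single (some (A t (by omega))) 1 + Finsupp.single (some v) (2 * i - (t + 1)) =
          Finsupp.single (some (A t (by omega))) 1 + Finsupp.single (some v) 1 + Finsupp.single (some v) (2 * i - (t + 1 + 1)) := by
        rw [add_assoc, ← Finsupp.single_add]; congr 2; omega
      have hne : ∀ h : Valid g (2, 0), (Finsupp.single (some (A (t + 1) ht)) 1 + Finsupp.single (some v) (2 * i - (t + 1 + 1)) : Var g →₀ ℕ) (some ⟨(2, 0), h⟩) = 0 := fun h => by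
        have hA : 0 < (A (t + 1) ht).1.2 := Nat.succ_pos _
        rw [Finsupp.add_apply, Finsupp.single_eq_of_ne' (h20 _ h hA), Finsupp.single_eq_of_ne' (h20 v h hv2), add_zero]
      refine dom_step hh hne ?_
      rw [e]
      refine exists_merge (A t (by omega)) v ⟨Nat.succ_pos _, by show 0 < 3; omega⟩ _ (fun h => ?_) (A (t + 1) ht) rfl rfl
      have hA : 0 < (A t (by omega)).1.2 := Nat.succ_pos _
      simp only [Finsupp.add_apply, Finsupp.single_eq_of_ne' (h20 _ h hA), Finsupp.single_eq_of_ne' (h20 v h hv2), add_zero]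
  have hlow : ∀ s (hs : s ≤ i + 1),
      Dom ((F' g)^[(2 * i - 1) + s] (monomial (Finsupp.single (some v) (2 * i)) 1)) (Finsupp.single (some (B s hs)) 1) := by
    intro s
    induction s with
    | zero =>
      intro hs
      have := hmerge (2 * i - 1) (by omega)
      have e : A (2 * i - 1) (by omega) = B 0 hs := Subtype.ext (Prod.ext (by simp [A, B]; omega) (by simp [A, B]; omega))
      rw [e, show 2 * i - (2 * i - 1 + 1) = 0 by omega, Finsupp.single_zero, add_zero] at this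
      exact this
    | succ s ih =>
      intro hs
      rw [← add_assoc, Function.iterate_succ_apply']
      refine dom_step (ih (by omega)) (fun h => Finsupp.single_eq_of_ne' (h20 _ h (show 0 < 2 * i by omega))) ?_
      have := exists_lower (B s (by omega)) (B (s + 1) hs) 0
        (fun h => by rw [add_zero]; exact Finsupp.single_eq_of_ne' (h20 _ h (show 0 < 2 * i by omega)))
        (by simp [B]; omega) rfl
      simpa using this
  obtain ⟨-, c, hc, R, hR, he⟩ := hlow (i + 1) le_rfl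
  have hB : B (i + 1) le_rfl = ⟨(0, 2 * i), valid_of 0 (2 * i) (by omega) (by omega) (by omega) (by omega)⟩ :=
    Subtype.ext (Prod.ext (by simp [B]) rfl)
  intro h0
  have h1 := coeff_tw _ _ h0
  rw [tw_iter, tw0, show 3 * i = (2 * i - 1) + (i + 1) by omega, he, hB, coeff_add, coeff_smul, coeff_monomial,
    if_pos rfl, smul_eq_mul, mul_one] at h1
  have := (hR (Finsupp.single (some ⟨(0, 2 * i), valid_of 0 (2 * i) (by omega) (by omega) (by omega) (by omega)⟩) 1)).1
  linarith

end Groth.Agent.H68.TautRelPos
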