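import Mathlib.LinearAlgebra.Matrix.PosDef
import Mathlib.LinearAlgebra.Matrix.ToLinearEquiv
import Mathlib.Data.Nat.Choose.Vandermonde
import Mathlib.Data.Nat.Dist
import Mathlib.Tactic

set_option autoImplicit false

open Finset

namespace Groth.Agent.H68.Toeplitz

/-- Signed binomial Toeplitz coefficient of the `p`-th difference operator. -/
def co (p l j : ℕ) : ℤ := if j ≤ l then (-1) ^ (l - j) * (p.choose (l - j) : ℤ) else 0

theorem choose_sum (p q d : ℕ) :
    ∑ a ∈ range (p + 1), p.choose a * q.choose (a + d) = (p + q).choose (p + d) := by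
  rw [Nat.add_choose_eq, Finset.Nat.sum_antidiagonal_eq_sum_range_succ_mk]
  dsimp only
  rw [show (p + d).succ = (p + 1) + d by omega,
    Finset.sum_range_add (fun k => p.choose k * q.choose (p + d - k)) (p + 1) d,
    ← Finset.sum_range_reflect (fun u => p.choose u * q.choose (p + d - u)) (p + 1)]
  have h0 : ∀ u ∈ range d, p.choose (p + 1 + u) * q.choose (p + d - (p + 1 + u)) = 0 := by
    intro u _
    rw [Nat.choose_eq_zero_of_lt (by omega : p < p + 1 + u), zero_mul]
  rw [Finset.sum_eq_zero h0, add_zero]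
  refine Finset.sum_congr rfl fun a ha => ?_
  have ha' : a ≤ p := by have := Finset.mem_range.1 ha; omega
  have e1 : p + 1 - 1 - a = p - a := by omega
  have e2 : p + d - (p - a) = a + d := by omega
  rw [e1, e2, Nat.choose_symm ha']

theorem co_sum_ge (p q M i j : ℕ) (hij : j ≤ i) (hM : i + p + 1 ≤ M) :
    ∑ l ∈ range M, co p l i * co q l j =
      (-1) ^ (i + j) * ((p + q).choose (p + (i - j)) : ℤ) := by
  obtain ⟨r, rfl⟩ := Nat.exists_eq_add_of_le hM
  rw [show i + p + 1 + r = i + ((p + 1) + r) by ring, Finset.sum_range_add, Finset.sum_range_add]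
  have h1 : ∀ l ∈ range i, co p l i * co q l j = 0 := by
    intro l hl
    rw [co, if_neg (by have := Finset.mem_range.1 hl; omega), zero_mul]
  have h2 : ∀ u ∈ range r, co p (i + (p + 1 + u)) i * co q (i + (p + 1 + u)) j = 0 := by
    intro u _
    rw [co, if_pos (Nat.le_add_right _ _),
      Nat.choose_eq_zero_of_lt (by omega : p < i + (p + 1 + u) - i)]
    simp
  rw [Finset.sum_eq_zero h1, Finset.sum_eq_zero h2, zero_add, add_zero, ← choose_sum,
    Nat.cast_sum, Finset.mul_sum]
  refine Finset.sum_congr rfl fun a _ => ?_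
  obtain ⟨d, rfl⟩ := Nat.exists_eq_add_of_le hij
  have e1 : j + d + a - (j + d) = a := by omega
  have e2 : j + d + a - j = a + d := by omega
  have e3 : j + d - j = d := by omega
  rw [co, co, if_pos (by omega), if_pos (by omega), e1, e2, e3, Nat.cast_mul,
    show j + d + j = d + 2 * j by ring]
  simp only [pow_add, pow_mul, neg_one_sq, one_pow, mul_one]
  have : ((-1 : ℤ) ^ a) * (-1) ^ a = 1 := by rw [← mul_pow]; simp
  linear_combination ((p.choose a : ℤ) * (q.choose (a + d) : ℤ) * (-1) ^ d) * this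

theorem co_sum (p q M i j : ℕ) (hM : i + p + 1 ≤ M) (hM' : j + q + 1 ≤ M) :
    ∑ l ∈ range M, co p l i * co q l j =
      (-1) ^ (i + j) * (if j ≤ i then ((p + q).choose (p + (i - j)) : ℤ)
        else ((p + q).choose (q + (j - i)) : ℤ)) := by
  split_ifs with h
  · exact co_sum_ge p q M i j h hM
  · have := co_sum_ge q p M j i (by omega) hM'
    rw [add_comm j i, add_comm q p] at this
    rw [← this]
    exact Finset.sum_congr rfl fun l _ => mul_comm _ _

theorem co_succ_zero (p j : ℕ) : co (p + 1) 0 j = co p 0 j := by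
  simp [co]

theorem co_succ_succ (p l j : ℕ) : co (p + 1) (l + 1) j = co p (l + 1) j - co p l j := by
  rcases lt_trichotomy j (l + 1) with h | h | h
  · have e : l + 1 - j = (l - j) + 1 := by omega
    rw [co, co, co, if_pos h.le, if_pos h.le, if_pos (by omega), e, Nat.choose_succ_succ']
    push_cast
    ring
  · subst h; simp [co]
  · rw [co, co, co, if_neg (by omega), if_neg (by omega), if_neg (by omega), sub_zero]

/-- `p`-th difference of the zero padded vector. -/
def E {R : Type*} [CommRing R] {m : ℕ} (p : ℕ) (x : Fin m → R) (l : ℕ) : R :=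
  ∑ j : Fin m, (co p l j : R) * x j

theorem sum_sum_eq {R : Type*} [CommRing R] {m : ℕ} (p q M : ℕ) (hM : m + p ≤ M) (hM' : m + q ≤ M)
    (x : Fin m → R) :
    ∑ i : Fin m, ∑ j : Fin m, x i * (((-1 : ℤ) ^ ((i : ℕ) + (j : ℕ)) *
      (if (j : ℕ) ≤ (i : ℕ) then ((p + q).choose (p + ((i : ℕ) - (j : ℕ))) : ℤ)
        else ((p + q).choose (q + ((j : ℕ) - (i : ℕ))) : ℤ)) : ℤ) : R) * x j =
    ∑ l ∈ range M, E p x l * E q x l := by
  simp only [E, Finset.sum_mul_sum]
  rw [Finset.sum_comm (s := range M)]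
  refine Finset.sum_congr rfl fun i _ => ?_
  rw [Finset.sum_comm (s := range M)]
  refine Finset.sum_congr rfl fun j _ => ?_
  rw [← co_sum p q M i j (by omega) (by omega), Int.cast_sum, Finset.mul_sum, Finset.sum_mul]
  refine Finset.sum_congr rfl fun l _ => ?_
  push_cast
  ring

theorem E_eq_zero {R : Type*} [CommRing R] {m : ℕ} (p : ℕ) (x : Fin m → R)
    (h : ∀ l < m, E p x l = 0) : x = 0 := by
  have : ∀ k, ∀ i : Fin m, (i : ℕ) = k → x i = 0 := by
    intro k
    induction k using Nat.strong_induction_on with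
    | _ k ih =>
      intro i hi
      have := h i i.isLt
      rw [E, Finset.sum_eq_single i] at this
      · simpa [co] using this
      · intro j _ hj
        rcases lt_or_gt_of_ne (fun h => hj (Fin.ext h) : (j : ℕ) ≠ (i : ℕ)) with h1 | h1
        · rw [ih j (hi ▸ h1) j rfl, mul_zero]
        · rw [co, if_neg (by omega)]; simp
      · simp
  funext i
  exact this i i rfl

theorem E_sq_pos {R : Type*} [CommRing R] [LinearOrder R] [IsStrictOrderedRing R] {m : ℕ}
    (p M : ℕ) (hM : m ≤ M) (x : Fin m → R) (hx : x ≠ 0) :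
    0 < ∑ l ∈ range M, E p x l ^ 2 := by
  refine (Finset.sum_nonneg fun l _ => sq_nonneg _).lt_of_ne' fun h => hx (E_eq_zero p x fun l hl => ?_)
  have := (Finset.sum_eq_zero_iff_of_nonneg fun l _ => sq_nonneg _).1 h l
    (Finset.mem_range.2 (by omega))
  exact sq_eq_zero_iff.1 this

theorem E_succ_sum_pos {R : Type*} [CommRing R] [LinearOrder R] [IsStrictOrderedRing R] {m : ℕ}
    (q M : ℕ) (hM : m ≤ M) (x : Fin m → R) (hx : x ≠ 0) :
    0 < ∑ l ∈ range M, E (q + 1) x l * E q x l := by
  have key : ∀ M, 2 * ∑ l ∈ range (M + 1), E (q + 1) x l * E q x l =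
      ∑ l ∈ range (M + 1), E (q + 1) x l ^ 2 + E q x M ^ 2 := by
    intro M
    induction M with
    | zero =>
      have : E (q + 1) x 0 = E q x 0 := by simp only [E, co_succ_zero]
      simp [this]; ring
    | succ k ih =>
      have e : E (q + 1) x (k + 1) = E q x (k + 1) - E q x k := by
        simp only [E, co_succ_succ, ← Finset.sum_sub_distrib]
        refine Finset.sum_congr rfl fun j _ => ?_
        push_cast; ring
      rw [Finset.sum_range_succ, Finset.sum_range_succ _ (k + 1), mul_add, ih, e]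
      ring
  obtain ⟨k, rfl⟩ : ∃ k, M = k + 1 := by
    refine ⟨M - 1, ?_⟩
    rcases Nat.eq_zero_or_pos m with rfl | h
    · exact absurd (funext fun i => i.elim0) hx
    · omega
  have h1 := E_sq_pos (q + 1) (k + 1) hM x hx
  have h2 := sq_nonneg (E q x k)
  have h3 := key k
  linarith

theorem sym_posDef (n m : ℕ) :
    (Matrix.of fun i j : Fin m =>
        (-1 : ℝ) ^ ((i : ℕ) + (j : ℕ)) * (Nat.choose (2 * n) (n + Nat.dist i j) : ℝ)).PosDef := by
  refine Matrix.PosDef.of_dotProduct_mulVec_pos ?_ fun {x} hx => ?_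
  · refine Matrix.IsHermitian.ext fun i j => ?_
    simp [add_comm (j : ℕ), Nat.dist_comm (j : ℕ)]
  · have h := sum_sum_eq n n (m + n) le_rfl le_rfl x
    have hp := E_sq_pos n (m + n) (by omega) x hx
    refine lt_of_lt_of_eq hp ?_
    simp only [pow_two, ← h, dotProduct, Matrix.mulVec, Matrix.of_apply, star_trivial,
      Finset.mul_sum]
    refine Finset.sum_congr rfl fun i _ => Finset.sum_congr rfl fun j _ => ?_
    split_ifs with hle
    · rw [Nat.dist_eq_sub_of_le_right hle, ← two_mul]; push_cast; ring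
    · rw [Nat.dist_eq_sub_of_le (by omega), ← two_mul]; push_cast; ring

theorem skew_det (n m : ℕ) :
    (Matrix.of fun i j : Fin m =>
        (-1 : ℤ) ^ ((i : ℕ) + (j : ℕ)) *
          (if (j : ℕ) ≤ (i : ℕ) then (Nat.choose (2 * n + 1) (n + 1 + ((i : ℕ) - (j : ℕ))) : ℤ)
            else (Nat.choose (2 * n + 1) (n + ((j : ℕ) - (i : ℕ))) : ℤ))).det ≠ 0 := by
  intro h
  obtain ⟨x, hx, hx0⟩ := Matrix.exists_mulVec_eq_zero_iff.2 h
  have hp := E_succ_sum_pos n (m + (n + 1)) (by omega) x hx
  rw [← sum_sum_eq (n + 1) n (m + (n + 1)) le_rfl (by omega) x] at hp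
  refine hp.ne' ?_
  have : ∀ i : Fin m, ∑ j : Fin m, (Matrix.of fun i j : Fin m =>
        (-1 : ℤ) ^ ((i : ℕ) + (j : ℕ)) *
          (if (j : ℕ) ≤ (i : ℕ) then (Nat.choose (2 * n + 1) (n + 1 + ((i : ℕ) - (j : ℕ))) : ℤ)
            else (Nat.choose (2 * n + 1) (n + ((j : ℕ) - (i : ℕ))) : ℤ))) i j * x j = 0 :=
    fun i => congrFun hx0 i
  refine Finset.sum_eq_zero fun i _ => ?_
  rw [← mul_zero (x i), ← this i, Finset.mul_sum]
  refine Finset.sum_congr rfl fun j _ => ?_
  rw [show n + 1 + n = 2 * n + 1 by ring, Matrix.of_apply, Int.cast_id, mul_assoc]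

end Groth.Agent.H68.Toeplitz
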