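import Mathlib.LinearAlgebra.Matrix.PosDef
import Mathlib.Analysis.Matrix.Hermitian
import Mathlib.Analysis.SpecialFunctions.Integrals.Basic
import Mathlib.Analysis.SpecialFunctions.Complex.Circle
import Mathlib.Algebra.Polynomial.Roots
import Mathlib.Topology.Algebra.Module.Cardinality
import Mathlib.Analysis.Real.Cardinality
import Mathlib.Tactic

set_option autoImplicit false

open Finset MeasureTheory
open scoped ComplexOrder Real

namespace Groth.Agent.H68.ToeplitzSymbol

/-- The character `y ↦ exp (i k y)`. -/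
noncomputable def ch (k : ℤ) (y : ℝ) : ℂ := Complex.exp (Complex.I * (k : ℂ) * (y : ℂ))

theorem ch_add (a b : ℤ) (y : ℝ) : ch (a + b) y = ch a y * ch b y := by
  rw [ch, ch, ch, ← Complex.exp_add]
  congr 1
  push_cast
  ring

theorem ch_conj (a : ℤ) (y : ℝ) : starRingEnd ℂ (ch a y) = ch (-a) y := by
  rw [ch, ch, ← Complex.exp_conj]
  congr 1
  simp

theorem continuous_ch (k : ℤ) : Continuous (ch k) := by unfold ch; fun_prop

theorem integral_sum_ch {ι κ μ' : Type*} (s : Finset ι) [Fintype κ] [Fintype μ'] (c : ι → κ → μ' → ℂ)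
    (e : ι → κ → μ' → ℤ) (a b : ℝ) :
    ∫ y in a..b, ∑ k ∈ s, ∑ i : κ, ∑ j : μ', c k i j * ch (e k i j) y =
      ∑ k ∈ s, ∑ i : κ, ∑ j : μ', c k i j * ∫ y in a..b, ch (e k i j) y := by
  rw [intervalIntegral.integral_finsetSum]
  · refine Finset.sum_congr rfl fun k _ => ?_
    rw [intervalIntegral.integral_finsetSum]
    · refine Finset.sum_congr rfl fun i _ => ?_
      rw [intervalIntegral.integral_finsetSum]
      · simp only [intervalIntegral.integral_const_mul]
      · intro j _
        exact Continuous.intervalIntegrable (continuous_const.mul (continuous_ch _)) _ _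
    · intro i _
      exact Continuous.intervalIntegrable
        (continuous_finsetSum _ fun j _ => continuous_const.mul (continuous_ch _)) _ _
  · intro k _
    exact Continuous.intervalIntegrable (continuous_finsetSum _ fun i _ =>
      continuous_finsetSum _ fun j _ => continuous_const.mul (continuous_ch _)) _ _

theorem integral_ch (k : ℤ) :
    ∫ y in (0 : ℝ)..2 * π, ch k y = if k = 0 then ((2 * π : ℝ) : ℂ) else 0 := by
  split_ifs with h
  · subst h; simp [ch]
  · have hk : Complex.I * (k : ℂ) ≠ 0 :=
      mul_ne_zero Complex.I_ne_zero (Int.cast_ne_zero.2 h)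
    unfold ch
    rw [integral_exp_mul_complex hk]
    have : Complex.exp (Complex.I * (k : ℂ) * ((2 * π : ℝ) : ℂ)) = 1 := by
      rw [← Complex.exp_int_mul_two_pi_mul_I k]
      congr 1; push_cast; ring
    rw [this]; simp

theorem posDef (m : ℕ) (t : ℤ → ℂ) (A : Matrix (Fin m) (Fin m) ℂ)
    (hA : ∀ i j : Fin m, A i j = t ((j : ℤ) - (i : ℤ))) (hH : A.IsHermitian)
    (hpos : Set.Countable {y : ℝ | ¬ 0 < (∑ k ∈ Finset.Ioo (-(m : ℤ)) (m : ℤ),
        t k * Complex.exp (Complex.I * (k : ℂ) * (y : ℂ))).re}) :
    A.PosDef := by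
  refine Matrix.PosDef.of_dotProduct_mulVec_pos hH fun {x} hx => ?_
  set f : ℝ → ℂ := fun y => ∑ k ∈ Finset.Ioo (-(m : ℤ)) (m : ℤ), t k * ch k y with hf
  set P : ℝ → ℂ := fun y => ∑ j : Fin m, x j * ch (-(j : ℤ)) y with hP
  have hfc : Continuous f := continuous_finsetSum _ fun k _ => continuous_const.mul (continuous_ch k)
  have hPc : Continuous P := continuous_finsetSum _ fun j _ => continuous_const.mul (continuous_ch _)
  set g : ℝ → ℝ := fun y => (f y).re * Complex.normSq (P y) with hg
  have hgc : Continuous g :=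
    (Complex.continuous_re.comp hfc).mul (Complex.continuous_normSq.comp hPc)
  have hint : ∀ k, IntervalIntegrable (ch k) volume 0 (2 * π) := fun k =>
    (continuous_ch k).intervalIntegrable _ _
  have key : ∫ y in (0 : ℝ)..2 * π, f y * (starRingEnd ℂ (P y) * P y) =
      ((2 * π : ℝ) : ℂ) * dotProduct (star x) (A.mulVec x) := by
    have e : ∀ y, f y * (starRingEnd ℂ (P y) * P y) = ∑ k ∈ Finset.Ioo (-(m : ℤ)) (m : ℤ),
        ∑ i : Fin m, ∑ j : Fin m,
          (t k * (starRingEnd ℂ (x i) * x j)) * ch (k + (i : ℤ) - (j : ℤ)) y := by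
      intro y
      simp only [hf, hP, map_sum, map_mul, ch_conj, neg_neg, Finset.sum_mul, Finset.mul_sum]
      rw [Finset.sum_comm]
      conv_lhs => arg 2; ext i; rw [Finset.sum_comm]
      rw [Finset.sum_comm]
      refine Finset.sum_congr rfl fun k _ => ?_
      refine Finset.sum_congr rfl fun i _ => Finset.sum_congr rfl fun j _ => ?_
      rw [sub_eq_add_neg, ch_add, ch_add]
      ring
    simp only [e]
    rw [integral_sum_ch, Finset.sum_comm]
    simp only [dotProduct, Matrix.mulVec, Finset.mul_sum]
    refine Finset.sum_congr rfl fun i _ => ?_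
    rw [Finset.sum_comm]
    refine Finset.sum_congr rfl fun j _ => ?_
    simp only [integral_ch]
    rw [Finset.sum_eq_single ((j : ℤ) - (i : ℤ))]
    · rw [if_pos (by ring), hA i j]
      simp only [Pi.star_apply, RCLike.star_def]
      ring
    · intro k _ hk
      rw [if_neg (fun h => hk (by omega)), mul_zero]
    · intro h
      exfalso; apply h
      have hi := i.isLt; have hj := j.isLt
      rw [Finset.mem_Ioo]; omega
  have hre : ∫ y in (0 : ℝ)..2 * π, g y = 2 * π * (dotProduct (star x) (A.mulVec x)).re := by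
    have h1 : ∫ y in (0 : ℝ)..2 * π, g y =
        Complex.reCLM (∫ y in (0 : ℝ)..2 * π, f y * (starRingEnd ℂ (P y) * P y)) := by
      have hI : IntervalIntegrable (fun y => f y * (starRingEnd ℂ (P y) * P y)) volume 0 (2 * π) :=
        Continuous.intervalIntegrable (hfc.mul ((Complex.continuous_conj.comp hPc).mul hPc)) _ _
      rw [← Complex.reCLM.intervalIntegral_comp_comm hI]
      refine intervalIntegral.integral_congr fun y _ => ?_
      rw [hg, ← Complex.normSq_eq_conj_mul_self]
      simp [Complex.mul_re]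
    rw [h1, key]
    simp [Complex.mul_re]
  have hdense : Dense {y : ℝ | 0 < (f y).re} := by
    have := (hpos.dense_compl ℝ)
    refine this.mono fun y hy => ?_
    simpa [hf, ch] using hy
  have hfnn : ∀ y, 0 ≤ (f y).re := by
    have hcl : IsClosed {y : ℝ | 0 ≤ (f y).re} :=
      isClosed_le continuous_const (Complex.continuous_re.comp hfc)
    intro y
    exact hcl.closure_subset_iff.2 (fun z hz => (le_of_lt hz : 0 ≤ (f z).re)) (hdense y)
  have hfin : {y : ℝ | y ∈ Set.Ioo 0 (2 * π) ∧ P y = 0}.Finite := by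
    set q : Polynomial ℂ := ∑ j : Fin m, Polynomial.C (x j) * Polynomial.X ^ (j : ℕ) with hq
    have hq0 : q ≠ 0 := by
      intro h
      refine hx (funext fun i => ?_)
      have := congrArg (fun r => Polynomial.coeff r (i : ℕ)) h
      simp only [hq, Polynomial.finsetSum_coeff, Polynomial.coeff_C_mul_X_pow, Polynomial.coeff_zero] at this
      rw [Finset.sum_eq_single i (fun j _ hj => by rw [if_neg]; exact fun h => hj (Fin.ext h.symm))
        (by simp)] at this
      simpa using this
    have hev : ∀ y, P y = q.eval (ch (-1) y) := by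
      intro y
      simp only [hP, hq, Polynomial.eval_finsetSum, Polynomial.eval_mul, Polynomial.eval_C,
        Polynomial.eval_pow, Polynomial.eval_X, ch]
      refine Finset.sum_congr rfl fun j _ => ?_
      rw [← Complex.exp_nat_mul]
      congr 2
      push_cast
      ring
    refine Set.Finite.of_finite_image (f := ch (-1)) ?_ ?_
    · refine Set.Finite.subset q.roots.toFinset.finite_toSet ?_
      rintro _ ⟨y, ⟨_, hy⟩, rfl⟩
      rw [hev] at hy
      simpa [Polynomial.mem_roots hq0] using hy
    · intro a ha b hb hab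
      obtain ⟨n, hn⟩ := Complex.exp_eq_exp_iff_exists_int.1 hab
      have him := congrArg Complex.im hn
      simp at him
      have h1 := ha.1.1; have h2 := ha.1.2; have h3 := hb.1.1; have h4 := hb.1.2
      have hn1 : -1 < (n : ℝ) := by nlinarith [Real.pi_pos]
      have hn2 : (n : ℝ) < 1 := by nlinarith [Real.pi_pos]
      have hn1' : -1 < n := by exact_mod_cast hn1
      have hn2' : n < 1 := by exact_mod_cast hn2
      have : n = 0 := by omega
      subst this
      simp at him
      linarith
  obtain ⟨y₀, hy₀, hne⟩ : ∃ y ∈ Set.Ioo (0 : ℝ) (2 * π), 0 < (f y).re ∧ P y ≠ 0 := by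
    by_contra hcon
    simp only [not_exists, not_and, not_not] at hcon
    have hsub : Set.Ioo (0 : ℝ) (2 * π) ⊆
        {y : ℝ | ¬ 0 < (f y).re} ∪ {y : ℝ | y ∈ Set.Ioo 0 (2 * π) ∧ P y = 0} := by
      intro y hy
      by_cases h : 0 < (f y).re
      · exact Or.inr ⟨hy, hcon y hy h⟩
      · exact Or.inl h
    have hc : (Set.Ioo (0 : ℝ) (2 * π)).Countable := by
      refine Set.Countable.mono hsub (Set.Countable.union ?_ hfin.countable)
      simpa [hf, ch] using hpos
    exact (Cardinal.Real.Ioo_countable_iff.1 hc).not_gt (by positivity)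
  have hgpos : 0 < ∫ y in (0 : ℝ)..2 * π, g y :=
    intervalIntegral.integral_pos (by positivity) hgc.continuousOn
      (fun y _ => mul_nonneg (hfnn y) (Complex.normSq_nonneg _))
      ⟨y₀, Set.Ioo_subset_Icc_self hy₀, mul_pos hne.1 (Complex.normSq_pos.2 hne.2)⟩
  rw [hre] at hgpos
  refine Complex.lt_def.2 ⟨?_, ?_⟩
  · exact pos_of_mul_pos_right hgpos (by positivity)
  · exact (hH.im_star_dotProduct_mulVec_self x).symm

end Groth.Agent.H68.ToeplitzSymbol
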