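import Groth.Agent.Lib.DMod.PolyRegular
import Mathlib

/-!
# Uniform vanishing of `Tor` maps above the number of generators

For an ideal `I` generated by `t` elements of a Noetherian ring, a finite projective resolution of
length `t` of `R` over `R[T₁, …, T_t]`, truncated modulo powers of `(T)`, is a pro-resolution of
`R/Iⁿ` with a linear shift.
-/

universe u

open CategoryTheory CategoryTheory.Limits MvPolynomial RingTheory.Sequence

namespace Groth.Agent.H68.TorUniformPD

section Lift

variable {R : Type u} [CommRing R] {P : ℕ → Type u} [∀ i, AddCommGroup (P i)] [∀ i, Module R (P i)]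
  [∀ i, Module.Projective R (P i)] (dP : ∀ i, P (i + 1) →ₗ[R] P i) {A : Type u} [AddCommGroup A]
  [Module R A] (εP : P 0 →ₗ[R] A) (hdd : ∀ i x, dP i (dP (i + 1) x) = 0)
  (hεd : ∀ x, εP (dP 0 x) = 0)
  {Q : ℕ → ℕ → Type u} [∀ k i, AddCommGroup (Q k i)] [∀ k i, Module R (Q k i)]
  (dQ : ∀ k i, Q k (i + 1) →ₗ[R] Q k i) (τ : ∀ k i, Q k i →ₗ[R] Q (k + 1) i)
  {B : ℕ → Type u} [∀ k, AddCommGroup (B k)] [∀ k, Module R (B k)]
  (εQ : ∀ k, Q k 0 →ₗ[R] B k) (β : ∀ k, B k →ₗ[R] B (k + 1)) (α : ∀ k, A →ₗ[R] B k)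

include hdd hεd in
/-- Lifting into a system of complexes in which cycles become boundaries one step later. -/
theorem exists_lift (hτd : ∀ k i x, τ k i (dQ k i x) = dQ (k + 1) i (τ k (i + 1) x))
    (hτε : ∀ k x, εQ (k + 1) (τ k 0 x) = β k (εQ k x))
    (hα : ∀ k x, β k (α k x) = α (k + 1) x) (hsurj : Function.Surjective (εQ 0))
    (hzero : ∀ k y, εQ k y = 0 → τ k 0 y ∈ LinearMap.range (dQ (k + 1) 0))
    (hcyc : ∀ k i y, dQ k i y = 0 → τ k (i + 1) y ∈ LinearMap.range (dQ (k + 1) (i + 1))) (k : ℕ) :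
    ∃ f : ∀ i, P i →ₗ[R] Q k i, (∀ x, εQ k (f 0 x) = α k (εP x)) ∧
      ∀ i < k, ∀ x, dQ k i (f (i + 1) x) = f i (dP i x) := by
  induction k with
  | zero =>
    obtain ⟨f₀, hf₀⟩ := Module.projective_lifting_property (εQ 0) (α 0 ∘ₗ εP) hsurj
    refine ⟨Function.update (fun i => 0) 0 f₀, fun x => ?_, fun i hi => absurd hi (Nat.not_lt_zero i)⟩
    rw [Function.update_self]
    exact LinearMap.congr_fun hf₀ x
  | succ k ih =>
    obtain ⟨f, hf0, hf⟩ := ih
    have hmem : ∀ x, τ k k (f k (dP k x)) ∈ LinearMap.range (dQ (k + 1) k) := by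
      intro x
      cases k with
      | zero => exact hzero 0 _ (by rw [hf0, hεd, map_zero])
      | succ j => exact hcyc (j + 1) j _ (by rw [hf j (Nat.lt_succ_self j), hdd, map_zero])
    let ψ : P (k + 1) →ₗ[R] LinearMap.range (dQ (k + 1) k) :=
      (τ k k ∘ₗ f k ∘ₗ dP k).codRestrict _ hmem
    obtain ⟨g, hg⟩ := Module.projective_lifting_property (dQ (k + 1) k).rangeRestrict ψ
      (LinearMap.surjective_rangeRestrict _)
    refine ⟨Function.update (fun i => τ k i ∘ₗ f i) (k + 1) g, fun x => ?_, fun i hi x => ?_⟩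
    · rw [Function.update_of_ne (Nat.succ_ne_zero k).symm, LinearMap.comp_apply, hτε, hf0, hα]
    · rcases Nat.lt_succ_iff_lt_or_eq.1 hi with hlt | rfl
      · rw [Function.update_of_ne (by omega), Function.update_of_ne (by omega),
          LinearMap.comp_apply, LinearMap.comp_apply, ← hτd, hf i hlt]
      · rw [Function.update_self, Function.update_of_ne (by omega)]
        exact congrArg Subtype.val (LinearMap.congr_fun hg x)

end Lift

section Res

variable {S : Type u} [CommRing S]

/-- A finite projective resolution of length at most `j`. -/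
structure Res (K : ModuleCat.{u} S) (j : ℕ) where
  /-- The terms. -/
  L : ℕ → ModuleCat.{u} S
  finite : ∀ i, Module.Finite S (L i)
  proj : ∀ i, Module.Projective S (L i)
  vanish : ∀ i, j < i → Subsingleton (L i)
  /-- The differentials. -/
  d : ∀ i, L (i + 1) →ₗ[S] L i
  /-- The augmentation. -/
  ε : L 0 →ₗ[S] K
  surj : Function.Surjective ε
  ker_ε : LinearMap.ker ε = LinearMap.range (d 0)
  ker_d : ∀ i, LinearMap.ker (d i) = LinearMap.range (d (i + 1))

/-- Projective modules. -/
noncomputable def resZero (K : ModuleCat.{u} S) [Module.Finite S K] [Module.Projective S K] :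
    Res K 0 where
  L := fun i => match i with
    | 0 => K
    | _ + 1 => ModuleCat.of S PUnit.{u + 1}
  finite := fun i => match i with
    | 0 => inferInstanceAs (Module.Finite S K)
    | _ + 1 => inferInstanceAs (Module.Finite S PUnit.{u + 1})
  proj := fun i => match i with
    | 0 => inferInstanceAs (Module.Projective S K)
    | _ + 1 => inferInstanceAs (Module.Projective S PUnit.{u + 1})
  vanish := fun i hi => match i, hi with
    | _ + 1, _ => inferInstanceAs (Subsingleton PUnit.{u + 1})
  d := fun i => 0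
  ε := LinearMap.id
  surj := Function.surjective_id
  ker_ε := by rw [LinearMap.ker_id, LinearMap.range_zero]
  ker_d := fun i => by
    rw [LinearMap.ker_zero, LinearMap.range_zero]
    haveI : Subsingleton (ModuleCat.of S PUnit.{u + 1}) := inferInstanceAs (Subsingleton PUnit.{u + 1})
    exact Subsingleton.elim _ _

/-- Prepending a finite free cover. -/
noncomputable def resCons {K : ModuleCat.{u} S} {b j : ℕ} (f : (Fin b → S) →ₗ[S] K)
    (hf : Function.Surjective f) (Q : Res (ModuleCat.of S (LinearMap.ker f)) j) : Res K (j + 1) where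
  L := fun i => match i with
    | 0 => ModuleCat.of S (Fin b → S)
    | i + 1 => Q.L i
  finite := fun i => match i with
    | 0 => inferInstanceAs (Module.Finite S (Fin b → S))
    | i + 1 => Q.finite i
  proj := fun i => match i with
    | 0 => inferInstanceAs (Module.Projective S (Fin b → S))
    | i + 1 => Q.proj i
  vanish := fun i hi => match i, hi with
    | i + 1, hi => Q.vanish i (Nat.succ_lt_succ_iff.1 hi)
  d := fun i => match i with
    | 0 => (LinearMap.ker f).subtype ∘ₗ Q.ε
    | i + 1 => Q.d i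
  ε := f
  surj := hf
  ker_ε := by
    show LinearMap.ker f = LinearMap.range ((LinearMap.ker f).subtype ∘ₗ Q.ε)
    rw [LinearMap.range_comp, LinearMap.range_eq_top.2 Q.surj, Submodule.map_top,
      Submodule.range_subtype]
  ker_d := fun i => match i with
    | 0 => by
      show LinearMap.ker ((LinearMap.ker f).subtype ∘ₗ Q.ε) = LinearMap.range (Q.d 0)
      rw [LinearMap.ker_comp, Submodule.ker_subtype, Submodule.comap_bot, Q.ker_ε]
    | i + 1 => Q.ker_d i

theorem nonempty_res [IsNoetherianRing S] (j : ℕ) : ∀ (K : ModuleCat.{u} S) [Module.Finite S K],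
    HasProjectiveDimensionLT K (j + 1) → Nonempty (Res K j) := by
  induction j with
  | zero =>
    intro K _ hK
    haveI : Module.Projective S K := (IsProjective.iff_projective (R := S) _).2
      (projective_iff_hasProjectiveDimensionLT_one.2 hK)
    exact ⟨resZero K⟩
  | succ j ih =>
    intro K _ hK
    obtain ⟨b, f, hf⟩ := Module.Finite.exists_fin' S K
    have hS : f.shortComplexKer.ShortExact := LinearMap.shortExact_shortComplexKer hf
    have hproj : Projective f.shortComplexKer.X₂ :=
      (IsProjective.iff_projective (R := S) _).1 (inferInstanceAs (Module.Projective S (Fin b → S)))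
    obtain ⟨Q⟩ := ih (ModuleCat.of S (LinearMap.ker f))
      ((hS.hasProjectiveDimensionLT_X₃_iff j hproj).1 hK)
    exact ⟨resCons f hf Q⟩

/-- The quotient by a weakly regular sequence has projective dimension at most its length. -/
theorem pdLT_of_isWeaklyRegular (rs : List S) : ∀ (M : ModuleCat.{u} S) (j : ℕ),
    HasProjectiveDimensionLT M (j + 1) → IsWeaklyRegular M rs →
      HasProjectiveDimensionLT
        (ModuleCat.of S (M ⧸ Ideal.ofList rs • (⊤ : Submodule S M))) (rs.length + j + 1) := by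
  induction rs with
  | nil =>
    intro M j hM _
    let e : ModuleCat.of S (M ⧸ Ideal.ofList ([] : List S) • (⊤ : Submodule S M)) ≅ M :=
      (Submodule.quotEquivOfEqBot _ (by simp)).toModuleIso
    have := hM
    simpa using hasProjectiveDimensionLT_of_iso e.symm (j + 1)
  | cons x rs ih =>
    intro M j hM hreg
    rw [isWeaklyRegular_cons_iff] at hreg
    haveI := hM
    have hQ : HasProjectiveDimensionLT (ModuleCat.of S (QuotSMulTop x M)) (j + 2) :=
      (hreg.1.smulShortComplex_shortExact).hasProjectiveDimensionLT_X₃ (j + 1) hM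
        (hasProjectiveDimensionLT_of_ge M (j + 1) (j + 2) (by omega))
    haveI := ih (ModuleCat.of S (QuotSMulTop x M)) (j + 1) hQ hreg.2
    have := hasProjectiveDimensionLT_of_iso
      (Submodule.quotOfListConsSMulTopEquivQuotSMulTopInner M x rs).toModuleIso.symm
      (rs.length + (j + 1) + 1)
    rw [List.length_cons]
    rwa [show rs.length + 1 + j + 1 = rs.length + (j + 1) + 1 by omega]

end Res

section Main

variable {R : Type u} [CommRing R] {t : ℕ}

/-- Truncation of polynomials below total degree `m`. -/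
noncomputable def trunc (m : ℕ) : MvPolynomial (Fin t) R →ₗ[R] MvPolynomial (Fin t) R :=
  (MvPowerSeries.truncTotal m) ∘ₗ (MvPolynomial.coeToMvPowerSeries.algHom R).toLinearMap

theorem coeff_trunc (m : ℕ) (p : MvPolynomial (Fin t) R) (x : Fin t →₀ ℕ) :
    (trunc m p).coeff x = if x.degree < m then p.coeff x else 0 := by
  simp [trunc, MvPowerSeries.coeff_truncTotal_eq_ite, MvPolynomial.coeToMvPowerSeries.algHom_apply]

theorem trunc_eq_zero {m : ℕ} {p : MvPolynomial (Fin t) R}
    (hp : p ∈ idealOfVars (Fin t) R ^ m) : trunc m p = 0 := by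
  refine MvPolynomial.ext _ _ fun x => ?_
  rw [coeff_trunc, MvPolynomial.coeff_zero]
  split_ifs with h
  · exact (mem_pow_idealOfVars_iff' m p).1 hp x h
  · rfl

theorem sub_trunc_mem (m : ℕ) (p : MvPolynomial (Fin t) R) :
    p - trunc m p ∈ idealOfVars (Fin t) R ^ m := by
  refine (mem_pow_idealOfVars_iff' m _).2 fun x hx => ?_
  rw [MvPolynomial.coeff_sub, coeff_trunc, if_pos hx, sub_self]

variable {L : Type u} [AddCommGroup L] [Module (MvPolynomial (Fin t) R) L] [Module R L]
  [IsScalarTower R (MvPolynomial (Fin t) R) L] [Module.Finite (MvPolynomial (Fin t) R) L]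
  [Module.Projective (MvPolynomial (Fin t) R) L]

/-- A finite projective module modulo a power of the variables is projective over the base. -/
theorem projective_quot (m : ℕ) :
    Module.Projective R
      (L ⧸ (idealOfVars (Fin t) R ^ m • ⊤ : Submodule (MvPolynomial (Fin t) R) L)) := by
  set N : Submodule (MvPolynomial (Fin t) R) L := idealOfVars (Fin t) R ^ m • ⊤ with hN
  obtain ⟨b, f, hf⟩ := Module.Finite.exists_fin' (MvPolynomial (Fin t) R) L
  obtain ⟨s, hs⟩ := Module.projective_lifting_property f LinearMap.id hf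
  haveI : Module.Projective R L :=
    Module.Projective.of_split (s.restrictScalars R) (f.restrictScalars R)
      (LinearMap.ext fun x => LinearMap.congr_fun hs x)
  let S : L →ₗ[R] L := f.restrictScalars R ∘ₗ
    (LinearMap.pi fun i => trunc m ∘ₗ LinearMap.proj i) ∘ₗ s.restrictScalars R
  have hS0 : ∀ x ∈ N, S x = 0 := by
    intro x hx
    have hsx : ∀ i, s x i ∈ idealOfVars (Fin t) R ^ m := by
      intro i
      have h : (LinearMap.proj i ∘ₗ s) x ∈ Submodule.map (LinearMap.proj i ∘ₗ s) N := ⟨x, hx, rfl⟩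
      rw [hN, Submodule.map_smul''] at h
      exact Submodule.smul_le.2 (fun r hr n _ => Ideal.mul_mem_right n _ hr) h
    show f (fun i => trunc m (s x i)) = 0
    rw [show (fun i => trunc m (s x i)) = 0 from funext fun i => trunc_eq_zero (hsx i), map_zero]
  have hS : ∀ x, x - S x ∈ N := by
    intro x
    have h1 : x - S x = f (s x - fun i => trunc m (s x i)) := by
      rw [map_sub, show f (s x) = x from LinearMap.congr_fun hs x]
      rfl
    rw [h1, pi_eq_sum_univ (s x - fun i => trunc m (s x i)), map_sum]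
    refine sum_mem fun i _ => ?_
    rw [map_smul]
    exact Submodule.smul_mem_smul (by simpa using sub_trunc_mem m (s x i)) Submodule.mem_top
  refine Module.Projective.of_split (M := L)
    ((N.restrictScalars R).liftQ S (fun x hx => hS0 x hx) ∘ₗ
      (Submodule.Quotient.restrictScalarsEquiv R N).symm.toLinearMap)
    (N.mkQ.restrictScalars R) (LinearMap.ext fun z => ?_)
  obtain ⟨x, rfl⟩ := N.mkQ_surjective z
  show Submodule.Quotient.mk (S x) = Submodule.Quotient.mk x
  exact ((Submodule.Quotient.eq N).2 (hS x)).symm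

omit [Module R L] [IsScalarTower R (MvPolynomial (Fin t) R) L]
  [Module.Finite (MvPolynomial (Fin t) R) L] [Module.Projective (MvPolynomial (Fin t) R) L] in
/-- Artin–Rees: an element with boundary deep in the filtration is deep up to a cycle. -/
theorem exists_artinRees [IsNoetherianRing R] {L' : Type u} [AddCommGroup L']
    [Module (MvPolynomial (Fin t) R) L'] [Module.Finite (MvPolynomial (Fin t) R) L]
    (d : L' →ₗ[MvPolynomial (Fin t) R] L) :
    ∃ k, ∀ c, k ≤ c → ∀ (m : ℕ) (y : L'), d y ∈ (idealOfVars (Fin t) R ^ m • ⊤ : Submodule (MvPolynomial (Fin t) R) L) →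
      ∃ w, d w = 0 ∧ y - w ∈ (idealOfVars (Fin t) R ^ (m - c) • ⊤ : Submodule (MvPolynomial (Fin t) R) L') := by
  obtain ⟨k, hk⟩ := Ideal.exists_pow_inf_eq_pow_smul (idealOfVars (Fin t) R) (LinearMap.range d)
  refine ⟨k, fun c hc m y hy => ?_⟩
  rcases lt_or_ge m k with hlt | hge
  · refine ⟨0, map_zero d, ?_⟩
    rw [show m - c = 0 by omega, pow_zero, Ideal.one_eq_top, Submodule.top_smul]
    exact Submodule.mem_top
  · have h1 : d y ∈ idealOfVars (Fin t) R ^ (m - k) • LinearMap.range d := by
      have h : d y ∈ idealOfVars (Fin t) R ^ m • ⊤ ⊓ LinearMap.range d :=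
        ⟨hy, LinearMap.mem_range_self d y⟩
      rw [hk m hge] at h
      exact Submodule.smul_mono le_rfl inf_le_right h
    rw [← Submodule.map_top d, ← Submodule.map_smul''] at h1
    obtain ⟨v, hv, hdv⟩ := h1
    refine ⟨y - v, by rw [map_sub, hdv, sub_self], ?_⟩
    rw [sub_sub_cancel]
    exact Submodule.smul_mono (Ideal.pow_le_pow_right (by omega)) le_rfl hv

end Main

variable {R : Type u} [CommRing R]

/-- A module chain map over the quotient map killing degree `t + 1`. -/
theorem exists_chainMap [IsNoetherianRing R] {t : ℕ} (x : Fin t → R) (I : Ideal R)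
    (hI : I = Ideal.span (Set.range x)) :
    ∃ c : ℕ, ∀ n : ℕ, ∀ (P : ProjectiveResolution (ModuleCat.of R (R ⧸ I ^ n)))
      (P' : ProjectiveResolution (ModuleCat.of R (R ⧸ I ^ (n - c)))),
      ∃ φ : P.complex ⟶ P'.complex,
        φ ≫ P'.π = P.π ≫ (ChainComplex.single₀ (ModuleCat.{u} R)).map
          (ModuleCat.ofHom (Submodule.mapQ (I ^ n) (I ^ (n - c)) LinearMap.id
            (Ideal.pow_le_pow_right (Nat.sub_le n c)))) ∧
        φ.f (t + 1) = 0 := by
  classical
  set S := MvPolynomial (Fin t) R with hSdef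
  let J : Ideal S := idealOfVars (Fin t) R
  let ev : S →ₐ[R] R := aeval x
  have hev : Function.Surjective ev := fun r => ⟨C r, MvPolynomial.aeval_C x r⟩
  have hker : RingHom.ker ev = Ideal.ofList (Groth.Agent.Lib.DMod.PolyRegular.shifts x) := by
    rw [← Groth.Agent.Lib.DMod.PolyRegular.ker_eval]
    ext p
    show aeval x p = 0 ↔ MvPolynomial.eval x p = 0
    rw [← MvPolynomial.coe_aeval_eq_eval]
    rfl
  have hmapJ : ∀ m, Ideal.map ev (J ^ m) = I ^ m := fun m => by
    rw [Ideal.map_pow, hI]
    congr 1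
    simp only [J, MvPolynomial.idealOfVars, Ideal.map_span, ← Set.range_comp]
    exact congrArg Ideal.span (congrArg Set.range (funext fun i => MvPolynomial.aeval_X x i))
  -- the resolution of `R` over `S`
  have hpd : HasProjectiveDimensionLT (ModuleCat.of S
      (S ⧸ Ideal.ofList (Groth.Agent.Lib.DMod.PolyRegular.shifts x) • (⊤ : Submodule S S))) (t + 1) := by
    haveI : Projective (ModuleCat.of S S) :=
      (IsProjective.iff_projective (R := S) _).1 (inferInstanceAs (Module.Projective S S))
    have h := pdLT_of_isWeaklyRegular (Groth.Agent.Lib.DMod.PolyRegular.shifts x) (ModuleCat.of S S) 0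
      (projective_iff_hasProjectiveDimensionLT_one.1 inferInstance)
      (Groth.Agent.Lib.DMod.PolyRegular.isWeaklyRegular_shifts x)
    rwa [List.length_ofFn, add_zero] at h
  obtain ⟨res⟩ := nonempty_res t _ hpd
  haveI := res.finite
  haveI := res.proj
  letI : ∀ i, Module R (res.L i) := fun i => Module.compHom _ (algebraMap R S)
  haveI : ∀ i, IsScalarTower R S (res.L i) := fun i => IsScalarTower.of_algebraMap_smul fun r y => rfl
  -- the augmentation to `R`
  have hle : (Ideal.ofList (Groth.Agent.Lib.DMod.PolyRegular.shifts x) • ⊤ : Submodule S S) ≤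
      Submodule.comap (LinearMap.id : S →ₗ[S] S) (RingHom.ker ev : Ideal S) := by
    rw [Submodule.comap_id, hker, smul_eq_mul, Ideal.mul_top]
  let e₁ := Submodule.mapQ _ _ LinearMap.id hle
  let e₂ : (S ⧸ RingHom.ker ev) →ₐ[R] R := Ideal.Quotient.liftₐ _ ev fun a ha => ha
  let ε₀ : res.L 0 →ₗ[R] R := e₂.toLinearMap ∘ₗ (e₁ ∘ₗ res.ε).restrictScalars R
  have hε₀surj : ∀ r, ∃ y, ε₀ y = r := fun r => by
    obtain ⟨y, hy⟩ := res.surj (Submodule.Quotient.mk (C r))
    refine ⟨y, ?_⟩
    show e₂ (e₁ (res.ε y)) = r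
    rw [hy]
    exact MvPolynomial.aeval_C x r
  have hε₀smul : ∀ (p : S) (y : res.L 0), ε₀ (p • y) = ev p * ε₀ y := fun p y => by
    show e₂ (e₁ (res.ε (p • y))) = ev p * e₂ (e₁ (res.ε y))
    rw [map_smul, map_smul]
    obtain ⟨q, hq⟩ := Submodule.Quotient.mk_surjective _ (e₁ (res.ε y))
    rw [← hq, ← Submodule.Quotient.mk_smul]
    exact map_mul ev p q
  have hε₀mem : ∀ m, ∀ y ∈ (J ^ m • ⊤ : Submodule S (res.L 0)), ε₀ y ∈ I ^ m := by
    intro m y hy
    refine Submodule.smul_induction_on hy (fun p hp z _ => ?_) (fun a b ha hb => ?_)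
    · rw [hε₀smul, ← hmapJ]
      exact Ideal.mul_mem_right _ _ (Ideal.mem_map_of_mem _ hp)
    · rw [map_add]; exact add_mem ha hb
  have hε₀ker : ∀ y, ε₀ y = 0 ↔ y ∈ LinearMap.range (res.d 0) := by
    intro y
    rw [← res.ker_ε, LinearMap.mem_ker]
    obtain ⟨q, hq⟩ := Submodule.Quotient.mk_surjective _ (res.ε y)
    have : ε₀ y = ev q := by
      show e₂ (e₁ (res.ε y)) = ev q
      rw [← hq]; rfl
    rw [this, ← hq, Submodule.Quotient.mk_eq_zero, smul_eq_mul, Ideal.mul_top, ← hker,
      RingHom.mem_ker]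
  -- the shift
  choose k hk using fun i => exists_artinRees (R := R) (t := t) (res.d i)
  let c₀ := (Finset.range (t + 1)).sup k
  refine ⟨(t + 1) * c₀, fun n P P' => ?_⟩
  let m : ℕ → ℕ := fun j => n - j * c₀
  have hm : ∀ j, m (j + 1) = m j - c₀ := fun j => by simp only [m, Nat.add_mul, one_mul]; omega
  have hm' : ∀ j, m (j + 1) ≤ m j := fun j => by rw [hm]; exact Nat.sub_le _ _
  let N : ∀ _ i : ℕ, Submodule S (res.L i) := fun j i => J ^ (m j) • ⊤
  let dC : ∀ j i : ℕ, (res.L (i + 1) ⧸ N j (i + 1)) →ₗ[R] res.L i ⧸ N j i := fun j i =>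
    (Submodule.mapQ (N j (i + 1)) (N j i) (res.d i) (by
      rw [← Submodule.map_le_iff_le_comap]
      show Submodule.map (res.d i) (J ^ (m j) • ⊤) ≤ J ^ (m j) • ⊤
      rw [Submodule.map_smul'']
      exact Submodule.smul_mono le_rfl le_top)).restrictScalars R
  let τ : ∀ j i : ℕ, (res.L i ⧸ N j i) →ₗ[R] res.L i ⧸ N (j + 1) i := fun j i =>
    (Submodule.mapQ (N j i) (N (j + 1) i) LinearMap.id (by
      rw [Submodule.comap_id]
      exact Submodule.smul_mono (Ideal.pow_le_pow_right (hm' j)) le_rfl)).restrictScalars R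
  let εC : ∀ j, (res.L 0 ⧸ N j 0) →ₗ[R] R ⧸ I ^ (m j) := fun j =>
    ((N j 0).restrictScalars R).liftQ ((I ^ (m j)).mkQ ∘ₗ ε₀) (fun y hy => by
      rw [LinearMap.mem_ker, LinearMap.comp_apply, Submodule.mkQ_apply, Submodule.Quotient.mk_eq_zero]
      exact hε₀mem (m j) y hy) ∘ₗ (Submodule.Quotient.restrictScalarsEquiv R (N j 0)).symm.toLinearMap
  have hεC : ∀ j y, εC j (Submodule.Quotient.mk y) = Submodule.Quotient.mk (ε₀ y) := fun j y => rfl
  have hεCsurj : ∀ j, Function.Surjective (εC j) := fun j z => by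
    obtain ⟨r, rfl⟩ := Submodule.Quotient.mk_surjective _ z
    obtain ⟨y, rfl⟩ := hε₀surj r
    exact ⟨_, hεC j y⟩
  have hεCd : ∀ j z, εC j (dC j 0 z) = 0 := fun j z => by
    obtain ⟨y, rfl⟩ := Submodule.Quotient.mk_surjective _ z
    show εC j (Submodule.Quotient.mk (res.d 0 y)) = 0
    rw [hεC, (hε₀ker _).2 ⟨y, rfl⟩, Submodule.Quotient.mk_zero]
  have hdCdC : ∀ j i z, dC j i (dC j (i + 1) z) = 0 := fun j i z => by
    obtain ⟨y, rfl⟩ := Submodule.Quotient.mk_surjective _ z
    show Submodule.Quotient.mk (res.d i (res.d (i + 1) y)) = 0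
    rw [show res.d i (res.d (i + 1) y) = 0 from
      LinearMap.mem_ker.1 ((res.ker_d i).symm ▸ LinearMap.mem_range_self _ y),
      Submodule.Quotient.mk_zero]
  have hCzero : ∀ j y, εC j y = 0 → τ j 0 y ∈ LinearMap.range (dC (j + 1) 0) := by
    intro j z hz
    obtain ⟨y, rfl⟩ := Submodule.Quotient.mk_surjective _ z
    rw [hεC, Submodule.Quotient.mk_eq_zero, ← hmapJ,
      Ideal.mem_map_iff_of_surjective _ hev] at hz
    obtain ⟨p, hp, hpy⟩ := hz
    obtain ⟨y₀, hy₀⟩ := hε₀surj 1
    obtain ⟨v, hv⟩ := (hε₀ker (y - p • y₀)).1 (by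
      rw [map_sub, hε₀smul, hy₀, mul_one, hpy, sub_self])
    refine ⟨Submodule.Quotient.mk v, ?_⟩
    show Submodule.Quotient.mk (res.d 0 v) = Submodule.Quotient.mk y
    rw [Submodule.Quotient.eq, hv, sub_sub_cancel_left]
    exact neg_mem (Submodule.smul_mem_smul (Ideal.pow_le_pow_right (hm' j) hp) Submodule.mem_top)
  have hCcyc : ∀ j i y, dC j i y = 0 → τ j (i + 1) y ∈ LinearMap.range (dC (j + 1) (i + 1)) := by
    intro j i z hz
    obtain ⟨y, rfl⟩ := Submodule.Quotient.mk_surjective _ z
    change Submodule.Quotient.mk (res.d i y) = 0 at hz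
    rw [Submodule.Quotient.mk_eq_zero] at hz
    rcases Nat.lt_or_ge t (i + 1) with hlt | hge
    · haveI := res.vanish (i + 1) hlt
      rw [Subsingleton.elim y 0]
      exact ⟨0, (map_zero _).trans (map_zero _).symm⟩
    · obtain ⟨w, hw0, hw⟩ := hk i c₀ (Finset.le_sup (Finset.mem_range.2 (by omega))) (m j) y hz
      have hw' : w ∈ LinearMap.range (res.d (i + 1)) := by rw [← res.ker_d i]; exact hw0
      obtain ⟨v, rfl⟩ := hw'
      refine ⟨Submodule.Quotient.mk v, ?_⟩
      show Submodule.Quotient.mk (res.d (i + 1) v) = Submodule.Quotient.mk y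
      rw [Submodule.Quotient.eq]
      show _ ∈ J ^ (m (j + 1)) • (⊤ : Submodule S (res.L (i + 1)))
      rw [hm, ← neg_sub]
      exact neg_mem hw
  -- lift the resolution of `R ⧸ I ^ n` into the truncations
  have hP : ∀ i, Module.Projective R (P.complex.X i) := fun i =>
    (IsProjective.iff_projective (R := R) _).2 (P.projective i)
  haveI := hP
  let αC : ∀ j, (R ⧸ I ^ n) →ₗ[R] R ⧸ I ^ (m j) := fun j =>
    Submodule.mapQ _ _ LinearMap.id (Ideal.pow_le_pow_right (Nat.sub_le _ _))
  obtain ⟨f, hf0, hf⟩ := exists_lift (P := fun i => (P.complex.X i : Type u))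
    (fun i => (P.complex.d (i + 1) i).hom) (A := R ⧸ I ^ n) (P.π.f 0).hom
    (fun i z => congrArg (fun h => h.hom z) (P.complex.d_comp_d (i + 2) (i + 1) i))
    (fun z => congrArg (fun h => h.hom z) P.complex_d_comp_π_f_zero)
    (Q := fun j i => res.L i ⧸ N j i) dC τ (B := fun j => R ⧸ I ^ (m j)) εC
    (fun j => Submodule.mapQ _ _ LinearMap.id (Ideal.pow_le_pow_right (hm' j))) αC
    (fun j i z => by obtain ⟨y, rfl⟩ := Submodule.Quotient.mk_surjective _ z; rfl)
    (fun j z => by obtain ⟨y, rfl⟩ := Submodule.Quotient.mk_surjective _ z; rfl)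
    (fun j z => by obtain ⟨y, rfl⟩ := Submodule.Quotient.mk_surjective _ z; rfl)
    (hεCsurj 0) hCzero hCcyc (t + 1)
  -- lift the last truncation into the resolution of the target
  haveI : ∀ i, Module.Projective R (res.L i ⧸ N (t + 1) i) := fun i => projective_quot _
  let ρ : (R ⧸ I ^ (m (t + 1))) →ₗ[R] (R ⧸ I ^ (n - (t + 1) * c₀)) := LinearMap.id
  obtain ⟨g, hg0, hg⟩ := exists_lift (P := fun i => res.L i ⧸ N (t + 1) i)
    (dC (t + 1)) (εC (t + 1)) (hdCdC (t + 1)) (hεCd (t + 1))
    (Q := fun _ i => (P'.complex.X i : Type u)) (fun _ i => (P'.complex.d (i + 1) i).hom)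
    (fun _ _ => LinearMap.id) (B := fun _ => R ⧸ I ^ (n - (t + 1) * c₀))
    (fun _ => (P'.π.f 0).hom) (fun _ => LinearMap.id) (fun _ => ρ)
    (fun _ _ _ => rfl) (fun _ _ => rfl) (fun _ _ => rfl)
    ((ModuleCat.epi_iff_surjective _).1 inferInstance)
    (fun _ y hy => by
      have hex := (ShortComplex.moduleCat_exact_iff_range_eq_ker _).1
        (ShortComplex.exact_of_g_is_cokernel
          (ShortComplex.mk _ _ P'.complex_d_comp_π_f_zero) P'.isColimitCokernelCofork)
      exact hex.ge (LinearMap.mem_ker.2 hy))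
    (fun _ i y hy => by
      have hex := (ShortComplex.moduleCat_exact_iff_range_eq_ker _).1
        ((HomologicalComplex.exactAt_iff' _ (i + 2) (i + 1) i (by simp) (by simp)).1
          (P'.complex_exactAt_succ i))
      exact hex.ge (LinearMap.mem_ker.2 hy))
    (t + 1)
  have hfzero : f (t + 1) = 0 := by
    haveI := res.vanish (t + 1) (Nat.lt_succ_self t)
    haveI : Subsingleton (res.L (t + 1) ⧸ N (t + 1) (t + 1)) :=
      Function.Surjective.subsingleton (N (t + 1) (t + 1)).mkQ_surjective
    exact LinearMap.ext fun z => Subsingleton.elim _ _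
  let φ₀ : ∀ i, P.complex.X i ⟶ P'.complex.X i := fun i =>
    if i ≤ t then ModuleCat.ofHom (g i ∘ₗ f i) else 0
  let φ : P.complex ⟶ P'.complex :=
    { f := φ₀
      comm' := fun i j hij => by
        obtain rfl : j + 1 = i := hij
        ext z
        show (P'.complex.d (j + 1) j).hom ((φ₀ (j + 1)).hom z) =
          (φ₀ j).hom ((P.complex.d (j + 1) j).hom z)
        rcases lt_trichotomy j t with hlt | rfl | hgt
        · simp only [φ₀, if_pos (show j ≤ t by omega), if_pos (show j + 1 ≤ t by omega)]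
          show (P'.complex.d (j + 1) j).hom (g (j + 1) (f (j + 1) z)) = g j (f j _)
          rw [hg j (by omega), hf j (by omega)]
        · simp only [φ₀, le_refl, if_true, if_neg (show ¬ j + 1 ≤ j by omega)]
          show (P'.complex.d (j + 1) j).hom 0 = g j (f j _)
          rw [map_zero, ← hf j (Nat.lt_succ_self j), hfzero, LinearMap.zero_apply, map_zero, map_zero]
        · simp only [φ₀, if_neg (show ¬ j ≤ t by omega), if_neg (show ¬ j + 1 ≤ t by omega)]
          exact map_zero _ }
  refine ⟨φ, ?_, ?_⟩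
  · refine HomologicalComplex.to_single_hom_ext ?_
    ext z
    show (P'.π.f 0).hom ((φ₀ 0).hom z) = _
    simp only [φ₀, Nat.zero_le, if_true]
    show (P'.π.f 0).hom (g 0 (f 0 z)) = _
    refine (hg0 (f 0 z)).trans ((congrArg ρ (hf0 z)).trans ?_)
    rw [HomologicalComplex.comp_f, ChainComplex.single₀_map_f_zero]
    rfl
  · show φ₀ (t + 1) = 0
    simp only [φ₀, if_neg (show ¬ t + 1 ≤ t by omega)]

/-- Uniform vanishing of `Tor` maps in degree one above the number of generators. -/
theorem exists_tor_map_eq_zero [IsNoetherianRing R] {t : ℕ} (x : Fin t → R) (I : Ideal R)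
    (hI : I = Ideal.span (Set.range x)) :
    ∃ c : ℕ, ∀ (M : ModuleCat.{u} R) (n : ℕ),
      (((CategoryTheory.Tor (ModuleCat.{u} R) (t + 1)).obj M).map
        (ModuleCat.ofHom (Submodule.mapQ (I ^ n) (I ^ (n - c)) LinearMap.id
          (Ideal.pow_le_pow_right (Nat.sub_le n c))))) = 0 := by
  obtain ⟨c, hc⟩ := exists_chainMap x I hI
  refine ⟨c, fun M n => ?_⟩
  let P := projectiveResolution (ModuleCat.of R (R ⧸ I ^ n))
  let P' := projectiveResolution (ModuleCat.of R (R ⧸ I ^ (n - c)))
  obtain ⟨φ, hw, hz⟩ := hc n P P'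
  have h0 : HomologicalComplex.homologyMap
      ((((MonoidalCategory.tensoringLeft (ModuleCat.{u} R)).obj M).mapHomologicalComplex
        (ComplexShape.down ℕ)).map φ) (t + 1) = 0 := by
    have hf : ((((MonoidalCategory.tensoringLeft (ModuleCat.{u} R)).obj M).mapHomologicalComplex
        (ComplexShape.down ℕ)).map φ).f (t + 1) = 0 := by
      rw [Functor.mapHomologicalComplex_map_f, hz]
      exact Functor.map_zero _ _ _
    rw [← cancel_epi (HomologicalComplex.homologyπ _ (t + 1)),
      HomologicalComplex.homologyπ_naturality, comp_zero]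
    have : HomologicalComplex.cyclesMap
        ((((MonoidalCategory.tensoringLeft (ModuleCat.{u} R)).obj M).mapHomologicalComplex
          (ComplexShape.down ℕ)).map φ) (t + 1) = 0 := by
      rw [← cancel_mono (HomologicalComplex.iCycles _ (t + 1)), HomologicalComplex.cyclesMap_i, hf,
        comp_zero, zero_comp]
    rw [this, zero_comp]
  show (((MonoidalCategory.tensoringLeft (ModuleCat.{u} R)).obj M).leftDerived (t + 1)).map _ = 0
  rw [Functor.leftDerived_map_eq _ _ _ φ hw, Functor.comp_map, HomologicalComplex.homologyFunctor_map]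
  erw [h0]
  exact (congrArg (fun z => _ ≫ z) zero_comp).trans comp_zero

end Groth.Agent.H68.TorUniformPD
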