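import Mathlib.NumberTheory.Padics.RingHoms
import Mathlib.Algebra.Module.Torsion.Basic
import Mathlib.LinearAlgebra.Dimension.Localization
import Mathlib.LinearAlgebra.Dimension.Free
import Mathlib.LinearAlgebra.FreeModule.PID
import Mathlib.LinearAlgebra.Quotient.Basic
import Mathlib.GroupTheory.Index
import Mathlib.RingTheory.Noetherian.Basic
import Mathlib.Tactic

/-!
# Torsion of coinvariants of an element of order `ℓ`
-/

set_option autoImplicit false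

universe u

namespace Groth.Agent.H68.TwistTorsion

variable {ℓ : ℕ} [Fact ℓ.Prime] {M : Type u} [AddCommGroup M] [Module ℤ_[ℓ] M]

theorem smul_inj [Module.Free ℤ_[ℓ] M] {n : ℕ} (hn : n ≠ 0) {x y : M}
    (h : (n : ℤ_[ℓ]) • x = (n : ℤ_[ℓ]) • y) : x = y :=
  smul_right_injective M (Nat.cast_ne_zero.2 hn : (n : ℤ_[ℓ]) ≠ 0) h

theorem end_smul_inj [Module.Free ℤ_[ℓ] M] {n : ℕ} (hn : n ≠ 0) {x y : Module.End ℤ_[ℓ] M}
    (h : (n : ℤ_[ℓ]) • x = (n : ℤ_[ℓ]) • y) : x = y :=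
  LinearMap.ext fun m => smul_inj hn (LinearMap.congr_fun h m)

theorem index_pow {R N : Type*} [CommRing R] [AddCommGroup N] [Module R N] (φ : Module.End R N)
    (hφ : Function.Injective φ) (k : ℕ) :
    (LinearMap.range (φ ^ k)).toAddSubgroup.index = (LinearMap.range φ).toAddSubgroup.index ^ k := by
  induction k with
  | zero =>
    rw [pow_zero, pow_zero, Module.End.one_eq_id, LinearMap.range_id]
    exact AddSubgroup.index_top
  | succ k ih =>
    have : (LinearMap.range (φ ^ (k + 1))).toAddSubgroup =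
        AddSubgroup.map φ.toAddMonoidHom (LinearMap.range (φ ^ k)).toAddSubgroup := by
      rw [pow_succ', Module.End.mul_eq_comp, LinearMap.range_comp]
      rfl
    rw [this, AddSubgroup.index_map_of_injective _ hφ, ih, pow_succ]
    rfl

theorem index_smul {N : Type u} [AddCommGroup N] [Module ℤ_[ℓ] N] [Module.Free ℤ_[ℓ] N]
    [Module.Finite ℤ_[ℓ] N] :
    (LinearMap.range ((ℓ : ℤ_[ℓ]) • (LinearMap.id : N →ₗ[ℤ_[ℓ]] N))).toAddSubgroup.index =
      ℓ ^ Module.finrank ℤ_[ℓ] N := by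
  classical
  let b := Module.finBasis ℤ_[ℓ] N
  let q : N →+ (Fin (Module.finrank ℤ_[ℓ] N) → ZMod ℓ) :=
    { toFun := fun x j => PadicInt.toZMod (b.equivFun x j)
      map_zero' := by funext j; simp
      map_add' := fun x y => by funext j; simp }
  have hq : Function.Surjective q := fun y =>
    ⟨b.equivFun.symm fun j => ((y j).val : ℤ_[ℓ]), funext fun j => by
      show PadicInt.toZMod (b.equivFun (b.equivFun.symm _) j) = y j
      rw [LinearEquiv.apply_symm_apply, map_natCast, ZMod.natCast_zmod_val]⟩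
  have hker : q.ker = (LinearMap.range ((ℓ : ℤ_[ℓ]) • (LinearMap.id : N →ₗ[ℤ_[ℓ]] N))).toAddSubgroup := by
    ext x
    constructor
    · intro hx
      have h : ∀ j, ∃ c, b.equivFun x j = (ℓ : ℤ_[ℓ]) * c := fun j => by
        have hj : PadicInt.toZMod (b.equivFun x j) = 0 := congrFun hx j
        rw [← RingHom.mem_ker, PadicInt.ker_toZMod, PadicInt.maximalIdeal_eq_span_p,
          Ideal.mem_span_singleton] at hj
        exact hj
      choose c hc using h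
      refine ⟨b.equivFun.symm c, b.equivFun.injective (funext fun j => ?_)⟩
      rw [LinearMap.smul_apply, LinearMap.id_apply, map_smul, LinearEquiv.apply_symm_apply, hc j]
      rfl
    · rintro ⟨y, rfl⟩
      funext j
      show PadicInt.toZMod (b.equivFun ((ℓ : ℤ_[ℓ]) • y) j) = 0
      rw [map_smul, Pi.smul_apply, smul_eq_mul, map_mul, map_natCast, ZMod.natCast_self, zero_mul]
  rw [← hker, AddSubgroup.index_ker, AddMonoidHom.range_eq_top.2 hq,
    AddSubgroup.card_top, Nat.card_fun, Nat.card_zmod, Nat.card_fin]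

theorem core [Module.Free ℤ_[ℓ] M] [Module.Finite ℤ_[ℓ] M] (f E : Module.End ℤ_[ℓ] M)
    (U : M ≃ₗ[ℤ_[ℓ]] M) (hEf : ∀ x, E (f x) = f x) (hfE : ∀ x, f (E x) = f x)
    (hker : ∀ x, f x = 0 → E x = 0) (hUf : ∀ x, U (f x) = f (U x)) (hUE : ∀ x, U (E x) = E (U x))
    (hpow : ∀ x, (f ^ (ℓ - 1)) (E x) = (ℓ : ℤ_[ℓ]) • U (E x))
    (c : ℕ) (hc : c = Module.finrank ℤ_[ℓ] M - Module.finrank ℤ_[ℓ] (LinearMap.ker f)) :
    (∀ x ∈ Submodule.torsion ℤ_[ℓ] (M ⧸ LinearMap.range f), (ℓ : ℤ_[ℓ]) • x = 0) ∧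
      ∃ r : ℕ, r * (ℓ - 1) = c ∧
        Nat.card (Submodule.torsion ℤ_[ℓ] (M ⧸ LinearMap.range f)) = ℓ ^ r := by
  have hℓ : ℓ.Prime := Fact.out
  have hl1 : ℓ - 1 ≠ 0 := by have := hℓ.two_le; omega
  have hEE : ∀ x, E (E x) = E x := fun x => by
    have := hker (E x - x) (by rw [map_sub, hfE, sub_self])
    rwa [map_sub, sub_eq_zero] at this
  set N := LinearMap.range E with hN
  have hmem : ∀ x ∈ N, E x = x := by rintro _ ⟨y, rfl⟩; exact hEE y
  haveI : Module.Finite ℤ_[ℓ] N := Module.Finite.iff_fg.2 (IsNoetherian.noetherian N)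
  -- the rank of `N`
  have hcN : Module.finrank ℤ_[ℓ] N = c := by
    have h1 := Submodule.finrank_quotient_add_finrank (LinearMap.ker E)
    rw [E.quotKerEquivRange.finrank_eq] at h1
    have h2 : LinearMap.ker E = LinearMap.ker f := by
      ext x
      exact ⟨fun h => by rw [LinearMap.mem_ker] at h ⊢; rw [← hfE, h, map_zero], hker x⟩
    rw [h2] at h1
    rw [hc, ← h1, hN]
    omega
  have hfN : ∀ x ∈ N, f x ∈ N := fun x _ => ⟨f x, hEf x⟩
  let φ : N →ₗ[ℤ_[ℓ]] N := f.restrict hfN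
  have hφ : Function.Injective φ := by
    refine (injective_iff_map_eq_zero φ).2 fun x hx => Subtype.ext ?_
    rw [← hmem x x.2]
    exact hker _ (congrArg Subtype.val hx)
  -- torsion is the image of `N`
  set q := (LinearMap.range f).mkQ
  have htors : Submodule.torsion ℤ_[ℓ] (M ⧸ LinearMap.range f) = N.map q := by
    refine le_antisymm ?_ ?_
    · intro z hz
      obtain ⟨m, rfl⟩ := Submodule.Quotient.mk_surjective _ z
      obtain ⟨a, ha⟩ := (Submodule.mem_torsion_iff _).1 hz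
      refine ⟨E m, ⟨m, rfl⟩, ?_⟩
      obtain ⟨y, hy⟩ := (Submodule.Quotient.mk_eq_zero _).1
        (show Submodule.Quotient.mk ((a : ℤ_[ℓ]) • m) = (0 : M ⧸ LinearMap.range f) from ha)
      have : (a : ℤ_[ℓ]) • (E m - m) = 0 := by
        rw [smul_sub, ← map_smul, ← hy, hEf, sub_self]
      rw [sub_eq_zero.1 ((smul_eq_zero.1 this).resolve_left (nonZeroDivisors.ne_zero a.2))]
      rfl
    · rintro _ ⟨_, ⟨x, rfl⟩, rfl⟩
      refine (Submodule.mem_torsion_iff _).2 ⟨⟨(ℓ : ℤ_[ℓ]), mem_nonZeroDivisors_of_ne_zero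
        (Nat.cast_ne_zero.2 hℓ.ne_zero)⟩, ?_⟩
      show Submodule.Quotient.mk ((ℓ : ℤ_[ℓ]) • E x) = 0
      refine (Submodule.Quotient.mk_eq_zero _).2 ?_
      refine ⟨(f ^ (ℓ - 2)) (E (U.symm x)), ?_⟩
      rw [← Module.End.mul_apply, ← pow_succ', show ℓ - 2 + 1 = ℓ - 1 by have := hℓ.two_le; omega,
        hpow, hUE, LinearEquiv.apply_symm_apply]
  refine ⟨fun z hz => ?_, ?_⟩
  · rw [htors] at hz
    obtain ⟨_, ⟨x, rfl⟩, rfl⟩ := hz
    show Submodule.Quotient.mk ((ℓ : ℤ_[ℓ]) • E x) = 0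
    refine (Submodule.Quotient.mk_eq_zero _).2 ⟨(f ^ (ℓ - 2)) (E (U.symm x)), ?_⟩
    rw [← Module.End.mul_apply, ← pow_succ', show ℓ - 2 + 1 = ℓ - 1 by have := hℓ.two_le; omega,
      hpow, hUE, LinearEquiv.apply_symm_apply]
  -- count
  set i := (LinearMap.range φ).toAddSubgroup.index with hi
  have hcard : Nat.card (Submodule.torsion ℤ_[ℓ] (M ⧸ LinearMap.range f)) = i := by
    let ψ : N →+ (M ⧸ LinearMap.range f) := (q ∘ₗ N.subtype).toAddMonoidHom
    have hψ : ψ.ker = (LinearMap.range φ).toAddSubgroup := by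
      ext x
      constructor
      · intro hx
        obtain ⟨y, hy⟩ := (Submodule.Quotient.mk_eq_zero _).1 (show Submodule.Quotient.mk (x : M) = 0 from hx)
        exact ⟨⟨E y, ⟨y, rfl⟩⟩, Subtype.ext (by
          show f (E y) = _
          rw [hfE, hy])⟩
      · rintro ⟨y, rfl⟩
        exact (Submodule.Quotient.mk_eq_zero _).2 ⟨y, rfl⟩
    rw [hi, ← hψ, AddSubgroup.index_ker, htors]
    refine Nat.card_congr (Equiv.subtypeEquivRight fun z => ?_)
    constructor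
    · rintro ⟨x, hx, rfl⟩; exact ⟨⟨x, hx⟩, rfl⟩
    · rintro ⟨x, rfl⟩; exact ⟨x, x.2, rfl⟩
  have hpow' : ∀ k, ∀ x : N, (((φ ^ k) x : N) : M) = (f ^ k) x := by
    intro k
    induction k with
    | zero => intro x; simp
    | succ k ih => intro x; rw [pow_succ', pow_succ', Module.End.mul_apply, Module.End.mul_apply, ← ih]; rfl
  have hrange : (LinearMap.range (φ ^ (ℓ - 1))).toAddSubgroup =
      (LinearMap.range ((ℓ : ℤ_[ℓ]) • (LinearMap.id : N →ₗ[ℤ_[ℓ]] N))).toAddSubgroup := by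
    ext z
    constructor
    · rintro ⟨x, rfl⟩
      refine ⟨⟨U (E x), ⟨U x, (hUE _).symm⟩⟩, Subtype.ext ?_⟩
      rw [hpow']
      show (ℓ : ℤ_[ℓ]) • U (E x) = _
      rw [← hpow, hmem _ x.2]
    · rintro ⟨y, rfl⟩
      obtain ⟨w, hw⟩ := y.2
      refine ⟨⟨E (U.symm w), ⟨U.symm w, rfl⟩⟩, Subtype.ext ?_⟩
      rw [hpow']
      show (f ^ (ℓ - 1)) (E (U.symm w)) = (ℓ : ℤ_[ℓ]) • (y : M)
      rw [hpow, hUE, LinearEquiv.apply_symm_apply, hw]
  have hkey : i ^ (ℓ - 1) = ℓ ^ c := by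
    have := index_pow φ hφ (ℓ - 1)
    rw [hrange, index_smul, hcN] at this
    exact this.symm
  obtain ⟨r, -, hr⟩ := (Nat.dvd_prime_pow hℓ).1 (hkey ▸ dvd_pow_self i hl1)
  refine ⟨r, ?_, hcard.trans hr⟩
  rw [hr, ← pow_mul] at hkey
  exact Nat.pow_right_injective hℓ.two_le hkey

theorem main (M : Type u) [AddCommGroup M] [Module ℤ_[ℓ] M] [Module.Free ℤ_[ℓ] M]
    [Module.Finite ℤ_[ℓ] M]
    (A : M ≃ₗ[ℤ_[ℓ]] M) (hA : A ^ ℓ = 1) (f : Module.End ℤ_[ℓ] M) (hf : f = (A : M →ₗ[ℤ_[ℓ]] M) - 1)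
    (hcase : (ℓ = 2 ∧ ∃ B : Module.End ℤ_[ℓ] M, f = (2 : ℤ_[ℓ]) • B) ∨
      (ℓ = 2 ∧ ∃ B : Module.End ℤ_[ℓ] M, f ^ 2 = (4 : ℤ_[ℓ]) • B) ∨
      (ℓ = 3 ∧ ∃ B : Module.End ℤ_[ℓ] M, f ^ 2 = (3 : ℤ_[ℓ]) • B))
    (c : ℕ) (hc : c = Module.finrank ℤ_[ℓ] M - Module.finrank ℤ_[ℓ] (LinearMap.ker f)) :
    (∀ x ∈ Submodule.torsion ℤ_[ℓ] (M ⧸ LinearMap.range f), (ℓ : ℤ_[ℓ]) • x = 0) ∧
      ∃ r : ℕ, r * (ℓ - 1) = c ∧
        Nat.card (Submodule.torsion ℤ_[ℓ] (M ⧸ LinearMap.range f)) = ℓ ^ r := by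
  have hAe : ((A : M →ₗ[ℤ_[ℓ]] M) : Module.End ℤ_[ℓ] M) = f + 1 := by rw [hf, sub_add_cancel]
  have hA1 : (f + 1) ^ ℓ = 1 := by
    rw [← hAe]
    have : ∀ k : ℕ, ((A : M →ₗ[ℤ_[ℓ]] M) : Module.End ℤ_[ℓ] M) ^ k = ((A ^ k : M ≃ₗ[ℤ_[ℓ]] M) : M →ₗ[ℤ_[ℓ]] M) := by
      intro k
      induction k with
      | zero => rfl
      | succ k ih => rw [pow_succ, ih, pow_succ]; rfl
    rw [this, hA]
    rfl
  have hnum : ∀ n : ℕ, ((n : ℤ_[ℓ]) • (1 : Module.End ℤ_[ℓ] M)) = (n : Module.End ℤ_[ℓ] M) := fun n => by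
    rw [Nat.cast_smul_eq_nsmul, nsmul_one]
  have two : ℓ = 2 → (∃ B : Module.End ℤ_[ℓ] M, f ^ 2 = (4 : ℤ_[ℓ]) • B) →
      (∀ x ∈ Submodule.torsion ℤ_[ℓ] (M ⧸ LinearMap.range f), (ℓ : ℤ_[ℓ]) • x = 0) ∧
        ∃ r : ℕ, r * (ℓ - 1) = c ∧
          Nat.card (Submodule.torsion ℤ_[ℓ] (M ⧸ LinearMap.range f)) = ℓ ^ r := by
    rintro rfl ⟨B, hB⟩
    rw [pow_two] at hB
    have h2 : f * f = -((2 : ℤ_[2]) • f) := by
      rw [← add_eq_zero_iff_eq_neg, ← sub_eq_zero.2 hA1, two_smul]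
      simp only [pow_two, mul_add, add_mul, mul_one, one_mul]
      abel
    have hf2 : f = -((2 : ℤ_[2]) • B) := end_smul_inj (n := 2) (by norm_num) (by
      rw [Nat.cast_ofNat, smul_neg, smul_smul, show (2 : ℤ_[2]) * 2 = 4 by norm_num, ← hB, h2,
        neg_neg])
    have hBB : B * B = B := end_smul_inj (n := 4) (by norm_num) (by
      rw [Nat.cast_ofNat]
      conv_rhs => rw [← hB, hf2]
      rw [neg_mul_neg, smul_mul_smul_comm, show (2 : ℤ_[2]) * 2 = 4 by norm_num])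
    refine core f B (LinearEquiv.neg ℤ_[2]) (fun x => ?_) (fun x => ?_) (fun x hx => ?_)
      (fun x => ?_) (fun x => ?_) (fun x => ?_) c hc
    · have : B * f = f := by rw [hf2, mul_neg, mul_smul_comm, hBB]
      exact LinearMap.congr_fun this x
    · have : f * B = f := by rw [hf2, neg_mul, smul_mul_assoc, hBB]
      exact LinearMap.congr_fun this x
    · refine smul_inj (ℓ := 2) (n := 2) (by norm_num) ?_
      rw [Nat.cast_ofNat, smul_zero, ← neg_eq_zero, ← hx]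
      conv_rhs => rw [hf2]
      simp
    · simp
    · simp
    · show (f ^ 1) (B x) = ((2 : ℕ) : ℤ_[2]) • -(B x)
      rw [pow_one, hf2, Nat.cast_ofNat, smul_neg]
      simp only [LinearMap.neg_apply, LinearMap.smul_apply, ← Module.End.mul_apply, hBB]
  rcases hcase with ⟨rfl, B, hB⟩ | ⟨h, hB⟩ | ⟨rfl, B, hB⟩
  · refine two rfl ⟨B * B, ?_⟩
    rw [hB, pow_two, smul_mul_smul_comm, show (2 : ℤ_[2]) * 2 = 4 by norm_num]
  · exact two h hB
  · have h3 : f * f * f + (3 : ℤ_[3]) • (f * f) + (3 : ℤ_[3]) • f = 0 := by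
      rw [← sub_eq_zero.2 hA1]
      simp only [pow_succ, pow_zero, one_mul, mul_add, add_mul, mul_one]
      rw [show (3 : ℤ_[3]) = 1 + 1 + 1 by norm_num]
      simp only [add_smul, one_smul]
      abel
    rw [pow_two] at hB
    have hBf : B * f = f * B := end_smul_inj (n := 3) (by norm_num) (by
      rw [Nat.cast_ofNat, ← smul_mul_assoc, ← mul_smul_comm, ← hB, mul_assoc])
    have hfB : f * B + f * f + f = 0 := end_smul_inj (n := 3) (by norm_num) (by
      rw [Nat.cast_ofNat, smul_zero, smul_add, smul_add, ← mul_smul_comm (3 : ℤ_[3]) f B, ← hB,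
        ← mul_assoc, h3])
    have hfE : f * (-(B + f)) = f := by
      rw [mul_neg, mul_add]
      exact add_eq_zero_iff_neg_eq.1 hfB
    have hEf : (-(B + f)) * f = f := by
      rw [neg_mul, add_mul, hBf]
      exact add_eq_zero_iff_neg_eq.1 hfB
    refine core f (-(B + f)) (A.trans (LinearEquiv.neg ℤ_[3])) (fun x => LinearMap.congr_fun hEf x)
      (fun x => LinearMap.congr_fun hfE x) (fun x hx => ?_) (fun x => ?_) (fun x => ?_) (fun x => ?_) c hc
    · have hBx : B x = 0 := smul_inj (ℓ := 3) (n := 3) (by norm_num) (by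
        rw [Nat.cast_ofNat, smul_zero]
        exact (LinearMap.congr_fun hB x).symm.trans (by rw [Module.End.mul_apply, hx, map_zero]))
      simp [hBx, hx]
    · show -(((A : M →ₗ[ℤ_[3]] M) : Module.End ℤ_[3] M) (f x)) = f (-(((A : M →ₗ[ℤ_[3]] M) : Module.End ℤ_[3] M) x))
      rw [hAe, map_neg]; simp
    · show -(((A : M →ₗ[ℤ_[3]] M) : Module.End ℤ_[3] M) _) = (-(B + f)) (-(((A : M →ₗ[ℤ_[3]] M) : Module.End ℤ_[3] M) x))
      rw [hAe, map_neg, ← Module.End.mul_apply, ← Module.End.mul_apply]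
      congr 2
      rw [add_mul, hfE, one_mul, mul_add, hEf, mul_one]
    · show (f ^ 2) _ = ((3 : ℕ) : ℤ_[3]) • -(((A : M →ₗ[ℤ_[3]] M) : Module.End ℤ_[3] M) _)
      rw [hAe, Nat.cast_ofNat, pow_two, ← Module.End.mul_apply, ← Module.End.mul_apply, mul_assoc, hfE,
        add_mul, hfE, one_mul, ← LinearMap.neg_apply, ← LinearMap.smul_apply, hB,
        show -(f + -(B + f)) = B by abel]

end Groth.Agent.H68.TwistTorsion
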