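import Groth.Agent.H1.Classical.Torus.ParabolicNorm
import Groth.Agent.H1.Classical.Torus.ImageTorus
import Groth.Agent.H66.Kolchin

/-!
# The normaliser of the unipotent part of a Borel subgroup is the Borel subgroup, on points
-/

universe u v w w'

namespace Groth.Agent.H68.UnipNormalizer

set_option linter.style.haveILetI false
set_option linter.unusedSectionVars false

open Module MvPolynomial Groth.Agent.H1.Classical
open Groth.Agent.H1.Classical.Kolchin Groth.Agent.H1.Classical.Open Groth.Agent.H1.Classical.Complete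
open Groth.Agent.H1.Classical.Torus Groth.Agent.H1.Classical.Torus.Centraliser Groth.Agent.H1.Classical.Elim

set_option maxHeartbeats 800000
set_option synthInstance.maxHeartbeats 80000

variable {k : Type u} [Field k] [IsAlgClosed k] {Γ : Type v} [Group Γ] {D : Alg k Γ}

/-- A complete subgroup is complete in a closed subgroup containing it. -/
theorem complete_restrict {B P : Subgroup Γ} (hP : D.IsCl P) (hBP : B ≤ P) (hB : Complete D B) :
    Complete (D.restrict P hP) (B.subgroupOf P) := by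
  intro ι _ C hC hinv
  let C' : Set (Γ × (ι → k)) := {q | ∃ h : q.1 ∈ P, ((⟨q.1, h⟩ : P), q.2) ∈ C}
  let π : D.R →+* (D.restrict P hP).R :=
    { toFun := fun f => ⟨Alg.res P (f : Γ → k), f, f.2, rfl⟩
      map_one' := rfl
      map_mul' := fun _ _ => rfl
      map_zero' := rfl
      map_add' := fun _ _ => rfl }
  have hπ : Function.Surjective π := by
    rintro ⟨_, f, hf, rfl⟩
    exact ⟨⟨f, hf⟩, rfl⟩
  have key : ∀ (g : P) (y : ι → k) (F : MvPolynomial ι D.R),
      pev (D.restrict P hP) g y (MvPolynomial.map π F) = pev D (g : Γ) y F := by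
    intro g y F
    have e : (evalR (D.restrict P hP) g).toRingHom.comp π = (evalR D (g : Γ)).toRingHom :=
      RingHom.ext fun _ => rfl
    simp only [pev, RingHom.comp_apply, MvPolynomial.map_map, e]
  clear_value π
  have hcl : PairCl D C' := by
    intro q hq
    have hqP : q.1 ∈ P := hP fun f hf => by
      have := hq (MvPolynomial.C f) fun c hc => by rw [pev_C]; exact hf _ hc.1
      rwa [pev_C] at this
    refine ⟨hqP, hC _ fun F hF => ?_⟩
    obtain ⟨F', rfl⟩ := MvPolynomial.map_surjective π hπ F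
    rw [key]
    refine hq F' fun c hc => ?_
    obtain ⟨h, hc'⟩ := hc
    have h0 := hF (⟨c.1, h⟩, c.2) hc'
    rw [key] at h0
    exact h0
  have hY := hB ι C' hcl fun g y hg b hb =>
    ⟨P.mul_mem hg.1 (hBP hb), hinv _ _ hg.2 ⟨b, hBP hb⟩ hb⟩
  have hset : {y | ∃ g : P, (g, y) ∈ C} = {y | ∃ g, (g, y) ∈ C'} := by
    ext y
    exact ⟨fun ⟨g, hg⟩ => ⟨g, g.2, hg⟩, fun ⟨g, h, hg⟩ => ⟨⟨g, h⟩, hg⟩⟩
  rw [hset]
  exact hY

variable {W : Type w} [AddCommGroup W] [Module k W] [FiniteDimensional k W]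
  {σ : Representation k Γ W}

theorem conj_fn_mem' (hmul : HasMul D) (c : Γ) {f : Γ → k} (hf : f ∈ D.R) :
    (fun x => f (x * c * x⁻¹)) ∈ D.R := by
  simpa using D.inv _ (conj_fn_mem hmul c hf)

/-- Sections of a unipotent family: an invariance argument by induction along fixed vectors. -/
theorem vanish_of_unip {G : Type v} [Group G] {V : Type w'} [AddCommGroup V] [Module k V] [FiniteDimensional k V]
    (θ : G →* Module.End k V) (hθ : ∀ u, IsNilpotent (θ u - 1)) (Z : Submodule k V)
    (hZ : ∀ u, ∀ w ∈ Z, θ u w ∈ Z)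
    (step : ∀ w, (∀ u, θ u w - w ∈ Z) → w ∈ Z) : Z = ⊤ := by
  by_contra hne
  haveI : Nontrivial (V ⧸ Z) := Submodule.Quotient.nontrivial_iff.mpr hne
  let θ' : G →* Module.End k (V ⧸ Z) :=
    { toFun := fun u => Z.mapQ Z (θ u) (fun w hw => hZ u w hw)
      map_one' := by ext; simp
      map_mul' := fun u v => by ext; simp }
  have hθ' : ∀ u : G, IsNilpotent (θ' u - 1) := by
    intro u
    obtain ⟨m, hm⟩ := hθ u
    refine ⟨m, ?_⟩
    have hpow : ∀ (j : ℕ) (w : V), ((θ' u - 1) ^ j) (Submodule.Quotient.mk w) =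
        Submodule.Quotient.mk (((θ u - 1) ^ j) w) := by
      intro j
      induction j with
      | zero => exact fun w => rfl
      | succ j ih =>
        intro w
        rw [pow_succ', Module.End.mul_apply, ih, pow_succ', Module.End.mul_apply]
        rfl
    refine LinearMap.ext fun q => ?_
    obtain ⟨w, rfl⟩ := Submodule.Quotient.mk_surjective _ q
    rw [hpow, hm]
    rfl
  obtain ⟨q, hq0, hq⟩ := Groth.Agent.H66.Kolchin.exists_fixed_of_algClosed θ' hθ'
  obtain ⟨w, rfl⟩ := Submodule.Quotient.mk_surjective _ q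
  exact hq0 ((Submodule.Quotient.mk_eq_zero Z).mpr (step w fun u => (Submodule.Quotient.eq Z).mp (hq u)))

/-- The argument on an abstract space of functions with a regular representation. -/
theorem eval_conj_eq_zero {V : Type w'} [AddCommGroup V] [Module k V] [FiniteDimensional k V]
    (hmul : HasMul D) (hσ : GenRep.Gen D σ) {B P U : Subgroup Γ} (hPcl : D.IsCl P)
    (hPirr : (D.restrict P hPcl).SIrr Set.univ) (hBP : B ≤ P) (hB : Complete D B)
    (hPU : ∀ p ∈ P, ∀ u ∈ U, p * u * p⁻¹ ∈ U) (hnil : ∀ u ∈ U, IsNilpotent (σ u - 1))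
    (hcomm : ∀ a ∈ B, ∀ b ∈ B, a * b * a⁻¹ * b⁻¹ ∈ U)
    (ρ : Representation k Γ V) (hρ : EndFn D.R (fun g => ρ g)) (val : V →ₗ[k] (Γ → k))
    (hreg : ∀ w, val w ∈ D.R) (hval : ∀ u w g, val (ρ u w) g = val w (g * u))
    {c : Γ} (hc : c ∈ B) (w₀ : V) (hw₀ : ∀ u ∈ U, val w₀ u = 0) (x₀ : Γ) (hx₀ : x₀ ∈ P) :
    val w₀ (c⁻¹ * (x₀ * c * x₀⁻¹)) = 0 := by
  let y : Γ → Γ := fun x => c⁻¹ * (x * c * x⁻¹)
  let W₁ : Submodule k V :=
    { carrier := {w | ∀ u ∈ U, val w u = 0}
      zero_mem' := fun u _ => by simp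
      add_mem' := fun {p q} hp hq u hu => by simp [hp u hu, hq u hu]
      smul_mem' := fun r p hp u hu => by simp [hp u hu] }
  let W₀ : Submodule k W₁ :=
    { carrier := {w | ∀ x ∈ P, ∀ u ∈ U, val (w : V) (y x * u) = 0}
      zero_mem' := fun x _ u _ => by simp
      add_mem' := fun {p q} hp hq x hx u hu => by simp [hp x hx u hu, hq x hx u hu]
      smul_mem' := fun r p hp x hx u hu => by simp [hp x hx u hu] }
  have hW₁ : ∀ u ∈ U, ∀ w ∈ W₁, ρ u w ∈ W₁ := fun u hu w hw v hv => by
    rw [hval]; exact hw _ (U.mul_mem hv hu)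
  let θ : U →* Module.End k W₁ :=
    { toFun := fun u => (ρ (u : Γ)).restrict (hW₁ u u.2)
      map_one' := LinearMap.ext fun w => Subtype.ext (by simp)
      map_mul' := fun u v => LinearMap.ext fun w => Subtype.ext (by simp) }
  have htop : W₀ = ⊤ := by
    refine vanish_of_unip θ (fun u => ?_) W₀ (fun u w hw x hx v hv => ?_) (fun w hw => ?_)
    · obtain ⟨m, hm⟩ := Torus.ImageTorus.nilp_of_gen hσ (hnil u u.2) hρ
      refine ⟨m, ?_⟩
      have hpow : ∀ (j : ℕ) (w : W₁), ((((θ u - 1) ^ j) w : W₁) : V) = ((ρ (u : Γ) - 1) ^ j) (w : V) := by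
        intro j
        induction j with
        | zero => exact fun w => rfl
        | succ j ih =>
          intro w
          rw [pow_succ', Module.End.mul_apply, pow_succ', Module.End.mul_apply, ← ih]
          rfl
      refine LinearMap.ext fun w => Subtype.ext ?_
      rw [hpow, hm]
      rfl
    · show val (ρ (u : Γ) (w : V)) (y x * v) = 0
      rw [hval, mul_assoc]
      exact hw x hx _ (U.mul_mem hv u.2)
    · have hfix : ∀ x ∈ P, ∀ u ∈ U, val (w : V) (y x * u) = val (w : V) (y x) := by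
        intro x hx u hu
        have h2 : val (ρ u (w : V) - (w : V)) (y x * 1) = 0 := hw ⟨u, hu⟩ x hx 1 U.one_mem
        rw [map_sub, Pi.sub_apply, hval, mul_one, sub_eq_zero] at h2
        exact h2
      have hF : (fun x : P => val (w : V) (y x)) ∈ (D.restrict P hPcl).R :=
        ⟨fun x => val (w : V) (y x), conj_fn_mem' hmul c (D.lmul c⁻¹ _ (hreg _)), rfl⟩
      intro x hx u hu
      rw [hfix x hx u hu]
      have hconst := Invariant.const_of_complete (D.restrict P hPcl) hPirr
        (complete_restrict hPcl hBP hB) ⟨_, hF⟩ (fun g β hβ => ?_) ⟨x, hx⟩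
      · refine (show val (w : V) (y x) = val (w : V) (y 1) from hconst).trans ?_
        rw [show y 1 = 1 by simp [y]]
        exact w.2 1 U.one_mem
      · show val (w : V) (y ((g : Γ) * (β : Γ))) = val (w : V) (y g)
        have hu' : (g : Γ) * (c⁻¹ * (β : Γ) * c * (β : Γ)⁻¹) * (g : Γ)⁻¹ ∈ U := by
          refine hPU _ g.2 _ ?_
          have := hcomm c⁻¹ (B.inv_mem hc) (β : Γ) hβ
          rwa [inv_inv] at this
        rw [show y ((g : Γ) * (β : Γ)) = y g * ((g : Γ) * (c⁻¹ * (β : Γ) * c * (β : Γ)⁻¹) * (g : Γ)⁻¹) by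
          simp only [y]; group]
        exact hfix g g.2 _ hu'
  have h1 : (⟨w₀, hw₀⟩ : W₁) ∈ W₀ := htop ▸ Submodule.mem_top
  have h2 := h1 x₀ hx₀ 1 U.one_mem
  rwa [mul_one] at h2

/-- An element normalising the unipotent part `U` of a Borel subgroup `B` lies in `B`. -/
theorem mem_of_normalizes (hirr : D.SIrr Set.univ) (hmul : HasMul D) (hσ : GenRep.Gen D σ) {B U : Subgroup Γ}
    (hB : IsBor D B) (hUcl : D.IsCl U) (hUB : U ≤ B) (hnil : ∀ u ∈ U, IsNilpotent (σ u - 1))
    (hBU : ∀ b ∈ B, ∀ u ∈ U, b * u * b⁻¹ ∈ U) (hcomm : ∀ a ∈ B, ∀ b ∈ B, a * b * a⁻¹ * b⁻¹ ∈ U)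
    (n : Γ) (hn : ∀ u, u ∈ U ↔ n * u * n⁻¹ ∈ U) : n ∈ B := by
  classical
  let P : Subgroup Γ := Subgroup.normalizer (U : Set Γ)
  have hBP : B ≤ P := fun b hb => Subgroup.mem_normalizer_iff.mpr fun u =>
    ⟨fun hu => hBU b hb u hu, fun hu => by
      have := hBU b⁻¹ (B.inv_mem hb) _ hu
      rwa [show b⁻¹ * (b * u * b⁻¹) * b⁻¹⁻¹ = u by group] at this⟩
  have hPcl : D.IsCl P := by
    refine D.isCl_of_forall
      {F | ∃ u ∈ U, ∃ f : D.R, f ∈ D.vI U ∧
        ((F = fun x => (f : Γ → k) (x * u * x⁻¹)) ∨ F = fun x => (f : Γ → k) (x⁻¹ * u * x))} ?_ fun g => ?_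
    · rintro F ⟨u, -, f, -, rfl | rfl⟩
      · exact conj_fn_mem' hmul u f.2
      · exact conj_fn_mem hmul u f.2
    · refine ⟨fun hg => ?_, fun h => Subgroup.mem_normalizer_iff.mpr fun u => ⟨fun hu => ?_, fun hu => ?_⟩⟩
      · have hg' := Subgroup.mem_normalizer_iff.mp hg
        rintro F ⟨u, hu, f, hf, rfl | rfl⟩
        · exact hf _ ((hg' u).mp hu)
        · exact hf _ ((hg' _).mpr (by rwa [show g * (g⁻¹ * u * g) * g⁻¹ = u by group]))
      · exact hUcl fun f hf => h _ ⟨u, hu, f, hf, Or.inl rfl⟩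
      · have := hUcl fun f hf => h (fun x => (f : Γ → k) (x⁻¹ * (g * u * g⁻¹) * x)) ⟨_, hu, f, hf, Or.inr rfl⟩
        rwa [show g⁻¹ * (g * u * g⁻¹) * g = u by group] at this
  obtain ⟨hPirr, -⟩ := ParabolicNorm.props hirr hmul hσ hB hPcl hBP
  have hPirr' : (D.restrict P hPcl).SIrr Set.univ :=
    D.sirr_restrict.mpr (by rw [Set.image_univ, Subtype.range_coe_subtype]; exact hPirr)
  have hnP : n ∈ P := Subgroup.mem_normalizer_iff.mpr hn
  refine Normalizer.mem_of_normalizes _ hσ hirr hmul rfl hB n fun c hc => ?_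
  suffices h : c⁻¹ * (n * c * n⁻¹) ∈ U by
    have h2 := B.mul_mem hc (hUB h)
    rwa [mul_inv_cancel_left] at h2
  refine hUcl fun f₀ hf₀ => ?_
  -- the finite dimensional space of right translates
  obtain ⟨l, a, b, hab⟩ := hmul f₀
  let V₀ : Submodule k D.R := Submodule.span k (Set.range fun h : Γ => D.rTrans h f₀)
  haveI : FiniteDimensional k (Submodule.span k (Set.range a)) :=
    FiniteDimensional.span_of_finite k (Set.finite_range a)
  haveI : FiniteDimensional k V₀ := by
    refine Submodule.finiteDimensional_of_le (S₂ := Submodule.span k (Set.range a))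
      (Submodule.span_le.mpr ?_)
    rintro _ ⟨h, rfl⟩
    have e : D.rTrans h f₀ = ∑ i, (b i : Γ → k) h • a i := Subtype.ext (funext fun g => by
      show (f₀ : Γ → k) (g * h) = evalR D g (∑ i, (b i : Γ → k) h • a i)
      rw [hab g h, map_sum]
      refine Finset.sum_congr rfl fun i _ => ?_
      rw [map_smul, smul_eq_mul, mul_comm]
      rfl)
    show D.rTrans h f₀ ∈ Submodule.span k (Set.range a)
    rw [e]
    exact Submodule.sum_mem _ fun i _ => Submodule.smul_mem _ _ (Submodule.subset_span ⟨i, rfl⟩)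
  have hstab : ∀ g, ∀ f ∈ V₀, (D.rTrans g).toLinearMap f ∈ V₀ := by
    intro g
    suffices V₀ ≤ V₀.comap (D.rTrans g).toLinearMap from fun f hf => this hf
    refine Submodule.span_le.mpr ?_
    rintro _ ⟨h, rfl⟩
    refine Submodule.subset_span ⟨g * h, Subtype.ext (funext fun x => ?_)⟩
    show (f₀ : Γ → k) (x * (g * h)) = (f₀ : Γ → k) (x * g * h)
    rw [mul_assoc]
  let ρ : Representation k Γ V₀ :=
    { toFun := fun g => (D.rTrans g).toLinearMap.restrict (hstab g)
      map_one' := LinearMap.ext fun w => Subtype.ext (Subtype.ext (funext fun x => by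
        show ((w : D.R) : Γ → k) (x * 1) = _
        rw [mul_one]; rfl))
      map_mul' := fun g h => LinearMap.ext fun w => Subtype.ext (Subtype.ext (funext fun x => by
        show ((w : D.R) : Γ → k) (x * (g * h)) = ((w : D.R) : Γ → k) (x * g * h)
        rw [mul_assoc])) }
  have hρ : EndFn D.R (fun g => ρ g) := by
    intro w l'
    obtain ⟨l'', hl''⟩ := LinearMap.exists_extend l'
    choose n' a' b' hab' using hmul
    have e : (fun g => l' (ρ g w)) = ((∑ i, l'' (a' (w : D.R) i) • b' (w : D.R) i : D.R) : Γ → k) := by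
      funext g
      have e1 : ((ρ g w : V₀) : D.R) = ∑ i, (b' (w : D.R) i : Γ → k) g • a' (w : D.R) i :=
        Subtype.ext (funext fun x => by
          show ((w : D.R) : Γ → k) (x * g) = evalR D x (∑ i, (b' (w : D.R) i : Γ → k) g • a' (w : D.R) i)
          rw [hab' (w : D.R) x g, map_sum]
          refine Finset.sum_congr rfl fun i _ => ?_
          rw [map_smul, smul_eq_mul, mul_comm]
          rfl)
      show l' (ρ g w) = evalR D g (∑ i, l'' (a' (w : D.R) i) • b' (w : D.R) i)
      rw [← hl'', LinearMap.comp_apply, Submodule.subtype_apply, e1, map_sum, map_sum]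
      refine Finset.sum_congr rfl fun i _ => ?_
      rw [map_smul, map_smul, smul_eq_mul, smul_eq_mul, mul_comm]
      rfl
    rw [e]
    exact Subtype.mem _
  exact eval_conj_eq_zero (V := V₀) hmul hσ hPcl hPirr' hBP hB.comp
    (fun p hp u hu => (Subgroup.mem_normalizer_iff.mp hp u).mp hu) hnil hcomm ρ hρ
    (D.R.val.toLinearMap.comp V₀.subtype) (fun w => (w : D.R).2) (fun _ _ _ => rfl) hc
    (⟨f₀, Submodule.subset_span ⟨1, Subtype.ext (funext fun x => by
      show (f₀ : Γ → k) (x * 1) = _; rw [mul_one])⟩⟩ : V₀) (fun u hu => hf₀ u hu) n hnP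

end Groth.Agent.H68.UnipNormalizer
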