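import Mathlib.RingTheory.Nilpotent.Basic
import Mathlib.LinearAlgebra.Span.Basic
import Mathlib.GroupTheory.Index
import Mathlib.Algebra.Group.Subgroup.Basic
import Mathlib.Algebra.CharZero.Defs
import Mathlib.RingTheory.Polynomial.Cyclotomic.Eval
import Mathlib.RingTheory.RootsOfUnity.PrimitiveRoots
import Mathlib.Tactic

/-!
# Unipotent actions and Minkowski's lemma
-/

set_option autoImplicit false

universe u v w

namespace Groth.Agent.H68.Unipotent

variable {K : Type u} {V : Type v} [Field K] [AddCommGroup V] [Module K V]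

theorem ker_pow_sub_one [CharZero K] (g : Module.End K V) (hg : IsNilpotent (g - 1)) (n : ℕ)
    (hn : 0 < n) : LinearMap.ker (g ^ n - 1) = LinearMap.ker (g - 1) := by
  have hnil : IsNilpotent ((∑ i ∈ Finset.range n, g ^ i) - algebraMap K (Module.End K V) n) := by
    have e : (∑ i ∈ Finset.range n, g ^ i) - algebraMap K (Module.End K V) n =
        (g - 1) * ∑ i ∈ Finset.range n, ∑ j ∈ Finset.range i, g ^ j := by
      rw [Finset.mul_sum]
      simp only [mul_geom_sum, Finset.sum_sub_distrib, Finset.sum_const, Finset.card_range]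
      rw [map_natCast, nsmul_one]
    rw [e]
    refine Commute.isNilpotent_mul_right ?_ hg
    exact Commute.sum_right _ _ _ fun i _ => Commute.sum_right _ _ _ fun j _ =>
      ((Commute.refl g).sub_left (Commute.one_left g)).pow_right j
  have hu : IsUnit (∑ i ∈ Finset.range n, g ^ i) := by
    have h1 : IsUnit (algebraMap K (Module.End K V) n) :=
      (IsUnit.mk0 (n : K) (Nat.cast_ne_zero.2 hn.ne')).map _
    have := hnil.isUnit_add_left_of_commute h1 (Algebra.commute_algebraMap_right _ _)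
    rwa [add_sub_cancel] at this
  rw [← geom_sum_mul g n]
  obtain ⟨u, hu⟩ := hu
  rw [← hu]
  ext v
  simp only [LinearMap.mem_ker, Module.End.mul_apply]
  refine ⟨fun h => ?_, fun h => by rw [h, map_zero]⟩
  have h2 := congrArg (↑u⁻¹ : Module.End K V) h
  rw [← Module.End.mul_apply, Units.inv_mul, map_zero, Module.End.one_apply] at h2
  exact h2

theorem invariant_of_finiteIndex [CharZero K] {G : Type w} [Group G] (ρ : G →* (V ≃ₗ[K] V))
    (hunip : ∀ g : G, IsNilpotent (((ρ g : V ≃ₗ[K] V) : Module.End K V) - 1))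
    (H : Subgroup G) [H.FiniteIndex] (v : V) (hv : ∀ h ∈ H, ρ h v = v) (g : G) : ρ g v = v := by
  obtain ⟨n, hn, -, hgn⟩ := Subgroup.exists_pow_mem_of_index_ne_zero (H := H) Subgroup.FiniteIndex.index_ne_zero g
  have hpow : ∀ m : ℕ, ((ρ g : V ≃ₗ[K] V) : Module.End K V) ^ m = ((ρ (g ^ m) : V ≃ₗ[K] V) : Module.End K V) := by
    intro m
    induction m with
    | zero => ext; simp
    | succ m ih => rw [pow_succ, ih, pow_succ, map_mul]; rfl
  have h1 : v ∈ LinearMap.ker (((ρ g : V ≃ₗ[K] V) : Module.End K V) ^ n - 1) := by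
    rw [LinearMap.mem_ker, LinearMap.sub_apply, hpow, LinearEquiv.coe_coe, hv _ hgn,
      Module.End.one_apply, sub_self]
  rw [ker_pow_sub_one _ (hunip g) n hn] at h1
  simpa [sub_eq_zero] using h1

/-- The flag `W j` = span of the images of products of `j` elements `a - 1`, `a ∈ H`. -/
def W (H : Subgroup (V ≃ₗ[K] V)) : ℕ → Submodule K V
  | 0 => ⊤
  | j + 1 => Submodule.span K {x | ∃ a ∈ H, ∃ w ∈ W H j, x = a w - w}

theorem W_le (H : Subgroup (V ≃ₗ[K] V)) : ∀ j, W H (j + 1) ≤ W H j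
  | 0 => le_top
  | j + 1 => Submodule.span_mono fun _ ⟨a, ha, w, hw, e⟩ => ⟨a, ha, w, W_le H j hw, e⟩

theorem W_eq_bot (H : Subgroup (V ≃ₗ[K] V)) (n : ℕ)
    (h : ∀ f : Fin n → ↥H,
      (List.ofFn fun i => (((f i : ↥H) : V ≃ₗ[K] V) : Module.End K V) - 1).prod = 0) :
    W H n = ⊥ := by
  have key : ∀ j, W H j ≤ Submodule.span K {x | ∃ (f : Fin j → ↥H) (v : V), x =
      (List.ofFn fun i => (((f i : ↥H) : V ≃ₗ[K] V) : Module.End K V) - 1).prod v} := by
    intro j
    induction j with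
    | zero => exact fun x _ => Submodule.subset_span ⟨Fin.elim0, x, by simp⟩
    | succ j ih =>
      refine Submodule.span_le.2 ?_
      rintro _ ⟨a, ha, w, hw, rfl⟩
      have hw' := ih hw
      set S := Submodule.span K {x | ∃ (f : Fin (j + 1) → ↥H) (v : V), x =
        (List.ofFn fun i => (((f i : ↥H) : V ≃ₗ[K] V) : Module.End K V) - 1).prod v}
      have : w ∈ S.comap (((a : V ≃ₗ[K] V) : Module.End K V) - 1) := by
        refine Submodule.span_le.2 ?_ hw'
        rintro _ ⟨f, v, rfl⟩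
        refine Submodule.subset_span ⟨Fin.cons ⟨a, ha⟩ f, v, ?_⟩
        simp [List.ofFn_succ, Module.End.mul_apply]
      simpa using this
  refine le_bot_iff.1 ((key n).trans (Submodule.span_le.2 ?_))
  rintro _ ⟨f, v, rfl⟩
  rw [h f]
  simp

theorem W_stable (H : Subgroup (V ≃ₗ[K] V)) (g : V ≃ₗ[K] V) (hg : ∀ h ∈ H, g * h * g⁻¹ ∈ H) :
    ∀ j, ∀ w ∈ W H j, g w ∈ W H j := by
  intro j
  induction j with
  | zero => exact fun _ _ => Submodule.mem_top
  | succ j ih =>
    intro w hw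
    have : Submodule.map (g : V →ₗ[K] V) (W H (j + 1)) ≤ W H (j + 1) := by
      refine (Submodule.map_span_le _ _ _).2 ?_
      rintro _ ⟨a, ha, w, hw, rfl⟩
      refine Submodule.subset_span ⟨g * a * g⁻¹, hg a ha, g w, ih w hw, ?_⟩
      simp
    exact this (Submodule.mem_map_of_mem hw)

theorem sup_unipotent (H₁ H₂ : Subgroup (V ≃ₗ[K] V)) (hnorm : ∀ g ∈ H₂, ∀ h ∈ H₁, g * h * g⁻¹ ∈ H₁)
    (h₁ : ∃ n : ℕ, ∀ f : Fin n → ↥H₁,
      (List.ofFn fun i => (((f i : ↥H₁) : V ≃ₗ[K] V) : Module.End K V) - 1).prod = 0)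
    (h₂ : ∃ n : ℕ, ∀ f : Fin n → ↥H₂,
      (List.ofFn fun i => (((f i : ↥H₂) : V ≃ₗ[K] V) : Module.End K V) - 1).prod = 0) :
    ∃ n : ℕ, ∀ f : Fin n → ↥(H₁ ⊔ H₂),
      (List.ofFn fun i => (((f i : ↥(H₁ ⊔ H₂)) : V ≃ₗ[K] V) : Module.End K V) - 1).prod = 0 := by
  obtain ⟨n₁, h₁⟩ := h₁
  obtain ⟨n₂, h₂⟩ := h₂
  let P : (V ≃ₗ[K] V) → Prop := fun g => (∀ h ∈ H₁, g * h * g⁻¹ ∈ H₁) ∧
    ∃ b ∈ H₂, ∀ j, ∀ w ∈ W H₁ j, g w - b w ∈ W H₁ (j + 1)
  have hP : ∀ g ∈ H₁ ⊔ H₂, P g ∧ P g⁻¹ := by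
    intro g hg
    rw [Subgroup.sup_eq_closure] at hg
    have one : P 1 := ⟨fun h hh => by simpa using hh, 1, H₂.one_mem, fun j w _ => by simp⟩
    have mul : ∀ x y, P x → P y → P (x * y) := by
      rintro x y ⟨hx, b, hb, hxb⟩ ⟨hy, c, hc, hyc⟩
      refine ⟨fun h hh => ?_, b * c, H₂.mul_mem hb hc, fun j w hw => ?_⟩
      · have := hx _ (hy h hh)
        simpa [mul_assoc] using this
      · have hcw : c w ∈ W H₁ j := W_stable H₁ c (hnorm c hc) j w hw
        have e : (x * y) w - (b * c) w = x (y w - c w) + (x (c w) - b (c w)) := by simp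
        rw [e]
        exact add_mem (W_stable H₁ x hx _ _ (hyc j w hw)) (hxb j _ hcw)
    induction hg using Subgroup.closure_induction with
    | mem x hx =>
      rcases hx with hx | hx
      · have : ∀ x ∈ H₁, P x := fun x hx =>
          ⟨fun h hh => H₁.mul_mem (H₁.mul_mem hx hh) (H₁.inv_mem hx), 1, H₂.one_mem,
            fun j w hw => Submodule.subset_span ⟨x, hx, w, hw, by simp⟩⟩
        exact ⟨this x hx, this _ (H₁.inv_mem hx)⟩
      · have : ∀ x ∈ H₂, P x := fun x hx => ⟨hnorm x hx, x, hx, fun j w _ => by simp⟩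
        exact ⟨this x hx, this _ (H₂.inv_mem hx)⟩
    | one => exact ⟨one, by simpa using one⟩
    | mul x y _ _ hx hy => exact ⟨mul x y hx.1 hy.1, by simpa using mul _ _ hy.2 hx.2⟩
    | inv x _ hx => exact ⟨hx.2, by simpa using hx.1⟩
  -- a product of factors from `H₁ ⊔ H₂` agrees with one from `H₂` modulo the next step
  have key : ∀ L : List ↥(H₁ ⊔ H₂), ∃ M : List ↥H₂, M.length = L.length ∧ ∀ j, ∀ w ∈ W H₁ j,
      (L.map fun g : ↥(H₁ ⊔ H₂) => ((g : V ≃ₗ[K] V) : Module.End K V) - 1).prod w -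
        (M.map fun g : ↥H₂ => ((g : V ≃ₗ[K] V) : Module.End K V) - 1).prod w ∈ W H₁ (j + 1) ∧
      (M.map fun g : ↥H₂ => ((g : V ≃ₗ[K] V) : Module.End K V) - 1).prod w ∈ W H₁ j := by
    intro L
    induction L with
    | nil => exact ⟨[], rfl, fun j w hw => by simp [hw]⟩
    | cons g L ih =>
      obtain ⟨M, hM, hw'⟩ := ih
      obtain ⟨⟨hgn, b, hb, hgb⟩, -⟩ := hP g g.2
      refine ⟨⟨b, hb⟩ :: M, by simp [hM], fun j w hw => ?_⟩
      obtain ⟨hd, hm⟩ := hw' j w hw
      set x := (L.map fun g : ↥(H₁ ⊔ H₂) => ((g : V ≃ₗ[K] V) : Module.End K V) - 1).prod w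
      set y := (M.map fun g : ↥H₂ => ((g : V ≃ₗ[K] V) : Module.End K V) - 1).prod w
      simp only [List.map_cons, List.prod_cons, Module.End.mul_apply, LinearMap.sub_apply,
        Module.End.one_apply, LinearEquiv.coe_coe]
      refine ⟨?_, sub_mem (W_stable H₁ b (hnorm b hb) j _ hm) hm⟩
      show (g : V ≃ₗ[K] V) x - x - (b y - y) ∈ _
      have e : (g : V ≃ₗ[K] V) x - x - (b y - y) =
          (g : V ≃ₗ[K] V) (x - y) - (x - y) + ((g : V ≃ₗ[K] V) y - b y) := by
        simp only [map_sub]; abel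
      rw [e]
      exact add_mem (sub_mem (W_stable H₁ g hgn _ _ hd) hd) (hgb j y hm)
  have step : ∀ L : List ↥(H₁ ⊔ H₂), L.length = n₂ → ∀ j, ∀ w ∈ W H₁ j,
      (L.map fun g : ↥(H₁ ⊔ H₂) => ((g : V ≃ₗ[K] V) : Module.End K V) - 1).prod w ∈ W H₁ (j + 1) := by
    intro L hL j w hw
    obtain ⟨M, hM, hw'⟩ := key L
    have h0 : (M.map fun g : ↥H₂ => ((g : V ≃ₗ[K] V) : Module.End K V) - 1).prod = 0 := by
      have hl : M.length = n₂ := hM.trans hL
      subst hl
      rw [← h₂ fun i => M[i]]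
      conv_lhs => rw [← List.ofFn_getElem (xs := M), List.map_ofFn]
      rfl
    have := (hw' j w hw).1
    rw [h0, LinearMap.zero_apply, sub_zero] at this
    exact this
  have all : ∀ j, ∀ L : List ↥(H₁ ⊔ H₂), L.length = n₂ * j → ∀ w,
      (L.map fun g : ↥(H₁ ⊔ H₂) => ((g : V ≃ₗ[K] V) : Module.End K V) - 1).prod w ∈ W H₁ j := by
    intro j
    induction j with
    | zero => exact fun _ _ _ => Submodule.mem_top
    | succ j ih =>
      intro L hL w
      rw [← List.take_append_drop n₂ L, List.map_append, List.prod_append, Module.End.mul_apply]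
      refine step _ ?_ j _ (ih _ ?_ w)
      · simp [hL, Nat.mul_succ]
      · simp [hL, Nat.mul_succ]
  refine ⟨n₂ * n₁, fun f => LinearMap.ext fun w => ?_⟩
  have := all n₁ (List.ofFn f) (by simp) w
  rw [W_eq_bot H₁ n₁ h₁, Submodule.mem_bot, List.map_ofFn] at this
  simpa [Function.comp_def] using this

theorem minkowski {O : Type u} [CommRing O] [IsDomain O] [CharZero O]
    (n : ℕ) (hn : 0 < n) (hO : ∀ p : ℕ, p.Prime → p ∣ n → ¬ IsUnit (p : O))
    (α : O) (hα : IsOfFinOrder α) (h : (n : O) ∣ (α - 1) ^ 2) :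
    (5 ≤ n → α = 1) ∧ (n = 4 → α ^ 2 = 1) ∧ (n = 3 → α ^ 3 = 1) ∧ (n = 2 → α ^ 4 = 1) := by
  have hm : 0 < orderOf α := hα.orderOf_pos
  have key : ∀ p k : ℕ, p.Prime → 0 < k → p ^ k ∣ orderOf α → 2 ≤ n →
      ∃ a, n = p ^ a ∧ a * (p ^ k).totient ≤ 2 := by
    intro p k hp hk hdvd hn2
    haveI : Fact p.Prime := ⟨hp⟩
    have hζ : IsPrimitiveRoot (α ^ (orderOf α / p ^ k)) (p ^ k) :=
      (IsPrimitiveRoot.orderOf α).pow hm (Nat.div_mul_cancel hdvd).symm
    obtain ⟨k', rfl⟩ : ∃ k', k = k' + 1 := ⟨k - 1, by omega⟩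
    have hdiv : ∀ i : ℕ, (n : O) ∣ (1 - α ^ i) ^ 2 := by
      intro i
      obtain ⟨c, hc⟩ := sub_one_dvd_pow_sub_one α i
      exact h.trans ⟨c ^ 2, by rw [← mul_pow, ← hc]; ring⟩
    have hp2 : (n : O) ^ (p ^ (k' + 1)).totient ∣ (p : O) ^ 2 := by
      have e : (p : O) = ∏ μ ∈ primitiveRoots (p ^ (k' + 1)) O, (1 - μ) := by
        rw [← Polynomial.eval_one_cyclotomic_prime_pow (R := O) (p := p) k',
          Polynomial.cyclotomic_eq_prod_X_sub_primitiveRoots hζ, Polynomial.eval_prod]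
        simp
      rw [e, ← Finset.prod_pow, ← hζ.card_primitiveRoots, ← Finset.prod_const]
      refine Finset.prod_dvd_prod_of_dvd _ _ fun μ hμ => ?_
      obtain ⟨i, -, rfl⟩ := hζ.eq_pow_of_pow_eq_one
        ((mem_primitiveRoots (pow_pos hp.pos _)).1 hμ).pow_eq_one
      rw [← pow_mul]
      exact hdiv _
    have hφ : 0 < (p ^ (k' + 1)).totient := Nat.totient_pos.2 (pow_pos hp.pos _)
    have hpr : ∀ {l : ℕ}, l.Prime → l ∣ n → l = p := by
      intro l hl hln
      by_contra hne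
      refine hO l hl hln ?_
      have hd : (l : O) ∣ (p : O) ^ 2 :=
        ((Nat.cast_dvd_cast hln).trans (dvd_pow_self _ hφ.ne')).trans hp2
      have hc : IsCoprime (l : ℤ) ((p ^ 2 : ℕ) : ℤ) :=
        Nat.isCoprime_iff_coprime.2 (Nat.Coprime.pow_right _ ((Nat.coprime_primes hl hp).2 hne))
      obtain ⟨x, y, hxy⟩ := hc
      have hxy' := congrArg (Int.cast : ℤ → O) hxy
      push_cast at hxy'
      refine isUnit_of_dvd_one ?_
      rw [← hxy']
      exact dvd_add (dvd_mul_left _ _) (hd.mul_left _)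
    have hna := Nat.eq_prime_pow_of_unique_prime_dvd hn.ne' hpr
    set a := n.primeFactorsList.length
    refine ⟨a, hna, ?_⟩
    by_contra hgt
    have hpn : p ∣ n := by
      rw [hna]
      refine dvd_pow_self p ?_
      intro ha
      rw [ha, pow_zero] at hna
      omega
    refine hO p hp hpn ?_
    rw [hna, Nat.cast_pow, ← pow_mul] at hp2
    have h3 := (pow_dvd_pow (p : O) (by omega : 2 + 1 ≤ a * (p ^ (k' + 1)).totient)).trans hp2
    obtain ⟨c, hc⟩ := h3
    rw [pow_succ (p : O) 2, mul_assoc] at hc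
    exact .of_mul_eq_one c
      (mul_left_cancel₀ (pow_ne_zero 2 (Nat.cast_ne_zero.2 hp.ne_zero)) (by rw [mul_one]; exact hc.symm))
  have main : ∀ N : ℕ, 2 ≤ n →
      (∀ p k a : ℕ, p.Prime → 0 < k → n = p ^ a → a * (p ^ k).totient ≤ 2 → p ^ k ∣ N) →
      α ^ N = 1 := by
    intro N hn2 hN
    refine orderOf_dvd_iff_pow_eq_one.1 ((Nat.dvd_iff_prime_pow_dvd_dvd _ _).2 fun p k hp hd => ?_)
    rcases Nat.eq_zero_or_pos k with rfl | hk
    · simp
    · obtain ⟨a, ha, hle⟩ := key p k hp hk hd hn2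
      exact hN p k a hp hk ha hle
  have small : ∀ p k a : ℕ, p.Prime → 0 < k → 2 ≤ n → n = p ^ a → a * (p ^ k).totient ≤ 2 →
      (p = 2 ∧ a = 2 ∧ k = 1) ∨ (p = 2 ∧ a = 1 ∧ k ≤ 2) ∨ (p = 3 ∧ a = 1 ∧ k = 1) := by
    intro p k a hp hk hn2 ha hle
    obtain ⟨k', rfl⟩ : ∃ k', k = k' + 1 := ⟨k - 1, by omega⟩
    rw [Nat.totient_prime_pow_succ hp] at hle
    have ha1 : 1 ≤ a := by
      rcases Nat.eq_zero_or_pos a with rfl | h
      · simp at ha; omega
      · exact h
    have hp2 := hp.two_le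
    have hpk : 1 ≤ p ^ k' := Nat.one_le_pow _ _ hp.pos
    have hp3 : p ≤ 3 := by
      have h1 : p - 1 ≤ a * (p ^ k' * (p - 1)) :=
        le_trans (Nat.le_mul_of_pos_left _ hpk) (Nat.le_mul_of_pos_left _ ha1)
      omega
    rcases (by omega : p = 2 ∨ p = 3) with rfl | rfl
    · have hk2 : k' ≤ 1 := by
        by_contra hc
        have : 2 ^ 2 ≤ 2 ^ k' := Nat.pow_le_pow_right (by norm_num) (by omega)
        nlinarith
      interval_cases k'
      · simp at hle; omega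
      · simp at hle; omega
    · have hk2 : k' = 0 := by
        by_contra hc
        have : 3 ^ 1 ≤ 3 ^ k' := Nat.pow_le_pow_right (by norm_num) (by omega)
        norm_num at hle
        nlinarith
      subst hk2
      simp at hle; omega
  refine ⟨fun h5 => ?_, fun h4 => ?_, fun h3 => ?_, fun h2 => ?_⟩
  · rw [← pow_one α]
    refine main 1 (by omega) fun p k a hp hk ha hle => ?_
    rcases small p k a hp hk (by omega) ha hle with ⟨rfl, rfl, rfl⟩ | ⟨rfl, rfl, -⟩ | ⟨rfl, rfl, rfl⟩ <;>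
      norm_num at ha <;> omega
  · refine main 2 (by omega) fun p k a hp hk ha hle => ?_
    rcases small p k a hp hk (by omega) ha hle with ⟨rfl, rfl, rfl⟩ | ⟨rfl, rfl, -⟩ | ⟨rfl, rfl, rfl⟩ <;>
      norm_num at ha <;> first | (exfalso; omega) | norm_num
  · refine main 3 (by omega) fun p k a hp hk ha hle => ?_
    rcases small p k a hp hk (by omega) ha hle with ⟨rfl, rfl, rfl⟩ | ⟨rfl, rfl, -⟩ | ⟨rfl, rfl, rfl⟩ <;>
      norm_num at ha <;> first | (exfalso; omega) | norm_num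
  · refine main 4 (by omega) fun p k a hp hk ha hle => ?_
    rcases small p k a hp hk (by omega) ha hle with ⟨rfl, rfl, rfl⟩ | ⟨rfl, rfl, hk2⟩ | ⟨rfl, rfl, rfl⟩
    · norm_num at ha; omega
    · interval_cases k <;> norm_num
    · norm_num at ha; omega

end Groth.Agent.H68.Unipotent
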