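import Mathlib.LinearAlgebra.Vandermonde
import Mathlib.LinearAlgebra.Matrix.Determinant.Basic
import Mathlib.Analysis.SpecialFunctions.Complex.Circle
import Mathlib.RingTheory.RootsOfUnity.Complex
import Mathlib.GroupTheory.Perm.Fin
import Mathlib.Data.Fintype.Perm
import Mathlib.Data.Fin.Tuple.Sort
import Mathlib.Algebra.Field.GeomSum
import Mathlib.Algebra.BigOperators.Fin

/-!
Discrete orthogonality of alternants at roots of unity, as used in Verlinde type formulas.
-/

namespace Groth.Agent.H68.Verlinde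

open Finset Matrix

variable {r N : ℕ}

/-- The alternant `det (z_j ^ e_i)`. -/
noncomputable def alt (z : Fin r → ℂ) (e : Fin r → ℕ) : ℂ :=
  (Matrix.of fun i j => z j ^ e i).det

/-- The Vandermonde alternant. -/
noncomputable def delta (z : Fin r → ℂ) : ℂ := alt z fun i => r - 1 - (i : ℕ)

/-- A product of two alternants. -/
noncomputable def pair (z w : Fin r → ℂ) (m : Fin r → Fin N) : ℂ :=
  alt z (fun i => (m i : ℕ)) * alt w (fun i => (m i : ℕ))

/-- Strictly decreasing tuples. -/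
def SA (r N : ℕ) : Finset (Fin r → Fin N) := univ.filter StrictAnti

/-- The Gram matrix. -/
noncomputable def gram (N : ℕ) (z w : Fin r → ℂ) : Matrix (Fin r) (Fin r) ℂ :=
  Matrix.of fun j l => ∑ x : Fin N, (z j * w l) ^ (x : ℕ)

theorem alt_perm (z : Fin r → ℂ) (e : Fin r → ℕ) (σ : Equiv.Perm (Fin r)) :
    alt z (e ∘ σ) = (Equiv.Perm.sign σ : ℤ) * alt z e := by
  rw [alt, alt, ← Matrix.det_permute σ]; rfl

theorem pair_perm (z w : Fin r → ℂ) (m : Fin r → Fin N) (σ : Equiv.Perm (Fin r)) :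
    pair z w (m ∘ σ) = pair z w m := by
  have hs : ((Equiv.Perm.sign σ : ℤ) : ℂ) * ((Equiv.Perm.sign σ : ℤ) : ℂ) = 1 := by
    rw [← Int.cast_mul, Int.units_coe_mul_self, Int.cast_one]
  have e : (fun i => ((m ∘ σ) i : ℕ)) = (fun i => (m i : ℕ)) ∘ σ := rfl
  rw [pair, pair, e, alt_perm, alt_perm, mul_mul_mul_comm, hs, one_mul]

theorem pair_eq_zero_of_not_injective (z w : Fin r → ℂ) (m : Fin r → Fin N)
    (h : ¬ Function.Injective m) : pair z w m = 0 := by
  simp only [Function.Injective, not_forall] at h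
  obtain ⟨a, b, hab, hne⟩ := h
  rw [pair, alt, Matrix.det_zero_of_row_eq hne (by funext j; simp [hab]), zero_mul]

/-- Cauchy–Binet for alternants. -/
theorem sum_pair (z w : Fin r → ℂ) :
    ∑ m : Fin r → Fin N, pair z w m = (r.factorial : ℂ) * (gram N z w).det := by
  have h1 : ∀ m : Fin r → Fin N, alt z (fun i => (m i : ℕ)) =
      ∑ σ : Equiv.Perm (Fin r), ((Equiv.Perm.sign σ : ℤ) : ℂ) * ∏ i, z (σ i) ^ (m i : ℕ) := by
    intro m
    rw [alt, ← Matrix.det_transpose, Matrix.det_apply']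
    rfl
  simp only [pair, h1, Finset.sum_mul]
  rw [Finset.sum_comm]
  have h2 : ∀ σ : Equiv.Perm (Fin r),
      ∑ m : Fin r → Fin N, ((Equiv.Perm.sign σ : ℤ) : ℂ) * (∏ i, z (σ i) ^ (m i : ℕ)) *
        alt w (fun i => (m i : ℕ)) = (gram N z w).det := by
    intro σ
    have h3 : ∀ m : Fin r → Fin N, (∏ i, z (σ i) ^ (m i : ℕ)) * alt w (fun i => (m i : ℕ)) =
        Matrix.detRowAlternating (fun i j => (z (σ i) * w j) ^ (m i : ℕ)) := by
      intro m
      rw [alt, ← Matrix.det_mul_column]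
      simp only [mul_pow]
      rfl
    have h4 : ∑ m : Fin r → Fin N, Matrix.detRowAlternating (fun i j => (z (σ i) * w j) ^ (m i : ℕ)) =
        Matrix.det ((gram N z w).submatrix σ id) := by
      have := (Matrix.detRowAlternating : (Fin r → ℂ) [⋀^Fin r]→ₗ[ℂ] ℂ).toMultilinearMap.map_sum
        (fun i (x : Fin N) j => (z (σ i) * w j) ^ (x : ℕ))
      simp only [AlternatingMap.coe_multilinearMap] at this
      rw [← this]
      congr 1
      funext i j
      simp [gram, Finset.sum_apply]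
    simp only [mul_assoc, h3]
    rw [← Finset.mul_sum, h4, Matrix.det_permute, ← mul_assoc,
      ← Int.cast_mul, Int.units_coe_mul_self, Int.cast_one, one_mul]
  rw [Finset.sum_congr rfl (fun σ _ => h2 σ), Finset.sum_const, Finset.card_univ, Fintype.card_perm,
    Fintype.card_fin, nsmul_eq_mul]

theorem sum_pair_restrict (z w : Fin r → ℂ) (Q : (Fin r → Fin N) → Prop) [DecidablePred Q]
    (hQ : ∀ m (σ : Equiv.Perm (Fin r)), Q m → Q (m ∘ σ)) :
    ∑ m ∈ univ.filter Q, pair z w m = (r.factorial : ℂ) * ∑ m ∈ (SA r N).filter Q, pair z w m := by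
  classical
  have h : ∑ m ∈ univ.filter (fun m => Q m ∧ Function.Injective m), pair z w m =
      ∑ p ∈ ((SA r N).filter Q) ×ˢ (univ : Finset (Equiv.Perm (Fin r))), pair z w p.1 := by
    symm
    refine Finset.sum_bij (fun p _ => p.1 ∘ p.2) ?_ ?_ ?_ ?_
    · rintro ⟨m, σ⟩ hm
      simp [SA] at hm
      simp [hQ m σ hm.2, hm.1.injective.comp σ.injective]
    · rintro ⟨m, σ⟩ hm ⟨m', σ'⟩ hm' he
      simp [SA] at hm hm'
      simp only at he
      have hrange : Set.range m = Set.range m' := by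
        rw [← σ.surjective.range_comp m, ← σ'.surjective.range_comp m', he]
      have hmm : m = m' := by
        have h1 : StrictMono (m ∘ Fin.rev) := hm.1.comp Fin.rev_strictAnti
        have h2 : StrictMono (m' ∘ Fin.rev) := hm'.1.comp Fin.rev_strictAnti
        have h3 : m ∘ Fin.rev = m' ∘ Fin.rev := (h1.range_inj h2).mp (by
          rw [Fin.rev_surjective.range_comp, Fin.rev_surjective.range_comp, hrange])
        funext i
        simpa using congrFun h3 (Fin.rev i)
      subst hmm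
      have : σ = σ' := Equiv.ext fun i => hm.1.injective (congrFun he i)
      rw [this]
    · intro m hm
      simp at hm
      let σ := Tuple.sort m * Fin.revPerm
      refine ⟨(m ∘ σ, σ⁻¹), ?_, ?_⟩
      · have hs : StrictMono (m ∘ Tuple.sort m) :=
          (Tuple.monotone_sort m).strictMono_of_injective (hm.2.comp (Tuple.sort m).injective)
        have e : m ∘ σ = (m ∘ Tuple.sort m) ∘ Fin.rev := rfl
        simp [SA, hQ m σ hm.1]
        rw [e]
        exact hs.comp_strictAnti Fin.rev_strictAnti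
      · funext i; simp [Equiv.Perm.inv_def]
    · intro p _; exact (pair_perm z w p.1 p.2).symm
  rw [← Finset.sum_subset (s₁ := univ.filter (fun m => Q m ∧ Function.Injective m))
    (s₂ := univ.filter Q) (fun m hm => by simp at hm ⊢; exact hm.1)
    (fun m hm hm' => pair_eq_zero_of_not_injective z w m (by simp at hm hm'; exact hm' hm)), h,
    Finset.sum_product, Finset.mul_sum]
  refine Finset.sum_congr rfl fun m _ => ?_
  simp [Finset.card_univ, Fintype.card_perm]

theorem sum_SA (z w : Fin r → ℂ) : ∑ m ∈ SA r N, pair z w m = (gram N z w).det := by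
  have h := sum_pair_restrict (N := N) z w (fun _ => True) (fun _ _ _ => trivial)
  rw [Finset.filter_true, Finset.filter_true, sum_pair] at h
  exact (mul_left_cancel₀ (by exact_mod_cast r.factorial_ne_zero) h).symm

theorem pair_add_one [NeZero N] (z w : Fin r → ℂ) (hz : ∀ j, z j ^ N = 1) (hw : ∀ j, w j ^ N = 1)
    (m : Fin r → Fin N) (c : Fin N) :
    pair z w (fun i => m i + c) = ((∏ j, z j) * ∏ j, w j) ^ (c : ℕ) * pair z w m := by
  have h : ∀ (u : Fin r → ℂ), (∀ j, u j ^ N = 1) →
      alt u (fun i => ((m i + c : Fin N) : ℕ)) = (∏ j, u j) ^ (c : ℕ) * alt u (fun i => (m i : ℕ)) := by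
    intro u hu
    rw [alt, alt, ← Finset.prod_pow, ← Matrix.det_mul_row]
    congr 1
    ext i j
    simp only [Matrix.of_apply, Fin.val_add]
    rw [← pow_eq_pow_mod _ (hu j), pow_add, mul_comm]
  rw [pair, pair, h z hz, h w hw, mul_pow]; ring

/-- Sums over subsets avoiding a point. -/
theorem sum_avoid [NeZero N] (z w : Fin r → ℂ) (hz : ∀ j, z j ^ N = 1) (hw : ∀ j, w j ^ N = 1)
    (hP : (∏ j, z j) * ∏ j, w j = 1) (c : Fin N) :
    (N : ℂ) * ∑ m ∈ (SA r N).filter (fun m => ∀ i, m i ≠ c), pair z w m =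
      ((N : ℂ) - r) * (gram N z w).det := by
  classical
  let R : Fin N → ℂ := fun c => ∑ m ∈ univ.filter (fun m : Fin r → Fin N => ∀ i, m i ≠ c), pair z w m
  have hR : ∀ d, R d = R c := by
    intro d
    refine Finset.sum_nbij' (fun m i => m i + (c - d)) (fun m i => m i + (d - c)) ?_ ?_ ?_ ?_ ?_
    · intro m hm; simp at hm ⊢; intro i h; apply hm i
      calc m i = (m i + (c - d)) + (d - c) := by rw [add_assoc, sub_add_sub_cancel, sub_self, add_zero]
        _ = d := by rw [h]; exact add_sub_cancel c d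
    · intro m hm; simp at hm ⊢; intro i h; apply hm i
      calc m i = (m i + (d - c)) + (c - d) := by rw [add_assoc, sub_add_sub_cancel, sub_self, add_zero]
        _ = c := by rw [h]; exact add_sub_cancel d c
    · intro m _; funext i; simp only [add_assoc, sub_add_sub_cancel, sub_self, add_zero]
    · intro m _; funext i; simp only [add_assoc, sub_add_sub_cancel, sub_self, add_zero]
    · intro m _; rw [pair_add_one z w hz hw, hP, one_pow, one_mul]
  have hcount : ∑ d, R d = ((N : ℂ) - r) * ((r.factorial : ℂ) * (gram N z w).det) := by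
    rw [← sum_pair, Finset.mul_sum]
    simp only [R, Finset.sum_filter]
    rw [Finset.sum_comm]
    refine Finset.sum_congr rfl fun m _ => ?_
    by_cases hm : Function.Injective m
    · rw [← Finset.sum_filter, Finset.sum_const, nsmul_eq_mul]
      congr 1
      have e : univ.filter (fun d => ∀ i, m i ≠ d) = (univ.image m)ᶜ := by ext d; simp
      rw [e, Finset.card_compl, Finset.card_image_of_injective _ hm, Finset.card_univ,
        Fintype.card_fin, Fintype.card_fin, Nat.cast_sub]
      simpa using Fintype.card_le_of_injective m hm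
    · simp [pair_eq_zero_of_not_injective z w m hm]
  rw [Finset.sum_congr rfl (fun d _ => hR d), Finset.sum_const, Finset.card_univ, Fintype.card_fin,
    nsmul_eq_mul] at hcount
  simp only [R] at hcount
  rw [sum_pair_restrict z w _ (fun m σ h i => h (σ i))] at hcount
  apply mul_left_cancel₀ (by exact_mod_cast r.factorial_ne_zero : (r.factorial : ℂ) ≠ 0)
  linear_combination hcount

theorem last_eq_zero_iff [NeZero N] {m : Fin r → Fin N} (hm : StrictAnti m) (hr : 1 ≤ r) :
    (∀ i : Fin r, (i : ℕ) = r - 1 → (m i : ℕ) = 0) ↔ ¬ ∀ i, m i ≠ 0 := by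
  constructor
  · exact fun h h' => h' ⟨r - 1, by omega⟩ (Fin.ext (h ⟨r - 1, by omega⟩ rfl))
  · intro h i hi
    push Not at h
    obtain ⟨j, hj⟩ := h
    have : m i ≤ m j := hm.antitone (by rw [Fin.le_def]; omega)
    rw [hj, Fin.le_def] at this
    simp at this
    rw [this]; simp

/-- Sums over subsets containing `0`. -/
theorem sum_anchor [NeZero N] (hr : 1 ≤ r) (z w : Fin r → ℂ) (hz : ∀ j, z j ^ N = 1)
    (hw : ∀ j, w j ^ N = 1) (hP : (∏ j, z j) * ∏ j, w j = 1) :
    (N : ℂ) * ∑ m ∈ univ.filter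
      (fun m : Fin r → Fin N => StrictAnti m ∧ ∀ i : Fin r, (i : ℕ) = r - 1 → (m i : ℕ) = 0),
      pair z w m = (r : ℂ) * (gram N z w).det := by
  have e : univ.filter
      (fun m : Fin r → Fin N => StrictAnti m ∧ ∀ i : Fin r, (i : ℕ) = r - 1 → (m i : ℕ) = 0) =
      (SA r N).filter (fun m => ¬ ∀ i, m i ≠ 0) := by
    rw [SA, Finset.filter_filter]
    exact Finset.filter_congr fun m _ => and_congr_right fun hm => last_eq_zero_iff hm hr
  have h := sum_avoid z w hz hw hP 0
  have h2 := Finset.sum_filter_add_sum_filter_not (SA r N) (fun m => ∀ i, m i ≠ 0) (pair z w)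
  rw [sum_SA] at h2
  rw [e]
  linear_combination (N : ℂ) * h2 - h

theorem sum_root_pow (x : ℂ) (hx : x ^ N = 1) :
    ∑ i : Fin N, x ^ (i : ℕ) = if x = 1 then (N : ℂ) else 0 := by
  split_ifs with h
  · simp [h]
  · rw [Fin.sum_univ_eq_sum_range (fun i => x ^ i), geom_sum_eq h, hx]; simp

theorem gram_diag (z w : Fin r → ℂ) (hinj : Function.Injective z) (hz : ∀ j, z j ^ N = 1)
    (hzw : ∀ j, z j * w j = 1) : (gram N z w).det = (N : ℂ) ^ r := by
  have hne : ∀ j, w j ≠ 0 := fun j => (right_ne_zero_of_mul_eq_one (hzw j))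
  have : gram N z w = Matrix.diagonal fun _ => (N : ℂ) := by
    ext j l
    simp only [gram, Matrix.of_apply]
    rw [sum_root_pow _ (by
      have := congrArg (· ^ N) (hzw l)
      simp [mul_pow, hz l] at this
      simp [mul_pow, hz j, this]), Matrix.diagonal_apply]
    by_cases h : j = l
    · subst h; simp [hzw j]
    · rw [if_neg h, if_neg]
      intro he
      exact h (hinj (mul_right_cancel₀ (hne l) (he.trans (hzw l).symm)))
  simp [this]

theorem alt_reflect (z w : Fin r → ℂ) (hzw : ∀ j, z j * w j = 1) (K : ℕ) (m : Fin r → ℕ)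
    (hm : ∀ i, m i ≤ K) :
    alt z (fun i => K - m (Fin.rev i)) =
      ((Equiv.Perm.sign (Fin.revPerm : Equiv.Perm (Fin r)) : ℤ) : ℂ) * (∏ j, z j) ^ K * alt w m := by
  have h : alt z (fun i => K - m i) = (∏ j, z j) ^ K * alt w m := by
    rw [alt, alt, ← Finset.prod_pow, ← Matrix.det_mul_row]
    congr 1
    ext i j
    simp only [Matrix.of_apply]
    conv_rhs => rw [show K = (K - m i) + m i from (Nat.sub_add_cancel (hm i)).symm]
    rw [pow_add, mul_assoc, ← mul_pow, hzw j, one_pow, mul_one]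
  rw [show (fun i => K - m (Fin.rev i)) = (fun i => K - m i) ∘ (Fin.revPerm : Equiv.Perm (Fin r))
    from rfl, alt_perm, h]
  ring

theorem delta_reflect (z w : Fin r → ℂ) (hzw : ∀ j, z j * w j = 1) :
    delta z = ((Equiv.Perm.sign (Fin.revPerm : Equiv.Perm (Fin r)) : ℤ) : ℂ) * (∏ j, z j) ^ (r - 1) *
      delta w := by
  rw [delta, delta, ← alt_reflect z w hzw (r - 1) (fun i => r - 1 - (i : ℕ)) (fun i => Nat.sub_le _ _)]
  congr 1
  funext i
  simp [Fin.val_rev]
  omega

theorem delta_eq_prod (z : Fin r → ℂ) :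
    delta z = ((Equiv.Perm.sign (Fin.revPerm : Equiv.Perm (Fin r)) : ℤ) : ℂ) *
      ∏ p ∈ univ.filter (fun p : Fin r × Fin r => p.1 < p.2), (z p.2 - z p.1) := by
  have e : (fun i : Fin r => r - 1 - (i : ℕ)) = (fun i : Fin r => (i : ℕ)) ∘ Fin.revPerm := by
    funext i; simp [Fin.val_rev]; omega
  rw [delta, e, alt_perm, alt, ← Matrix.det_transpose]
  congr 1
  rw [show (Matrix.of fun i j : Fin r => z j ^ (i : ℕ))ᵀ = Matrix.vandermonde z from rfl,
    Matrix.det_vandermonde, Finset.prod_filter, Fintype.prod_prod_type]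
  refine Finset.prod_congr rfl fun i _ => ?_
  rw [← Finset.prod_filter]
  refine Finset.prod_congr ?_ fun _ _ => rfl
  ext j; simp

theorem delta_ne_zero (z : Fin r → ℂ) (hinj : Function.Injective z) : delta z ≠ 0 := by
  rw [delta_eq_prod]
  refine mul_ne_zero (by simp) (Finset.prod_ne_zero_iff.mpr fun p hp => ?_)
  simp at hp
  exact sub_ne_zero.mpr fun h => hp.ne' (hinj h)

/-- The root of unity `exp (2πi x / N)`. -/
noncomputable def E (N : ℕ) (x : ℂ) : ℂ := Complex.exp (2 * Real.pi * Complex.I * x / (N : ℂ))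

theorem E_add (x y : ℂ) : E N (x + y) = E N x * E N y := by
  rw [E, E, E, ← Complex.exp_add]; ring_nf

theorem E_zero : E N 0 = 1 := by simp [E]

theorem E_pow (x : ℂ) (n : ℕ) : E N x ^ n = E N (n * x) := by
  rw [E, E, ← Complex.exp_nat_mul]; ring_nf

theorem E_mul_self (x : ℂ) : E N x * E N (-x) = 1 := by rw [← E_add, add_neg_cancel, E_zero]

theorem E_prod (f : Fin r → ℂ) : ∏ j, E N (f j) = E N (∑ j, f j) := by
  induction r with
  | zero => simp [E_zero]
  | succ r ih => rw [Fin.prod_univ_succ, Fin.sum_univ_succ, E_add, ih]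

theorem E_eq_one_iff (hN : N ≠ 0) (x : ℂ) : E N x = 1 ↔ ∃ n : ℤ, x = n * N := by
  have hN' : (N : ℂ) ≠ 0 := by exact_mod_cast hN
  have h2 : (2 * Real.pi * Complex.I : ℂ) ≠ 0 := Complex.two_pi_I_ne_zero
  rw [E, Complex.exp_eq_one_iff]
  refine exists_congr fun n => ⟨fun h => ?_, fun h => ?_⟩
  · field_simp at h
    exact mul_left_cancel₀ h2 (by linear_combination (2 * Real.pi * Complex.I) * h)
  · rw [h]; field_simp

theorem E_int_pow_N (hN : N ≠ 0) (n : ℤ) : E N (n : ℂ) ^ N = 1 := by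
  rw [E_pow]
  exact (E_eq_one_iff hN _).mpr ⟨n, by ring⟩

theorem E_nat_pow_N (hN : N ≠ 0) (n : ℕ) : E N (n : ℂ) ^ N = 1 := by
  exact_mod_cast E_int_pow_N hN (n : ℤ)

theorem E_neg_nat_pow_N (hN : N ≠ 0) (n : ℕ) : E N (-(n : ℂ)) ^ N = 1 := by
  have := E_int_pow_N hN (-(n : ℤ))
  simpa using this

theorem E_nat_injective (hN : N ≠ 0) {a b : ℕ} (ha : a < N) (hb : b < N)
    (h : E N (a : ℂ) = E N (b : ℂ)) : a = b := by
  have h1 : E N ((a : ℂ) - b) = 1 := by
    rw [sub_eq_add_neg, E_add, h, E_mul_self]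
  obtain ⟨n, hn⟩ := (E_eq_one_iff hN _).mp h1
  have hz : (a : ℤ) - b = n * N := by exact_mod_cast hn
  rcases lt_trichotomy n 0 with h2 | rfl | h2
  · nlinarith
  · simp at hz; omega
  · nlinarith

theorem E_injective_comp (hN : N ≠ 0) {v : Fin r → ℕ} (hv : Function.Injective v)
    (hlt : ∀ i, v i < N) : Function.Injective fun j => E N (v j : ℂ) :=
  fun a b h => hv (E_nat_injective hN (hlt a) (hlt b) h)

theorem factor_sin (a b : ℝ) :
    (E N (b : ℂ) - E N (a : ℂ)) * (E N (-(b : ℂ)) - E N (-(a : ℂ))) =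
      (((2 : ℝ) * Real.sin (Real.pi * (a - b) / (N : ℝ))) ^ 2 : ℝ) := by
  have key : ∀ θ : ℂ, 2 - Complex.exp (2 * θ * Complex.I) - Complex.exp (-(2 * θ * Complex.I)) =
      (2 * Complex.sin θ) ^ 2 := by
    intro θ
    rw [Complex.sin, show (2 : ℂ) * θ * Complex.I = θ * Complex.I + θ * Complex.I by ring,
      neg_add, Complex.exp_add, Complex.exp_add]
    have h : Complex.exp (θ * Complex.I) * Complex.exp (-(θ * Complex.I)) = 1 := by
      rw [← Complex.exp_add]; simp
    rw [show -θ * Complex.I = -(θ * Complex.I) by ring]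
    linear_combination (-2 : ℂ) * h +
      (-(Complex.exp (-(θ * Complex.I)) - Complex.exp (θ * Complex.I)) ^ 2) * Complex.I_sq
  have h1 : E N ((a : ℂ) - b) = Complex.exp (2 * ((Real.pi : ℂ) * (a - b) / N) * Complex.I) := by
    rw [E]; ring_nf
  have h2 : E N ((b : ℂ) - a) = Complex.exp (-(2 * ((Real.pi : ℂ) * (a - b) / N) * Complex.I)) := by
    rw [E]; ring_nf
  push_cast
  rw [← key, ← h1, ← h2, sub_eq_add_neg (a : ℂ), sub_eq_add_neg (b : ℂ) (a : ℂ), E_add, E_add]
  linear_combination (E_mul_self (N := N) (a : ℂ)) + (E_mul_self (N := N) (b : ℂ))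

theorem delta_mul_delta (v : Fin r → ℕ) :
    delta (fun j => E N (v j : ℂ)) * delta (fun j => E N (-(v j : ℂ))) =
      ((∏ p ∈ univ.filter (fun p : Fin r × Fin r => p.1 < p.2),
        ((2 : ℝ) * Real.sin (Real.pi * ((v p.1 : ℝ) - (v p.2 : ℝ)) / (N : ℝ))) ^ 2 : ℝ) : ℂ) := by
  rw [delta_eq_prod, delta_eq_prod, mul_mul_mul_comm, ← Int.cast_mul, Int.units_coe_mul_self,
    Int.cast_one, one_mul, ← Finset.prod_mul_distrib, Complex.ofReal_prod]
  refine Finset.prod_congr rfl fun p _ => ?_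
  rw [← factor_sin]; push_cast; ring

end Groth.Agent.H68.Verlinde
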