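import Groth.Agent.H68.Verlinde
import Mathlib.GroupTheory.Perm.Fin

/-!
The three sums used by the Verlinde statements.
-/

namespace Groth.Agent.H68.VerlindeSums

open Finset Groth.Agent.H68.Verlinde

variable {r k : ℕ}

theorem prodE_mul (v : Fin r → ℕ) {N : ℕ} :
    (∏ j, E N (v j : ℂ)) * ∏ j, E N (-(v j : ℂ)) = 1 := by
  rw [← Finset.prod_mul_distrib]
  exact Finset.prod_eq_one fun j _ => E_mul_self _

theorem diag (hr : 1 ≤ r) :
    ∑ m ∈ univ.filter (fun m : Fin r → Fin (r + k) =>
        StrictAnti m ∧ ∀ i : Fin r, (i : ℕ) = r - 1 → (m i : ℕ) = 0),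
      delta (fun j => E (r + k) (((m j : ℕ) : ℂ))) * delta (fun j => E (r + k) (-((m j : ℕ) : ℂ))) =
    (r : ℂ) * ((r : ℂ) + k) ^ (r - 1) := by
  have : NeZero (r + k) := ⟨by omega⟩
  have hN : r + k ≠ 0 := by omega
  let u : Fin r → ℕ := fun i => r - 1 - (i : ℕ)
  have hu : Function.Injective u := fun a b h => Fin.ext (by simp only [u] at h; omega)
  have hsym : ∀ (m : Fin r → Fin (r + k)),
      delta (fun j => E (r + k) (((m j : ℕ) : ℂ))) * delta (fun j => E (r + k) (-((m j : ℕ) : ℂ))) =
      pair (fun i => E (r + k) (u i : ℂ)) (fun i => E (r + k) (-(u i : ℂ))) m := by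
    intro m
    have e : ∀ c : ℂ, alt (fun j => E (r + k) (c * ((m j : ℕ) : ℂ))) u =
        alt (fun i => E (r + k) (c * (u i : ℂ))) (fun j => (m j : ℕ)) := by
      intro c
      rw [alt, alt, ← Matrix.det_transpose]
      congr 1
      ext i j
      simp [E_pow]; ring_nf
    have e1 := e 1
    have e2 := e (-1)
    simp only [one_mul, neg_one_mul] at e1 e2
    rw [pair, ← e1, ← e2]
    rfl
  simp only [hsym]
  have h := sum_anchor hr (fun i => E (r + k) (u i : ℂ)) (fun i => E (r + k) (-(u i : ℂ)))
    (fun i => E_nat_pow_N hN _) (fun i => E_neg_nat_pow_N hN _) (prodE_mul u)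
  rw [gram_diag _ _ (E_injective_comp hN hu (fun i => by simp only [u]; omega))
    (fun i => E_nat_pow_N hN _) (fun i => E_mul_self _)] at h
  have hN' : ((r + k : ℕ) : ℂ) ≠ 0 := by exact_mod_cast hN
  apply mul_left_cancel₀ hN'
  rw [h, show (r : ℂ) + k = ((r + k : ℕ) : ℂ) by push_cast; rfl,
    show r = (r - 1) + 1 by omega, pow_succ, show r - 1 + 1 - 1 = r - 1 by omega]
  ring

theorem avoid_sum (hr : 1 ≤ r) (hk : 1 ≤ k) (v : Fin r → ℕ) (hv : Function.Injective v)
    (hvlt : ∀ i, v i < r + k) :
    ∑ μ ∈ (univ : Finset (Fin r → Fin k)).filter (fun μ : Fin r → Fin k => Antitone μ),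
      alt (fun j => E (r + k) (v j : ℂ)) (fun i => (μ i : ℕ) + (r - 1 - (i : ℕ))) *
      alt (fun j => E (r + k) (-(v j : ℂ))) (fun i => (μ i : ℕ) + (r - 1 - (i : ℕ))) =
    (k : ℂ) * ((r : ℂ) + k) ^ (r - 1) := by
  have : NeZero (r + k) := ⟨by omega⟩
  have hN : r + k ≠ 0 := by omega
  set z := fun j => E (r + k) (v j : ℂ)
  set w := fun j => E (r + k) (-(v j : ℂ))
  let c : Fin (r + k) := ⟨r + k - 1, by omega⟩
  have h := sum_avoid z w (fun i => E_nat_pow_N hN _) (fun i => E_neg_nat_pow_N hN _) (prodE_mul v) c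
  rw [gram_diag _ _ (E_injective_comp hN hv hvlt) (fun i => E_nat_pow_N hN _)
    (fun i => E_mul_self _)] at h
  have e : ∑ μ ∈ (univ : Finset (Fin r → Fin k)).filter (fun μ : Fin r → Fin k => Antitone μ),
      alt z (fun i => (μ i : ℕ) + (r - 1 - (i : ℕ))) * alt w (fun i => (μ i : ℕ) + (r - 1 - (i : ℕ))) =
      ∑ m ∈ (SA r (r + k)).filter (fun m => ∀ i, m i ≠ c), pair z w m := by
    refine Finset.sum_bij' (fun μ _ i => ⟨(μ i : ℕ) + (r - 1 - (i : ℕ)), by omega⟩)
      (fun m hm i => ⟨(m i : ℕ) - (r - 1 - (i : ℕ)), ?_⟩) ?_ ?_ ?_ ?_ ?_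
    · simp [SA] at hm
      have h1 : ∀ j : Fin r, (m j : ℕ) + (j : ℕ) + 1 < r + k := by
        intro ⟨j, hj⟩
        induction j with
        | zero =>
          have := hm.2 ⟨0, hj⟩
          simp [c, Fin.ext_iff] at this
          simp; omega
        | succ n ih =>
          have := ih (by omega)
          have h2 := hm.1 (show (⟨n, by omega⟩ : Fin r) < ⟨n + 1, hj⟩ by simp)
          rw [Fin.lt_def] at h2
          simp at this ⊢
          omega
      have := h1 i
      omega
    · intro μ hμ
      simp at hμ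
      simp [SA]
      refine ⟨fun a b hab => ?_, fun i => ?_⟩
      · have := hμ hab.le
        rw [Fin.le_def] at this
        rw [Fin.lt_def] at hab ⊢
        simp; omega
      · simp [c, Fin.ext_iff]; omega
    · intro m hm
      simp [SA] at hm ⊢
      have key : ∀ d (a b : Fin r), (b : ℕ) = a + d → (m b : ℕ) + d ≤ m a := by
        intro d
        induction d with
        | zero => intro a b h; rw [show b = a from Fin.ext (by simpa using h)]; simp
        | succ d ih =>
          intro a b h
          have := ih a ⟨a + d, by omega⟩ rfl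
          have h2 := hm.1 (show (⟨a + d, by omega⟩ : Fin r) < b by rw [Fin.lt_def]; simp; omega)
          rw [Fin.lt_def] at h2
          omega
      intro a b hab
      rw [Fin.le_def] at hab ⊢
      have := key ((b : ℕ) - a) a b (by omega)
      simp; omega
    · intro μ hμ; funext i; simp
    · intro m hm
      simp [SA] at hm
      funext i
      have key : ∀ d (a : Fin r), (a : ℕ) + d = r - 1 → d ≤ (m a : ℕ) := by
        intro d
        induction d with
        | zero => simp
        | succ d ih =>
          intro a ha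
          have := ih ⟨a + 1, by omega⟩ (by simp; omega)
          have h2 := hm.1 (show a < (⟨a + 1, by omega⟩ : Fin r) by rw [Fin.lt_def]; simp)
          rw [Fin.lt_def] at h2
          omega
      have := key (r - 1 - (i : ℕ)) i (by omega)
      ext; simp; omega
    · intro μ _; rfl
  rw [e]
  have hN' : ((r + k : ℕ) : ℂ) ≠ 0 := by exact_mod_cast hN
  apply mul_left_cancel₀ hN'
  rw [h, show (r : ℂ) + k = ((r + k : ℕ) : ℂ) by push_cast; rfl]
  generalize hM : r + k = M
  have : (M : ℂ) ^ r = M * (M : ℂ) ^ (r - 1) := by rw [← pow_succ']; congr 1; omega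
  rw [this, ← hM]; push_cast; ring

/-- `S_μ(z) S_{μ*}(z')` before division. -/
theorem reflect_schur (z w : Fin r → ℂ) (hzw : ∀ j, z j * w j = 1) (μ : Fin r → ℕ) (hμ : ∀ i, μ i ≤ k) :
    alt z (fun i => k - μ (Fin.rev i) + (r - 1 - (i : ℕ))) =
      ((Equiv.Perm.sign (Fin.revPerm : Equiv.Perm (Fin r)) : ℤ) : ℂ) * (∏ j, z j) ^ (k + (r - 1)) *
        alt w (fun i => μ i + (r - 1 - (i : ℕ))) := by
  rw [← alt_reflect z w hzw (k + (r - 1)) (fun i => μ i + (r - 1 - (i : ℕ))) (fun i => by
    have := hμ i; omega)]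
  congr 1
  funext i
  have := hμ (Fin.rev i)
  simp [Fin.val_rev]
  omega

theorem schur_sum (hr : 1 ≤ r) (hk : 1 ≤ k) (v : Fin r → ℕ) (hv : Function.Injective v)
    (hvlt : ∀ i, v i < r + k) :
    ∑ μ ∈ (univ : Finset (Fin r → Fin k)).filter (fun μ : Fin r → Fin k => Antitone μ),
      (alt (fun j => E (r + k) (v j : ℂ)) (fun i => (μ i : ℕ) + (r - 1 - (i : ℕ))) /
        delta (fun j => E (r + k) (v j : ℂ))) *
      (alt (fun j => E (r + k) (v j : ℂ)) (fun i => k - (μ (Fin.rev i) : ℕ) + (r - 1 - (i : ℕ))) /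
        delta (fun j => E (r + k) (v j : ℂ))) =
    E (r + k) ((k : ℂ) * ((∑ j, v j : ℕ) : ℂ)) * ((k : ℂ) * ((r : ℂ) + k) ^ (r - 1)) /
      ((∏ p ∈ univ.filter (fun p : Fin r × Fin r => p.1 < p.2),
        ((2 : ℝ) * Real.sin (Real.pi * ((v p.1 : ℝ) - (v p.2 : ℝ)) / ((r : ℝ) + k))) ^ 2 : ℝ) : ℂ) := by
  have hN : r + k ≠ 0 := by omega
  set z := fun j => E (r + k) (v j : ℂ) with hz
  set w := fun j => E (r + k) (-(v j : ℂ)) with hw
  set ε : ℂ := ((Equiv.Perm.sign (Fin.revPerm : Equiv.Perm (Fin r)) : ℤ) : ℂ)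
  set P := ∏ j, z j with hPdef
  have hd : delta z ≠ 0 := delta_ne_zero z (E_injective_comp hN hv hvlt)
  have hdw : delta w ≠ 0 := by
    intro h
    apply hd
    rw [delta_reflect z w (fun j => E_mul_self _), h, mul_zero]
  have hterm : ∀ μ : Fin r → Fin k,
      (alt z (fun i => (μ i : ℕ) + (r - 1 - (i : ℕ))) / delta z) *
        (alt z (fun i => k - (μ (Fin.rev i) : ℕ) + (r - 1 - (i : ℕ))) / delta z) =
      P ^ k / (delta z * delta w) * (alt z (fun i => (μ i : ℕ) + (r - 1 - (i : ℕ))) *
        alt w (fun i => (μ i : ℕ) + (r - 1 - (i : ℕ)))) := by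
    intro μ
    rw [reflect_schur z w (fun j => E_mul_self _) (fun i => (μ i : ℕ)) (fun i => (μ i).isLt.le)]
    conv_lhs => rw [div_mul_div_comm]; arg 2; arg 1; rw [delta_reflect z w (fun j => E_mul_self _)]
    have hε : ε ≠ 0 := by simp [ε]
    have hP : P ^ (r - 1) ≠ 0 :=
      pow_ne_zero _ (Finset.prod_ne_zero_iff.mpr fun j _ => Complex.exp_ne_zero _)
    rw [pow_add, ← hPdef]
    change _ * (ε * _ * _) / (ε * _ * _ * _) = _
    field_simp
  rw [Finset.sum_congr rfl (fun μ _ => hterm μ), ← Finset.mul_sum, avoid_sum hr hk v hv hvlt,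
    hPdef, hz, hw, delta_mul_delta, E_prod, E_pow]
  push_cast
  ring

/-- vanishing of twisted sums -/
theorem twisted_zero (hr : 1 ≤ r) (v v' : Fin r → ℕ) (hv : StrictAnti v) (hvlt : ∀ i, v i < r + k)
    (hv' : StrictAnti v') (hv'lt : ∀ i, v' i < r + k)
    (hne : ¬ ∃ a : ℤ, ∀ i, (v i : ℤ) - (v' i : ℤ) = a) :
    ∑ m ∈ univ.filter (fun m : Fin r → Fin (r + k) =>
        StrictAnti m ∧ ∀ i : Fin r, (i : ℕ) = r - 1 → (m i : ℕ) = 0),
      E (r + k) (-(((∑ j, v j : ℕ) : ℂ) - ((∑ j, v' j : ℕ) : ℂ)) / r) ^ (∑ i, (m i : ℕ)) *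
        pair (fun j => E (r + k) (v j : ℂ)) (fun j => E (r + k) (-(v' j : ℂ))) m = 0 := by
  classical
  have : NeZero (r + k) := ⟨by omega⟩
  have hN : r + k ≠ 0 := by omega
  have hr0 : (r : ℂ) ≠ 0 := by exact_mod_cast (by omega : r ≠ 0)
  set D : ℂ := ((∑ j, v j : ℕ) : ℂ) - ((∑ j, v' j : ℕ) : ℂ) with hD
  set N := r + k with hNdef
  set t := E N (-D / r) with ht
  set z := fun j => E N (v j : ℂ) with hz
  set w := fun j => E N (-(v' j : ℂ)) with hw
  have hz1 : ∀ j, z j ^ N = 1 := fun j => E_nat_pow_N hN _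
  have hw1 : ∀ j, w j ^ N = 1 := fun j => E_neg_nat_pow_N hN _
  have htP : t ^ r * ((∏ j, z j) * ∏ j, w j) = 1 := by
    rw [ht, hz, hw, E_pow, E_prod, E_prod, ← E_add, ← E_add]
    convert E_zero (N := N) using 2
    rw [hD, Finset.sum_neg_distrib]; field_simp; push_cast; ring
  by_cases htN : t ^ N = 1
  · -- absorb the twist
    have hfac : ∀ m : Fin r → Fin N, t ^ (∑ i, (m i : ℕ)) * pair z w m =
        pair (fun j => t * z j) w m := by
      intro m
      rw [pair, pair, ← mul_assoc]
      congr 1
      rw [alt, alt, ← Finset.prod_pow_eq_pow_sum, ← Matrix.det_mul_column]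
      congr 1; ext i j; simp [mul_pow]
    simp only [hfac]
    have h := sum_anchor (N := N) hr (fun j => t * z j) w (fun j => by rw [mul_pow, htN, hz1, one_mul])
      hw1 (by rw [Finset.prod_mul_distrib, Finset.prod_const, Finset.card_univ, Fintype.card_fin,
        mul_assoc]; exact htP)
    suffices hg : (gram N (fun j => t * z j) w).det = 0 by
      rw [hg, mul_zero] at h
      exact (mul_eq_zero.mp h).resolve_left (by exact_mod_cast hN)
    by_contra hdet
    rw [Matrix.det_apply] at hdet
    obtain ⟨σ, -, hσ⟩ := Finset.exists_ne_zero_of_sum_ne_zero hdet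
    have hone : ∀ l, ∃ n : ℤ, -D / r + (v (σ l) : ℂ) - (v' l : ℂ) = n * N := by
      intro l
      rw [← E_eq_one_iff hN]
      by_contra hc
      apply hσ
      rw [Finset.prod_eq_zero (Finset.mem_univ l) ?_, smul_zero]
      simp only [gram, Matrix.of_apply]
      rw [sum_root_pow _ (by rw [mul_pow, mul_pow, htN, hz1, hw1]; ring), if_neg]
      intro h1
      apply hc
      rw [sub_eq_add_neg, E_add, E_add]
      exact h1
    choose n hn using hone
    have hsum : (∑ l, n l : ℤ) = 0 := by
      have h1 : ∑ l, ((n l : ℂ) * N) = 0 := by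
        rw [← Finset.sum_congr rfl (fun l _ => hn l), Finset.sum_sub_distrib, Finset.sum_add_distrib,
          Equiv.sum_comp σ (fun l => (v l : ℂ)), Finset.sum_const, Finset.card_univ, Fintype.card_fin,
          nsmul_eq_mul, hD]
        push_cast; field_simp; ring
      rw [← Finset.sum_mul] at h1
      exact_mod_cast (mul_eq_zero.mp h1).resolve_right (by exact_mod_cast hN)
    have hdiff : ∀ a b, (n a - n b) * (N : ℤ) =
        ((v (σ a) : ℤ) - v' a) - ((v (σ b) : ℤ) - v' b) := by
      intro a b
      have : (((n a - n b) * (N : ℤ) : ℤ) : ℂ) =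
          ((((v (σ a) : ℤ) - v' a) - ((v (σ b) : ℤ) - v' b) : ℤ) : ℂ) := by
        push_cast; linear_combination -(hn a) + hn b
      exact_mod_cast this
    have hle : ∀ a b, n a - n b ≤ 1 := by
      intro a b
      by_contra hcon
      have h1 : 2 * (N : ℤ) ≤ (n a - n b) * N := mul_le_mul_of_nonneg_right (by omega) (by omega)
      have := hdiff a b
      have := hvlt (σ a); have := hvlt (σ b); have := hv'lt a; have := hv'lt b
      omega
    have hn0 : ∀ l, n l = 0 := by
      intro l
      rcases lt_trichotomy (n l) 0 with h1 | h1 | h1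
      · exfalso
        have : ∑ j, n j < ∑ _j : Fin r, (0 : ℤ) := Finset.sum_lt_sum
          (fun j _ => by have := hle j l; omega) ⟨l, Finset.mem_univ _, h1⟩
        simp [hsum] at this
      · exact h1
      · exfalso
        have : ∑ _j : Fin r, (0 : ℤ) < ∑ j, n j := Finset.sum_lt_sum
          (fun j _ => by have := hle l j; omega) ⟨l, Finset.mem_univ _, h1⟩
        simp [hsum] at this
    let i0 : Fin r := ⟨0, by omega⟩
    refine hne ⟨(v (σ i0) : ℤ) - v' i0, ?_⟩
    set e : ℤ := (v (σ i0) : ℤ) - v' i0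
    have hfun : (fun i => (v (σ i) : ℤ)) = fun i => (v' i : ℤ) + e := by
      funext i
      have := hdiff i i0
      rw [hn0, hn0] at this
      simp only [sub_self, zero_mul] at this
      omega
    have hσ1 : StrictMono σ := by
      intro a b hab
      have h1 := congrFun hfun a
      have h2 := congrFun hfun b
      have := hv' hab
      rcases lt_trichotomy (σ a) (σ b) with h | h | h
      · exact h
      · rw [h] at h1; omega
      · have := hv h; omega
    have hid : ∀ i, σ i = i := fun i => by
      have : (σ : Fin r → Fin r) = id := (hσ1.range_inj strictMono_id).mp (by simp [σ.surjective.range_eq])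
      exact congrFun this i
    intro i
    have := congrFun hfun i
    simp only [hid] at this
    omega
  · have hr2 : 2 ≤ r := by
      by_contra hcon
      obtain rfl : r = 1 := by omega
      apply htN
      rw [ht, E_pow]
      exact (E_eq_one_iff hN _).mpr ⟨-((v 0 : ℤ) - v' 0), by simp [hD]; ring⟩
    let last : Fin r := ⟨r - 1, by omega⟩
    let pen : Fin r := ⟨r - 2, by omega⟩
    let cyc : Equiv.Perm (Fin r) := (finRotate r).symm
    have hcyc : ∀ i : Fin r, (cyc i : ℕ) = if (i : ℕ) = 0 then r - 1 else (i : ℕ) - 1 := by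
      intro i
      obtain ⟨s, rfl⟩ : ∃ s, r = s + 1 := ⟨r - 1, by omega⟩
      have h1 : finRotate (s + 1) (cyc i) = i := Equiv.apply_symm_apply _ _
      rw [Fin.ext_iff, coe_finRotate] at h1
      have := (cyc i).isLt
      split_ifs at h1 with h2
      · rw [h2] at *; simp [← h1]
      · rw [if_neg (by omega)]; omega
    let A := univ.filter (fun m : Fin r → Fin N =>
      StrictAnti m ∧ ∀ i : Fin r, (i : ℕ) = r - 1 → (m i : ℕ) = 0)
    let rot : (Fin r → Fin N) → (Fin r → Fin N) := fun m i => m (cyc i) + (-(m pen))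
    have hlast : ∀ m ∈ A, m last = 0 := fun m hm => by
      simp [A] at hm; exact Fin.ext (by simpa using hm.2 last rfl)
    have hpen : ∀ m ∈ A, 0 < (m pen : ℕ) := fun m hm => by
      have h1 := hlast m hm
      simp [A] at hm
      have h2 := hm.1 (show pen < last by rw [Fin.lt_def]; simp [pen, last]; omega)
      rw [Fin.lt_def, h1] at h2
      simpa using h2
    have hval : ∀ m ∈ A, ∀ i : Fin r, (rot m i : ℕ) =
        if (i : ℕ) = 0 then N - (m pen : ℕ) else (m (cyc i) : ℕ) - (m pen : ℕ) := by
      intro m hm i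
      have hp := hpen m hm
      have hneg : ((-(m pen)) : Fin N).val = N - (m pen : ℕ) := by
        rw [Fin.val_neg']; exact Nat.mod_eq_of_lt (by omega)
      simp only [rot, Fin.val_add, hneg]
      split_ifs with hi
      · rw [show cyc i = last from Fin.ext (by rw [hcyc, if_pos hi]), hlast m hm]
        simp; exact Nat.mod_eq_of_lt (by omega)
      · have hc : cyc i ≤ pen := by
          rw [Fin.le_def, hcyc, if_neg hi]; simp [pen]; omega
        simp [A] at hm
        have := hm.1.antitone hc
        rw [Fin.le_def] at this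
        rw [show (m (cyc i) : ℕ) + (N - (m pen : ℕ)) = (m (cyc i) : ℕ) - (m pen : ℕ) + N by omega,
          Nat.add_mod_right]
        exact Nat.mod_eq_of_lt (by omega)
    have hmaps : ∀ m ∈ A, rot m ∈ A := by
      intro m hm
      have hv0 := hval m hm
      have hp := hpen m hm
      have hm' := hm
      simp [A] at hm' ⊢
      refine ⟨fun a b hab => ?_, fun i hi => ?_⟩
      · rw [Fin.lt_def] at hab ⊢
        rw [hv0 a, hv0 b, if_neg (by omega : (b : ℕ) ≠ 0)]
        have hb : cyc b ≤ pen := by
          rw [Fin.le_def, hcyc, if_neg (by omega)]; simp [pen]; omega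
        have h3 := hm'.1.antitone hb
        rw [Fin.le_def] at h3
        have := (m (cyc b)).isLt
        split_ifs with ha
        · omega
        · have h4 := hm'.1 (show cyc a < cyc b by
            rw [Fin.lt_def, hcyc, hcyc, if_neg ha, if_neg (by omega)]; omega)
          rw [Fin.lt_def] at h4
          omega
      · apply Fin.ext
        rw [hv0 i, if_neg (by omega), show cyc i = pen from Fin.ext (by
          rw [hcyc, if_neg (by omega)]; simp [pen]; omega)]
        simp
    have hinj : Set.InjOn rot A := by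
      intro m hm m' hm' he
      have h0 : cyc ⟨0, by omega⟩ = last := Fin.ext (by rw [hcyc, if_pos rfl])
      have hs := congrFun he ⟨0, by omega⟩
      simp only [rot, h0, hlast m hm, hlast m' hm', zero_add, neg_inj] at hs
      funext i
      have := congrFun he (cyc.symm i)
      simpa [rot, hs] using this
    have himage : A.image rot = A :=
      Finset.eq_of_subset_of_card_le (Finset.image_subset_iff.mpr hmaps)
        (by rw [Finset.card_image_of_injOn hinj])
    change ∑ m ∈ A, _ = 0
    set S := ∑ m ∈ A, t ^ (∑ i, (m i : ℕ)) * pair z w m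
    have hS : S = t ^ N * S := by
      calc S = ∑ m ∈ A, t ^ (∑ i, (rot m i : ℕ)) * pair z w (rot m) := by
            conv_lhs => rw [show S = ∑ m ∈ A.image rot, t ^ (∑ i, (m i : ℕ)) * pair z w m by rw [himage]]
            rw [Finset.sum_image hinj]
        _ = t ^ N * S := by
          rw [Finset.mul_sum]
          refine Finset.sum_congr rfl fun m hm => ?_
          have hp := hpen m hm
          have hsumval : (∑ i, (rot m i : ℕ)) + r * (m pen : ℕ) = (∑ i, (m i : ℕ)) + N := by
            have h1 : ∀ i, (rot m i : ℕ) + (m pen : ℕ) =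
                (m (cyc i) : ℕ) + if i = ⟨0, by omega⟩ then N else 0 := by
              intro i
              rw [hval m hm i]
              by_cases hi : (i : ℕ) = 0
              · rw [if_pos hi, if_pos (Fin.ext hi), show cyc i = last from
                  Fin.ext (by rw [hcyc, if_pos hi]), hlast m hm]
                simp
              · have hc : cyc i ≤ pen := by rw [Fin.le_def, hcyc, if_neg hi]; simp [pen]; omega
                have hm' := hm
                simp [A] at hm'
                have := hm'.1.antitone hc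
                rw [Fin.le_def] at this
                rw [if_neg hi, if_neg (fun h => hi (congrArg Fin.val h))]
                omega
            have := Finset.sum_congr (rfl : (univ : Finset (Fin r)) = univ) (fun i _ => h1 i)
            simp only [Finset.sum_add_distrib, Finset.sum_const, Finset.card_univ, Fintype.card_fin,
              smul_eq_mul, Finset.sum_ite_eq', Finset.mem_univ, if_true] at this
            rw [this, Equiv.sum_comp cyc (fun i => (m i : ℕ))]
          have hpr : pair z w (rot m) =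
              ((∏ j, z j) * ∏ j, w j) ^ (N - (m pen : ℕ)) * pair z w m := by
            rw [show rot m = fun i => (m ∘ cyc) i + (-(m pen)) from rfl, pair_add_one z w hz1 hw1,
              pair_perm, Fin.val_neg', Nat.mod_eq_of_lt (by omega)]
          have hPQ : ((∏ j, z j) * ∏ j, w j) ^ (N - (m pen : ℕ)) = t ^ (r * (m pen : ℕ)) := by
            set PQ := (∏ j, z j) * ∏ j, w j
            have h1 : PQ ^ N = 1 := by
              simp only [PQ, mul_pow, ← Finset.prod_pow, hz1, hw1, Finset.prod_const_one, one_mul]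
            have h2 : t ^ (r * (m pen : ℕ)) * PQ ^ (m pen : ℕ) = 1 := by
              rw [pow_mul, ← mul_pow, htP, one_pow]
            calc PQ ^ (N - (m pen : ℕ)) = PQ ^ (N - (m pen : ℕ)) * (t ^ (r * (m pen : ℕ)) * PQ ^ (m pen : ℕ)) := by
                  rw [h2, mul_one]
              _ = t ^ (r * (m pen : ℕ)) * PQ ^ N := by
                  rw [mul_left_comm, ← pow_add, Nat.sub_add_cancel (m pen).isLt.le]
              _ = _ := by rw [h1, mul_one]
          rw [hpr, hPQ, ← mul_assoc, ← pow_add, hsumval, pow_add]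
          ring
    exact (mul_eq_zero.mp (show (t ^ N - 1) * S = 0 by linear_combination -hS)).resolve_left
      (sub_ne_zero.mpr htN)

end Groth.Agent.H68.VerlindeSums
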